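import Mathlib.RingTheory.Flat.Basic
import Mathlib.RingTheory.Flat.Tensor
import Mathlib.RingTheory.Flat.Stability
import Mathlib.LinearAlgebra.TensorProduct.RightExactness
import Mathlib.LinearAlgebra.TensorProduct.Tower
import Mathlib.RingTheory.Ideal.Quotient.Operations
import Mathlib.RingTheory.TensorProduct.Basic
import Mathlib.Algebra.Module.Torsion.Basic
import Mathlib.RingTheory.Filtration
import Mathlib.RingTheory.TensorProduct.Finite
import Mathlib.RingTheory.Flat.FaithfullyFlat.Basic
import Mathlib.RingTheory.LocalRing.RingHom.Basic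
import Mathlib.RingTheory.Nakayama

/-!
# Flatness criteria (helper9 library)

`Tor₁(N, M) = 0` is expressed without `Tor`: for every surjection `g : P → N`, the map
`ker g ⊗ M → P ⊗ M` is injective.
-/

set_option autoImplicit false

namespace Groth.Agent.Lib.Helper9

open TensorProduct Function

universe u v

section General

variable {R : Type*} [CommRing R] (M : Type*) [AddCommGroup M] [Module R M]

/-- If `π : F → P` is surjective and `ker (g ∘ π) ⊗ M → F ⊗ M` is injective, then so is
`ker g ⊗ M → P ⊗ M`. -/
theorem rTensor_ker_injective_of_comp {F P N : Type*} [AddCommGroup F] [Module R F]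
    [AddCommGroup P] [Module R P] [AddCommGroup N] [Module R N]
    (π : F →ₗ[R] P) (hπ : Surjective π) (g : P →ₗ[R] N)
    (h : Injective ((LinearMap.ker (g ∘ₗ π)).subtype.rTensor M)) :
    Injective ((LinearMap.ker g).subtype.rTensor M) := by
  rw [injective_iff_map_eq_zero]
  intro x hx
  let π' : LinearMap.ker (g ∘ₗ π) →ₗ[R] LinearMap.ker g :=
    π.restrict (fun a ha => by simpa using ha)
  have hπ' : Surjective π' := by
    rintro ⟨p, hp⟩
    obtain ⟨f, rfl⟩ := hπ p
    exact ⟨⟨f, by simpa using hp⟩, rfl⟩
  obtain ⟨x', rfl⟩ := LinearMap.rTensor_surjective M hπ' x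
  have hsq : (LinearMap.ker g).subtype ∘ₗ π' = π ∘ₗ (LinearMap.ker (g ∘ₗ π)).subtype := rfl
  rw [← LinearMap.rTensor_comp_apply, hsq, LinearMap.rTensor_comp_apply] at hx
  have hex := rTensor_exact M (LinearMap.exact_subtype_ker_map π) hπ
  obtain ⟨l, hl⟩ := (hex _).mp hx
  let incl : LinearMap.ker π →ₗ[R] LinearMap.ker (g ∘ₗ π) :=
    Submodule.inclusion (fun a ha => by simp only [LinearMap.mem_ker] at ha; simp [ha])
  have h1 : incl.rTensor M l = x' := h (by rw [← LinearMap.rTensor_comp_apply]; exact hl)
  rw [← h1, ← LinearMap.rTensor_comp_apply]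
  have h2 : π' ∘ₗ incl = 0 := by
    ext ⟨a, ha⟩
    exact ha
  rw [h2]
  simp

/-- Injectivity of `g ⊗ X` only depends on the isomorphism class of `X`. -/
theorem rTensor_injective_congr {A B X X' : Type*} [AddCommGroup A] [Module R A]
    [AddCommGroup B] [Module R B] [AddCommGroup X] [Module R X] [AddCommGroup X'] [Module R X']
    (e : X ≃ₗ[R] X') (g : A →ₗ[R] B) (h : Injective (g.rTensor X)) : Injective (g.rTensor X') := by
  have h1 : g.rTensor X' ∘ₗ (e.toLinearMap.lTensor A) = (e.toLinearMap.lTensor B) ∘ₗ g.rTensor X := by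
    rw [LinearMap.rTensor_comp_lTensor, LinearMap.lTensor_comp_rTensor]
  have h2 : Injective (g.rTensor X' ∘ₗ (e.toLinearMap.lTensor A)) := by
    rw [h1]
    exact (e.lTensor B).injective.comp h
  intro a b hab
  obtain ⟨a', rfl⟩ := (e.lTensor A).surjective a
  obtain ⟨b', rfl⟩ := (e.lTensor A).surjective b
  exact congrArg _ (h2 hab)

/-- If `I ⊗ M → R ⊗ M` is injective and `F` is flat, then `I F ⊗ M → F ⊗ M` is injective. -/
theorem rTensor_smul_top_subtype_injective (I : Ideal R) (hI : Injective (I.subtype.rTensor M))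
    (F : Type*) [AddCommGroup F] [Module R F] [Module.Flat R F] :
    Injective ((I • (⊤ : Submodule R F)).subtype.rTensor M) := by
  have h1 : Injective ((I.subtype.rTensor M).rTensor F) :=
    Module.Flat.rTensor_preserves_injective_linearMap _ hI
  have h2 : Injective (I.subtype.rTensor (M ⊗[R] F)) := by
    rw [LinearMap.rTensor_tensor]
    exact (TensorProduct.assoc R R M F).injective.comp
      (h1.comp (TensorProduct.assoc R I M F).symm.injective)
  have h3 : Injective (I.subtype.rTensor (F ⊗[R] M)) :=
    rTensor_injective_congr (TensorProduct.comm R M F) _ h2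
  have h4 : Injective ((I.subtype.rTensor F).rTensor M) := by
    rw [LinearMap.rTensor_tensor] at h3
    intro a b hab
    have := h3 (a₁ := TensorProduct.assoc R I F M a) (a₂ := TensorProduct.assoc R I F M b)
      (by simp [hab])
    exact (TensorProduct.assoc R I F M).injective this
  have h5 : Injective (I.subtype.rTensor F) :=
    Module.Flat.rTensor_preserves_injective_linearMap _ I.injective_subtype
  have h6 := (LinearMap.rTensor_injective_iff_subtype (M := M) h5 (TensorProduct.lid R F)).mp h4
  have h7 : LinearMap.range ((TensorProduct.lid R F).toLinearMap ∘ₗ I.subtype.rTensor F)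
      = I • (⊤ : Submodule R F) := by
    rw [LinearMap.range_comp]
    exact Submodule.map_range_rTensor_subtype_lid
  rwa [h7] at h6

/-- If `S ⊗[R] M` is flat over `S`, then tensoring (over `R`) an injective `S`-linear map with `M`
gives an injective map. -/
theorem rTensor_injective_of_flat_baseChange (S : Type*) [CommRing S] [Algebra R S]
    [Module.Flat S (S ⊗[R] M)]
    {A B : Type*} [AddCommGroup A] [Module R A] [Module S A] [IsScalarTower R S A]
    [AddCommGroup B] [Module R B] [Module S B] [IsScalarTower R S B]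
    (j : A →ₗ[S] B) (hj : Injective j) :
    Injective ((j.restrictScalars R).rTensor M) := by
  have h1 : Injective (j.rTensor (S ⊗[R] M)) :=
    Module.Flat.rTensor_preserves_injective_linearMap j hj
  let eA := AlgebraTensorModule.cancelBaseChange R S S A M
  let eB := AlgebraTensorModule.cancelBaseChange R S S B M
  have h2 : ∀ x, (j.restrictScalars R).rTensor M (eA x) = eB (j.rTensor (S ⊗[R] M) x) := by
    intro x
    induction x using TensorProduct.induction_on with
    | zero => simp
    | add x y hx hy => simp only [map_add, hx, hy]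
    | tmul a y =>
      induction y using TensorProduct.induction_on with
      | zero => simp
      | add x y hx hy => simp only [TensorProduct.tmul_add, map_add, hx, hy]
      | tmul s m => simp [eA, eB]
  intro a b hab
  obtain ⟨a', rfl⟩ := eA.surjective a
  obtain ⟨b', rfl⟩ := eA.surjective b
  rw [h2, h2] at hab
  exact congrArg _ (h1 (eB.injective hab))

/-- If `(R ⧸ I) ⊗[R] M` is flat over `R ⧸ I`, then tensoring (over `R`) an injective linear map
between modules killed by `I` with `M` gives an injective map. -/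
theorem rTensor_injective_of_isTorsionBySet (I : Ideal R) [Module.Flat (R ⧸ I) ((R ⧸ I) ⊗[R] M)]
    {A B : Type*} [AddCommGroup A] [Module R A] [AddCommGroup B] [Module R B]
    (hA : Module.IsTorsionBySet R A I) (hB : Module.IsTorsionBySet R B I)
    (j : A →ₗ[R] B) (hj : Injective j) : Injective (j.rTensor M) := by
  let _ := hA.module
  let _ := hB.module
  let j' : A →ₗ[R ⧸ I] B :=
    { j with
      map_smul' := by
        intro s a
        obtain ⟨r, rfl⟩ := Ideal.Quotient.mk_surjective s
        exact j.map_smul r a }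
  exact rTensor_injective_of_flat_baseChange M (R ⧸ I) j' hj

/-- Key lemma: if `I ⊗ M → R ⊗ M` is injective and `M / I M` is flat over `R / I`, then for every
flat module `F` and submodule `K` containing `I F`, the map `K ⊗ M → F ⊗ M` is injective. -/
theorem rTensor_subtype_injective_of_smul_top_le (I : Ideal R)
    (hI : Injective (I.subtype.rTensor M)) [Module.Flat (R ⧸ I) ((R ⧸ I) ⊗[R] M)]
    {F : Type*} [AddCommGroup F] [Module R F] [Module.Flat R F] (K : Submodule R F)
    (hK : I • (⊤ : Submodule R F) ≤ K) : Injective (K.subtype.rTensor M) := by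
  set IF : Submodule R F := I • (⊤ : Submodule R F) with hIF
  set L : Submodule R K := IF.comap K.subtype with hL
  let j : (K ⧸ L) →ₗ[R] (F ⧸ IF) := L.mapQ IF K.subtype le_rfl
  have hj : Injective j := by
    rw [← LinearMap.ker_eq_bot, Submodule.ker_mapQ]
    exact Submodule.mkQ_map_self L
  have hA : Module.IsTorsionBySet R (K ⧸ L) I := by
    rw [Module.isTorsionBySet_quotient_iff]
    intro x r hr
    simp only [hL, Submodule.mem_comap, Submodule.subtype_apply, Submodule.coe_smul]
    exact Submodule.smul_mem_smul hr trivial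
  have hB : Module.IsTorsionBySet R (F ⧸ IF) I := Module.isTorsionBySet_quotient_ideal_smul F I
  have hjM := rTensor_injective_of_isTorsionBySet M I hA hB j hj
  have hsq : j ∘ₗ L.mkQ = IF.mkQ ∘ₗ K.subtype := rfl
  have hY1 := rTensor_smul_top_subtype_injective M I hI F
  rw [injective_iff_map_eq_zero]
  intro x hx
  have h1 : (L.mkQ).rTensor M x = 0 := by
    apply hjM
    rw [← LinearMap.rTensor_comp_apply, hsq, LinearMap.rTensor_comp_apply, hx, map_zero, map_zero]
  obtain ⟨y, rfl⟩ := (rTensor_exact M (LinearMap.exact_subtype_mkQ L) L.mkQ_surjective _).mp h1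
  let e : L ≃ₗ[R] IF := Submodule.comapSubtypeEquivOfLe hK
  have h2 : K.subtype ∘ₗ L.subtype = IF.subtype ∘ₗ e.toLinearMap := rfl
  rw [← LinearMap.rTensor_comp_apply, h2, LinearMap.rTensor_comp_apply] at hx
  have h3 : (e.toLinearMap.rTensor M) y = 0 := hY1 (by rw [hx, map_zero])
  have h4 : y = 0 := (e.rTensor M).injective (by rw [map_zero]; exact h3)
  rw [h4, map_zero]

/-- Surjection trick: if `e : K' → K` is surjective and `(f ∘ e) ⊗ M` is injective then so is
`f ⊗ M`. -/
theorem rTensor_injective_of_comp_surjective {K' K P : Type*} [AddCommGroup K'] [Module R K']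
    [AddCommGroup K] [Module R K] [AddCommGroup P] [Module R P]
    (e : K' →ₗ[R] K) (he : Surjective e) (f : K →ₗ[R] P)
    (h : Injective ((f ∘ₗ e).rTensor M)) : Injective (f.rTensor M) := by
  rw [injective_iff_map_eq_zero]
  intro x hx
  obtain ⟨x', rfl⟩ := LinearMap.rTensor_surjective M he x
  rw [← LinearMap.rTensor_comp_apply] at hx
  rw [(injective_iff_map_eq_zero _).mp h x' hx, map_zero]

end General

section TorOne

variable (R : Type u) [CommRing R] (M : Type v) [AddCommGroup M] [Module R M]

/-- `Tor₁(N, M) = 0`, expressed without `Tor`: for every short exact sequence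
`0 → K → P → N → 0`, the map `K ⊗ M → P ⊗ M` is injective. -/
def TorOneVanish (N : Type u) [AddCommGroup N] [Module R N] : Prop :=
  ∀ (K P : Type u) [AddCommGroup K] [Module R K] [AddCommGroup P] [Module R P]
    (f : K →ₗ[R] P) (g : P →ₗ[R] N), Injective f → Exact f g → Surjective g →
    Injective (f.rTensor M)

variable {R M}

theorem TorOneVanish.of_ker {N : Type u} [AddCommGroup N] [Module R N]
    (h : ∀ (P : Type u) [AddCommGroup P] [Module R P] (g : P →ₗ[R] N), Surjective g →
      Injective ((LinearMap.ker g).subtype.rTensor M)) : TorOneVanish R M N := by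
  intro K P _ _ _ _ f g hf hfg hg
  have hle : ∀ x, f x ∈ LinearMap.ker g := fun x => (hfg (f x)).mpr ⟨x, rfl⟩
  let e : K →ₗ[R] LinearMap.ker g := f.codRestrict _ hle
  have he : Injective (e.rTensor M) := by
    have : Bijective e := by
      refine ⟨fun a b hab => hf (congrArg Subtype.val hab), ?_⟩
      rintro ⟨p, hp⟩
      obtain ⟨k, rfl⟩ := (hfg p).mp hp
      exact ⟨k, rfl⟩
    exact ((LinearEquiv.ofBijective e this).rTensor M).injective
  have h1 : f = (LinearMap.ker g).subtype ∘ₗ e := rfl
  rw [h1, LinearMap.rTensor_comp]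
  exact (h P g hg).comp he

/-- `Tor₁(-, M) = 0` is closed under extensions. -/
theorem TorOneVanish.of_submodule_of_quotient {N : Type u} [AddCommGroup N] [Module R N]
    (N₁ : Submodule R N) (h1 : TorOneVanish R M N₁) (h2 : TorOneVanish R M (N ⧸ N₁)) :
    TorOneVanish R M N := by
  refine TorOneVanish.of_ker fun P _ _ g hg => ?_
  let g₂ : P →ₗ[R] N ⧸ N₁ := N₁.mkQ ∘ₗ g
  have hg₂ : Surjective g₂ := N₁.mkQ_surjective.comp hg
  let P' : Submodule R P := LinearMap.ker g₂
  have hmem : ∀ p : P, p ∈ P' ↔ g p ∈ N₁ := fun p => by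
    simp only [P', g₂, LinearMap.mem_ker, LinearMap.comp_apply, Submodule.mkQ_apply,
      Submodule.Quotient.mk_eq_zero]
  have hP' : ∀ p : P', g p ∈ N₁ := fun p => (hmem p).mp p.2
  let g₁ : P' →ₗ[R] N₁ := (g ∘ₗ P'.subtype).codRestrict N₁ hP'
  have hg₁ : Surjective g₁ := by
    rintro ⟨n, hn⟩
    obtain ⟨p, rfl⟩ := hg n
    exact ⟨⟨p, (hmem p).mpr hn⟩, rfl⟩
  have i2 : Injective (P'.subtype.rTensor M) :=
    h2 P' P P'.subtype g₂ P'.injective_subtype (LinearMap.exact_subtype_ker_map g₂) hg₂
  have i1 : Injective ((LinearMap.ker g₁).subtype.rTensor M) :=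
    h1 _ P' _ g₁ (Submodule.injective_subtype _) (LinearMap.exact_subtype_ker_map g₁) hg₁
  let e : LinearMap.ker g₁ →ₗ[R] LinearMap.ker g :=
    (P'.subtype ∘ₗ (LinearMap.ker g₁).subtype).codRestrict _ (fun x => by
      have := x.2
      simp only [LinearMap.mem_ker] at this ⊢
      exact congrArg Subtype.val this)
  have he : Surjective e := by
    rintro ⟨p, hp⟩
    have hp' : p ∈ P' := (hmem p).mpr (by rw [LinearMap.mem_ker.mp hp]; exact N₁.zero_mem)
    refine ⟨⟨⟨p, hp'⟩, ?_⟩, rfl⟩
    simp only [LinearMap.mem_ker]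
    exact Subtype.ext hp
  refine rTensor_injective_of_comp_surjective M e he _ ?_
  have : (LinearMap.ker g).subtype ∘ₗ e = P'.subtype ∘ₗ (LinearMap.ker g₁).subtype := rfl
  rw [this, LinearMap.rTensor_comp]
  exact i2.comp i1

end TorOne

section Criterion

variable {R : Type u} [CommRing R] {M : Type v} [AddCommGroup M] [Module R M] (I : Ideal R)

/-- If `I ⊗ M → R ⊗ M` is injective and `M / I M` is flat over `R / I`, then `Tor₁(N, M) = 0` for
every module `N` killed by `I`. -/
theorem torOneVanish_of_isTorsionBySet (hI : Injective (I.subtype.rTensor M))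
    [Module.Flat (R ⧸ I) ((R ⧸ I) ⊗[R] M)]
    {N : Type u} [AddCommGroup N] [Module R N]
    (hN : Module.IsTorsionBySet R N I) : TorOneVanish R M N := by
  refine TorOneVanish.of_ker fun P _ _ g hg => ?_
  let π : (P →₀ R) →ₗ[R] P := Finsupp.linearCombination R id
  have hπ : Surjective π := Finsupp.linearCombination_id_surjective R P
  refine rTensor_ker_injective_of_comp M π hπ g ?_
  refine rTensor_subtype_injective_of_smul_top_le M I hI _ ?_
  rw [Submodule.smul_le]
  intro r hr f _
  simp only [LinearMap.mem_ker, map_smul]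
  exact hN (a := ⟨r, hr⟩)

/-- Same for modules killed by a power of `I`. -/
theorem torOneVanish_of_isTorsionBySet_pow (hI : Injective (I.subtype.rTensor M))
    [Module.Flat (R ⧸ I) ((R ⧸ I) ⊗[R] M)] (k : ℕ) :
    ∀ {N : Type u} [AddCommGroup N] [Module R N],
      Module.IsTorsionBySet R N ((I ^ k : Ideal R) : Set R) → TorOneVanish R M N := by
  induction k with
  | zero =>
    intro N _ _ hN
    refine torOneVanish_of_isTorsionBySet I hI ?_
    intro x a
    have h1 : (1 : R) • x = 0 := hN (a := ⟨1, by simp⟩)
    rw [one_smul] at h1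
    rw [h1, smul_zero]
  | succ k ih =>
    intro N _ _ hN
    refine TorOneVanish.of_submodule_of_quotient (I • (⊤ : Submodule R N)) (ih ?_)
      (torOneVanish_of_isTorsionBySet I hI (Module.isTorsionBySet_quotient_ideal_smul N I))
    rintro ⟨x, hx⟩ ⟨a, ha⟩
    apply Subtype.ext
    simp only [Submodule.coe_smul, Submodule.coe_zero]
    induction hx using Submodule.smul_induction_on' with
    | smul r hr n _ =>
      rw [smul_smul]
      exact hN (a := ⟨a * r, by rw [pow_succ]; exact Ideal.mul_mem_mul ha hr⟩)
    | add x hx y hy ihx ihy => rw [smul_add, ihx, ihy, add_zero]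

/-- Nilpotent local criterion of flatness (Stacks 051C). -/
theorem flat_of_isNilpotent_of_rTensor_injective (hnil : IsNilpotent I)
    (hI : Injective (I.subtype.rTensor M)) [Module.Flat (R ⧸ I) ((R ⧸ I) ⊗[R] M)] :
    Module.Flat R M := by
  obtain ⟨n, hn⟩ := hnil
  rw [Module.Flat.iff_rTensor_injective']
  intro J
  have h : TorOneVanish R M (R ⧸ J) := by
    refine torOneVanish_of_isTorsionBySet_pow I hI n ?_
    rintro x ⟨a, ha⟩
    rw [hn] at ha
    have : a = 0 := by simpa using ha
    simp [this]
  exact h J R J.subtype J.mkQ J.injective_subtype (LinearMap.exact_subtype_mkQ J) J.mkQ_surjective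

end Criterion

section BaseChangeIdeal

variable {R S M : Type*} [CommRing R] [CommRing S] [Algebra R S] [AddCommGroup M] [Module S M]
  [Module R M] [IsScalarTower R S M]

/-- If `I ⊗[R] M → R ⊗[R] M` is injective then so is `IS ⊗[S] M → S ⊗[S] M`. -/
theorem rTensor_map_subtype_injective (I : Ideal R) (hI : Injective (I.subtype.rTensor M)) :
    Injective ((I.map (algebraMap R S)).subtype.rTensor M) := by
  set IS : Ideal S := I.map (algebraMap R S) with hIS
  let σ : I →ₗ[R] IS :=
    ((Algebra.linearMap R S).restrict (p := I) (q := IS.restrictScalars R)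
      (fun a ha => Ideal.mem_map_of_mem _ ha))
  let τ : I ⊗[R] M →ₗ[R] IS ⊗[S] M :=
    (TensorProduct.mapOfCompatibleSMul S R S IS M).restrictScalars R ∘ₗ σ.rTensor M
  have hτ : ∀ (a : I) (m : M), τ (a ⊗ₜ m) = (σ a) ⊗ₜ m := fun a m => rfl
  have hsurj : ∀ x : IS ⊗[S] M, x ∈ LinearMap.range τ := by
    intro x
    induction x using TensorProduct.induction_on with
    | zero => exact Submodule.zero_mem _
    | add x y hx hy => exact Submodule.add_mem _ hx hy
    | tmul b m =>
      obtain ⟨b, hb⟩ := b
      revert m
      refine Submodule.span_induction (p := fun b hb => ∀ m : M,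
        ((⟨b, hb⟩ : IS) ⊗ₜ[S] m) ∈ LinearMap.range τ) ?_ ?_ ?_ ?_ hb
      · rintro _ ⟨a, ha, rfl⟩ m
        exact ⟨(⟨a, ha⟩ : I) ⊗ₜ m, rfl⟩
      · intro m
        have : ((⟨0, IS.zero_mem⟩ : IS) ⊗ₜ[S] m) = 0 := TensorProduct.zero_tmul _ _
        rw [this]
        exact Submodule.zero_mem _
      · intro b b' hb hb' ih ih' m
        have : ((⟨b + b', IS.add_mem hb hb'⟩ : IS) ⊗ₜ[S] m)
            = (⟨b, hb⟩ : IS) ⊗ₜ[S] m + (⟨b', hb'⟩ : IS) ⊗ₜ[S] m := by
          rw [← TensorProduct.add_tmul]; rfl
        rw [this]
        exact Submodule.add_mem _ (ih m) (ih' m)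
      · intro s b hb ih m
        have : ((⟨s • b, IS.smul_mem s hb⟩ : IS) ⊗ₜ[S] m) = (⟨b, hb⟩ : IS) ⊗ₜ[S] (s • m) := by
          rw [← TensorProduct.smul_tmul]; rfl
        rw [this]
        exact ih _
  have hcomp : ∀ y : I ⊗[R] M, TensorProduct.lid S M (IS.subtype.rTensor M (τ y))
      = TensorProduct.lid R M (I.subtype.rTensor M y) := by
    intro y
    induction y using TensorProduct.induction_on with
    | zero => simp
    | add x y hx hy => simp only [map_add, hx, hy]
    | tmul a m =>
      rw [hτ]
      simp only [LinearMap.rTensor_tmul, Submodule.subtype_apply, TensorProduct.lid_tmul]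
      exact algebraMap_smul S (a : R) m
  rw [injective_iff_map_eq_zero]
  intro x hx
  obtain ⟨y, rfl⟩ := hsurj x
  have h1 := hcomp y
  rw [hx, map_zero] at h1
  have h2 : I.subtype.rTensor M y = 0 := (TensorProduct.lid R M).injective (by rw [← h1, map_zero])
  rw [(injective_iff_map_eq_zero _).mp hI y h2, map_zero]

end BaseChangeIdeal

section LocalCriterion

variable {R : Type u} [CommRing R] {S : Type*} [CommRing S] [Algebra R S]
  {M : Type v} [AddCommGroup M] [Module R M] [Module S M] [IsScalarTower R S M]

theorem tmul_mem_smul_top (I' : Ideal R) {J : Type*} [AddCommGroup J] [Module R J] (m : M) (c : J)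
    (hc : c ∈ I' • (⊤ : Submodule R J)) : m ⊗ₜ[R] c ∈ I' • (⊤ : Submodule R (M ⊗[R] J)) := by
  induction hc using Submodule.smul_induction_on' with
  | smul r hr n _ =>
    rw [TensorProduct.tmul_smul]
    exact Submodule.smul_mem_smul hr trivial
  | add x hx y hy ihx ihy =>
    rw [TensorProduct.tmul_add]
    exact Submodule.add_mem _ ihx ihy

theorem finite_tensorProduct_of_finite [Module.Finite S M] (J : Type*) [AddCommGroup J] [Module R J]
    [Module.Finite R J] : Module.Finite S (M ⊗[R] J) :=
  Module.Finite.equiv (TensorProduct.AlgebraTensorModule.cancelBaseChange R S S M J)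

/-- Local criterion of flatness (Stacks 00ML, in the form of Matsumura 22.3): `R → S` a map of
Noetherian rings, `I` an ideal of `R` with `I S` in the Jacobson radical of `S`, `M` a finite
`S`-module. If `I ⊗ M → M` is injective and `M / I M` is flat over `R / I`, then `M` is flat
over `R`. -/
theorem flat_of_rTensor_injective_of_le_jacobson [IsNoetherianRing R] [IsNoetherianRing S]
    [Module.Finite S M] (I : Ideal R) (hIS : I.map (algebraMap R S) ≤ Ideal.jacobson ⊥)
    (hI : Injective (I.subtype.rTensor M)) [Module.Flat (R ⧸ I) ((R ⧸ I) ⊗[R] M)] :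
    Module.Flat R M := by
  rw [Module.Flat.iff_lTensor_injective']
  intro J
  rw [injective_iff_map_eq_zero]
  intro x hx
  obtain ⟨k, hk⟩ := Ideal.exists_pow_inf_eq_pow_smul I (J : Submodule R R)
  have key : ∀ n : ℕ, x ∈ (I ^ n) • (⊤ : Submodule R (M ⊗[R] J)) := by
    intro n
    set N := n + k with hN
    let JN : Submodule R J := Submodule.comap J.subtype (I ^ N)
    let j : (J ⧸ JN) →ₗ[R] (R ⧸ I ^ N) := JN.mapQ (I ^ N) J.subtype le_rfl
    have hj : Injective j := by
      rw [← LinearMap.ker_eq_bot, Submodule.ker_mapQ]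
      exact Submodule.mkQ_map_self JN
    have hRN : Module.IsTorsionBySet R (R ⧸ I ^ N) ((I ^ N : Ideal R) : Set R) := by
      rintro y ⟨a, ha⟩
      obtain ⟨r, rfl⟩ := Ideal.Quotient.mk_surjective y
      change Ideal.Quotient.mk (I ^ N) (a • r) = 0
      rw [Ideal.Quotient.eq_zero_iff_mem]
      exact Ideal.mul_mem_right _ _ ha
    have hQ : TorOneVanish R M ((R ⧸ I ^ N) ⧸ LinearMap.range j) :=
      torOneVanish_of_isTorsionBySet_pow I hI N (hRN.quotient _)
    have hjM : Injective (j.rTensor M) :=
      hQ _ _ j (LinearMap.range j).mkQ hj (LinearMap.exact_map_mkQ_range j)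
        (Submodule.mkQ_surjective _)
    have hjM' : Injective (j.lTensor M) := (j.lTensor_inj_iff_rTensor_inj M).mpr hjM
    have hsq : j ∘ₗ JN.mkQ = (I ^ N).mkQ ∘ₗ J.subtype := rfl
    have h1 : JN.mkQ.lTensor M x = 0 := by
      apply hjM'
      rw [← LinearMap.lTensor_comp_apply, hsq, LinearMap.lTensor_comp_apply, hx, map_zero, map_zero]
    have h2 : ∀ y : M ⊗[R] JN, JN.subtype.lTensor M y ∈ (I ^ n) • (⊤ : Submodule R (M ⊗[R] J)) := by
      intro y
      induction y using TensorProduct.induction_on with
      | zero => simp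
      | add y z hy hz =>
        rw [map_add]
        exact Submodule.add_mem _ hy hz
      | tmul m b => ?_
      rw [LinearMap.lTensor_tmul]
      apply tmul_mem_smul_top
      rw [Submodule.mem_smul_top_iff]
      have hb : ((b : J) : R) ∈ I ^ N • (⊤ : Submodule R R) ⊓ J := by
        refine ⟨?_, (b : J).2⟩
        have hb' : ((b : J) : R) ∈ I ^ N := b.2
        rwa [smul_eq_mul, Ideal.mul_top]
      rw [hk N (Nat.le_add_left k n)] at hb
      have : N - k = n := by omega
      rw [this] at hb
      exact Submodule.smul_mono le_rfl inf_le_right hb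
    obtain ⟨y, rfl⟩ := (lTensor_exact M (LinearMap.exact_subtype_mkQ JN) JN.mkQ_surjective _).mp h1
    exact h2 y
  have _ : Module.Finite S (M ⊗[R] J) := finite_tensorProduct_of_finite J
  have hK := Ideal.iInf_pow_smul_eq_bot_of_le_jacobson (I := I.map (algebraMap R S))
    (M := M ⊗[R] J) hIS
  have hx' : x ∈ (⨅ i : ℕ, (I.map (algebraMap R S)) ^ i • ⊤ : Submodule S (M ⊗[R] J)) := by
    rw [Submodule.mem_iInf]
    intro n
    have h3 : ∀ z ∈ (I ^ n) • (⊤ : Submodule R (M ⊗[R] J)),
        z ∈ ((I.map (algebraMap R S)) ^ n • ⊤ : Submodule S (M ⊗[R] J)) := by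
      intro z hz
      induction hz using Submodule.smul_induction_on' with
      | smul r hr z _ =>
        rw [← algebraMap_smul S r z]
        refine Submodule.smul_mem_smul ?_ trivial
        rw [← Ideal.map_pow]
        exact Ideal.mem_map_of_mem _ hr
      | add x hx y hy ihx ihy => exact Submodule.add_mem _ ihx ihy
    exact h3 x (key n)
  rw [hK] at hx'
  exact hx'

end LocalCriterion

section FibreCriterion

/-- A nonzero finite `S'`-module which is flat over `S`, for a local homomorphism `S → S'` of local
rings, is faithfully flat over `S`. -/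
theorem faithfullyFlat_of_finite_of_isLocalHom {S S' M : Type*} [CommRing S] [CommRing S']
    [IsLocalRing S] [IsLocalRing S'] [Algebra S S'] [IsLocalHom (algebraMap S S')]
    [AddCommGroup M] [Module S M] [Module S' M] [IsScalarTower S S' M] [Module.Finite S' M]
    [Nontrivial M] [Module.Flat S M] : Module.FaithfullyFlat S M := by
  refine ⟨fun m hm htop => ?_⟩
  have hm' : m = IsLocalRing.maximalIdeal S := IsLocalRing.eq_maximalIdeal hm
  have h1 : (⊤ : Submodule S' M) ≤ IsLocalRing.maximalIdeal S' • (⊤ : Submodule S' M) := by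
    intro x hx0
    clear hx0
    have hx : x ∈ m • (⊤ : Submodule S M) := by rw [htop]; trivial
    induction hx using Submodule.smul_induction_on' with
    | smul r hr z _ =>
      rw [← algebraMap_smul S' r z]
      refine Submodule.smul_mem_smul ?_ trivial
      apply IsLocalRing.map_maximalIdeal_le (algebraMap S S')
      exact Ideal.mem_map_of_mem _ (hm' ▸ hr)
    | add x hx y hy ihx ihy => exact Submodule.add_mem _ ihx ihy
  have h2 := Submodule.eq_bot_of_le_smul_of_le_jacobson_bot (IsLocalRing.maximalIdeal S')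
    (⊤ : Submodule S' M) Module.Finite.fg_top h1
    (by rw [IsLocalRing.jacobson_eq_maximalIdeal ⊥ bot_ne_top])
  exact top_ne_bot h2

/-- If `M` is a faithfully flat `S`-module which is flat over `R`, then `S` is flat over `R`. -/
theorem flat_of_faithfullyFlat_of_flat {R S M : Type*} [CommRing R] [CommRing S] [Algebra R S]
    [AddCommGroup M] [Module R M] [Module S M] [IsScalarTower R S M]
    [Module.FaithfullyFlat S M] [Module.Flat R M] : Module.Flat R S := by
  rw [Module.Flat.iff_lTensor_injective']
  intro J
  change Injective (J.subtype.baseChange S)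
  rw [← Module.FaithfullyFlat.lTensor_injective_iff_injective S M]
  have h1 : Injective (J.subtype.lTensor M) :=
    Module.Flat.lTensor_preserves_injective_linearMap _ J.injective_subtype
  have h2 := TensorProduct.AlgebraTensorModule.lTensor_comp_cancelBaseChange
    (R := R) (A := S) (B := S) (M := M) J.subtype
  intro a b hab
  apply (TensorProduct.AlgebraTensorModule.cancelBaseChange R S S M J).injective
  apply h1
  have h3 := fun z => congrArg (fun φ => φ z) h2
  simp only [LinearMap.coe_comp, Function.comp_apply, LinearEquiv.coe_coe] at h3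
  refine (h3 a).trans (Eq.trans ?_ (h3 b).symm)
  exact congrArg _ hab

end FibreCriterion

end Groth.Agent.Lib.Helper9
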