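import Groth.Agent.Lib.Helper9.FlatCrit
import Mathlib.RingTheory.LocalRing.Module

/-!
# Injectivity modulo the maximal ideal (helper9 library)

Stacks 00ME: for a local homomorphism `R → S` of local rings with `S` Noetherian, a flat `R`-module
`M`, a finite `S`-module `N` and an `R`-linear map `u : N → M` with `k ⊗ u` injective, the map
`V ⊗ u` is injective for every finite `R`-module `V`; hence `u` is injective with flat cokernel.
-/

set_option autoImplicit false

namespace Groth.Agent.Lib.Helper9

open TensorProduct Function

universe u v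

section Ext

variable {R : Type*} [CommRing R] {M N : Type*} [AddCommGroup M] [Module R M] [AddCommGroup N]
  [Module R N] (u : N →ₗ[R] M)

/-- If `M` is flat, the class of modules `V` with `V ⊗ u` injective is closed under extensions. -/
theorem lTensor_injective_of_extension [Module.Flat R M] {V : Type*} [AddCommGroup V] [Module R V]
    (V' : Submodule R V) (h1 : Injective (u.lTensor V')) (h2 : Injective (u.lTensor (V ⧸ V'))) :
    Injective (u.lTensor V) := by
  rw [injective_iff_map_eq_zero]
  intro x hx
  have hx2 : V'.mkQ.rTensor N x = 0 := by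
    apply h2
    rw [← LinearMap.comp_apply, LinearMap.lTensor_comp_rTensor, ← LinearMap.rTensor_comp_lTensor,
      LinearMap.comp_apply, hx, map_zero, map_zero]
  obtain ⟨y, rfl⟩ := (rTensor_exact N (LinearMap.exact_subtype_mkQ V') V'.mkQ_surjective _).mp hx2
  have hy : V'.subtype.rTensor M (u.lTensor V' y) = 0 := by
    rw [← LinearMap.comp_apply, LinearMap.rTensor_comp_lTensor, ← LinearMap.lTensor_comp_rTensor,
      LinearMap.comp_apply, hx]
  have hy' : u.lTensor V' y = 0 :=
    (injective_iff_map_eq_zero _).mp
      (Module.Flat.rTensor_preserves_injective_linearMap V'.subtype V'.injective_subtype) _ hy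
  rw [(injective_iff_map_eq_zero _).mp h1 y hy', map_zero]

end Ext

section Local

variable {R : Type u} [CommRing R] [IsLocalRing R] {M N : Type*} [AddCommGroup M] [Module R M]
  [AddCommGroup N] [Module R N] (u : N →ₗ[R] M)

/-- If `k ⊗ u` is injective then `V ⊗ u` is injective for every `V` killed by the maximal ideal. -/
theorem lTensor_injective_of_isTorsionBySet_maximalIdeal
    (h : Injective (u.lTensor (IsLocalRing.ResidueField R)))
    {V : Type*} [AddCommGroup V] [Module R V]
    (hV : Module.IsTorsionBySet R V (IsLocalRing.maximalIdeal R)) : Injective (u.lTensor V) := by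
  let k := IsLocalRing.ResidueField R
  let _ : Module k V := hV.module
  have _ : IsScalarTower R k V := hV.isScalarTower
  have h1 : Injective (u.baseChange k) := h
  have h2 : Injective ((u.baseChange k).lTensor V) :=
    Module.Flat.lTensor_preserves_injective_linearMap _ h1
  have h3 := TensorProduct.AlgebraTensorModule.lTensor_comp_cancelBaseChange
    (R := R) (A := k) (B := k) (M := V) u
  have h4 := fun z => congrArg (fun φ => φ z) h3
  simp only [LinearMap.coe_comp, Function.comp_apply, LinearEquiv.coe_coe] at h4
  intro a b hab
  obtain ⟨a', rfl⟩ := (TensorProduct.AlgebraTensorModule.cancelBaseChange R k k V N).surjective a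
  obtain ⟨b', rfl⟩ := (TensorProduct.AlgebraTensorModule.cancelBaseChange R k k V N).surjective b
  have hab' : (TensorProduct.AlgebraTensorModule.cancelBaseChange R k k V M)
      ((u.baseChange k).lTensor V a') = (TensorProduct.AlgebraTensorModule.cancelBaseChange R k k V M)
      ((u.baseChange k).lTensor V b') := (h4 a').symm.trans (hab.trans (h4 b'))
  rw [h2 ((TensorProduct.AlgebraTensorModule.cancelBaseChange R k k V M).injective hab')]

/-- If `k ⊗ u` is injective and `M` is flat, then `V ⊗ u` is injective for every `V` killed by a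
power of the maximal ideal. -/
theorem lTensor_injective_of_isTorsionBySet_pow [Module.Flat R M]
    (h : Injective (u.lTensor (IsLocalRing.ResidueField R))) (n : ℕ) :
    ∀ {V : Type v} [AddCommGroup V] [Module R V],
      Module.IsTorsionBySet R V ((IsLocalRing.maximalIdeal R ^ n : Ideal R) : Set R) →
      Injective (u.lTensor V) := by
  induction n with
  | zero =>
    intro V _ _ hV
    refine lTensor_injective_of_isTorsionBySet_maximalIdeal u h ?_
    intro x a
    have h1 : (1 : R) • x = 0 := hV (a := ⟨1, by simp⟩)
    rw [one_smul] at h1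
    rw [h1, smul_zero]
  | succ n ih =>
    intro V _ _ hV
    refine lTensor_injective_of_extension u (IsLocalRing.maximalIdeal R • (⊤ : Submodule R V))
      (ih ?_) (lTensor_injective_of_isTorsionBySet_maximalIdeal u h
        (Module.isTorsionBySet_quotient_ideal_smul V _))
    rintro ⟨x, hx⟩ ⟨a, ha⟩
    apply Subtype.ext
    simp only [Submodule.coe_smul, Submodule.coe_zero]
    induction hx using Submodule.smul_induction_on' with
    | smul r hr n _ =>
      rw [smul_smul]
      exact hV (a := ⟨a * r, by rw [pow_succ]; exact Ideal.mul_mem_mul ha hr⟩)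
    | add x hx y hy ihx ihy => rw [smul_add, ihx, ihy, add_zero]

variable (S : Type*) [CommRing S] [IsLocalRing S] [IsNoetherianRing S] [Algebra R S]
  [IsLocalHom (algebraMap R S)] [Module S N] [IsScalarTower R S N] [Module.Finite S N]

include S in
/-- Core lemma: `u ⊗ V` is injective for every finite `R`-module `V`. -/
theorem rTensor_injective_of_finite [Module.Flat R M]
    (h : Injective (u.lTensor (IsLocalRing.ResidueField R)))
    (V : Type u) [AddCommGroup V] [Module R V] [Module.Finite R V] :
    Injective (u.rTensor V) := by
  set 𝔪 := IsLocalRing.maximalIdeal R with h𝔪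
  rw [injective_iff_map_eq_zero]
  intro x hx
  have key : ∀ n : ℕ, x ∈ (𝔪 ^ n) • (⊤ : Submodule R (N ⊗[R] V)) := by
    intro n
    let W : Submodule R V := (𝔪 ^ n) • (⊤ : Submodule R V)
    have hW : Injective (u.rTensor (V ⧸ W)) :=
      (u.lTensor_inj_iff_rTensor_inj (V ⧸ W)).mp
        (lTensor_injective_of_isTorsionBySet_pow u h n
          (Module.isTorsionBySet_quotient_ideal_smul V (𝔪 ^ n)))
    have h1 : W.mkQ.lTensor N x = 0 := by
      apply hW
      rw [← LinearMap.comp_apply, LinearMap.rTensor_comp_lTensor, ← LinearMap.lTensor_comp_rTensor,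
        LinearMap.comp_apply, hx, map_zero, map_zero]
    have h2 : ∀ y : N ⊗[R] W, W.subtype.lTensor N y ∈ (𝔪 ^ n) • (⊤ : Submodule R (N ⊗[R] V)) := by
      intro y
      induction y using TensorProduct.induction_on with
      | zero => simp
      | add y z hy hz =>
        rw [map_add]
        exact Submodule.add_mem _ hy hz
      | tmul m b =>
        rw [LinearMap.lTensor_tmul]
        exact tmul_mem_smul_top _ m _ b.2
    obtain ⟨y, rfl⟩ := (lTensor_exact N (LinearMap.exact_subtype_mkQ W) W.mkQ_surjective _).mp h1
    exact h2 y
  have hfin : Module.Finite S (N ⊗[R] V) := finite_tensorProduct_of_finite V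
  have hIS : 𝔪.map (algebraMap R S) ≤ Ideal.jacobson ⊥ := by
    rw [IsLocalRing.jacobson_eq_maximalIdeal ⊥ bot_ne_top]
    exact IsLocalRing.map_maximalIdeal_le (algebraMap R S)
  have hK := Ideal.iInf_pow_smul_eq_bot_of_le_jacobson (I := 𝔪.map (algebraMap R S))
    (M := N ⊗[R] V) hIS
  have hx' : x ∈ (⨅ i : ℕ, (𝔪.map (algebraMap R S)) ^ i • ⊤ : Submodule S (N ⊗[R] V)) := by
    rw [Submodule.mem_iInf]
    intro n
    have h3 : ∀ z ∈ (𝔪 ^ n) • (⊤ : Submodule R (N ⊗[R] V)),
        z ∈ ((𝔪.map (algebraMap R S)) ^ n • ⊤ : Submodule S (N ⊗[R] V)) := by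
      intro z hz
      induction hz using Submodule.smul_induction_on' with
      | smul r hr z _ =>
        rw [← algebraMap_smul S r z]
        refine Submodule.smul_mem_smul ?_ trivial
        rw [← Ideal.map_pow]
        exact Ideal.mem_map_of_mem _ hr
      | add x hx y hy ihx ihy => exact Submodule.add_mem _ ihx ihy
    exact h3 x (key n)
  rw [hK] at hx'
  exact hx'

include S in
/-- Stacks 00ME. -/
theorem injective_and_flat_of_lTensor_residueField_injective [Module.Flat R M]
    (h : Injective (u.lTensor (IsLocalRing.ResidueField R))) :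
    Injective u ∧ Module.Flat R (M ⧸ LinearMap.range u) := by
  constructor
  · have h1 := rTensor_injective_of_finite u S h R
    intro a b hab
    have h2 : u.rTensor R (a ⊗ₜ 1) = u.rTensor R (b ⊗ₜ 1) := by
      rw [LinearMap.rTensor_tmul, LinearMap.rTensor_tmul, hab]
    have h3 := congrArg (TensorProduct.rid R N) (h1 h2)
    simpa using h3
  · rw [Module.Flat.iff_lTensor_injective']
    intro I
    exact lTensor_injective_of_exact_of_exact_of_rTensor_injective
      (LinearMap.exact_map_mkQ_range u) (Submodule.mkQ_surjective _)
      (LinearMap.exact_subtype_mkQ I) (Submodule.mkQ_surjective _)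
      (rTensor_injective_of_finite u S h (R ⧸ I))
      (Module.Flat.lTensor_preserves_injective_linearMap _ I.injective_subtype)

end Local

end Groth.Agent.Lib.Helper9
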