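import Groth.Agent.Lib.Helper9.FlatCrit
import Mathlib.RingTheory.Localization.BaseChange
import Mathlib.RingTheory.Localization.Submodule
import Mathlib.RingTheory.Localization.Finiteness
import Mathlib.RingTheory.Localization.AtPrime.Basic

/-!
# Flatness criteria, part 2 (helper9 library)

The local criterion in the form: if `M / Iⁿ M` is flat over `R / Iⁿ` for all `n`, then `M` is flat
(under the usual finiteness hypotheses), and localization of that hypothesis.
-/

set_option autoImplicit false

namespace Groth.Agent.Lib.Helper9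

open TensorProduct Function

universe u v

section InjOnTorsion

variable (R : Type u) [CommRing R] (I : Ideal R) (M : Type v) [AddCommGroup M] [Module R M]

/-- `M ⊗ -` preserves injections between `R`-modules killed by `I` (equivalently, `M / I M` is flat
over `R / I`). -/
def InjOnTorsion : Prop :=
  ∀ (A B : Type u) [AddCommGroup A] [Module R A] [AddCommGroup B] [Module R B],
    Module.IsTorsionBySet R A I → Module.IsTorsionBySet R B I →
    ∀ j : A →ₗ[R] B, Injective j → Injective (j.lTensor M)

variable {R I M}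

theorem injOnTorsion_of_flat [Module.Flat (R ⧸ I) ((R ⧸ I) ⊗[R] M)] : InjOnTorsion R I M := by
  intro A B _ _ _ _ hA hB j hj
  exact (j.lTensor_inj_iff_rTensor_inj M).mpr (rTensor_injective_of_isTorsionBySet M I hA hB j hj)

theorem injOnTorsion_congr {I' : Ideal R} (h : I = I') (hM : InjOnTorsion R I M) :
    InjOnTorsion R I' M := h ▸ hM

end InjOnTorsion

section LocalCriterion

variable {R : Type u} [CommRing R] {S : Type*} [CommRing S] [Algebra R S]
  {M : Type v} [AddCommGroup M] [Module R M] [Module S M] [IsScalarTower R S M]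

/-- Local criterion of flatness, second form: `R → S` a map of Noetherian rings, `I` an ideal of `R`
with `I S` in the Jacobson radical of `S`, `M` a finite `S`-module such that `M / Iⁿ M` is flat over
`R / Iⁿ` for all `n > 0`. Then `M` is flat over `R`. -/
theorem flat_of_injOnTorsion_pow [IsNoetherianRing R] [IsNoetherianRing S]
    [Module.Finite S M] (I : Ideal R) (hIS : I.map (algebraMap R S) ≤ Ideal.jacobson ⊥)
    (hI : ∀ n : ℕ, 0 < n → InjOnTorsion R (I ^ n) M) :
    Module.Flat R M := by
  rw [Module.Flat.iff_lTensor_injective']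
  intro J
  rw [injective_iff_map_eq_zero]
  intro x hx
  obtain ⟨k, hk⟩ := Ideal.exists_pow_inf_eq_pow_smul I (J : Submodule R R)
  have key : ∀ n : ℕ, x ∈ (I ^ n) • (⊤ : Submodule R (M ⊗[R] J)) := by
    intro n
    set N := n + k + 1 with hN
    let JN : Submodule R J := Submodule.comap J.subtype (I ^ N)
    let j : (J ⧸ JN) →ₗ[R] (R ⧸ I ^ N) := JN.mapQ (I ^ N) J.subtype le_rfl
    have hj : Injective j := by
      rw [← LinearMap.ker_eq_bot, Submodule.ker_mapQ]
      exact Submodule.mkQ_map_self JN
    have hRN : Module.IsTorsionBySet R (R ⧸ I ^ N) ((I ^ N : Ideal R) : Set R) := by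
      rintro y ⟨a, ha⟩
      obtain ⟨r, rfl⟩ := Ideal.Quotient.mk_surjective y
      change Ideal.Quotient.mk (I ^ N) (a • r) = 0
      rw [Ideal.Quotient.eq_zero_iff_mem]
      exact Ideal.mul_mem_right _ _ ha
    have hJN : Module.IsTorsionBySet R (J ⧸ JN) ((I ^ N : Ideal R) : Set R) := by
      rw [Module.isTorsionBySet_quotient_iff]
      intro y r hr
      change ((r • y : J) : R) ∈ I ^ N
      exact Ideal.mul_mem_right _ _ hr
    have hjM' : Injective (j.lTensor M) := hI N (Nat.succ_pos _) _ _ hJN hRN j hj
    have hsq : j ∘ₗ JN.mkQ = (I ^ N).mkQ ∘ₗ J.subtype := rfl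
    have h1 : JN.mkQ.lTensor M x = 0 := by
      apply hjM'
      rw [← LinearMap.lTensor_comp_apply, hsq, LinearMap.lTensor_comp_apply, hx, map_zero, map_zero]
    have h2 : ∀ y : M ⊗[R] JN, JN.subtype.lTensor M y ∈ (I ^ n) • (⊤ : Submodule R (M ⊗[R] J)) := by
      intro y
      induction y using TensorProduct.induction_on with
      | zero => simp
      | add y z hy hz =>
        rw [map_add]
        exact Submodule.add_mem _ hy hz
      | tmul m b => ?_
      rw [LinearMap.lTensor_tmul]
      apply tmul_mem_smul_top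
      rw [Submodule.mem_smul_top_iff]
      have hb : ((b : J) : R) ∈ I ^ N • (⊤ : Submodule R R) ⊓ J := by
        refine ⟨?_, (b : J).2⟩
        have hb' : ((b : J) : R) ∈ I ^ N := b.2
        rwa [smul_eq_mul, Ideal.mul_top]
      rw [hk N (by omega)] at hb
      have h3 : I ^ (N - k) ≤ I ^ n := Ideal.pow_le_pow_right (by omega)
      exact Submodule.smul_mono h3 inf_le_right hb
    obtain ⟨y, rfl⟩ := (lTensor_exact M (LinearMap.exact_subtype_mkQ JN) JN.mkQ_surjective _).mp h1
    exact h2 y
  have _ : Module.Finite S (M ⊗[R] J) := finite_tensorProduct_of_finite J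
  have hK := Ideal.iInf_pow_smul_eq_bot_of_le_jacobson (I := I.map (algebraMap R S))
    (M := M ⊗[R] J) hIS
  have hx' : x ∈ (⨅ i : ℕ, (I.map (algebraMap R S)) ^ i • ⊤ : Submodule S (M ⊗[R] J)) := by
    rw [Submodule.mem_iInf]
    intro n
    have h3 : ∀ z ∈ (I ^ n) • (⊤ : Submodule R (M ⊗[R] J)),
        z ∈ ((I.map (algebraMap R S)) ^ n • ⊤ : Submodule S (M ⊗[R] J)) := by
      intro z hz
      induction hz using Submodule.smul_induction_on' with
      | smul r hr z _ =>
        rw [← algebraMap_smul S r z]
        refine Submodule.smul_mem_smul ?_ trivial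
        rw [← Ideal.map_pow]
        exact Ideal.mem_map_of_mem _ hr
      | add x hx y hy ihx ihy => exact Submodule.add_mem _ ihx ihy
    exact h3 x (key n)
  rw [hK] at hx'
  exact hx'

end LocalCriterion

section Localization

variable {R : Type u} [CommRing R] {S : Type*} [CommRing S] [Algebra R S]
  {M : Type v} [AddCommGroup M] [Module R M] [Module S M] [IsScalarTower R S M]

/-- The hypothesis `InjOnTorsion` passes to localizations of `M` (as an `S`-module). -/
theorem InjOnTorsion.localizedModule (I : Ideal R) (T : Submonoid S) (h : InjOnTorsion R I M) :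
    InjOnTorsion R I (LocalizedModule T M) := by
  intro A B _ _ _ _ hA hB j hj
  let Mq := LocalizedModule T M
  let ℓ : M →ₗ[S] Mq := LocalizedModule.mkLinearMap T M
  let ℓA : M ⊗[R] A →ₗ[S] Mq ⊗[R] A := AlgebraTensorModule.rTensor R A ℓ
  let ℓB : M ⊗[R] B →ₗ[S] Mq ⊗[R] B := AlgebraTensorModule.rTensor R B ℓ
  have hA' : IsLocalizedModule T ℓA := inferInstance
  have hB' : IsLocalizedModule T ℓB := inferInstance
  let jM : M ⊗[R] A →ₗ[S] M ⊗[R] B := AlgebraTensorModule.lTensor S M j
  let jq : Mq ⊗[R] A →ₗ[S] Mq ⊗[R] B := AlgebraTensorModule.lTensor S Mq j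
  have hjM : Injective jM := h A B hA hB j hj
  have hnat : ∀ w, ℓB (jM w) = jq (ℓA w) := by
    intro w
    induction w using TensorProduct.induction_on with
    | zero => simp
    | add x y hx hy => simp only [map_add, hx, hy]
    | tmul m a => rfl
  change Injective jq
  rw [injective_iff_map_eq_zero]
  intro z hz
  obtain ⟨⟨w, t⟩, hw⟩ := IsLocalizedModule.surj T ℓA z
  have hw' : (t : S) • z = ℓA w := hw
  have h1 : ℓB (jM w) = 0 := by
    rw [hnat, ← hw', map_smul, hz, smul_zero]
  obtain ⟨t', ht'⟩ := (IsLocalizedModule.eq_zero_iff T ℓB).mp h1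
  have ht'' : (t' : S) • jM w = 0 := ht'
  have h2 : jM ((t' : S) • w) = 0 := by
    rw [map_smul]
    exact ht''
  have h3 : (t' : S) • w = 0 := hjM (by rw [h2, map_zero])
  have h4 : (t' : S) • ((t : S) • z) = 0 := by
    rw [hw', ← map_smul, h3, map_zero]
  have h5 : (t : S) • z = 0 := IsLocalizedModule.smul_injective ℓA t' (by
    change (t' : S) • ((t : S) • z) = (t' : S) • (0 : Mq ⊗[R] A)
    rw [h4, smul_zero])
  exact IsLocalizedModule.smul_injective ℓA t (by
    change (t : S) • z = (t : S) • (0 : Mq ⊗[R] A)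
    rw [h5, smul_zero])

end Localization

end Groth.Agent.Lib.Helper9
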