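import Mathlib
import Groth.Prelude.Def_CAlgX
import Groth.Agent.Lib.Helper16.KzGr
import Groth.Agent.Lib.Helper2.GrFlat

set_option autoImplicit false
set_option linter.unusedSectionVars false
universe u
open TensorProduct Function MvPolynomial

namespace Groth.Agent.Lib.Helper9.QRBC

open Groth.Agent.Lib.Helper16.KzGr (Mon polyOf polyOf_apply polyOf_isHomogeneous coeff_polyOf
  coeff_polyOf_mem eq_polyOf)

section

variable {A B : Type u} [CommRing A] [CommRing B] [Algebra A B] {r : ℕ} (f : Fin r → B)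

/-- evaluation of the homogeneous polynomial with given coefficients -/
noncomputable def ev (n : ℕ) : (Mon r n → B) →ₗ[B] B :=
  (MvPolynomial.aeval f).toLinearMap ∘ₗ polyOf n

theorem ev_apply (n : ℕ) (a : Mon r n → B) : ev f n a = eval f (polyOf n a) := rfl

variable (A) in
/-- `ψ_n : B^{Mon} → B / J^{n+1}` -/
noncomputable def psi (n : ℕ) :
    (Mon r n → B) →ₗ[A] (B ⧸ (Ideal.span (Set.range f)) ^ (n + 1)) :=
  (Ideal.Quotient.mkₐ A ((Ideal.span (Set.range f)) ^ (n + 1))).toLinearMap ∘ₗ
    (ev f n).restrictScalars A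

theorem psi_apply (n : ℕ) (a : Mon r n → B) :
    psi A f n a = Ideal.Quotient.mk _ (eval f (polyOf n a)) := rfl

theorem psi_eq_zero_iff (hq : CAlgX.IsQuasiRegular f) (n : ℕ) (a : Mon r n → B) :
    psi A f n a = 0 ↔ ∀ d, a d ∈ Ideal.span (Set.range f) := by
  rw [psi_apply, Ideal.Quotient.eq_zero_iff_mem]
  constructor
  · intro h d
    have := hq n (polyOf n a) (polyOf_isHomogeneous n a) h d.1
    rwa [coeff_polyOf] at this
  · intro h
    have h1 := Groth.Agent.Lib.Helper12.QR.eval_mem_mul_pow_of_coeff_mem f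
      (Ideal.span (Set.range f)) (polyOf_isHomogeneous n a)
      (coeff_polyOf_mem n _ a (fun d => h d))
    rwa [← pow_succ'] at h1

theorem exists_psi_eq (n : ℕ) (x : B) (hx : x ∈ (Ideal.span (Set.range f)) ^ n) :
    ∃ a : Mon r n → B, eval f (polyOf n a) = x := by
  obtain ⟨P, hP, rfl⟩ := (Ideal.mem_span_pow_iff_exists_isHomogeneous f _).1 hx
  exact ⟨fun d => P.coeff d.1, by rw [← eq_polyOf n P hP]⟩

theorem flat_pi_fintype {ι : Type*} [Fintype ι] [DecidableEq ι] (C : Type*) [AddCommGroup C] [Module A C]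
    [Module.Flat A C] : Module.Flat A (ι → C) :=
  Module.Flat.of_linearEquiv (DirectSum.linearEquivFunOnFintype A ι (fun _ => C)).symm

/-- the quotient of `B^{Mon}` by the kernel of `ψ_n` is `(B/J)^{Mon}` -/
noncomputable def quotKerEquiv (hq : CAlgX.IsQuasiRegular f) (n : ℕ) :
    ((Mon r n → B) ⧸ LinearMap.ker (psi A f n)) ≃ₗ[A]
      (Mon r n → B ⧸ Ideal.span (Set.range f)) := by
  have h1 : LinearMap.ker (psi A f n) =
      (Submodule.pi Set.univ (fun _ : Mon r n => (Ideal.span (Set.range f) : Submodule B B))).restrictScalars A := by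
    ext a
    rw [LinearMap.mem_ker, psi_eq_zero_iff f hq, Submodule.restrictScalars_mem, Submodule.mem_pi]
    exact ⟨fun h d _ => h d, fun h d => h d (Set.mem_univ d)⟩
  exact Submodule.quotEquivOfEq _ _ h1 ≪≫ₗ
    Submodule.Quotient.restrictScalarsEquiv A _ ≪≫ₗ
    (Submodule.quotientPi (fun _ : Mon r n => (Ideal.span (Set.range f) : Submodule B B))).restrictScalars A

theorem flat_quotKer (hq : CAlgX.IsQuasiRegular f)
    [Module.Flat A (B ⧸ Ideal.span (Set.range f))] (n : ℕ) :
    Module.Flat A ((Mon r n → B) ⧸ LinearMap.ker (psi A f n)) := by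
  classical
  have := flat_pi_fintype (A := A) (ι := Mon r n) (B ⧸ Ideal.span (Set.range f))
  exact Module.Flat.of_linearEquiv (quotKerEquiv f hq n)

variable (A) in
/-- the injective map `(B/J)^{Mon} ≅ B^{Mon}/ker → B/J^{n+1}` -/
noncomputable def psibar (n : ℕ) :
    ((Mon r n → B) ⧸ LinearMap.ker (psi A f n)) →ₗ[A] (B ⧸ (Ideal.span (Set.range f)) ^ (n + 1)) :=
  (LinearMap.ker (psi A f n)).liftQ (psi A f n) le_rfl

theorem psibar_injective (n : ℕ) : Injective (psibar A f n) := by
  rw [← LinearMap.ker_eq_bot]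
  exact Submodule.ker_liftQ_eq_bot _ _ _ le_rfl

variable (A) in
/-- the projection `B/J^{n+1} → B/J^n` -/
noncomputable def proj (n : ℕ) :
    (B ⧸ (Ideal.span (Set.range f)) ^ (n + 1)) →ₗ[A] (B ⧸ (Ideal.span (Set.range f)) ^ n) :=
  (Ideal.Quotient.factorₐ A (Ideal.pow_le_pow_right (Nat.le_succ n))).toLinearMap

theorem proj_surjective (n : ℕ) : Surjective (proj A f n) :=
  Ideal.Quotient.factor_surjective (Ideal.pow_le_pow_right (Nat.le_succ n))

theorem exact_psibar_proj (n : ℕ) : Function.Exact (psibar A f n) (proj A f n) := by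
  intro y
  obtain ⟨x, rfl⟩ := Ideal.Quotient.mk_surjective y
  constructor
  · intro h
    have hx : x ∈ (Ideal.span (Set.range f)) ^ n := by
      rw [← Ideal.Quotient.eq_zero_iff_mem]
      exact h
    obtain ⟨a, ha⟩ := exists_psi_eq f n x hx
    refine ⟨Submodule.Quotient.mk a, ?_⟩
    change psi A f n a = _
    rw [psi_apply, ha]
  · rintro ⟨q, hq⟩
    obtain ⟨a, rfl⟩ := Submodule.Quotient.mk_surjective _ q
    change psi A f n a = _ at hq
    rw [psi_apply] at hq
    change Ideal.Quotient.mk _ x = 0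
    rw [Ideal.Quotient.eq_zero_iff_mem]
    have h1 : eval f (polyOf n a) - x ∈ (Ideal.span (Set.range f)) ^ (n + 1) := by
      rw [← Ideal.Quotient.eq_zero_iff_mem, map_sub, hq, sub_self]
    have h2 : eval f (polyOf n a) ∈ (Ideal.span (Set.range f)) ^ n :=
      Groth.Agent.Lib.Helper12.QR.eval_mem_pow_of_isHomogeneous f (polyOf_isHomogeneous n a)
    have h3 := Ideal.pow_le_pow_right (I := Ideal.span (Set.range f)) (Nat.le_succ n) h1
    have := Ideal.sub_mem _ h2 h3
    rwa [sub_sub_cancel] at this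

theorem flat_quot_pow (hq : CAlgX.IsQuasiRegular f)
    [Module.Flat A (B ⧸ Ideal.span (Set.range f))] (n : ℕ) :
    Module.Flat A (B ⧸ (Ideal.span (Set.range f)) ^ n) := by
  induction n with
  | zero =>
    have : Subsingleton (B ⧸ (Ideal.span (Set.range f)) ^ 0) := by
      rw [pow_zero, Ideal.one_eq_top]
      exact Ideal.Quotient.subsingleton_iff.mpr rfl
    infer_instance
  | succ n ih =>
    have := flat_quotKer (A := A) f hq n
    exact Groth.Agent.Lib.Helper2.flat_of_exact (psibar A f n) (proj A f n)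
      (psibar_injective f n) (proj_surjective f n) (exact_psibar_proj f n)

end

end Groth.Agent.Lib.Helper9.QRBC
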