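import Mathlib
import Groth.Prelude.Def_CAlgX
import Groth.Agent.Lib.Helper9.QRBC1

set_option autoImplicit false
set_option linter.unusedSectionVars false
universe u
open TensorProduct Function MvPolynomial

namespace Groth.Agent.Lib.Helper9.QRBC

open Groth.Agent.Lib.Helper16.KzGr (Mon polyOf polyOf_apply polyOf_isHomogeneous coeff_polyOf
  coeff_polyOf_mem eq_polyOf mem_of_degree)

theorem polyOf_map {R S : Type u} [CommRing R] [CommRing S] (φ : R →+* S) {r : ℕ} (n : ℕ)
    (b : Mon r n → R) : polyOf n (fun d => φ (b d)) = MvPolynomial.map φ (polyOf n b) := by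
  rw [polyOf_apply, polyOf_apply, map_sum]
  refine Finset.sum_congr rfl (fun d _ => ?_)
  rw [MvPolynomial.map_monomial]

theorem main (A B A' : Type u) [CommRing A] [CommRing B]
    [CommRing A'] [Algebra A B] [Algebra A A'] (r : ℕ) (f : Fin r → B)
    (hflat : Module.Flat A (B ⧸ Ideal.span (Set.range f))) (hq : CAlgX.IsQuasiRegular f) :
    CAlgX.IsQuasiRegular (fun i => ((1 : A') ⊗ₜ[A] f i : A' ⊗[A] B)) := by
  classical
  intro n P' hP' hev d
  set J : Ideal B := Ideal.span (Set.range f) with hJ
  set f' : Fin r → A' ⊗[A] B := fun i => (1 : A') ⊗ₜ[A] f i with hf'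
  have hJ' : Ideal.span (Set.range f') =
      J.map (Algebra.TensorProduct.includeRight : B →ₐ[A] A' ⊗[A] B) := by
    rw [hJ, Ideal.map_span, ← Set.range_comp]
    rfl
  by_cases hd : d ∈ (Finset.univ : Finset (Fin r)).finsuppAntidiag n
  swap
  · rw [hP'.coeff_eq_zero (fun h => hd (mem_of_degree n h))]
    exact zero_mem _
  let a' : Mon r n → A' ⊗[A] B := fun d => coeff d.1 P'
  have hP'eq : P' = polyOf n a' := eq_polyOf n P' hP'
  let ι := TensorProduct.piRight A A A' (fun _ : Mon r n => B)
  -- (C1)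
  have hC1 : ∀ y : A' ⊗[A] (Mon r n → B),
      ((ev f n).restrictScalars A).lTensor A' y = eval f' (polyOf n (ι y)) := by
    intro y
    induction y using TensorProduct.induction_on with
    | zero => simp
    | tmul a b =>
      have h1 : ι (a ⊗ₜ[A] b) = (a ⊗ₜ[A] (1 : B)) • (fun d => (Algebra.TensorProduct.includeRight :
          B →ₐ[A] A' ⊗[A] B) (b d)) := by
        ext d
        simp [ι]
      rw [h1, map_smul]
      have h2 := polyOf_map ((Algebra.TensorProduct.includeRight :
          B →ₐ[A] A' ⊗[A] B) : B →+* A' ⊗[A] B) n b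
      have h2' : polyOf n (fun d => (Algebra.TensorProduct.includeRight :
          B →ₐ[A] A' ⊗[A] B) (b d)) = MvPolynomial.map ((Algebra.TensorProduct.includeRight :
          B →ₐ[A] A' ⊗[A] B) : B →+* A' ⊗[A] B) (polyOf n b) := h2
      rw [h2', smul_eval, MvPolynomial.eval_map]
      have h3 : eval₂ ((Algebra.TensorProduct.includeRight :
          B →ₐ[A] A' ⊗[A] B) : B →+* A' ⊗[A] B) f' (polyOf n b) =
          (Algebra.TensorProduct.includeRight : B →ₐ[A] A' ⊗[A] B) (eval f (polyOf n b)) := by
        have := MvPolynomial.eval₂_comp_left ((Algebra.TensorProduct.includeRight :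
          B →ₐ[A] A' ⊗[A] B) : B →+* A' ⊗[A] B) (RingHom.id B) f (polyOf n b)
        rw [RingHom.comp_id] at this
        exact this.symm
      rw [h3, LinearMap.lTensor_tmul]
      simp [ev_apply]
    | add x y hx hy => simp only [map_add, hx, hy]
  -- the relation dies in `A' ⊗ B / J^{n+1}`
  have hker : (Ideal.Quotient.mkₐ A (J ^ (n + 1))).toLinearMap.lTensor A' (eval f' P') = 0 := by
    have h1 : RingHom.ker (Algebra.TensorProduct.map (AlgHom.id A A')
        (Ideal.Quotient.mkₐ A (J ^ (n + 1)))) =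
        (RingHom.ker (Ideal.Quotient.mkₐ A (J ^ (n + 1)))).map
          (Algebra.TensorProduct.includeRight : B →ₐ[A] A' ⊗[A] B) :=
      Algebra.TensorProduct.lTensor_ker _ (Ideal.Quotient.mkₐ_surjective A _)
    have h2 : eval f' P' ∈ RingHom.ker (Algebra.TensorProduct.map (AlgHom.id A A')
        (Ideal.Quotient.mkₐ A (J ^ (n + 1)))) := by
      have hk : RingHom.ker (Ideal.Quotient.mkₐ A (J ^ (n + 1))) = J ^ (n + 1) :=
        Ideal.Quotient.mkₐ_ker A _
      rw [h1, hk, Ideal.map_pow, ← hJ']
      exact hev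
    exact h2
  set y := ι.symm a' with hy
  have hιy : ι y = a' := LinearEquiv.apply_symm_apply _ _
  have hpsi : (psi A f n).lTensor A' y = 0 := by
    rw [psi, LinearMap.lTensor_comp, LinearMap.comp_apply, hC1, hιy, ← hP'eq]
    exact hker
  have hfl : Module.Flat A (B ⧸ J ^ n) := flat_quot_pow f hq n
  have hinj : Injective ((psibar A f n).lTensor A') :=
    LinearMap.lTensor_injective_of_exact_of_flat (proj A f n) (proj_surjective f n)
      (psibar A f n) (psibar_injective f n) (exact_psibar_proj f n) A'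
  have hcomp : psi A f n = psibar A f n ∘ₗ (LinearMap.ker (psi A f n)).mkQ :=
    (Submodule.liftQ_mkQ _ _ _).symm
  have hmk : (LinearMap.ker (psi A f n)).mkQ.lTensor A' y = 0 := by
    apply hinj
    rw [map_zero, ← LinearMap.comp_apply, ← LinearMap.lTensor_comp, ← hcomp]
    exact hpsi
  have hex := lTensor_exact A' (LinearMap.exact_subtype_mkQ (LinearMap.ker (psi A f n)))
    (Submodule.mkQ_surjective _)
  obtain ⟨z, hz⟩ := (hex y).mp hmk
  have hKJ : ∀ z : A' ⊗[A] (LinearMap.ker (psi A f n)),
      ∀ d, ι ((LinearMap.ker (psi A f n)).subtype.lTensor A' z) d ∈ Ideal.span (Set.range f') := by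
    intro z
    induction z using TensorProduct.induction_on with
    | zero => intro d; simp
    | tmul a κ =>
      intro d
      have hκ := (psi_eq_zero_iff f hq n κ.1).mp (LinearMap.mem_ker.mp κ.2) d
      have h1 : ι ((LinearMap.ker (psi A f n)).subtype.lTensor A' (a ⊗ₜ[A] κ)) d =
          (a ⊗ₜ[A] (1 : B)) * (Algebra.TensorProduct.includeRight : B →ₐ[A] A' ⊗[A] B) (κ.1 d) := by
        simp [ι]
      rw [h1, hJ']
      exact Ideal.mul_mem_left _ _ (Ideal.mem_map_of_mem _ hκ)
    | add x y hx hy =>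
      intro d
      rw [map_add, map_add, Pi.add_apply]
      exact add_mem (hx d) (hy d)
  have := hKJ z ⟨d, hd⟩
  rw [hz, hιy] at this
  exact this

end Groth.Agent.Lib.Helper9.QRBC
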