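import Groth.Agent.Lib.Helper10.Hartogs

/-!
# Hartogs' extension theorem from regular sequences, without finiteness (helper9)

A variant of helper10's `Hartogs` in which the depth hypothesis is replaced by the existence of
weakly regular sequences of length two in the relevant ideals; no finiteness of the module is
needed (the proofs are the "regular sequence" branches of helper10's).
-/

set_option autoImplicit false
set_option linter.unusedSectionVars false
open CategoryTheory CategoryTheory.Limits AlgebraicGeometry Opposite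
universe u

namespace Groth.Agent.Lib.Helper9.HartogsReg

open Groth.Agent.Lib.Helper29.QCoh TopologicalSpace Groth.Agent.Lib.Helper10.Hartogs
open Pointwise RingTheory.Sequence

variable {X : Scheme.{u}}
variable [IsLocallyNoetherian X] (F : X.Modules) [F.IsQuasicoherent] (U : X.Opens)

/-- every ideal of sections over an affine open cutting out (a subset of) the complement of `U`
contains a weakly regular sequence of length two on `Γ(F, W)` -/
def RegTwo (F : X.Modules) (U : X.Opens) : Prop :=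
  ∀ {W : X.Opens} (_ : IsAffineOpen W) (K : Ideal Γ(X, W)),
    (∀ c : Γ(X, W), X.basicOpen c ≤ W ⊓ U → ∃ n : ℕ, c ^ n ∈ K) →
    ∃ x y : Γ(X, W), x ∈ K ∧ y ∈ K ∧ IsWeaklyRegular Γ(F, W) [x, y]

theorem res_injective_of_isAffineOpen
    (hloc : RegTwo F U)
    {W : X.Opens} (hW : IsAffineOpen W) (m : Γ(F, W))
    (hm : res F (inf_le_left : W ⊓ U ≤ W) m = 0) : m = 0 := by
  obtain ⟨x, y, hxK, -, hreg⟩ := hloc hW
    ((⊥ : Submodule Γ(X, W) Γ(F, W)).colon {m}) (fun c hc => by
      have h0 : res F (X.basicOpen_le c) m = 0 := by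
        rw [← res_res F (inf_le_left : W ⊓ U ≤ W) hc, hm, map_zero]
      obtain ⟨n, hn⟩ := exists_pow_smul_eq_zero F hW c m h0
      exact ⟨n, by rw [Submodule.mem_colon_singleton, Submodule.mem_bot]; exact hn⟩)
  rw [isWeaklyRegular_cons_iff] at hreg
  rw [Submodule.mem_colon_singleton, Submodule.mem_bot] at hxK
  apply hreg.1
  change x • m = x • 0
  rw [smul_zero, hxK]

theorem res_surjective_of_isAffineOpen
    (hloc : RegTwo F U)
    {W : X.Opens} (hW : IsAffineOpen W) (s : Γ(F, W ⊓ U)) :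
    ∃ m : Γ(F, W), res F (inf_le_left : W ⊓ U ≤ W) m = s := by
  have hT : W ⊓ U ≤ W := inf_le_left
  obtain ⟨x, y, hxK, hyK, hreg⟩ := hloc hW (denomIdeal F hT s)
    (fun c hc => by
      obtain ⟨n, m, hnm⟩ := exists_pow_rsmul_eq_res F hW hT c hc s
      exact ⟨n, m, hnm⟩)
  rw [isWeaklyRegular_cons_iff, isWeaklyRegular_cons_iff] at hreg
  obtain ⟨hx, hy, -⟩ := hreg
  obtain ⟨mx, hmx⟩ := hxK
  obtain ⟨my, hmy⟩ := hyK
  have heq : y • mx = x • my := by
    rw [← sub_eq_zero]
    apply res_injective_of_isAffineOpen F U hloc hW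
    rw [map_sub, ← rsmul_eq_smul_res, ← rsmul_eq_smul_res, ← hmx, ← hmy, sub_eq_zero]
    unfold rsmul
    rw [smul_comm]
  have hmem' : mx ∈ x • (⊤ : Submodule Γ(X, W) Γ(F, W)) := by
    have h0 : y • (Submodule.Quotient.mk mx : QuotSMulTop x Γ(F, W)) = y • 0 := by
      rw [smul_zero, ← Submodule.Quotient.mk_smul, heq, Submodule.Quotient.mk_eq_zero]
      exact Submodule.smul_mem_pointwise_smul _ _ _ Submodule.mem_top
    have := hy h0
    rwa [Submodule.Quotient.mk_eq_zero] at this
  obtain ⟨m', -, hm'⟩ := (Submodule.mem_smul_pointwise_iff_exists _ _ _).mp hmem'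
  refine ⟨m', ?_⟩
  rw [← sub_eq_zero]
  apply eq_zero_of_rsmul_eq_zero_of_isSMulRegular F hW hT x hx
  rw [rsmul_sub, rsmul_eq_smul_res, hm', hmx, sub_self]

/-- Gluing: the general case. -/
theorem res_bijective
    (hloc : RegTwo F U)
    (V : X.Opens) : Function.Bijective (res F (inf_le_left : V ⊓ U ≤ V)) := by
  have hinj : ∀ (V : X.Opens) (m : Γ(F, V)), res F (inf_le_left : V ⊓ U ≤ V) m = 0 → m = 0 := by
    intro V m hm
    refine eq_zero_of_res_cover_eq_zero F
      (fun W : {W : X.Opens // IsAffineOpen W ∧ W ≤ V} => W.1) (fun W => W.2.2) ?_ m ?_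
    · intro x hx
      obtain ⟨W, hW, hxW, hWV⟩ := exists_isAffineOpen_mem_and_subset (x := x) (U := V) hx
      exact Opens.mem_iSup.mpr ⟨⟨W, hW, hWV⟩, hxW⟩
    · rintro ⟨W, hW, hWV⟩
      apply res_injective_of_isAffineOpen F U hloc hW
      rw [res_res, ← res_res F (inf_le_left : V ⊓ U ≤ V) (inf_le_inf_right U hWV), hm, map_zero]
  refine ⟨fun a b hab => ?_, fun t => ?_⟩
  · rw [← sub_eq_zero]
    apply hinj V
    rw [map_sub, hab, sub_self]
  · have hloc : ∀ W : {W : X.Opens // IsAffineOpen W ∧ W ≤ V}, ∃ m : Γ(F, W.1),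
        res F (inf_le_left : W.1 ⊓ U ≤ W.1) m = res F (inf_le_inf_right U W.2.2) t :=
      fun W => res_surjective_of_isAffineOpen F U hloc W.2.1 _
    choose sf hsf using hloc
    obtain ⟨s, hs⟩ := exists_gluing F (fun W : {W : X.Opens // IsAffineOpen W ∧ W ≤ V} => W.1) V
      (fun W => W.2.2) (by
        intro x hx
        obtain ⟨W, hW, hxW, hWV⟩ := exists_isAffineOpen_mem_and_subset (x := x) (U := V) hx
        exact Opens.mem_iSup.mpr ⟨⟨W, hW, hWV⟩, hxW⟩) sf (by
        intro W W'
        rw [← sub_eq_zero]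
        apply hinj (W.1 ⊓ W'.1)
        rw [map_sub, res_res, res_res, sub_eq_zero,
          ← res_res F (inf_le_left : W.1 ⊓ U ≤ W.1)
            (inf_le_inf_right U (inf_le_left : W.1 ⊓ W'.1 ≤ W.1)),
          ← res_res F (inf_le_left : W'.1 ⊓ U ≤ W'.1)
            (inf_le_inf_right U (inf_le_right : W.1 ⊓ W'.1 ≤ W'.1)),
          hsf W, hsf W', res_res, res_res])
    refine ⟨s, ?_⟩
    rw [← sub_eq_zero]
    refine eq_zero_of_res_cover_eq_zero F
      (fun W : {W : X.Opens // IsAffineOpen W ∧ W ≤ V} => W.1 ⊓ U)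
      (fun W => inf_le_inf_right U W.2.2) ?_ _ ?_
    · intro x hx
      obtain ⟨W, hW, hxW, hWV⟩ := exists_isAffineOpen_mem_and_subset (x := x) (U := V) hx.1
      exact Opens.mem_iSup.mpr ⟨⟨W, hW, hWV⟩, ⟨hxW, hx.2⟩⟩
    · intro W
      rw [map_sub, res_res, ← res_res F W.2.2 (inf_le_left : W.1 ⊓ U ≤ W.1), hs W, hsf W,
        sub_self]

end Groth.Agent.Lib.Helper9.HartogsReg
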