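import Groth.Agent.Lib.Helper9.ReflNormal2
import Groth.Agent.Lib.Helper18.SerreNormal
import Groth.Agent.Lib.Helper28.DCohRes19
import Groth.Agent.Lib.Helper17.ZClosLib
import Groth.Prelude.Def_Pi1

/-!
# Reflexive sheaves on normal schemes: extension from big opens (helper9)
-/

set_option autoImplicit false
universe u
open CategoryTheory CategoryTheory.Limits AlgebraicGeometry TopologicalSpace Opposite IsLocalRing
open RingTheory.Sequence Pointwise

namespace Groth.Agent.Lib.Helper9.ReflNormal

open Groth.Agent.Lib.Helper29.QCoh Groth.Agent.Lib.Helper10.Hartogs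
open Groth.Agent.Lib.Helper9.RefStalk Groth.Agent.Lib.Helper16.Depth
open Groth.Agent.Lib.Helper28.DCohRes Groth.Agent.Lib.Helper17.ZClosLib

section rings

variable (S : Type u) [CommRing S] [IsLocalRing S] [IsNoetherianRing S] [IsDomain S]
  [IsIntegrallyClosed S]

/-- a normal Noetherian local domain of dimension at least two has depth at least two -/
theorem hasRegSeq_two_of_normal (h : (2 : WithBot ℕ∞) ≤ ringKrullDim S) :
    HasRegSeq (maximalIdeal S) S 2 := by
  have h1 := Groth.Agent.Lib.Helper18.Serre.min_two_dim_le_depth_of_normal S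
  have h2 : ((2 : ℕ) : WithBot ℕ∞) ≤ ((LocCoh.depth S S : ℕ∞) : WithBot ℕ∞) :=
    le_trans (le_min le_rfl (by exact_mod_cast h)) h1
  have h3 : ((2 : ℕ) : ℕ∞) ≤ LocCoh.depth S S := by
    have h2' : (((2 : ℕ) : ℕ∞) : WithBot ℕ∞) ≤ ((LocCoh.depth S S : ℕ∞) : WithBot ℕ∞) := h2
    exact WithBot.coe_le_coe.mp h2'
  rcases (le_idealDepth_iff (maximalIdeal S) S 2).mp h3 with htop | h4
  · exfalso
    have h5 : (1 : S) ∈ maximalIdeal S • (⊤ : Submodule S S) := by rw [htop]; trivial
    rw [smul_eq_mul, Ideal.mul_top] at h5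
    exact (Ideal.ne_top_iff_one _).mp (IsLocalRing.maximalIdeal.isMaximal S).ne_top h5
  · exact h4

omit [IsLocalRing S] [IsNoetherianRing S] [IsDomain S] [IsIntegrallyClosed S] in
theorem dim_le_one_of_not_two_le (h : ¬ (2 : WithBot ℕ∞) ≤ ringKrullDim S) :
    ringKrullDim S ≤ 1 := by
  have hlt : ringKrullDim S < 2 := not_le.mp h
  generalize ringKrullDim S = d at hlt ⊢
  induction d using WithBot.recBotCoe with
  | bot => exact bot_le
  | coe n =>
    induction n using ENat.recTopCoe with
    | top => exact absurd hlt (by simp)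
    | coe n =>
      have : n < 2 := by
        have h' : ((n : ℕ∞) : WithBot ℕ∞) < ((2 : ℕ∞) : WithBot ℕ∞) := hlt
        rw [WithBot.coe_lt_coe] at h'
        exact_mod_cast h'
      have : n ≤ 1 := by omega
      exact_mod_cast this

/-- finite torsion-free modules over normal Noetherian local domains of dimension `< 2` are free -/
theorem free_of_isTorsionFree_of_normal (h : ¬ (2 : WithBot ℕ∞) ≤ ringKrullDim S)
    (M : Type u) [AddCommGroup M] [Module S M] [Module.Finite S M]
    [Module.IsTorsionFree S M] : Module.Free S M := by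
  have h1 := dim_le_one_of_not_two_le S h
  have := Groth.Agent.Lib.Helper18.Serre.isRegularLocalRing_of_isIntegrallyClosed_of_dim_le_one
    S h1
  exact free_of_isTorsionFree S h1 M

end rings

variable {X : Scheme.{u}} [IsIntegral X] [IsLocallyNoetherian X]

omit [IsIntegral X] [IsLocallyNoetherian X] in
/-- the locally free locus as an open, with local freeness of the restriction -/
theorem exists_open_lfAt (F : X.Modules) :
    ∃ U : X.Opens, (∀ x : X, x ∈ U ↔ LFAt F x) ∧ FlatMod.IsFinLocFree (F.restrict U.ι) := by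
  let T : Set X := {x | LFAt F x}
  have hT : IsOpen T := by
    rw [isOpen_iff_forall_mem_open]
    rintro x ⟨V, hxV, hV⟩
    exact ⟨V, fun z hz => ⟨V, hz, hV⟩, V.2, hxV⟩
  obtain ⟨U, hU⟩ : ∃ U : X.Opens, (U : Set X) = T := ⟨⟨T, hT⟩, rfl⟩
  have hmem : ∀ z : X, z ∈ U ↔ z ∈ T := fun z => by
    rw [← SetLike.mem_coe, hU]
  refine ⟨U, hmem, ?_⟩
  refine isFinLocFree_of_locally fun y => ?_
  obtain ⟨V, hxV, hV⟩ := (hmem y.1).1 y.2
  have hle : V ≤ U := fun z hz => (hmem z).2 ⟨V, hz, hV⟩
  refine ⟨V, X.homOfLE hle, inferInstance, ⟨⟨y.1, hxV⟩, ?_⟩, ?_⟩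
  · apply U.ι.isOpenEmbedding.injective
    rw [← Scheme.Hom.comp_apply, X.homOfLE_ι]
    rfl
  · have e : F.restrict V.ι ≅ (F.restrict U.ι).restrict (X.homOfLE hle) :=
      (Scheme.Modules.restrictFunctorCongr (X.homOfLE_ι hle).symm).app _ ≪≫
        (Scheme.Modules.restrictFunctorComp (X.homOfLE hle) _).app _
    exact isFinLocFree_of_iso e hV

/-- on a normal scheme, reflexive coherent modules are determined on a big open where they are
locally free -/
theorem exists_open_of_isReflexiveAt (hX : Pi1.IsNormalScheme X) (F : X.Modules)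
    (hF : Coh.IsCoh F) (hR : ∀ x : X, Module.IsReflexive (X.presheaf.stalk x) (F.presheaf.stalk x)) :
    ∃ U : X.Opens, (∀ x : X, x ∉ U → (2 : WithBot ℕ∞) ≤ ringKrullDim (X.presheaf.stalk x)) ∧
      FlatMod.IsFinLocFree (F.restrict U.ι) ∧
      IsIso ((Scheme.Modules.restrictAdjunction U.ι).unit.app F) := by
  have := hF.1
  have := hF.2
  have hfp : F.IsFinitePresentation := isFP_of_isCoh F hF
  obtain ⟨U, hU, hlf⟩ := exists_open_lfAt F
  have hdim : ∀ x : X, x ∉ U → (2 : WithBot ℕ∞) ≤ ringKrullDim (X.presheaf.stalk x) := by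
    intro x hx
    by_contra hd
    apply hx
    rw [hU]
    have := (hX x).2
    have := hR x
    have : Module.Finite (X.presheaf.stalk x) (F.presheaf.stalk x) := finite_stalk_of_isCoh F hF x
    have hfree := free_of_isTorsionFree_of_normal (X.presheaf.stalk x) hd (F.presheaf.stalk x)
    exact lfAt_of_isFinitePresentation ⟨hfree, inferInstance⟩
  refine ⟨U, hdim, hlf, ?_⟩
  have hdepth : ∀ x : X, x ∉ U →
      2 ≤ LocCoh.depth (X.presheaf.stalk x) (F.presheaf.stalk x) := by
    intro x hx
    have := (hX x).2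
    have := hR x
    exact two_le_depth_of_isReflexive _ _ (hasRegSeq_two_of_normal _ (hdim x hx))
  have hb := fun V => res_bijective F U (locDepthTwo_of_stalk_depth F U hdepth) V
  exact (isIso_unit_iff_compact U F).mpr fun V _ => hb V

omit [IsLocallyNoetherian X] in
/-- torsion-freeness of sections over an affine open from torsion-freeness of the stalks on an
open `U` such that restriction to `U` is injective -/
theorem isTorsionFree_sections_of_injective (F : X.Modules) [F.IsQuasicoherent] (U : X.Opens)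
    (hF : ∀ y : X, y ∈ U → Module.IsTorsionFree (X.presheaf.stalk y) (F.presheaf.stalk y))
    {W : X.Opens} [Nonempty W]
    (hinj : Function.Injective (res F (inf_le_left : W ⊓ U ≤ W))) :
    Module.IsTorsionFree Γ(X, W) Γ(F, W) := by
  refine ⟨fun r hr m₁ m₂ h => ?_⟩
  have hr0 : r ≠ 0 := hr.ne_zero
  rw [← sub_eq_zero]
  have hm : r • (m₁ - m₂) = 0 := by
    rw [smul_sub, sub_eq_zero]; exact h
  generalize m₁ - m₂ = m at hm
  apply hinj
  rw [map_zero]
  apply TopCat.Presheaf.section_ext (abSheaf F) (W ⊓ U) _ 0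
  intro y hy
  change F.presheaf.germ (W ⊓ U) y hy (res F (inf_le_left : W ⊓ U ≤ W) m) =
    F.presheaf.germ (W ⊓ U) y hy 0
  rw [germ_res, map_zero]
  have h1 := congrArg (F.presheaf.germ W y hy.1) hm
  rw [germ_smul, map_zero] at h1
  have h2 : X.presheaf.germ W y hy.1 r ≠ 0 := by
    intro h0
    apply hr0
    apply germ_injective_of_isIntegral X y hy.1
    rw [h0, map_zero]
  have := hF y hy.2
  exact (smul_eq_zero.mp h1).resolve_left h2

/-- converse: a coherent module on a normal scheme which is locally free on a big open `U` and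
equal to its extension from `U` has reflexive stalks -/
theorem isReflexiveAt_of_exists_open (F : X.Modules)
    (hF : Coh.IsCoh F) (U : X.Opens)
    (hlf : FlatMod.IsFinLocFree (F.restrict U.ι))
    (hiso : IsIso ((Scheme.Modules.restrictAdjunction U.ι).unit.app F)) (x : X) :
    Module.IsReflexive (X.presheaf.stalk x) (F.presheaf.stalk x) := by
  have := hF.1
  have := hF.2
  have hb : ∀ V : X.Opens, IsCompact (V : Set X) →
      Function.Bijective (res F (inf_le_left : V ⊓ U ≤ V)) :=
    (isIso_unit_iff_compact U F).mp hiso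
  have hfreeU : ∀ y : X, y ∈ U → Module.Free (X.presheaf.stalk y) (F.presheaf.stalk y) :=
    fun y hy => (LFAt.stalkFF (M := F) ⟨U, hy, hlf⟩).1
  obtain ⟨_, ⟨W, hW : IsAffineOpen W, rfl⟩, hxW, -⟩ :=
    X.isBasis_affineOpens.exists_subset_of_mem_open (Set.mem_univ x) isOpen_univ
  have : Nonempty W := ⟨⟨x, hxW⟩⟩
  have : IsNoetherianRing Γ(X, W) := IsLocallyNoetherian.component_noetherian ⟨W, hW⟩
  have : IsDomain Γ(X, W) := inferInstance
  have : Module.Finite Γ(X, W) Γ(F, W) := module_finite_of_isFiniteType F hW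
  have : Module.IsTorsionFree Γ(X, W) Γ(F, W) :=
    isTorsionFree_sections_of_injective F U (fun y hy => by
      have := hfreeU y hy
      infer_instance) (hb W hW.isCompact).1
  have hM : Module.IsReflexive Γ(X, W) Γ(F, W) := by
    apply Groth.Agent.Lib.Helper9.S2Refl.isReflexive_of_forall_prime
    intro p hp
    obtain ⟨y, hyW, hyp⟩ := exists_point_primeIdealOf_eq hW p
    subst hyp
    let _ : Algebra Γ(X, W) (X.presheaf.stalk y) :=
      TopCat.Presheaf.algebra_section_stalk X.presheaf ⟨y, hyW⟩
    have hloc : IsLocalization.AtPrime (X.presheaf.stalk y)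
      (hW.primeIdealOf ⟨y, hyW⟩).asIdeal := hW.isLocalization_stalk ⟨y, hyW⟩
    let _ := stalkModule F W y hyW
    have : IsScalarTower Γ(X, W) (X.presheaf.stalk y) (F.presheaf.stalk y) :=
      IsScalarTower.of_algebraMap_smul fun a t => rfl
    have hlm := isLocalizedModule_germ F hW y hyW
    by_cases hyU : y ∈ U
    · left
      have := hfreeU y hyU
      have : Module.Finite (X.presheaf.stalk y) (F.presheaf.stalk y) :=
        finite_stalk_of_isCoh F hF y
      have hrefl : Module.IsReflexive (X.presheaf.stalk y) (F.presheaf.stalk y) := inferInstance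
      exact (Groth.Agent.Lib.Helper9.LocRefl.isReflexive_iff
        (hW.primeIdealOf ⟨y, hyW⟩).asIdeal.primeCompl (X.presheaf.stalk y)
        (germₗ F W y hyW)).mp hrefl
    · right
      rw [← depth_stalk_eq_depth_localized F hW y hyW]
      exact Groth.Agent.Lib.Helper10.HartogsConv.two_le_depth_of_bijective (U := U) F
        (fun W' hW' => hb W' hW'.isCompact) y hyU
  let _ : Algebra Γ(X, W) (X.presheaf.stalk x) :=
    TopCat.Presheaf.algebra_section_stalk X.presheaf ⟨x, hxW⟩
  have hloc : IsLocalization.AtPrime (X.presheaf.stalk x)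
    (hW.primeIdealOf ⟨x, hxW⟩).asIdeal := hW.isLocalization_stalk ⟨x, hxW⟩
  let _ := stalkModule F W x hxW
  have : IsScalarTower Γ(X, W) (X.presheaf.stalk x) (F.presheaf.stalk x) :=
    IsScalarTower.of_algebraMap_smul fun a t => rfl
  have hlm := isLocalizedModule_germ F hW x hxW
  exact Groth.Agent.Lib.Helper9.LocRefl.isReflexive_of_isLocalizedModule
    (hW.primeIdealOf ⟨x, hxW⟩).asIdeal.primeCompl (X.presheaf.stalk x) (germₗ F W x hxW)

/-- **Reflexive ⟺ extension of a locally free module from a big open**, on normal schemes -/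
theorem isReflexiveAt_iff_exists_open (hX : Pi1.IsNormalScheme X) (F : X.Modules)
    (hF : Coh.IsCoh F) :
    (∀ x : X, Module.IsReflexive (X.presheaf.stalk x) (F.presheaf.stalk x)) ↔
      ∃ U : X.Opens, (∀ x : X, x ∉ U → (2 : WithBot ℕ∞) ≤ ringKrullDim (X.presheaf.stalk x)) ∧
        FlatMod.IsFinLocFree (F.restrict U.ι) ∧
        IsIso ((Scheme.Modules.restrictAdjunction U.ι).unit.app F) :=
  ⟨exists_open_of_isReflexiveAt hX F hF, fun ⟨U, _, hlf, hiso⟩ x =>
    isReflexiveAt_of_exists_open F hF U hlf hiso x⟩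

end Groth.Agent.Lib.Helper9.ReflNormal
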