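import Mathlib
import Groth.Prelude.Def_FlatMod2
import Groth.Prelude.Def_Pi1
import Groth.Agent.Lib.Helper9.HartogsReg
import Groth.Agent.Lib.Helper9.ReflNormal4

/-!
# Hartogs for flat quasi-coherent modules on normal Noetherian schemes (helper9)
-/

set_option autoImplicit false
set_option linter.unusedSectionVars false
universe u
open CategoryTheory CategoryTheory.Limits AlgebraicGeometry TopologicalSpace Opposite

namespace Groth.Agent.Lib.Helper9.FlatHartogs

open Groth.Agent.Lib.Helper29.QCoh Groth.Agent.Lib.Helper10.Hartogs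
open Groth.Agent.Lib.Helper16.Depth Groth.Agent.Lib.Helper9.ReflNormal
open Groth.Agent.Lib.Helper17.ZClosLib
open Pointwise RingTheory.Sequence TensorProduct

section modules

variable {R : Type*} [CommRing R] (M : Type*) [AddCommGroup M] [Module R M] [Module.Flat R M]

theorem isWeaklyRegular_tensor {N : Type*} [AddCommGroup N] [Module R N] (rs : List R)
    (h : IsWeaklyRegular N rs) : IsWeaklyRegular (M ⊗[R] N) rs := by
  induction rs generalizing N with
  | nil => exact IsWeaklyRegular.nil R _
  | cons x rs ih =>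
    rw [isWeaklyRegular_cons_iff] at h ⊢
    refine ⟨h.1.lTensor M, ?_⟩
    exact (LinearEquiv.isWeaklyRegular_congr
      (QuotSMulTop.tensorQuotSMulTopEquivQuotSMulTop x M N) rs).mp (ih h.2)

/-- a weakly regular sequence on the ring is weakly regular on every flat module -/
theorem isWeaklyRegular_of_flat (rs : List R) (h : IsWeaklyRegular R rs) :
    IsWeaklyRegular M rs :=
  (LinearEquiv.isWeaklyRegular_congr (TensorProduct.rid R M) rs).mp
    (isWeaklyRegular_tensor M rs h)

theorem two_le_of_not_le_one (d : WithBot ℕ∞) (h : ¬ d ≤ 1) : 2 ≤ d := by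
  induction d using WithBot.recBotCoe with
  | bot => exact absurd bot_le h
  | coe n =>
    induction n using ENat.recTopCoe with
    | top => exact WithBot.coe_le_coe.mpr le_top
    | coe n =>
      have h1 : ¬ n ≤ 1 := by
        intro hn
        apply h
        exact_mod_cast hn
      have h2 : 2 ≤ n := by omega
      have h3 : ((2 : ℕ∞) : WithBot ℕ∞) ≤ ((n : ℕ∞) : WithBot ℕ∞) :=
        WithBot.coe_le_coe.mpr (by exact_mod_cast h2)
      exact h3

end modules

variable {X : Scheme.{u}} [IsLocallyNoetherian X]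

omit [IsLocallyNoetherian X] in
/-- sections of a flat quasi-coherent module over an affine open form a flat module -/
theorem flat_sections (A : X.Modules) [A.IsQuasicoherent] (hA : FlatMod.IsFlat A)
    {W : X.Opens} (hW : IsAffineOpen W) : Module.Flat Γ(X, W) Γ(A, W) := by
  apply Module.flat_of_localized_maximal
  intro P hP
  obtain ⟨x, hxW, hxp⟩ := exists_point_primeIdealOf_eq hW P
  subst hxp
  let _ : Algebra Γ(X, W) (X.presheaf.stalk x) :=
    TopCat.Presheaf.algebra_section_stalk X.presheaf ⟨x, hxW⟩
  have hloc : IsLocalization.AtPrime (X.presheaf.stalk x) (hW.primeIdealOf ⟨x, hxW⟩).asIdeal :=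
    hW.isLocalization_stalk ⟨x, hxW⟩
  let _ := stalkModule A W x hxW
  have : IsScalarTower Γ(X, W) (X.presheaf.stalk x) (A.presheaf.stalk x) :=
    IsScalarTower.of_algebraMap_smul fun a t => rfl
  have hlm := isLocalizedModule_germ A hW x hxW
  have h1 : Module.Flat Γ(X, W) (X.presheaf.stalk x) :=
    IsLocalization.flat _ (hW.primeIdealOf ⟨x, hxW⟩).asIdeal.primeCompl
  have h2 : Module.Flat (X.presheaf.stalk x) (A.presheaf.stalk x) := hA x
  have h3 : Module.Flat Γ(X, W) (A.presheaf.stalk x) :=
    Module.Flat.trans Γ(X, W) (X.presheaf.stalk x) (A.presheaf.stalk x)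
  exact Module.Flat.of_linearEquiv
    (IsLocalizedModule.linearEquiv (hW.primeIdealOf ⟨x, hxW⟩).asIdeal.primeCompl
      (LocalizedModule.mkLinearMap _ _) (germₗ A W x hxW))

/-- flat quasi-coherent modules on a normal locally Noetherian scheme have regular sequences of
length two in all ideals cutting out closed subsets of codimension at least two -/
theorem regTwo_of_flat (hX : Pi1.IsNormalScheme X) (A : X.Modules) [A.IsQuasicoherent]
    (hA : FlatMod.IsFlat A) (U : X.Opens)
    (hU : ∀ x : X, ringKrullDim (X.presheaf.stalk x) ≤ 1 → x ∈ U) :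
    Groth.Agent.Lib.Helper9.HartogsReg.RegTwo A U := by
  intro W hW K hK
  have hflat := flat_sections A hA hW
  have hdepthO : ∀ x : X, x ∉ U →
      (2 : ℕ∞) ≤ LocCoh.depth (X.presheaf.stalk x) (X.presheaf.stalk x) := by
    intro x hx
    have := (hX x).1
    have := (hX x).2
    have hd : (2 : WithBot ℕ∞) ≤ ringKrullDim (X.presheaf.stalk x) :=
      two_le_of_not_le_one _ (fun h => hx (hU x h))
    have h3 := (le_idealDepth_iff (I := IsLocalRing.maximalIdeal (X.presheaf.stalk x))
      (M := X.presheaf.stalk x) 2).mpr (Or.inr (hasRegSeq_two_of_normal _ hd))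
    exact_mod_cast h3
  have h2 := two_le_idealDepth_of_forall_pow_mem (unitM X) U (locDepthTwo_unit U hdepthO) hW K hK
  let e : Γ(X, W) ≃ₗ[Γ(X, W)] Γ(unitM X, W) :=
    { toFun := toUnit
      invFun := fromUnit
      map_add' := fun _ _ => rfl
      map_smul' := fun _ _ => rfl
      left_inv := fun _ => rfl
      right_inv := fun _ => rfl }
  rw [le_idealDepth_iff] at h2
  rcases h2 with htop | ⟨rs, hlen, hreg, hmem⟩
  · have h1 : (1 : Γ(X, W)) ∈ K := by
      have hmem1 : toUnit (1 : Γ(X, W)) ∈ K • (⊤ : Submodule Γ(X, W) Γ(unitM X, W)) := by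
        rw [htop]; trivial
      have key : ∀ z ∈ K • (⊤ : Submodule Γ(X, W) Γ(unitM X, W)), fromUnit z ∈ K := by
        intro z hz
        refine Submodule.smul_induction_on hz (fun k hk n _ => ?_) (fun a b ha hb => ?_)
        · rw [fromUnit_smul]
          exact K.mul_mem_right _ hk
        · rw [fromUnit_add]
          exact K.add_mem ha hb
      exact key _ hmem1
    refine ⟨1, 1, h1, h1, ?_⟩
    rw [isWeaklyRegular_cons_iff, isWeaklyRegular_cons_iff]
    exact ⟨IsSMulRegular.one _, IsSMulRegular.one _, IsWeaklyRegular.nil _ _⟩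
  · obtain ⟨x, y, rfl⟩ := List.length_eq_two.mp hlen
    refine ⟨x, y, hmem x (by simp), hmem y (by simp), ?_⟩
    have hreg' : IsWeaklyRegular Γ(X, W) [x, y] :=
      (LinearEquiv.isWeaklyRegular_congr e [x, y]).mpr hreg
    exact isWeaklyRegular_of_flat _ _ hreg'

/-- **Hartogs for flat quasi-coherent modules on a normal locally Noetherian scheme** -/
theorem isIso_unit_of_flat (hX : Pi1.IsNormalScheme X) (A : X.Modules) (hAq : Coh.IsQCoh A)
    (hA : FlatMod.IsFlat A) (U : X.Opens)
    (hU : ∀ x : X, ringKrullDim (X.presheaf.stalk x) ≤ 1 → x ∈ U) :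
    IsIso ((Scheme.Modules.restrictAdjunction U.ι).unit.app A) := by
  have : A.IsQuasicoherent := hAq
  have hb := fun V => Groth.Agent.Lib.Helper9.HartogsReg.res_bijective A U
    (regTwo_of_flat hX A hA U hU) V
  exact (isIso_unit_iff_compact U A).mpr fun V _ => hb V

end Groth.Agent.Lib.Helper9.FlatHartogs
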