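import Mathlib
import Groth.Prelude.Def_Coh
import Groth.Agent.Lib.Helper28.DCohRes1
import Groth.Agent.Lib.Helper29.QCohQcqs
import Groth.Agent.Lib.Helper29.QCohCrit
import Groth.Agent.Lib.Helper29.QCohPullback

namespace Groth.Agent.Lib.Helper9.CohGlue

open CategoryTheory CategoryTheory.Limits AlgebraicGeometry Opposite TopologicalSpace
open Groth.Agent.Lib.Helper29.QCoh

universe u
variable {X : Scheme.{u}}

theorem isQuasicoherent_biprod (F F' : X.Modules) [F.IsQuasicoherent] [F'.IsQuasicoherent] :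
    (F ⊞ F').IsQuasicoherent :=
  isQuasicoherent_of_shortExact
    (ShortComplex.mk (biprod.inl : F ⟶ F ⊞ F') (biprod.snd : F ⊞ F' ⟶ F') (by simp))
    (ShortComplex.Splitting.ofHasBinaryBiproduct F F').shortExact

theorem module_finite_biprod (F F' : X.Modules) (U : X.Opens)
    (h : Module.Finite Γ(X, U) Γ(F, U)) (h' : Module.Finite Γ(X, U) Γ(F', U)) :
    Module.Finite Γ(X, U) Γ((F ⊞ F' : X.Modules), U) := by
  let f : (Γ(F, U) × Γ(F', U)) →ₗ[Γ(X, U)] Γ((F ⊞ F' : X.Modules), U) :=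
    (appₗ (biprod.inl : F ⟶ F ⊞ F') U).coprod (appₗ (biprod.inr : F' ⟶ F ⊞ F') U)
  have hf : Function.Surjective f := by
    intro s
    refine ⟨((biprod.fst : F ⊞ F' ⟶ F).app U s, (biprod.snd : F ⊞ F' ⟶ F').app U s), ?_⟩
    have h := biprod.total (X := F) (Y := F')
    have h2 := congrArg (fun φ : (F ⊞ F' : X.Modules) ⟶ F ⊞ F' => φ.app U s) h
    simp only at h2
    rw [Scheme.Modules.Hom.id_app] at h2
    exact h2
  exact Module.Finite.of_surjective f hf

theorem isFiniteType_biprod (F F' : X.Modules) [F.IsQuasicoherent] [F'.IsQuasicoherent]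
    [F.IsFiniteType] [F'.IsFiniteType] : (F ⊞ F' : X.Modules).IsFiniteType := by
  haveI := isQuasicoherent_biprod F F'
  rw [isFiniteType_iff_forall_module_finite]
  intro U hU
  exact module_finite_biprod F F' U (module_finite_of_isFiniteType F hU)
    (module_finite_of_isFiniteType F' hU)


theorem main [IsNoetherian X] (U : X.Opens) (F₁ F₂ : X.Modules) (h₁ : Coh.IsCoh F₁)
    (h₂ : Coh.IsCoh F₂) (e : F₁.restrict U.ι ≅ F₂.restrict U.ι) :
    ∃ (G : X.Modules) (p₁ : G ⟶ F₁) (p₂ : G ⟶ F₂), Coh.IsCoh G ∧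
      IsIso ((Scheme.Modules.restrictFunctor U.ι).map p₁) ∧
      IsIso ((Scheme.Modules.restrictFunctor U.ι).map p₂) := by
  haveI : F₁.IsQuasicoherent := h₁.1
  haveI : F₂.IsQuasicoherent := h₂.1
  haveI : F₁.IsFiniteType := h₁.2
  haveI : F₂.IsFiniteType := h₂.2
  let R := Scheme.Modules.restrictFunctor U.ι
  let P := Scheme.Modules.pushforward U.ι
  let adj := Scheme.Modules.restrictAdjunction U.ι
  let e' : R.obj F₁ ≅ R.obj F₂ := e
  let u₂ : F₂ ⟶ P.obj (R.obj F₂) := adj.unit.app F₂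
  let u₁ : F₁ ⟶ P.obj (R.obj F₂) := adj.unit.app F₁ ≫ P.map e'.hom
  have hunit : ∀ F : X.Modules, IsIso (R.map (adj.unit.app F)) := by
    intro F
    have h := adj.left_triangle_components F
    have h3 : IsIso (R.map (adj.unit.app F) ≫ adj.counit.app (R.obj F)) := by
      rw [h]; infer_instance
    exact IsIso.of_isIso_comp_right _ (adj.counit.app (R.obj F))
  haveI hu₂ : IsIso (R.map u₂) := hunit F₂
  haveI hu₁ : IsIso (R.map u₁) := by
    haveI := hunit F₁
    change IsIso (R.map (adj.unit.app F₁ ≫ P.map e'.hom))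
    rw [R.map_comp]
    infer_instance
  have hpb : IsPullback (R.map (pullback.fst u₁ u₂)) (R.map (pullback.snd u₁ u₂))
      (R.map u₁) (R.map u₂) := (IsPullback.of_hasPullback u₁ u₂).map R
  haveI : (R.obj F₂).IsQuasicoherent := inferInstance
  haveI hPq : (P.obj (R.obj F₂)).IsQuasicoherent :=
    isQuasicoherent_pushforward_of_qcqs U.ι (R.obj F₂)
  haveI := isQuasicoherent_biprod F₁ F₂
  haveI := isFiniteType_biprod F₁ F₂
  let φ : (F₁ ⊞ F₂ : X.Modules) ⟶ P.obj (R.obj F₂) := biprod.desc u₁ (-u₂)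
  have hk : (kernel φ).IsQuasicoherent := inferInstance
  have hkf : (kernel φ).IsFiniteType := isFiniteType_kernel φ
  let iso : pullback u₁ u₂ ≅ kernel φ :=
    IsLimit.conePointUniqueUpToIso
      (CategoryTheory.Abelian.PullbackToBiproductIsKernel.isLimitPullbackToBiproduct u₁ u₂)
      (limit.isLimit _)
  refine ⟨pullback u₁ u₂, pullback.fst _ _, pullback.snd _ _, ⟨?_, ?_⟩, ?_, ?_⟩
  · exact isQuasicoherent_of_iso iso.symm
  · haveI : (pullback u₁ u₂).IsQuasicoherent := isQuasicoherent_of_iso iso.symm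
    exact isFiniteType_of_epi iso.inv
  · exact hpb.isIso_fst_of_isIso
  · exact hpb.isIso_snd_of_isIso

end Groth.Agent.Lib.Helper9.CohGlue
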