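import Mathlib

/-!
# Finite length via supports; injective endomorphisms of one-dimensional modules

* `isArtinian_of_pow_le_annihilator`: finite module over a Noetherian local ring killed by a power of
  the maximal ideal is Artinian.
* `isFiniteLength_of_support_subset`: finite module over a Noetherian local ring whose support is
  contained in the closed point has finite length.
* `localizedModule_map_surjective_of_injective`: if `p` is minimal over `Ann M` (`M` finite over a
  Noetherian ring) then an injective endomorphism of `M` becomes surjective on `M_p`.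
* `length_quotient_range_lt_top`: `M` finite of support dimension one over a Noetherian local ring and
  `θ` an injective endomorphism: `M / θ M` has finite length.
-/

set_option autoImplicit false
universe u v

namespace Groth.Agent.Lib.Helper9.FinLenSupp

open IsLocalRing

theorem isArtinianRing_quotient_pow (B : Type*) [CommRing B] [IsLocalRing B] [IsNoetherianRing B]
    (t : ℕ) : IsArtinianRing (B ⧸ maximalIdeal B ^ t) := by
  rcases Nat.eq_zero_or_pos t with rfl | ht
  · have : Subsingleton (B ⧸ maximalIdeal B ^ 0) := by
      rw [pow_zero, Ideal.one_eq_top]; exact Ideal.Quotient.subsingleton_iff.2 rfl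
    infer_instance
  · apply IsLocalRing.quotient_artinian_of_mem_minimalPrimes_of_isLocalRing
    refine ⟨⟨inferInstance, Ideal.pow_le_self ht.ne'⟩, fun q hq hqm => ?_⟩
    have := hq.1
    exact Ideal.IsPrime.le_of_pow_le hq.2

theorem isArtinian_of_pow_le_annihilator (B : Type*) [CommRing B] [IsLocalRing B]
    [IsNoetherianRing B] (N : Type*) [AddCommGroup N] [Module B N] [Module.Finite B N] (k : ℕ)
    (h : maximalIdeal B ^ k ≤ Module.annihilator B N) : IsArtinian B N := by
  have htors : Module.IsTorsionBySet B N ((maximalIdeal B ^ k : Ideal B) : Set B) :=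
    fun x a => Module.mem_annihilator.mp (h a.2) x
  let _ : Module (B ⧸ maximalIdeal B ^ k) N := htors.module
  have hst : IsScalarTower B (B ⧸ maximalIdeal B ^ k) N := htors.isScalarTower
  have hfin : Module.Finite (B ⧸ maximalIdeal B ^ k) N :=
    Module.Finite.of_restrictScalars_finite B _ N
  have hart : IsArtinianRing (B ⧸ maximalIdeal B ^ k) := isArtinianRing_quotient_pow B k
  have : IsArtinian (B ⧸ maximalIdeal B ^ k) N := inferInstance
  exact isArtinian_of_surjective_algebraMap (S := B) (R := B ⧸ maximalIdeal B ^ k)
    Ideal.Quotient.mk_surjective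

theorem isFiniteLength_of_support_subset (A : Type*) [CommRing A] [IsLocalRing A]
    [IsNoetherianRing A] (Q : Type*) [AddCommGroup Q] [Module A Q] [Module.Finite A Q]
    (h : ∀ p ∈ Module.support A Q, p.asIdeal = maximalIdeal A) : IsFiniteLength A Q := by
  rw [isFiniteLength_iff_isNoetherian_isArtinian]
  refine ⟨inferInstance, ?_⟩
  have hrad : maximalIdeal A ≤ (Module.annihilator A Q).radical := by
    rw [Ideal.radical_eq_sInf]
    refine le_sInf fun q hq => ?_
    have hq' : (⟨q, hq.2⟩ : PrimeSpectrum A) ∈ Module.support A Q :=
      Module.mem_support_iff_of_finite.mpr hq.1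
    rw [← h _ hq']
  obtain ⟨k, hk⟩ := Ideal.exists_pow_le_of_le_radical_of_fg hrad (IsNoetherian.noetherian _)
  exact isArtinian_of_pow_le_annihilator A Q k hk

/-- If `p` is a minimal prime over the annihilator of the finite module `M`, an injective
endomorphism of `M` is surjective after localizing at `p`. -/
theorem localizedModule_map_surjective_of_injective {A : Type*} [CommRing A] [IsNoetherianRing A]
    {M : Type*} [AddCommGroup M] [Module A M] [Module.Finite A M] (p : Ideal A) [p.IsPrime]
    (hp : p ∈ (Module.annihilator A M).minimalPrimes) (θ : M →ₗ[A] M)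
    (hθ : Function.Injective θ) :
    Function.Surjective (LocalizedModule.map p.primeCompl θ) := by
  -- the localized module is killed by a power of the maximal ideal
  have h1 := IsLocalization.AtPrime.radical_map_of_mem_minimalPrimes
    (A := Localization.AtPrime p) p (Module.annihilator A M) hp
  have hmax : p.map (algebraMap A (Localization.AtPrime p)) =
      maximalIdeal (Localization.AtPrime p) := IsLocalization.AtPrime.map_eq_maximalIdeal p _
  rw [hmax] at h1
  obtain ⟨k, hk⟩ := Ideal.exists_pow_le_of_le_radical_of_fg h1.ge
    (IsNoetherian.noetherian (maximalIdeal (Localization.AtPrime p)))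
  have hann : (Module.annihilator A M).map (algebraMap A (Localization.AtPrime p)) ≤
      Module.annihilator (Localization.AtPrime p) (LocalizedModule p.primeCompl M) := by
    rw [Ideal.map_le_iff_le_comap]
    intro a ha
    rw [Ideal.mem_comap, Module.mem_annihilator]
    intro x
    induction x using LocalizedModule.induction_on with
    | h m s =>
      rw [algebraMap_smul, LocalizedModule.smul'_mk, Module.mem_annihilator.mp ha m,
        LocalizedModule.zero_mk]
  have hfin : Module.Finite (Localization.AtPrime p) (LocalizedModule p.primeCompl M) :=
    Module.Finite.of_isLocalizedModule p.primeCompl (LocalizedModule.mkLinearMap p.primeCompl M)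
  have hart : IsArtinian (Localization.AtPrime p) (LocalizedModule p.primeCompl M) :=
    isArtinian_of_pow_le_annihilator _ _ k (hk.trans hann)
  exact IsArtinian.surjective_of_injective_endomorphism _
    (LocalizedModule.map_injective p.primeCompl θ hθ)

/-- `M` finite of support dimension one over a Noetherian local ring, `θ` an injective endomorphism:
`M / θ M` has finite length. -/
theorem isFiniteLength_quotient_range {A : Type*} [CommRing A] [IsNoetherianRing A] [IsLocalRing A]
    {M : Type*} [AddCommGroup M] [Module A M] [Module.Finite A M]
    (hdim : Module.supportDim A M = 1) (θ : M →ₗ[A] M) (hθ : Function.Injective θ) :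
    IsFiniteLength A (M ⧸ LinearMap.range θ) := by
  apply isFiniteLength_of_support_subset
  intro p hpQ
  by_contra hpm
  have hpM : p ∈ Module.support A M :=
    Module.support_subset_of_surjective (LinearMap.range θ).mkQ (Submodule.mkQ_surjective _) hpQ
  have hplt : p.asIdeal < maximalIdeal A :=
    lt_of_le_of_ne (IsLocalRing.le_maximalIdeal p.isPrime.ne_top) hpm
  -- p is minimal over the annihilator
  have hpmin : p.asIdeal ∈ (Module.annihilator A M).minimalPrimes := by
    refine ⟨⟨p.isPrime, Module.mem_support_iff_of_finite.mp hpM⟩, ?_⟩
    rintro q ⟨hqprime, hq⟩ hqp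
    by_contra hnle
    have hqlt : q < p.asIdeal := lt_of_le_of_ne hqp (fun h => hnle (h ▸ le_refl _))
    have hqM : (⟨q, hqprime⟩ : PrimeSpectrum A) ∈ Module.support A M :=
      Module.mem_support_iff_of_finite.mpr hq
    have hmM : (⟨maximalIdeal A, (maximalIdeal.isMaximal A).isPrime⟩ : PrimeSpectrum A) ∈
        Module.support A M :=
      Module.mem_support_iff_of_finite.mpr
        ((Module.mem_support_iff_of_finite.mp hpM).trans hplt.le)
    let sr : LTSeries (Module.support A M) :=
      { length := 2
        toFun := ![⟨⟨q, hqprime⟩, hqM⟩, ⟨p, hpM⟩, ⟨⟨maximalIdeal A, _⟩, hmM⟩]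
        step := by
          intro i
          fin_cases i
          · exact hqlt
          · exact hplt }
    have h2 : ((2 : ℕ) : WithBot ℕ∞) ≤ Module.supportDim A M :=
      Order.LTSeries.length_le_krullDim sr
    rw [hdim] at h2
    norm_cast at h2
  have := p.isPrime
  have hsurj := localizedModule_map_surjective_of_injective p.asIdeal hpmin θ hθ
  -- now derive a contradiction with `p ∈ Supp (M / θ M)`
  obtain ⟨x, hx⟩ := Module.mem_support_iff_exists_annihilator.mp hpQ
  obtain ⟨x, rfl⟩ := Submodule.mkQ_surjective _ x
  obtain ⟨y, hy⟩ := hsurj (LocalizedModule.mk x 1)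
  induction y using LocalizedModule.induction_on with
  | h y s =>
    rw [LocalizedModule.map_mk, LocalizedModule.mk_eq] at hy
    obtain ⟨t, ht⟩ := hy
    -- t • 1 • θ y = t • s • x
    have hmem : ((t : A) * (s : A)) ∈ (Submodule.span A {(LinearMap.range θ).mkQ x}).annihilator := by
      rw [Submodule.mem_annihilator_span_singleton, ← map_smul, Submodule.mkQ_apply,
        Submodule.Quotient.mk_eq_zero]
      refine ⟨(t : A) • y, ?_⟩
      rw [map_smul]
      have h3 : (t : A) • θ y = ((t : A) * (s : A)) • x := by
        have := ht
        simp only [one_smul, Submonoid.smul_def] at this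
        rw [this, mul_smul]
      exact h3
    exact (t * s).2 (hx hmem)

theorem length_quotient_range_lt_top {A : Type*} [CommRing A] [IsNoetherianRing A] [IsLocalRing A]
    {M : Type*} [AddCommGroup M] [Module A M] [Module.Finite A M]
    (hdim : Module.supportDim A M = 1) (θ : M →ₗ[A] M) (hθ : Function.Injective θ) :
    Module.length A (M ⧸ LinearMap.range θ) < ⊤ := by
  rw [lt_top_iff_ne_top, Module.length_ne_top_iff]
  exact isFiniteLength_quotient_range hdim θ hθ

end Groth.Agent.Lib.Helper9.FinLenSupp
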