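import Mathlib
import Groth.Prelude.Def_Formal2
import Groth.Prelude.Def_KLin

/-! # Basic facts on `Formal.smulMod`, `Formal.smulFamily` (helper9)

Self-contained copies (light import closure) of lemmas first proved by helper12 (`H12FF`, `H12PS`,
`H12Fin`) and lead (`SD.toGlobal_eq`). -/

set_option autoImplicit false
universe u
open CategoryTheory CategoryTheory.Limits AlgebraicGeometry TopologicalSpace Opposite

namespace Groth.Agent.Lib.Helper9.FormalBase

section one
variable {A : Type u} [CommRing A] {X : Scheme.{u}} [X.Over (Spec (CommRingCat.of A))]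

theorem comp_smulMod {M N : X.Modules} (φ : M ⟶ N) (a : A) :
    φ ≫ Formal.smulMod A N a = Formal.smulMod A M a ≫ φ :=
  KLin.comp_smulModΓ φ _

theorem ι_smulFamily (J : Ideal A) (M : X.Modules) (a : J) :
    Sigma.ι (fun _ : J => M) a ≫ Formal.smulFamily J M = Formal.smulMod A M (a : A) := by
  unfold Formal.smulFamily
  rw [colimit.ι_desc]
  rfl

theorem smulFamily_comp_eq_zero_iff (J : Ideal A) {M N : X.Modules} (g : M ⟶ N) :
    Formal.smulFamily J M ≫ g = 0 ↔ ∀ a ∈ J, Formal.smulMod A M a ≫ g = 0 := by
  constructor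
  · intro h a ha
    rw [← ι_smulFamily J M ⟨a, ha⟩, Category.assoc, h, comp_zero]
  · intro h
    apply Sigma.hom_ext
    intro a
    rw [comp_zero, ← Category.assoc, ι_smulFamily]
    exact h a a.2

end one

section two
variable {X Y : Scheme.{u}} (π : X ⟶ Y) (M : X.Modules)

lemma pushforward_map_smulModΓ (r : Coh.Γtop Y) :
    (Scheme.Modules.pushforward π).map (Formal.smulModΓ M (π.appTop.hom r)) =
      Formal.smulModΓ ((Scheme.Modules.pushforward π).obj M) r := by
  apply (SheafOfModules.toSheaf Y.ringCatSheaf).map_injective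
  change (CohTop.push π.base).map (Coh.smulAb M (π.appTop.hom r)) =
      Coh.smulAb ((Coh.push π).obj M) r
  apply Sheaf.hom_ext
  ext U m
  change (Coh.smulAb M (π.appTop.hom r)).hom.app (op ((Opens.map π.base).obj U.unop)) m =
    (Coh.smulAb ((Coh.push π).obj M) r).hom.app U m
  rw [Coh.smulAb_app, Coh.smulAb_app]
  have h : (Coh.resTop X (op ((Opens.map π.base).obj U.unop))) (π.appTop.hom r) =
      (π.app U.unop).hom (Coh.resTop Y U r) := by
    have := π.naturality (homOfLE (le_top : U.unop ≤ ⊤)).op
    exact (ConcreteCategory.congr_hom this r).symm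
  rw [h]
  rfl

end two

section three
variable (A : Type u) [CommRing A] {X Z : Scheme.{u}} [X.Over (Spec (CommRingCat.of A))]
  [Z.Over (Spec (CommRingCat.of A))] (i : Z ⟶ X)
  (hi : i ≫ (X ↘ Spec (CommRingCat.of A)) = Z ↘ Spec (CommRingCat.of A))

include hi in
lemma toGlobal_eq (a : A) :
    Coh.toGlobal (Z ↘ Spec (CommRingCat.of A)) a =
      (i.appTop).hom (Coh.toGlobal (X ↘ Spec (CommRingCat.of A)) a) := by
  unfold Coh.toGlobal
  rw [← hi]
  rfl

include hi in
theorem pushforward_map_smulMod (G : Z.Modules) (a : A) :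
    (Scheme.Modules.pushforward i).map (Formal.smulMod A G a) =
      Formal.smulMod A ((Scheme.Modules.pushforward i).obj G) a := by
  unfold Formal.smulMod
  rw [toGlobal_eq A i hi a]
  exact pushforward_map_smulModΓ i G _

include hi in
theorem pullback_map_smulMod (N : X.Modules) (a : A) :
    (Scheme.Modules.pullback i).map (Formal.smulMod A N a) =
      Formal.smulMod A ((Scheme.Modules.pullback i).obj N) a := by
  apply ((Scheme.Modules.pullbackPushforwardAdjunction i).homEquiv _ _).injective
  rw [Adjunction.homEquiv_unit, Adjunction.homEquiv_unit, pushforward_map_smulMod A i hi]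
  have h := comp_smulMod (A := A) (M := N)
    (N := (Scheme.Modules.pushforward i).obj ((Scheme.Modules.pullback i).obj N))
    ((Scheme.Modules.pullbackPushforwardAdjunction i).unit.app N) a
  refine Eq.trans ?_ h.symm
  exact ((Scheme.Modules.pullbackPushforwardAdjunction i).unit.naturality
    (Formal.smulMod A N a)).symm

end three

section LemmaC
variable {A : Type u} [CommRing A] {X Z : Scheme.{u}} [X.Over (Spec (CommRingCat.of A))]
  [Z.Over (Spec (CommRingCat.of A))]

theorem exists_iso_cokernel_smulFamily {L : X.Modules ⥤ Z.Modules} {R : Z.Modules ⥤ X.Modules}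
    (adj : L ⊣ R) [L.Additive] [R.Additive]
    (hL : ∀ (N : X.Modules) (a : A), L.map (Formal.smulMod A N a) = Formal.smulMod A (L.obj N) a)
    (J : Ideal A) (N : X.Modules) :
    ∃ κ : L.obj (cokernel (Formal.smulFamily J N)) ≅ cokernel (Formal.smulFamily J (L.obj N)),
      L.map (cokernel.π (Formal.smulFamily J N)) ≫ κ.hom =
        cokernel.π (Formal.smulFamily J (L.obj N)) := by
  have : L.PreservesEpimorphisms := L.preservesEpimorphisms_of_adjunction adj
  have h0 : Formal.smulFamily J (L.obj N) ≫ L.map (cokernel.π (Formal.smulFamily J N)) = 0 := by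
    apply Sigma.hom_ext
    intro a
    rw [comp_zero, ← Category.assoc, ι_smulFamily, ← hL, ← L.map_comp, ← ι_smulFamily J N a,
      Category.assoc, cokernel.condition, comp_zero, L.map_zero]
  have h1 : Formal.smulFamily J N ≫
      adj.homEquiv _ _ (cokernel.π (Formal.smulFamily J (L.obj N))) = 0 := by
    apply Sigma.hom_ext
    intro a
    rw [comp_zero, ← Category.assoc, ι_smulFamily, ← adj.homEquiv_naturality_left, hL,
      ← ι_smulFamily J (L.obj N) a, Category.assoc, cokernel.condition, comp_zero,
      Adjunction.homEquiv_unit, R.map_zero, comp_zero]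
  have hβ : L.map (cokernel.π (Formal.smulFamily J N)) ≫
      (adj.homEquiv _ _).symm (cokernel.desc _ _ h1) =
        cokernel.π (Formal.smulFamily J (L.obj N)) := by
    rw [← adj.homEquiv_naturality_left_symm, cokernel.π_desc, Equiv.symm_apply_apply]
  have hα : cokernel.π (Formal.smulFamily J (L.obj N)) ≫ cokernel.desc _ _ h0 =
      L.map (cokernel.π (Formal.smulFamily J N)) := cokernel.π_desc _ _ _
  refine ⟨⟨(adj.homEquiv _ _).symm (cokernel.desc _ _ h1), cokernel.desc _ _ h0, ?_, ?_⟩, hβ⟩
  · rw [← cancel_epi (L.map (cokernel.π (Formal.smulFamily J N))), ← Category.assoc, hβ, hα,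
      Category.comp_id]
  · rw [← cancel_epi (cokernel.π (Formal.smulFamily J (L.obj N))), ← Category.assoc, hα, hβ,
      Category.comp_id]

end LemmaC

end Groth.Agent.Lib.Helper9.FormalBase
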