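import Mathlib
import Groth.Prelude.Def_ega3
import Groth.Agent.Lib.Helper28.FlatCxBc

/-!
# Base change of homology without finiteness (helper9)

For a complex `P` of `A`-modules, `c.Rel p q`, with `P.X q` and `P.opcycles q` flat (equivalently:
`T_p` preserves epimorphisms), and any `A`-algebra `B`:
`(bcCx (algebraMap A B) P).homology p ≃ₗ[B] B ⊗[A] P.homology p`.

* `extendScalarsEquiv_map`: `extendScalars` on morphisms is `LinearMap.baseChange`.
* `opcyclesBcIso_hom_fromOpcycles`: compatibility of `opcyclesBcIso` with `fromOpcycles`.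
* `homologyBcKerEquiv`: `H_p(bcCx P) ≃ₗ[B] ker (B ⊗ W_p → B ⊗ P_q)`.
* `nonempty_homologyBcEquiv`: the base change iso under flatness of `P_q`, `W_q`.
* `dRank_eq_fibreDim`: `dRank P p x = dim κ(x) ⊗ H_p(P)`.
-/

set_option autoImplicit false
universe u

namespace Groth.Agent.Lib.Helper9.FlatCxBC

open CategoryTheory CategoryTheory.Limits MonoidalCategory CohIII TensorProduct
open Groth.Agent.Lib.Helper28.FlatCx

variable {A : Type u} [CommRing A] {ι : Type} {c : ComplexShape ι}
variable (B : Type u) [CommRing B] [Algebra A B]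

lemma extendScalarsEquiv_tmul (M : ModuleCat.{u} A) (b : B) (m : M) :
    extendScalarsEquiv B M (b ⊗ₜ[A] m) = b ⊗ₜ[A] m := rfl

lemma extendScalarsEquiv_map {M N : ModuleCat.{u} A} (g : M ⟶ N)
    (x : (ModuleCat.extendScalars (algebraMap A B)).obj M) :
    extendScalarsEquiv B N (((ModuleCat.extendScalars (algebraMap A B)).map g).hom x) =
      g.hom.baseChange B (extendScalarsEquiv B M x) := by
  let f1 : ((ModuleCat.extendScalars (algebraMap A B)).obj M) →+ (B ⊗[A] N) :=
    ((extendScalarsEquiv B N).toLinearMap ∘ₗ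
      ((ModuleCat.extendScalars (algebraMap A B)).map g).hom).toAddMonoidHom
  let f2 : ((ModuleCat.extendScalars (algebraMap A B)).obj M) →+ (B ⊗[A] N) :=
    ((g.hom.baseChange B) ∘ₗ (extendScalarsEquiv B M).toLinearMap).toAddMonoidHom
  change f1 x = f2 x
  induction x using TensorProduct.induction_on with
  | zero => exact (map_zero f1).trans (map_zero f2).symm
  | tmul b m => rfl
  | add x y hx hy =>
    exact ((map_add f1 x y).trans (congrArg₂ (· + ·) hx hy)).trans (map_add f2 x y).symm

section Opcycles

variable {B : Type u} [CommRing B] (φ : A →+* B) (P : HomologicalComplex (ModuleCat.{u} A) c)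

lemma pOpcycles_opcyclesBcIso_hom (p : ι) :
    (bcCx φ P).pOpcycles p ≫ (opcyclesBcIso φ P p).hom =
      (ModuleCat.extendScalars φ).map (P.pOpcycles p) := by
  unfold opcyclesBcIso
  have : PreservesColimitsOfSize.{0, 0} (ModuleCat.extendScalars.{u, u, u} φ) :=
    (ModuleCat.extendRestrictScalarsAdj φ).leftAdjoint_preservesColimits
  exact IsColimit.comp_coconePointUniqueUpToIso_hom
    ((bcCx φ P).opcyclesIsCokernel (c.prev p) p rfl)
    (CokernelCofork.mapIsColimit _ (P.opcyclesIsCokernel (c.prev p) p rfl)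
      (ModuleCat.extendScalars φ)) WalkingParallelPair.one

lemma opcyclesBcIso_hom_fromOpcycles (p q : ι) :
    (opcyclesBcIso φ P p).hom ≫ (ModuleCat.extendScalars φ).map (P.fromOpcycles p q) =
      (bcCx φ P).fromOpcycles p q := by
  have h1 : (ModuleCat.extendScalars φ).map (P.pOpcycles p) ≫
      (ModuleCat.extendScalars φ).map (P.fromOpcycles p q) =
      (ModuleCat.extendScalars φ).map (P.d p q) := by
    rw [← Functor.map_comp, HomologicalComplex.p_fromOpcycles]
  have h2 : (bcCx φ P).pOpcycles p ≫ (bcCx φ P).fromOpcycles p q = (bcCx φ P).d p q :=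
    HomologicalComplex.p_fromOpcycles _ _ _
  have h3 : (bcCx φ P).d p q = (ModuleCat.extendScalars φ).map (P.d p q) := rfl
  apply (cancel_epi ((bcCx φ P).pOpcycles p)).mp
  exact ((Category.assoc _ _ _).symm.trans
    (congrArg (· ≫ (ModuleCat.extendScalars φ).map (P.fromOpcycles p q))
      (pOpcycles_opcyclesBcIso_hom φ P p))).trans (h1.trans (h3.symm.trans h2.symm))

end Opcycles

section Algebra

variable {R : Type*} [CommRing R]

/-- exactness of `lTensor` from exactness of `rTensor`. -/
lemma exact_lTensor_of_exact_rTensor {M₁ M₂ M₃ N : Type*} [AddCommGroup M₁] [Module R M₁]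
    [AddCommGroup M₂] [Module R M₂] [AddCommGroup M₃] [Module R M₃] [AddCommGroup N] [Module R N]
    (f : M₁ →ₗ[R] M₂) (g : M₂ →ₗ[R] M₃)
    (h : Function.Exact (f.rTensor N) (g.rTensor N)) :
    Function.Exact (f.lTensor N) (g.lTensor N) := by
  intro x
  have h1 := h (TensorProduct.comm R N M₂ x)
  rw [LinearMap.rTensor_comm] at h1
  constructor
  · intro hx
    rw [hx, map_zero] at h1
    obtain ⟨y, hy⟩ := h1.mp rfl
    refine ⟨(TensorProduct.comm R N M₁).symm y, ?_⟩
    apply (TensorProduct.comm R N M₂).injective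
    rw [← hy, ← LinearMap.rTensor_comm, LinearEquiv.apply_symm_apply]
  · rintro ⟨y, rfl⟩
    apply (TensorProduct.comm R N M₃).injective
    rw [map_zero]
    apply h1.mpr
    exact ⟨TensorProduct.comm R N M₁ y, LinearMap.rTensor_comm f y⟩

/-- transport of kernels along compatible equivalences. -/
noncomputable def kerEquivOfComm {S : Type*} [CommRing S] {M M' N N' : Type*}
    [AddCommGroup M] [Module S M]
    [AddCommGroup M'] [Module S M'] [AddCommGroup N] [Module S N] [AddCommGroup N'] [Module S N']
    (f : M →ₗ[S] N) (f' : M' →ₗ[S] N') (e : M ≃ₗ[S] M') (e' : N ≃ₗ[S] N')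
    (h : ∀ x, e' (f x) = f' (e x)) : LinearMap.ker f ≃ₗ[S] LinearMap.ker f' :=
  LinearEquiv.ofSubmodules e (LinearMap.ker f) (LinearMap.ker f') (by
    ext y
    constructor
    · rintro ⟨x, hx, rfl⟩
      have hx' : f x = 0 := hx
      change f' (e x) = 0
      rw [← h, hx', map_zero]
    · intro hy
      have hy' : f' y = 0 := hy
      refine ⟨e.symm y, ?_, e.apply_symm_apply y⟩
      change f (e.symm y) = 0
      apply e'.injective
      rw [h, e.apply_symm_apply, hy', map_zero])

end Algebra

section Main

variable (P : HomologicalComplex (ModuleCat.{u} A) c) (p q : ι)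

/-- `W_p(bcCx P) ≃ B ⊗ W_p(P)`. -/
noncomputable def opcyclesEquiv :
    (bcCx (algebraMap A B) P).opcycles p ≃ₗ[B] B ⊗[A] P.opcycles p :=
  (opcyclesBcIso (algebraMap A B) P p).toLinearEquiv ≪≫ₗ extendScalarsEquiv B (P.opcycles p)

lemma opcyclesEquiv_fromOpcycles (x : (bcCx (algebraMap A B) P).opcycles p) :
    extendScalarsEquiv B (P.X q) (((bcCx (algebraMap A B) P).fromOpcycles p q).hom x) =
      (P.fromOpcycles p q).hom.baseChange B (opcyclesEquiv B P p x) := by
  have h := opcyclesBcIso_hom_fromOpcycles (algebraMap A B) P p q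
  have h2 : ((bcCx (algebraMap A B) P).fromOpcycles p q).hom x =
      ((ModuleCat.extendScalars (algebraMap A B)).map (P.fromOpcycles p q)).hom
        ((opcyclesBcIso (algebraMap A B) P p).hom.hom x) := by
    rw [← h]
    rfl
  rw [h2]
  exact extendScalarsEquiv_map B (P.fromOpcycles p q) _

/-- `H_p(bcCx P) ≃ ker (B ⊗ W_p → B ⊗ P_q)` (no flatness needed). -/
noncomputable def homologyBcKerEquiv (hq : c.next p = q) :
    (bcCx (algebraMap A B) P).homology p ≃ₗ[B]
      LinearMap.ker ((P.fromOpcycles p q).hom.baseChange B) :=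
  (LinearEquiv.ofInjective ((bcCx (algebraMap A B) P).homologyι p).hom
      (homologyι_injective (bcCx (algebraMap A B) P) p)) ≪≫ₗ
    LinearEquiv.ofEq _ _
      (exact_homologyι_fromOpcycles (bcCx (algebraMap A B) P) p q hq).linearMap_ker_eq.symm ≪≫ₗ
    kerEquivOfComm ((bcCx (algebraMap A B) P).fromOpcycles p q).hom
      ((P.fromOpcycles p q).hom.baseChange B) (opcyclesEquiv B P p)
      (extendScalarsEquiv B (P.X q)) (opcyclesEquiv_fromOpcycles B P p q)

/-- Base change of homology: if `P_q` and `W_q` are flat (`c.Rel p q`), then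
`H_p(bcCx P) ≃ₗ[B] B ⊗ H_p(P)`. -/
theorem nonempty_homologyBcEquiv (hpq : c.Rel p q) [Module.Flat A (P.X q)]
    [Module.Flat A (P.opcycles q)] :
    Nonempty ((bcCx (algebraMap A B) P).homology p ≃ₗ[B] B ⊗[A] P.homology p) := by
  have hq : c.next p = q := c.next_eq' hpq
  obtain ⟨hinj, hex⟩ := rTensor_exact_of_flat_coker (P.homologyι p).hom
    (P.fromOpcycles p q).hom (P.pOpcycles q).hom
    (homologyι_injective P p) (exact_homologyι_fromOpcycles P p q hq)
    (exact_fromOpcycles_pOpcycles P p q (c.prev_eq' hpq)) (pOpcycles_surjective P q) B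
  have hinj' : Function.Injective ((P.homologyι p).hom.baseChange B) := by
    change Function.Injective ((P.homologyι p).hom.lTensor B)
    rwa [LinearMap.lTensor_inj_iff_rTensor_inj]
  have hex' : Function.Exact ((P.homologyι p).hom.baseChange B)
      ((P.fromOpcycles p q).hom.baseChange B) :=
    exact_lTensor_of_exact_rTensor _ _ hex
  exact ⟨homologyBcKerEquiv B P p q hq ≪≫ₗ (LinearEquiv.ofEq _ _ hex'.linearMap_ker_eq) ≪≫ₗ
    (LinearEquiv.ofInjective _ hinj').symm⟩

/-- `dRank P p x = dim_{κ(x)} κ(x) ⊗ H_p(P)` when `P_q` and `W_q` are flat (`c.Rel p q`). -/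
theorem dRank_eq_fibreDim (hpq : c.Rel p q) [Module.Flat A (P.X q)]
    [Module.Flat A (P.opcycles q)] (x : PrimeSpectrum A) :
    dRank P p x = fibreDim (P.homology p) x := by
  obtain ⟨e⟩ := nonempty_homologyBcEquiv x.asIdeal.ResidueField P p q hpq
  exact e.finrank_eq

end Main

section Exact

variable (P : HomologicalComplex (ModuleCat.{u} A) c) (hP : ∀ i, Module.Flat A (P.X i))
  (p q : ι) (hpq : c.Rel p q)

include hP hpq in
lemma flat_opcycles_of_preservesEpi (he : (TFun P p).PreservesEpimorphisms) :
    Module.Flat A (P.opcycles q) :=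
  (preservesMono_iff_flat_opcycles P hP q).mp
    ((preservesEpi_iff_preservesMono_of_rel P hP p q hpq).mp he)

include hP hpq in
lemma flat_homology_of_preservesMono (he : (TFun P p).PreservesEpimorphisms)
    (hm : (TFun P p).PreservesMonomorphisms) : Module.Flat A (P.homology p) := by
  have := hP q
  have := flat_opcycles_of_preservesEpi P hP p q hpq he
  rw [← tensorLeft_preservesMono_iff_flat]
  exact CategoryTheory.Functor.PreservesMonomorphisms.of_iso (isoTensorLeft P p q hpq)

include hpq in
/-- `H_p(P) ≃ T_p(A)` when `P_q`, `W_q` are flat. -/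
lemma nonempty_homology_equiv_T [Module.Flat A (P.X q)] [Module.Flat A (P.opcycles q)] :
    Nonempty (P.homology p ≃ₗ[A] T P p (ModuleCat.of A A)) := by
  have hb := beta_bijective P p q hpq (ModuleCat.of A A)
  exact ⟨(TensorProduct.rid A (P.homology p)).symm ≪≫ₗ
    LinearEquiv.ofBijective (beta P p (ModuleCat.of A A)).hom hb⟩

include hP hpq in
/-- If `T_p` preserves monos and epis and `T_p(A)` is finitely presented, then `dRank P p` is the
(locally constant) rank function of the finite projective module `H_p(P)`. -/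
theorem dRank_eq_rankAtStalk_of_exact (he : (TFun P p).PreservesEpimorphisms)
    (hm : (TFun P p).PreservesMonomorphisms)
    (hfp : Module.FinitePresentation A (T P p (ModuleCat.of A A))) :
    Module.FinitePresentation A (P.homology p) ∧ Module.Flat A (P.homology p) ∧
      dRank P p = Module.rankAtStalk (R := A) (P.homology p) := by
  have := hP q
  have := flat_opcycles_of_preservesEpi P hP p q hpq he
  have hflat := flat_homology_of_preservesMono P hP p q hpq he hm
  obtain ⟨e⟩ := nonempty_homology_equiv_T P p q hpq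
  have hfp' : Module.FinitePresentation A (P.homology p) := .of_equiv e.symm
  refine ⟨hfp', hflat, ?_⟩
  funext x
  rw [dRank_eq_fibreDim P p q hpq x]
  exact (Module.rankAtStalk_eq x).symm

end Exact

section Restrict

variable (P : HomologicalComplex (ModuleCat.{u} A) c) (p q : ι)

/-- `T_p(M) ≃ ker (W_p ⊗ M → P_q ⊗ M)`. -/
noncomputable def TKerEquiv (hq : c.next p = q) (M : ModuleCat.{u} A) :
    T P p M ≃ₗ[A] LinearMap.ker ((P.fromOpcycles p q).hom.rTensor M) := by
  subst hq
  have hex := (ShortComplex.ShortExact.moduleCat_exact_iff_function_exact _).mp (theta_exact P p M)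
  exact (LinearEquiv.ofInjective (theta P p M).hom (theta_injective P p M)) ≪≫ₗ
    LinearEquiv.ofEq _ _ (LinearMap.exact_iff.mp hex).symm

/-- If `T_p(B)` is a finite `A`-module, then `H_p(bcCx P)` is a finite `B`-module. -/
theorem finite_homology_bcCx_of_finite_T
    (h : Module.Finite A (T P p (ModuleCat.of A B))) :
    Module.Finite B ((bcCx (algebraMap A B) P).homology p) := by
  set g := (P.fromOpcycles p (c.next p)).hom with hg
  have e1 := TKerEquiv P p (c.next p) rfl (ModuleCat.of A B)
  have h1 : Module.Finite A (LinearMap.ker (g.rTensor B)) := Module.Finite.equiv e1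
  have e2 : LinearMap.ker (g.rTensor B) ≃ₗ[A] LinearMap.ker (g.lTensor B) :=
    kerEquivOfComm (g.rTensor B) (g.lTensor B) (TensorProduct.comm A _ B)
      (TensorProduct.comm A _ B) (fun x => (LinearMap.lTensor_comm g x).symm)
  have h2 : Module.Finite A (LinearMap.ker (g.lTensor B)) := Module.Finite.equiv e2
  have hK : (LinearMap.ker (g.baseChange B)).restrictScalars A = LinearMap.ker (g.lTensor B) := by
    ext x
    rfl
  have h3 : Module.Finite A ((LinearMap.ker (g.baseChange B)).restrictScalars A) := by
    rw [hK]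
    exact h2
  have h4 : Module.Finite A (LinearMap.ker (g.baseChange B)) :=
    Module.Finite.equiv
      ((Submodule.restrictScalarsEquiv A B _ (LinearMap.ker (g.baseChange B))).restrictScalars A)
  have h5 : Module.Finite B (LinearMap.ker (g.baseChange B)) :=
    Module.Finite.of_restrictScalars_finite A B _
  exact Module.Finite.equiv (homologyBcKerEquiv B P p (c.next p) rfl).symm

end Restrict

end Groth.Agent.Lib.Helper9.FlatCxBC
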