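import Mathlib
import Groth.Agent.Lib.Helper25.GFMod

/-!
# Generic exactness of fibre sequences (EGA IV 9.4-type), over a (possibly non-Noetherian) domain
-/

set_option autoImplicit false
open TensorProduct

namespace Groth.Agent.Lib.Helper9.GenExact

/-- if `C` is flat then tensoring `0 → I → H → C → 0` with any `N` keeps the left map injective. -/
lemma lTensor_injective_of_flat_coker {R : Type*} [CommRing R] {I H C : Type*}
    [AddCommGroup I] [Module R I] [AddCommGroup H] [Module R H] [AddCommGroup C] [Module R C]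
    (g₁ : I →ₗ[R] H) (g₂ : H →ₗ[R] C) (hinj : Function.Injective g₁)
    (hex : Function.Exact g₁ g₂) (hsurj : Function.Surjective g₂) [Module.Flat R C]
    (N : Type*) [AddCommGroup N] [Module R N] :
    Function.Injective (g₁.lTensor N) := by
  let π : (N →₀ R) →ₗ[R] N := Finsupp.linearCombination R id
  have hπ : Function.Surjective π := Finsupp.linearCombination_surjective R Function.surjective_id
  have h1 : Function.Injective ((LinearMap.ker π).subtype.rTensor C) :=
    Module.Flat.rTensor_preserves_injective_linearMap _ (LinearMap.ker π).injective_subtype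
  have h2 : Function.Injective (g₁.lTensor (N →₀ R)) :=
    Module.Flat.lTensor_preserves_injective_linearMap _ hinj
  have h0 : Function.Exact (LinearMap.ker π).subtype π := LinearMap.exact_subtype_ker_map π
  refine lTensor_injective_of_exact_of_exact_of_rTensor_injective
    (M₁ := LinearMap.ker π) (M₂ := N →₀ R) (M₃ := N)
    (f₁ := (LinearMap.ker π).subtype) (f₂ := π) (g₁ := g₁) (g₂ := g₂) ?_ ?_ ?_ ?_ ?_ ?_
  · exact h0
  · exact hπ
  · exact hex
  · exact hsurj
  · exact h1
  · exact h2

/-- an element of `X` dying in `K ⊗ X` (`K` the fraction field) is torsion -/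
lemma exists_smul_eq_zero_of_tmul_eq_zero {R : Type*} [CommRing R] [IsDomain R]
    {X : Type*} [AddCommGroup X] [Module R X] (z : X)
    (hz : (1 : FractionRing R) ⊗ₜ[R] z = 0) : ∃ s : R, s ≠ 0 ∧ s • z = 0 := by
  have : IsLocalizedModule (nonZeroDivisors R) (TensorProduct.mk R (FractionRing R) X 1) :=
    (isLocalizedModule_iff_isBaseChange (nonZeroDivisors R) (FractionRing R) _).mpr
      (TensorProduct.isBaseChange R X (FractionRing R))
  obtain ⟨s, hs⟩ := (IsLocalizedModule.eq_zero_iff (nonZeroDivisors R)
    (TensorProduct.mk R (FractionRing R) X 1)).mp hz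
  exact ⟨s, nonZeroDivisors.coe_ne_zero s, hs⟩

/-- every element of `K ⊗ X` becomes a pure tensor `1 ⊗ x` after multiplying by a nonzero scalar -/
lemma exists_smul_eq_tmul {R : Type*} [CommRing R] [IsDomain R]
    {X : Type*} [AddCommGroup X] [Module R X] (z : FractionRing R ⊗[R] X) :
    ∃ (s : R) (x : X), s ≠ 0 ∧ s • z = (1 : FractionRing R) ⊗ₜ[R] x := by
  have : IsLocalizedModule (nonZeroDivisors R) (TensorProduct.mk R (FractionRing R) X 1) :=
    (isLocalizedModule_iff_isBaseChange (nonZeroDivisors R) (FractionRing R) _).mpr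
      (TensorProduct.isBaseChange R X (FractionRing R))
  obtain ⟨⟨x, s⟩, hs⟩ := IsLocalizedModule.surj (nonZeroDivisors R)
    (TensorProduct.mk R (FractionRing R) X 1) z
  exact ⟨s, x, nonZeroDivisors.coe_ne_zero s, hs⟩

/-- torsion elements die in a localization which is free over the localized domain -/
lemma exists_pow_smul_eq_zero {R : Type*} [CommRing R] [IsDomain R] (f : R) (hf : f ≠ 0)
    {X : Type*} [AddCommGroup X] [Module R X]
    [Module.Free (Localization.Away f) (LocalizedModule (Submonoid.powers f) X)]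
    (z : X) (s : R) (hs : s ≠ 0) (hz : s • z = 0) : ∃ m : ℕ, f ^ m • z = 0 := by
  have hdom : IsDomain (Localization.Away f) :=
    IsLocalization.isDomain_localization (powers_le_nonZeroDivisors_of_noZeroDivisors hf)
  have hinj : Function.Injective (algebraMap R (Localization.Away f)) :=
    IsLocalization.injective _ (powers_le_nonZeroDivisors_of_noZeroDivisors hf)
  have h1 : algebraMap R (Localization.Away f) s •
      (LocalizedModule.mkLinearMap (Submonoid.powers f) X z) = 0 := by
    rw [algebraMap_smul, ← map_smul, hz, map_zero]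
  have h2 : algebraMap R (Localization.Away f) s ≠ 0 := by
    rw [Ne, ← map_zero (algebraMap R (Localization.Away f))]
    exact fun h => hs (hinj h)
  have h3 : LocalizedModule.mkLinearMap (Submonoid.powers f) X z = 0 := by
    rcases smul_eq_zero.mp h1 with h | h
    · exact absurd h h2
    · exact h
  obtain ⟨⟨_, m, rfl⟩, hm⟩ := (IsLocalizedModule.eq_zero_iff (Submonoid.powers f)
    (LocalizedModule.mkLinearMap (Submonoid.powers f) X)).mp h3
  exact ⟨m, hm⟩


/-- `κ ⊗ X → κ ⊗ X_f` is injective when `f` is invertible in the field `κ`. -/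
lemma lTensor_mkLinearMap_injective {R : Type*} [CommRing R] (f : R) (κ : Type*) [Field κ]
    [Algebra R κ] (hf : algebraMap R κ f ≠ 0) (X : Type*) [AddCommGroup X] [Module R X] :
    Function.Injective
      (LinearMap.lTensor κ (LocalizedModule.mkLinearMap (Submonoid.powers f) X)) := by
  set S := Submonoid.powers f
  have hunit : ∀ s : S, IsUnit (algebraMap R (Module.End R (κ ⊗[R] X)) s) := by
    rintro ⟨_, m, rfl⟩
    rw [Module.End.isUnit_iff]
    have hc : (algebraMap R κ f) ^ m ≠ 0 := pow_ne_zero _ hf
    refine Function.bijective_iff_has_inverse.mpr ⟨fun z => ((algebraMap R κ f) ^ m)⁻¹ • z, ?_, ?_⟩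
    · intro z
      change ((algebraMap R κ f) ^ m)⁻¹ • ((f ^ m) • z) = z
      rw [← algebraMap_smul κ (f ^ m) z, map_pow, smul_smul, inv_mul_cancel₀ hc, one_smul]
    · intro z
      change (f ^ m) • (((algebraMap R κ f) ^ m)⁻¹ • z) = z
      rw [← algebraMap_smul κ (f ^ m), map_pow, smul_smul, mul_inv_cancel₀ hc, one_smul]
  let ψ : LocalizedModule S X →ₗ[R] κ ⊗[R] X :=
    LocalizedModule.lift S (TensorProduct.mk R κ X 1) hunit
  let μ : κ ⊗[R] (κ ⊗[R] X) →ₗ[R] κ ⊗[R] X :=
    TensorProduct.lift (Algebra.lsmul R R (κ ⊗[R] X)).toLinearMap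
  have hcomp : (μ.comp (LinearMap.lTensor κ ψ)).comp
      (LinearMap.lTensor κ (LocalizedModule.mkLinearMap S X)) = LinearMap.id := by
    ext c x
    simp only [AlgebraTensorModule.curry_apply, LinearMap.restrictScalars_self, curry_apply,
      LinearMap.coe_comp, Function.comp_apply, LinearMap.lTensor_tmul, LinearMap.id_coe, id_eq]
    rw [LocalizedModule.mkLinearMap_apply]
    change μ (c ⊗ₜ[R] (LocalizedModule.lift S (TensorProduct.mk R κ X 1) hunit
      (LocalizedModule.mk x 1))) = _
    rw [LocalizedModule.lift_mk]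
    simp [μ, TensorProduct.smul_tmul']
  exact Function.LeftInverse.injective (g := μ.comp (LinearMap.lTensor κ ψ))
    (fun z => LinearMap.congr_fun hcomp z)


lemma exact_ker_rangeRestrict {R : Type*} [CommRing R] {X Y : Type*} [AddCommGroup X]
    [Module R X] [AddCommGroup Y] [Module R Y] (δ : X →ₗ[R] Y) :
    Function.Exact (LinearMap.ker δ).subtype δ.rangeRestrict := by
  intro m
  rw [← LinearMap.mem_ker, LinearMap.ker_rangeRestrict]
  constructor
  · intro hm; exact ⟨⟨m, hm⟩, rfl⟩
  · rintro ⟨k, rfl⟩; exact k.2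

/-- (a) iff `κ ⊗ range δ → κ ⊗ F` injective -/
lemma exact_iff_injective {R : Type*} [CommRing R] {X Y : Type*} [AddCommGroup X]
    [Module R X] [AddCommGroup Y] [Module R Y] (κ : Type*) [AddCommGroup κ] [Module R κ]
    (δ : X →ₗ[R] Y) :
    Function.Exact (LinearMap.lTensor κ (LinearMap.ker δ).subtype) (LinearMap.lTensor κ δ) ↔
      Function.Injective (LinearMap.lTensor κ (LinearMap.range δ).subtype) := by
  have hfac : δ = (LinearMap.range δ).subtype.comp δ.rangeRestrict := rfl
  have hex' := lTensor_exact κ (exact_ker_rangeRestrict δ) δ.surjective_rangeRestrict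
  have hsurj : Function.Surjective (LinearMap.lTensor κ δ.rangeRestrict) :=
    LinearMap.lTensor_surjective κ δ.surjective_rangeRestrict
  constructor
  · intro h
    rw [injective_iff_map_eq_zero]
    intro y hy
    obtain ⟨m, rfl⟩ := hsurj y
    rw [← LinearMap.comp_apply, ← LinearMap.lTensor_comp, ← hfac] at hy
    exact (hex' m).mpr ((h m).mp hy)
  · intro hι z
    rw [← hex' z]
    conv_lhs => rw [hfac, LinearMap.lTensor_comp, LinearMap.comp_apply]
    constructor
    · intro hz
      exact hι (by rw [hz, map_zero])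
    · intro hz
      rw [hz, map_zero]


end Groth.Agent.Lib.Helper9.GenExact
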