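import Mathlib
import Groth.Prelude.Def_CAlg
import Groth.Agent.Lib.Helper18.MCMFree
import Groth.Agent.Lib.Helper18.CM2

set_option autoImplicit false
universe u
open IsLocalRing

namespace Groth.Agent.Lib.Helper9.RegCMFree

section loc

/-- If the annihilator of a finite module consists of nilpotents, its localizations have full
support. -/
theorem support_eq_univ_of_annihilator_le {R : Type*} [CommRing R] {M : Type*} [AddCommGroup M]
    [Module R M] [Module.Finite R M]
    (p : Ideal R) [p.IsPrime] {A : Type*} [CommRing A] [Algebra R A] [IsLocalization.AtPrime A p]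
    {N : Type*} [AddCommGroup N] [Module R N] [Module A N] [IsScalarTower R A N]
    (f : M →ₗ[R] N) [IsLocalizedModule p.primeCompl f]
    (h : ∀ a : R, (∀ m : M, a • m = 0) → IsNilpotent a) :
    Module.support A N = Set.univ := by
  rw [Set.eq_univ_iff_forall]
  intro q
  have hq' : (PrimeSpectrum.comap (algebraMap R A) q) ∈ Module.support R M := by
    rw [Module.mem_support_iff_of_finite]
    intro a ha
    have hnil := h a (fun m => by
      have := Module.mem_annihilator.mp ha m
      exact this)
    obtain ⟨k, hk⟩ := hnil
    have : a ^ k ∈ (PrimeSpectrum.comap (algebraMap R A) q).asIdeal := by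
      rw [hk]; exact Ideal.zero_mem _
    exact (PrimeSpectrum.comap (algebraMap R A) q).isPrime.mem_of_pow_mem k this
  obtain ⟨m₀, hm₀⟩ := Module.mem_support_iff_exists_annihilator.mp hq'
  rw [Module.mem_support_iff_exists_annihilator]
  refine ⟨f m₀, ?_⟩
  intro b hb
  rw [Submodule.mem_annihilator_span_singleton] at hb
  obtain ⟨a, s, rfl⟩ := IsLocalization.exists_mk'_eq p.primeCompl b
  have hs : IsUnit (algebraMap R A s) := IsLocalization.map_units A s
  have h1 : algebraMap R A a • f m₀ = 0 := by
    have : algebraMap R A a = algebraMap R A s * IsLocalization.mk' A a s := by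
      rw [IsLocalization.mul_mk'_eq_mk'_of_mul, IsLocalization.mk'_mul_cancel_left]
    rw [this, mul_smul, hb, smul_zero]
  have h2 : f (a • m₀) = 0 := by
    rw [map_smul, ← h1, algebraMap_smul]
  have h3 : f (a • m₀) = f 0 := by rw [h2, map_zero]
  obtain ⟨t, ht⟩ := (IsLocalizedModule.eq_iff_exists p.primeCompl f).mp h3
  rw [smul_zero] at ht
  have h4 : (t : R) * a ∈ (Submodule.span R {m₀}).annihilator := by
    rw [Submodule.mem_annihilator_span_singleton, mul_smul]
    exact ht
  have h5 := hm₀ h4
  have h6 : algebraMap R A ((t : R) * a) ∈ q.asIdeal := h5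
  rw [map_mul] at h6
  have ht' : IsUnit (algebraMap R A t) := IsLocalization.map_units A t
  have h7 : algebraMap R A a ∈ q.asIdeal := by
    rcases q.isPrime.mem_or_mem h6 with h | h
    · exact absurd (q.asIdeal.eq_top_of_isUnit_mem h ht') q.isPrime.ne_top
    · exact h
  rw [IsLocalization.mk'_eq_mul_mk'_one]
  exact Ideal.mul_mem_right _ _ h7

end loc

end Groth.Agent.Lib.Helper9.RegCMFree

namespace Groth.Agent.Lib.Helper9.RegCMFree

theorem supportDim_eq_of_support_eq_univ {R : Type*} [CommRing R] {M : Type*} [AddCommGroup M]
    [Module R M] (h : Module.support R M = Set.univ) :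
    Module.supportDim R M = ringKrullDim R := by
  apply le_antisymm (Module.supportDim_le_ringKrullDim R M)
  unfold Module.supportDim ringKrullDim
  refine Order.krullDim_le_of_strictMono (fun a => ⟨a, h ▸ Set.mem_univ a⟩) fun {_ _} lt => lt

/-- A Cohen–Macaulay module with full support over a regular local ring is free. -/
theorem free_of_cm_of_support_univ (A : Type u) [CommRing A] [IsRegularLocalRing A] (N : Type u)
    [AddCommGroup N] [Module A N] [Module.Finite A N]
    (hsupp : Module.support A N = Set.univ) (hCM : LocCoh.IsCohenMacaulayModule A N) :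
    Module.Free A N := by
  apply Groth.Agent.Lib.Helper18.CM.free_of_le_depth
  rw [← hCM, supportDim_eq_of_support_eq_univ hsupp]

/-- A nontrivial finite free module over a regular local ring is Cohen–Macaulay. -/
theorem cm_of_free (A : Type u) [CommRing A] [IsRegularLocalRing A] (N : Type u)
    [AddCommGroup N] [Module A N] [Module.Finite A N] [Module.Free A N] [Nontrivial N] :
    LocCoh.IsCohenMacaulayModule A N := by
  unfold LocCoh.IsCohenMacaulayModule
  apply le_antisymm
  · exact (Module.supportDim_le_ringKrullDim A N).trans
      (Groth.Agent.Lib.Helper18.CM.ringKrullDim_le_depth_of_free A N)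
  · exact Groth.Agent.Lib.Helper18.CM.depth_le_supportDim N

end Groth.Agent.Lib.Helper9.RegCMFree
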