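import Mathlib
import Groth.Prelude.Def_CAlg
import Groth.Prelude.Def_CohB1
import Groth.Agent.Lib.Helper9.RegCMFree1
import Groth.Agent.Lib.Helper29.QCohLocFree
import Groth.Agent.Lib.Helper29.QCohFinite
import Groth.Agent.Lib.Helper29.RegDim1

set_option autoImplicit false
universe u
open CategoryTheory CategoryTheory.Limits AlgebraicGeometry Opposite TopologicalSpace
open IsLocalRing

namespace Groth.Agent.Lib.Helper9.RegCMFree

open Groth.Agent.Lib.Helper29.QCoh

variable {X : Scheme.{u}}

/-- A stalk all of whose elements come from zero sections is trivial. -/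
theorem isNilpotent_of_smul_eq_zero (F : X.Modules) [F.IsQuasicoherent] {V : X.Opens}
    (hV : IsAffineOpen V) (hsupp : ∀ y ∈ V, ¬ Subsingleton (F.presheaf.stalk y)) (a : Γ(X, V))
    (ha : ∀ m : Γ(F, V), a • m = 0) : IsNilpotent a := by
  rw [Scheme.isNilpotent_iff_basicOpen_eq_bot_of_isCompact hV.isCompact]
  by_contra hne
  obtain ⟨y, hy⟩ : ∃ y, y ∈ X.basicOpen a := by
    by_contra hcon
    push Not at hcon
    apply hne
    ext y
    simp only [Opens.coe_bot, Set.mem_empty_iff_false, iff_false]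
    exact hcon y
  have hyV : y ∈ V := X.basicOpen_le a hy
  apply hsupp y hyV
  refine ⟨fun t1 t2 => ?_⟩
  suffices h : ∀ t : F.presheaf.stalk y, t = 0 by rw [h t1, h t2]
  intro t
  obtain ⟨r, m, hr, h⟩ := exists_smul_germ_eq F hV y hyV t
  have hu1 : IsUnit (X.presheaf.germ V y hyV a) := (Scheme.mem_basicOpen _ _ _ hyV).mp hy
  have hu2 : IsUnit (X.presheaf.germ V y hyV r) := (Scheme.mem_basicOpen _ _ _ hyV).mp hr
  have h1 : X.presheaf.germ V y hyV a • (X.presheaf.germ V y hyV r • t) = 0 := by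
    rw [h, ← germ_smul, ha, map_zero]
  have h2 := (hu1.smul_eq_zero).mp h1
  exact (hu2.smul_eq_zero).mp h2

end Groth.Agent.Lib.Helper9.RegCMFree
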