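import Mathlib
import Groth.Prelude.Def_CAlg
import Groth.Prelude.Def_CohB1
import Groth.Agent.Lib.Helper9.RegCMFree1
import Groth.Agent.Lib.Helper9.RegCMFree2
import Groth.Agent.Lib.Helper29.QCohLocFree
import Groth.Agent.Lib.Helper29.QCohFinite
import Groth.Agent.Lib.Helper29.RegDim1

set_option autoImplicit false
universe u
open CategoryTheory CategoryTheory.Limits AlgebraicGeometry Opposite TopologicalSpace
open IsLocalRing

namespace Groth.Agent.Lib.Helper9.RegCMFree

open Groth.Agent.Lib.Helper29.QCoh

variable {X : Scheme.{u}}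

/-- The stalk at `x ∈ V` (affine) of a quasi-coherent module of finite type is a finite module. -/
theorem finite_stalk (F : X.Modules) [F.IsQuasicoherent] [F.IsFiniteType] (x : X) :
    Module.Finite (X.presheaf.stalk x) (F.presheaf.stalk x) := by
  obtain ⟨V, hV, hx, -⟩ := exists_isAffineOpen_mem_and_subset (x := x) (U := ⊤) trivial
  let _ := stalkModule F V x hx
  let _ : Algebra Γ(X, V) (X.presheaf.stalk x) :=
    TopCat.Presheaf.algebra_section_stalk X.presheaf ⟨x, hx⟩
  have hloc := hV.isLocalization_stalk ⟨x, hx⟩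
  have : IsScalarTower Γ(X, V) (X.presheaf.stalk x) (F.presheaf.stalk x) :=
    IsScalarTower.of_algebraMap_smul fun a m => rfl
  have := isLocalizedModule_germ F hV x hx
  have := module_finite_of_isFiniteType F hV
  exact Module.Finite.of_isLocalizedModule (hV.primeIdealOf ⟨x, hx⟩).asIdeal.primeCompl
    (germₗ F V x hx)

/-- Full support of a quasi-coherent finite type module localizes to the stalks. -/
theorem support_stalk_eq_univ (F : X.Modules) [F.IsQuasicoherent] [F.IsFiniteType]
    (hsupp : ∀ y : X, ¬ Subsingleton (F.presheaf.stalk y)) (x : X) :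
    Module.support (X.presheaf.stalk x) (F.presheaf.stalk x) = Set.univ := by
  obtain ⟨V, hV, hx, -⟩ := exists_isAffineOpen_mem_and_subset (x := x) (U := ⊤) trivial
  let _ := stalkModule F V x hx
  let _ : Algebra Γ(X, V) (X.presheaf.stalk x) :=
    TopCat.Presheaf.algebra_section_stalk X.presheaf ⟨x, hx⟩
  have hloc := hV.isLocalization_stalk ⟨x, hx⟩
  have : IsScalarTower Γ(X, V) (X.presheaf.stalk x) (F.presheaf.stalk x) :=
    IsScalarTower.of_algebraMap_smul fun a m => rfl
  have := isLocalizedModule_germ F hV x hx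
  have := module_finite_of_isFiniteType F hV
  exact support_eq_univ_of_annihilator_le (hV.primeIdealOf ⟨x, hx⟩).asIdeal (germₗ F V x hx)
    (fun a ha => isNilpotent_of_smul_eq_zero F hV (fun y _ => hsupp y) a ha)

end Groth.Agent.Lib.Helper9.RegCMFree

namespace Groth.Agent.Lib.Helper9.RegCMFree

open Groth.Agent.Lib.Helper29.QCoh

variable {X : Scheme.{u}}

/-- Sections that are all zero over an affine neighbourhood force a trivial stalk. -/
theorem subsingleton_stalk_of_subsingleton_sections (F : X.Modules) [F.IsQuasicoherent]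
    {V : X.Opens} (hV : IsAffineOpen V) (x : X) (hx : x ∈ V) [Subsingleton Γ(F, V)] :
    Subsingleton (F.presheaf.stalk x) := by
  refine ⟨fun t1 t2 => ?_⟩
  suffices h : ∀ t : F.presheaf.stalk x, t = 0 by rw [h t1, h t2]
  intro t
  obtain ⟨r, m, hr, h⟩ := exists_smul_germ_eq F hV x hx t
  have hu : IsUnit (X.presheaf.germ V x hx r) := (Scheme.mem_basicOpen _ _ _ hx).mp hr
  rw [Subsingleton.elim m 0, map_zero] at h
  exact (hu.smul_eq_zero).mp h

/-- A free module of positive rank of sections over an affine neighbourhood gives a nontrivial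
stalk. -/
theorem nontrivial_stalk_of_free_sections (F : X.Modules) [F.IsQuasicoherent]
    {V : X.Opens} (hV : IsAffineOpen V) (x : X) (hx : x ∈ V) (n : ℕ) (hn : 0 < n)
    (e : Γ(F, V) ≃ₗ[Γ(X, V)] (Fin n →₀ Γ(X, V))) :
    Nontrivial (F.presheaf.stalk x) := by
  by_contra hnt
  rw [not_nontrivial_iff_subsingleton] at hnt
  have h0 : F.presheaf.germ V x hx (e.symm (Finsupp.single ⟨0, hn⟩ 1)) = 0 :=
    Subsingleton.elim _ _
  obtain ⟨r, hr, hrm⟩ := exists_smul_eq_zero_of_germ_eq_zero F hV x hx _ h0
  have h1 : r • (Finsupp.single (⟨0, hn⟩ : Fin n) (1 : Γ(X, V))) = 0 := by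
    have := congrArg e hrm
    rwa [map_smul, LinearEquiv.apply_symm_apply, map_zero] at this
  have h2 : r = 0 := by
    have := congrArg (fun g : Fin n →₀ Γ(X, V) => g ⟨0, hn⟩) h1
    simpa using this
  rw [h2, Scheme.basicOpen_zero] at hr
  exact hr

theorem main (X : Scheme.{u}) [IsLocallyNoetherian X]
    (hreg : ∀ x : X, IsRegularLocalRing (X.presheaf.stalk x)) (F : X.Modules) (hF : Coh.IsCoh F) :
    (CohB1.support F = Set.univ ∧
        ∀ x : X, LocCoh.IsCohenMacaulayModule (X.presheaf.stalk x) ↑(F.presheaf.stalk x)) ↔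
      ∀ x : X, ∃ (U : X.Opens) (n : ℕ), x ∈ U ∧ 0 < n ∧
        Nonempty (F.restrict U.ι ≅ FlatMod.freeMod (↑U) n) := by
  have hqc : F.IsQuasicoherent := hF.1
  have hft : F.IsFiniteType := hF.2
  have hfp : F.IsFinitePresentation := isFinitePresentation_of_isCoh F hF
  constructor
  · rintro ⟨hsupp, hCM⟩ x
    have hsupp' : ∀ y : X, ¬ Subsingleton (F.presheaf.stalk y) := by
      intro y
      have : y ∈ CohB1.support F := hsupp ▸ Set.mem_univ y
      exact this
    have := hreg x
    have := finite_stalk F x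
    have hfree : Module.Free (X.presheaf.stalk x) (F.presheaf.stalk x) :=
      free_of_cm_of_support_univ _ _ (support_stalk_eq_univ F hsupp' x) (hCM x)
    obtain ⟨V, n, hV, hxV, ⟨e⟩⟩ := exists_affine_linearEquiv_of_free_stalk F x
    refine ⟨V, n, hxV, ?_, ?_⟩
    · by_contra hn
      have hn0 : n = 0 := by omega
      subst hn0
      have : Subsingleton Γ(F, V) := e.toEquiv.subsingleton
      exact hsupp' x (subsingleton_stalk_of_subsingleton_sections F hV x hxV)
    · have h1 : IsFreeAlong F hV.fromSpec n := (isFreeAlong_fromSpec_iff F hV n).mpr ⟨e⟩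
      have h2 : IsFreeAlong F V.ι n := h1.of_range_subset V.ι (by
        rw [hV.range_fromSpec, Scheme.Opens.range_ι])
      exact (isFreeAlong_iff_restrict F V.ι n).mp h2
  · intro h
    have hlf : FlatMod.IsFinLocFree F := fun x => by
      obtain ⟨U, n, hx, -, he⟩ := h x
      exact ⟨U, n, hx, he⟩
    have hnt : ∀ x : X, Nontrivial (F.presheaf.stalk x) := by
      intro x
      obtain ⟨U, n, hx, hn, he⟩ := h x
      have h1 : IsFreeAlong F U.ι n := (isFreeAlong_iff_restrict F U.ι n).mpr he
      obtain ⟨V, hV, hxV, hVU⟩ := exists_isAffineOpen_mem_and_subset (x := x) (U := U) hx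
      have h2 : IsFreeAlong F hV.fromSpec n := h1.of_range_subset _ (by
        rw [hV.range_fromSpec, Scheme.Opens.range_ι]
        exact hVU)
      obtain ⟨e⟩ := nonempty_linearEquiv_of_isFreeAlong_fromSpec F hV n h2
      exact nontrivial_stalk_of_free_sections F hV x hxV n hn e
    refine ⟨?_, fun x => ?_⟩
    · rw [Set.eq_univ_iff_forall]
      intro x
      have := hnt x
      change ¬ Subsingleton (F.presheaf.stalk x)
      exact not_subsingleton _
    · have := hreg x
      have := finite_stalk F x
      have := hnt x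
      have := free_stalk_of_isFinLocFree hlf x
      exact cm_of_free _ _

end Groth.Agent.Lib.Helper9.RegCMFree
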