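import Mathlib
import Groth.Prelude.Def_RefHull
import Groth.Agent.Lib.Helper29.HomSec3
import Groth.Agent.Lib.Helper29.Dual3
import Groth.Agent.S16485

/-!
# Stalks of the dual and bidual of a finitely presented module (helper9)
-/

set_option autoImplicit false
universe u
open CategoryTheory CategoryTheory.Limits AlgebraicGeometry TopologicalSpace Opposite

namespace Groth.Agent.Lib.Helper9.RefStalk
open Groth.Agent.Lib.Helper29.QCoh Groth.Agent.Lib.Helper29.QCoh.Dual

variable {X : Scheme.{u}} (F : X.Modules)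

/-- `O_{X,x}` is the stalk of the structure sheaf viewed as a module. -/
noncomputable def oEquiv (x : X) :
    X.presheaf.stalk x ≃ₗ[X.presheaf.stalk x] (Coh.structureModule X).presheaf.stalk x :=
  coordEquiv (isTriv_unit (X := X) ⊤) x trivial

/-- `evalStalk` as an equivalence for `F` finitely presented. -/
noncomputable def evalEquiv (F G : X.Modules) (hF : CohB1.IsFP F) (x : X) :
    (RefHull.homSh F G).presheaf.stalk x ≃ₗ[X.presheaf.stalk x] RefHull.StalkHom F G x :=
  LinearEquiv.ofBijective (RefHull.evalStalk F G x) (Groth.Agent.S16485.result X F G hF x)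

theorem evalEquiv_apply (F G : X.Modules) (hF : CohB1.IsFP F) (x : X)
    (θ : (RefHull.homSh F G).presheaf.stalk x) :
    evalEquiv F G hF x θ = RefHull.evalStalk F G x θ := rfl

/-- The stalk of the dual is the dual of the stalk. -/
noncomputable def dualStalkEquiv (hF : CohB1.IsFP F) (x : X) :
    (RefHull.dual F).presheaf.stalk x ≃ₗ[X.presheaf.stalk x]
      Module.Dual (X.presheaf.stalk x) (F.presheaf.stalk x) :=
  (evalEquiv F _ hF x).trans (LinearEquiv.congrRight (oEquiv x).symm)

theorem dualStalkEquiv_apply (hF : CohB1.IsFP F) (x : X)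
    (θ : (RefHull.dual F).presheaf.stalk x) (v : F.presheaf.stalk x) :
    dualStalkEquiv F hF x θ v =
      (oEquiv x).symm (RefHull.evalStalk F (Coh.structureModule X) x θ v) := rfl

theorem bidualAt_eq (hF : CohB1.IsFP F) (x : X) (v : F.presheaf.stalk x)
    (θ : (RefHull.dual F).presheaf.stalk x) :
    (oEquiv x).symm (RefHull.bidualAt F x v θ) =
      Module.Dual.eval (X.presheaf.stalk x) (F.presheaf.stalk x) v (dualStalkEquiv F hF x θ) := by
  rw [Module.Dual.eval_apply, dualStalkEquiv_apply, RefHull.bidualAt_apply]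

/-- The comparison equivalence between the double dual of the stalk and linear forms on the stalk
of the dual. -/
noncomputable def Φ (hF : CohB1.IsFP F) (x : X) :
    Module.Dual (X.presheaf.stalk x) (Module.Dual (X.presheaf.stalk x) (F.presheaf.stalk x))
      ≃ₗ[X.presheaf.stalk x] RefHull.StalkHom (RefHull.dual F) (Coh.structureModule X) x :=
  LinearEquiv.arrowCongr (dualStalkEquiv F hF x).symm (oEquiv x)

theorem bidualAt_eq_comp (hF : CohB1.IsFP F) (x : X) :
    ⇑(RefHull.bidualAt F x) =
      ⇑(Φ F hF x) ∘ ⇑(Module.Dual.eval (X.presheaf.stalk x) (F.presheaf.stalk x)) := by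
  funext v
  apply LinearMap.ext
  intro θ
  change _ = (oEquiv x) ((Module.Dual.eval _ _ v) ((dualStalkEquiv F hF x).symm.symm θ))
  rw [LinearEquiv.symm_symm, ← bidualAt_eq, LinearEquiv.apply_symm_apply]

theorem bidualAt_bijective_iff (hF : CohB1.IsFP F) (x : X) :
    Function.Bijective (RefHull.bidualAt F x) ↔ RefHull.IsReflexiveAt F x := by
  rw [bidualAt_eq_comp F hF x, Function.Bijective.of_comp_iff' (Φ F hF x).bijective]
  exact ⟨fun h => ⟨h⟩, fun h => h.1⟩

theorem evalStalk_stalkMapₗ_bidualMap (x : X) (v : F.presheaf.stalk x) :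
    RefHull.evalStalk (RefHull.dual F) (Coh.structureModule X) x
      (RefHull.stalkMapₗ (RefHull.bidualMap F) x v) = RefHull.bidualAt F x v := by
  obtain ⟨U, hx, s, rfl⟩ := TopCat.Presheaf.exists_germ_eq F.presheaf v
  rw [RefHull.stalkMapₗ_germ, RefHull.evalStalk_germ]
  rfl

theorem stalkMapₗ_bidualMap_bijective_iff (hF : CohB1.IsFP F) (hD : CohB1.IsFP (RefHull.dual F))
    (x : X) :
    Function.Bijective (RefHull.stalkMapₗ (RefHull.bidualMap F) x) ↔
      RefHull.IsReflexiveAt F x := by
  rw [← bidualAt_bijective_iff F hF x]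
  have h : ⇑(RefHull.bidualAt F x) =
      ⇑(evalEquiv (RefHull.dual F) (Coh.structureModule X) hD x) ∘
        ⇑(RefHull.stalkMapₗ (RefHull.bidualMap F) x) := by
    funext v
    exact (evalStalk_stalkMapₗ_bidualMap F x v).symm
  rw [h, Function.Bijective.of_comp_iff' (evalEquiv _ _ hD x).bijective]

theorem isReflexive_iff (hF : CohB1.IsFP F) (hD : CohB1.IsFP (RefHull.dual F)) :
    RefHull.IsReflexive F ↔ ∀ x : X, RefHull.IsReflexiveAt F x := by
  unfold RefHull.IsReflexive
  rw [isIso_iff_stalkMap_bijective]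
  refine forall_congr' fun x => ?_
  rw [← stalkMapₗ_bidualMap_bijective_iff F hF hD x]
  rfl

end Groth.Agent.Lib.Helper9.RefStalk
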