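import Mathlib
import Groth.Prelude.Def_RefHull
import Groth.Agent.Lib.Helper9.RefStalk1
import Groth.Agent.Lib.Helper9.RegCMFree3
import Groth.Agent.Lib.Helper29.RegDim1

/-!
# Coherent modules on locally Noetherian schemes: reflexive iff stalks reflexive (helper9)
-/

set_option autoImplicit false
set_option linter.style.haveILetI false
universe u
open CategoryTheory CategoryTheory.Limits AlgebraicGeometry TopologicalSpace Opposite

namespace Groth.Agent.Lib.Helper9.RefStalk
open Groth.Agent.Lib.Helper29.QCoh Groth.Agent.Lib.Helper29.QCoh.HomSec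

variable {X : Scheme.{u}}

theorem isFP_unit (X : Scheme.{u}) : CohB1.IsFP (Coh.structureModule X) := by
  have : (Coh.structureModule X).IsQuasicoherent := inferInstanceAs (unitM X).IsQuasicoherent
  refine isFinitePresentation_of_module_finitePresentation (Coh.structureModule X)
    (fun U : X.affineOpens => (U : X.Opens)) (isOpenCover_affineOpens X) (fun U => U.2) fun U => ?_
  exact inferInstanceAs (Module.FinitePresentation Γ(X, (U : X.Opens)) Γ(X, (U : X.Opens)))

theorem isCoh_unit (X : Scheme.{u}) : Coh.IsCoh (Coh.structureModule X) := by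
  have : (Coh.structureModule X).IsFinitePresentation := isFP_unit X
  exact ⟨inferInstanceAs (unitM X).IsQuasicoherent, inferInstance⟩

variable [IsLocallyNoetherian X]

theorem isFP_homSh (F G : X.Modules) (hF : Coh.IsCoh F) (hG : Coh.IsCoh G) :
    CohB1.IsFP (RefHull.homSh F G) := by
  have := hF.1
  have := hF.2
  have := hG.1
  have := hG.2
  have := isFinitePresentation_of_isCoh F hF
  have := isQuasicoherent_homSh F G
  refine isFinitePresentation_of_module_finitePresentation (RefHull.homSh F G)
    (fun U : X.affineOpens => (U : X.Opens)) (isOpenCover_affineOpens X) (fun U => U.2) fun U => ?_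
  have : IsNoetherianRing Γ(X, (U : X.Opens)) := IsLocallyNoetherian.component_noetherian U
  have := module_finite_of_isFiniteType F U.2
  have := module_finite_of_isFiniteType G U.2
  have : IsNoetherian Γ(X, (U : X.Opens)) Γ(G, (U : X.Opens)) := isNoetherian_of_isNoetherianRing_of_finite _ _
  have : Module.Finite Γ(X, (U : X.Opens))
      (Γ(F, (U : X.Opens)) →ₗ[Γ(X, (U : X.Opens))] Γ(G, (U : X.Opens))) :=
    Module.IsNoetherian.finite _ _
  have : Module.Finite Γ(X, (U : X.Opens)) Γ(RefHull.homSh F G, (U : X.Opens)) :=
    Module.Finite.equiv (homSecEquiv F G U.2).symm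
  exact Module.finitePresentation_of_finite _ _

theorem isCoh_homSh (F G : X.Modules) (hF : Coh.IsCoh F) (hG : Coh.IsCoh G) :
    Coh.IsCoh (RefHull.homSh F G) := by
  have : (RefHull.homSh F G).IsFinitePresentation := isFP_homSh F G hF hG
  exact ⟨inferInstance, inferInstance⟩

theorem isFP_of_isCoh (F : X.Modules) (hF : Coh.IsCoh F) : CohB1.IsFP F :=
  isFinitePresentation_of_isCoh F hF

/-- A coherent module on a locally Noetherian scheme is reflexive iff all its stalks are. -/
theorem isReflexive_iff_of_isCoh (F : X.Modules) (hF : Coh.IsCoh F) :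
    RefHull.IsReflexive F ↔ ∀ x : X, RefHull.IsReflexiveAt F x :=
  isReflexive_iff F (isFP_of_isCoh F hF) (isFP_homSh F _ hF (isCoh_unit X))

omit [IsLocallyNoetherian X] in
theorem finite_stalk_of_isCoh (F : X.Modules) (hF : Coh.IsCoh F) (x : X) :
    Module.Finite (X.presheaf.stalk x) (F.presheaf.stalk x) := by
  have := hF.1
  have := hF.2
  exact Groth.Agent.Lib.Helper9.RegCMFree.finite_stalk F x

end Groth.Agent.Lib.Helper9.RefStalk
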