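import Mathlib
import Groth.Agent.Lib.Helper9.FlatInj

/-!
# Elementwise criteria for exactness / injectivity after tensoring with `R ⧸ I` (helper9 library)

* `one_tmul_eq_zero_iff` : `(1 : R ⧸ I) ⊗ₜ m = 0 ↔ m ∈ I • ⊤`.
* `exists_one_tmul` : every element of `(R ⧸ I) ⊗ M` is of the form `1 ⊗ₜ m`.
* `lTensor_quot_injective_iff`, `lTensor_quot_exact_iff` : elementwise forms.
* `mem_smul_top_iff_mem_map_smul_top` : `m ∈ I • ⊤` over `R` iff `m ∈ (I S) • ⊤` over `S`.
* `exact_and_flat_of_exact_mod` : Stacks 00ME in "three-term complex" form.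
-/

set_option autoImplicit false

namespace Groth.Agent.Lib.Helper9.QuotTensor

open TensorProduct Function

section Basic

variable {R : Type*} [CommRing R] (I : Ideal R)
  {M N P : Type*} [AddCommGroup M] [Module R M] [AddCommGroup N] [Module R N]
  [AddCommGroup P] [Module R P]

theorem one_tmul_eq_zero_iff (m : M) :
    (1 : R ⧸ I) ⊗ₜ[R] m = 0 ↔ m ∈ I • (⊤ : Submodule R M) := by
  rw [← (quotTensorEquivQuotSMul M I).map_eq_zero_iff]
  have : (quotTensorEquivQuotSMul M I) ((1 : R ⧸ I) ⊗ₜ[R] m) = Submodule.Quotient.mk m :=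
    quotTensorEquivQuotSMul_mk_tmul I 1 m |>.trans (by simp)
  rw [this, Submodule.Quotient.mk_eq_zero]

theorem exists_one_tmul (x : (R ⧸ I) ⊗[R] M) : ∃ m : M, x = (1 : R ⧸ I) ⊗ₜ[R] m := by
  obtain ⟨m, rfl⟩ := TensorProduct.mk_surjective R M (R ⧸ I) Ideal.Quotient.mk_surjective x
  exact ⟨m, rfl⟩

theorem lTensor_quot_injective_iff (u : N →ₗ[R] M) :
    Injective (u.lTensor (R ⧸ I)) ↔
      ∀ x : N, u x ∈ I • (⊤ : Submodule R M) → x ∈ I • (⊤ : Submodule R N) := by
  rw [injective_iff_map_eq_zero]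
  constructor
  · intro h x hx
    rw [← one_tmul_eq_zero_iff]
    apply h
    rw [LinearMap.lTensor_tmul, one_tmul_eq_zero_iff]
    exact hx
  · intro h x hx
    obtain ⟨n, rfl⟩ := exists_one_tmul I x
    rw [LinearMap.lTensor_tmul, one_tmul_eq_zero_iff] at hx
    rw [one_tmul_eq_zero_iff]
    exact h n hx

theorem lTensor_quot_exact_iff (f : M →ₗ[R] N) (g : N →ₗ[R] P) :
    (∀ y, g.lTensor (R ⧸ I) y = 0 → ∃ x, f.lTensor (R ⧸ I) x = y) ↔
      ∀ y : N, g y ∈ I • (⊤ : Submodule R P) →
        y ∈ LinearMap.range f ⊔ I • (⊤ : Submodule R N) := by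
  constructor
  · intro h y hy
    have h1 : g.lTensor (R ⧸ I) ((1 : R ⧸ I) ⊗ₜ[R] y) = 0 := by
      rw [LinearMap.lTensor_tmul, one_tmul_eq_zero_iff]
      exact hy
    obtain ⟨x, hx⟩ := h _ h1
    obtain ⟨m, rfl⟩ := exists_one_tmul I x
    rw [LinearMap.lTensor_tmul, ← sub_eq_zero, ← TensorProduct.tmul_sub,
      one_tmul_eq_zero_iff] at hx
    have : y = f m - (f m - y) := by abel
    rw [this]
    exact Submodule.sub_mem _ (Submodule.mem_sup_left ⟨m, rfl⟩) (Submodule.mem_sup_right hx)
  · intro h y hy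
    obtain ⟨n, rfl⟩ := exists_one_tmul I y
    rw [LinearMap.lTensor_tmul, one_tmul_eq_zero_iff] at hy
    obtain ⟨a, ⟨m, rfl⟩, b, hb, hab⟩ := Submodule.mem_sup.mp (h n hy)
    refine ⟨(1 : R ⧸ I) ⊗ₜ[R] m, ?_⟩
    rw [LinearMap.lTensor_tmul, ← sub_eq_zero, ← TensorProduct.tmul_sub, one_tmul_eq_zero_iff]
    have : f m - n = -b := by rw [← hab]; abel
    rw [this]
    exact Submodule.neg_mem _ hb

end Basic

section Tower

variable {R S : Type*} [CommRing R] [CommRing S] [Algebra R S] (I : Ideal R)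
  {M : Type*} [AddCommGroup M] [Module R M] [Module S M] [IsScalarTower R S M]

theorem mem_smul_top_iff_mem_map_smul_top (m : M) :
    m ∈ I • (⊤ : Submodule R M) ↔ m ∈ (I.map (algebraMap R S)) • (⊤ : Submodule S M) := by
  constructor
  · intro hm
    induction hm using Submodule.smul_induction_on' with
    | smul r hr n _ =>
      rw [← algebraMap_smul S r n]
      exact Submodule.smul_mem_smul (Ideal.mem_map_of_mem _ hr) trivial
    | add x hx y hy ihx ihy => exact Submodule.add_mem _ ihx ihy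
  · intro hm
    induction hm using Submodule.smul_induction_on' with
    | smul s hs n _ =>
      have hs' : s ∈ Submodule.span S ((algebraMap R S) '' (I : Set R)) := hs
      clear hs
      induction hs' using Submodule.span_induction generalizing n with
      | mem x hx =>
        obtain ⟨r, hr, rfl⟩ := hx
        rw [algebraMap_smul]
        exact Submodule.smul_mem_smul hr trivial
      | zero => rw [zero_smul]; exact Submodule.zero_mem _
      | add x y _ _ ihx ihy => rw [add_smul]; exact Submodule.add_mem _ (ihx n trivial) (ihy n trivial)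
      | smul t x _ ihx =>
        rw [smul_eq_mul, mul_comm, mul_smul]
        exact ihx (t • n) trivial
    | add x hx y hy ihx ihy => exact Submodule.add_mem _ ihx ihy

end Tower

section Core

universe u

variable {R : Type u} {S : Type u} [CommRing R] [CommRing S] [IsLocalRing R] [IsLocalRing S]
  [IsNoetherianRing S] [Algebra R S] [IsLocalHom (algebraMap R S)]
  {X₁ X₂ X₃ : Type u} [AddCommGroup X₁] [Module S X₁] [AddCommGroup X₂] [Module S X₂]
  [AddCommGroup X₃] [Module S X₃] [Module R X₂] [IsScalarTower R S X₂] [Module R X₃]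
  [IsScalarTower R S X₃] [Module.Finite S X₂] [Module.Flat R X₃]

/-- Stacks 00ME for a three term complex `X₁ → X₂ → X₃` of `S`-modules with `X₂` finite over `S`
and `X₃` flat over `R`: if the complex is exact in the middle modulo `𝔪_R`, it is exact in the
middle and the cokernel of `X₂ → X₃` is flat over `R`. -/
theorem exact_and_flat_of_exact_mod (f : X₁ →ₗ[S] X₂) (g : X₂ →ₗ[S] X₃) (hgf : g ∘ₗ f = 0)
    (hex : ∀ y : X₂, g y ∈ ((IsLocalRing.maximalIdeal R).map (algebraMap R S)) •
        (⊤ : Submodule S X₃) →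
      y ∈ LinearMap.range f ⊔ ((IsLocalRing.maximalIdeal R).map (algebraMap R S)) •
        (⊤ : Submodule S X₂)) :
    (∀ y, g y = 0 → ∃ x, f x = y) ∧
      Module.Flat R (X₃ ⧸ (LinearMap.range g).restrictScalars R) := by
  set 𝔪 := IsLocalRing.maximalIdeal R with h𝔪
  have hle : LinearMap.range f ≤ LinearMap.ker g := by
    rintro _ ⟨x, rfl⟩
    exact congr($hgf x)
  let u : (X₂ ⧸ LinearMap.range f) →ₗ[S] X₃ := (LinearMap.range f).liftQ g hle
  let uR : (X₂ ⧸ LinearMap.range f) →ₗ[R] X₃ := u.restrictScalars R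
  have hu : ∀ y : X₂, uR (Submodule.Quotient.mk y) = g y := fun y => rfl
  have hinj : Injective (uR.lTensor (IsLocalRing.ResidueField R)) := by
    change Injective (uR.lTensor (R ⧸ 𝔪))
    rw [lTensor_quot_injective_iff]
    intro x hx
    obtain ⟨y, rfl⟩ := Submodule.Quotient.mk_surjective _ x
    rw [hu, mem_smul_top_iff_mem_map_smul_top (S := S)] at hx
    obtain ⟨a, ⟨z, rfl⟩, b, hb, hab⟩ := Submodule.mem_sup.mp (hex y hx)
    have : (Submodule.Quotient.mk y : X₂ ⧸ LinearMap.range f) = Submodule.Quotient.mk b := by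
      have hz : (Submodule.Quotient.mk (f z) : X₂ ⧸ LinearMap.range f) = 0 :=
        (Submodule.Quotient.mk_eq_zero _).mpr ⟨z, rfl⟩
      rw [← hab, Submodule.Quotient.mk_add, hz, zero_add]
    rw [this, mem_smul_top_iff_mem_map_smul_top (S := S)]
    have := Submodule.mem_map_of_mem (f := (LinearMap.range f).mkQ) hb
    rw [Submodule.map_smul'', Submodule.map_top, Submodule.range_mkQ] at this
    exact this
  obtain ⟨h1, h2⟩ := injective_and_flat_of_lTensor_residueField_injective uR S hinj
  refine ⟨?_, ?_⟩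
  · intro y hy
    have : (Submodule.Quotient.mk y : X₂ ⧸ LinearMap.range f) = 0 := by
      apply h1
      rw [hu, hy, map_zero]
    exact (Submodule.Quotient.mk_eq_zero _).mp this
  · have hr : LinearMap.range uR = (LinearMap.range g).restrictScalars R := by
      ext z
      constructor
      · rintro ⟨x, rfl⟩
        obtain ⟨y, rfl⟩ := Submodule.Quotient.mk_surjective _ x
        exact ⟨y, rfl⟩
      · rintro ⟨y, rfl⟩
        exact ⟨Submodule.Quotient.mk y, rfl⟩
    rw [← hr]
    exact h2

end Core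

end Groth.Agent.Lib.Helper9.QuotTensor
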