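import Mathlib

/-!
# Flatness of a ring presented as a limit of the quotients by powers of an ideal (helper9)

If `A` is Noetherian, `R` an `A`-algebra which is the limit of a tower of quotients `B n ≅ A ⧸ I^(n+1)` of `A`,
then `R` is (linearly isomorphic to) the `I`-adic completion of `A`, hence flat over `A`.
-/

set_option autoImplicit false

universe u

namespace Groth.Agent.Lib.Helper9.CplFlat

noncomputable section

variable {A R : Type u} [CommRing A] [CommRing R] [Algebra A R] (I : Ideal A)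
    (B : ℕ → Type u) [∀ n, CommRing (B n)] [∀ n, Algebra A (B n)]
    (π : ∀ n, R →ₐ[A] B n) (t : ∀ n, B (n + 1) →ₐ[A] B n)
    (hq : ∀ n, Function.Surjective (algebraMap A (B n)))
    (hker : ∀ n, RingHom.ker (algebraMap A (B n)) = I ^ (n + 1))
    (ht : ∀ n r, t n (π (n + 1) r) = π n r)

variable (A) in
/-- the structure map as a linear map -/
def qL (n : ℕ) : A →ₗ[A] B n := Algebra.linearMap A (B n)

lemma qL_apply (n : ℕ) (a : A) : qL A B n a = algebraMap A (B n) a := rfl

include hq in
lemma qL_surjective (n : ℕ) : Function.Surjective (qL A B n) := hq n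

lemma mem_smul_top_iff (n : ℕ) (a : A) : a ∈ (I ^ n • ⊤ : Submodule A A) ↔ a ∈ I ^ n := by
  rw [smul_eq_mul, Ideal.mul_top]

include hker in
lemma mem_ker_qL_iff (n : ℕ) (a : A) : a ∈ LinearMap.ker (qL A B n) ↔ a ∈ I ^ (n + 1) := by
  rw [← hker n]
  rfl

include hker in
lemma ker_qL_le (n : ℕ) : LinearMap.ker (qL A B n) ≤ (I ^ n • ⊤ : Submodule A A) := by
  intro a ha
  rw [mem_ker_qL_iff I B hker] at ha
  rw [mem_smul_top_iff]
  exact Ideal.pow_le_pow_right (Nat.le_succ n) ha

/-- the map from level `n` to `A ⧸ I^n` -/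
def F (n : ℕ) : B n →ₗ[A] A ⧸ (I ^ n • ⊤ : Submodule A A) :=
  (Submodule.mapQ _ _ LinearMap.id (by
      rw [Submodule.comap_id]
      exact ker_qL_le I B hker n)) ∘ₗ
    ((qL A B n).quotKerEquivOfSurjective (qL_surjective (A := A) B hq n)).symm.toLinearMap

lemma F_algebraMap (n : ℕ) (a : A) :
    F I B hq hker n (algebraMap A (B n) a) = Submodule.mkQ (I ^ n • ⊤ : Submodule A A) a := by
  have h1 : ((qL A B n).quotKerEquivOfSurjective (qL_surjective (A := A) B hq n)).symm (algebraMap A (B n) a) =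
      Submodule.Quotient.mk a := by
    rw [LinearEquiv.symm_apply_eq]
    rfl
  unfold F
  rw [LinearMap.comp_apply, LinearEquiv.coe_coe, h1]
  rfl

/-- the components of the comparison map -/
def ψ (n : ℕ) : R →ₗ[A] A ⧸ (I ^ n • ⊤ : Submodule A A) :=
  F I B hq hker n ∘ₗ (π n).toLinearMap

lemma ψ_eq (n : ℕ) (r : R) (a : A) (h : algebraMap A (B n) a = π n r) :
    ψ I B π hq hker n r = Submodule.mkQ (I ^ n • ⊤ : Submodule A A) a := by
  change F I B hq hker n (π n r) = _
  rw [← h, F_algebraMap]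

include ht in
lemma π_of_le {m n : ℕ} (hmn : m ≤ n) (r : R) (a : A) (h : algebraMap A (B n) a = π n r) :
    algebraMap A (B m) a = π m r := by
  induction n, hmn using Nat.le_induction with
  | base => exact h
  | succ n hmn ih =>
    apply ih
    rw [← ht n r, ← h, AlgHom.commutes]

include ht in
lemma ψ_compat {m n : ℕ} (hmn : m ≤ n) :
    AdicCompletion.transitionMap I A hmn ∘ₗ ψ I B π hq hker n = ψ I B π hq hker m := by
  ext r
  obtain ⟨a, ha⟩ := hq n (π n r)
  change AdicCompletion.transitionMap I A hmn (ψ I B π hq hker n r) = ψ I B π hq hker m r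
  rw [ψ_eq I B π hq hker n r a ha, ψ_eq I B π hq hker m r a (π_of_le B π t ht hmn r a ha)]
  rfl

/-- the comparison map to the adic completion -/
def Ψ : R →ₗ[A] AdicCompletion I A :=
  AdicCompletion.lift I (ψ I B π hq hker) (fun hle => ψ_compat I B π t hq hker ht hle)

lemma Ψ_val (r : R) (n : ℕ) : (Ψ I B π t hq hker ht r).val n = ψ I B π hq hker n r := rfl

include ht in
lemma Ψ_injective (hinj : ∀ r : R, (∀ n, π n r = 0) → r = 0) :
    Function.Injective (Ψ I B π t hq hker ht) := by
  rw [injective_iff_map_eq_zero]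
  intro r hr
  apply hinj
  intro n
  obtain ⟨a, ha⟩ := hq (n + 1) (π (n + 1) r)
  have h1 : ψ I B π hq hker (n + 1) r = 0 := by
    rw [← Ψ_val I B π t hq hker ht, hr]
    rfl
  rw [ψ_eq I B π hq hker (n + 1) r a ha] at h1
  have h2 : a ∈ (I ^ (n + 1) • ⊤ : Submodule A A) := by
    rwa [Submodule.mkQ_apply, Submodule.Quotient.mk_eq_zero] at h1
  rw [mem_smul_top_iff, ← mem_ker_qL_iff I B hker] at h2
  rw [← π_of_le B π t ht (Nat.le_succ n) r a ha]
  exact h2

include ht in
lemma Ψ_surjective
    (hsurj : ∀ a : ∀ n, B n, (∀ n, t n (a (n + 1)) = a n) → ∃ r : R, ∀ n, π n r = a n) :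
    Function.Surjective (Ψ I B π t hq hker ht) := by
  intro z
  -- choose representatives
  have hrep : ∀ n, ∃ b : A, Submodule.mkQ (I ^ n • ⊤ : Submodule A A) b = z.val n :=
    fun n => Submodule.mkQ_surjective _ (z.val n)
  choose b hb using hrep
  -- representatives are compatible
  have hbb : ∀ {m n : ℕ} (_ : m ≤ n), b n - b m ∈ I ^ m := by
    intro m n hmn
    rw [← mem_smul_top_iff, ← Submodule.Quotient.mk_eq_zero, Submodule.Quotient.mk_sub, sub_eq_zero]
    have := z.property hmn
    rw [← hb n, ← hb m] at this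
    exact this
  obtain ⟨r, hr⟩ := hsurj (fun n => algebraMap A (B n) (b (n + 1))) (by
    intro n
    rw [AlgHom.commutes, ← sub_eq_zero, ← map_sub]
    exact (mem_ker_qL_iff I B hker n _).2 (hbb (Nat.le_succ (n + 1))))
  refine ⟨r, ?_⟩
  apply AdicCompletion.ext
  intro n
  rw [Ψ_val, ψ_eq I B π hq hker n r (b (n + 1)) (hr n).symm, ← hb n, Submodule.mkQ_apply,
    Submodule.mkQ_apply, ← sub_eq_zero, ← Submodule.Quotient.mk_sub, Submodule.Quotient.mk_eq_zero,
    mem_smul_top_iff]
  exact hbb (Nat.le_succ n)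

include hq hker ht in
/-- a limit of the tower of quotients by powers of an ideal of a Noetherian ring is flat -/
theorem flat_of_limit [IsNoetherianRing A]
    (hinj : ∀ r : R, (∀ n, π n r = 0) → r = 0)
    (hsurj : ∀ a : ∀ n, B n, (∀ n, t n (a (n + 1)) = a n) → ∃ r : R, ∀ n, π n r = a n) :
    Module.Flat A R :=
  Module.Flat.of_linearEquiv
    (LinearEquiv.ofBijective (Ψ I B π t hq hker ht)
      ⟨Ψ_injective I B π t hq hker ht hinj, Ψ_surjective I B π t hq hker ht hsurj⟩)

end

end Groth.Agent.Lib.Helper9.CplFlat
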