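import Mathlib
import Groth.Prelude.Def_FSch5

/-!
# Sections of the structure sheaf of a formal system (helper9)

The sections of `O_𝔛 = lim O_{X n}` over an open are the compatible families of sections of the levels.
-/

set_option autoImplicit false

universe u

open CategoryTheory Limits TopologicalSpace Opposite AlgebraicGeometry

namespace Groth.Agent.Lib.Helper9.CplFlat

noncomputable section

variable (𝔛 : FSch.Sys.{u}) (h : 𝔛.IsFormal) (U : (𝔛.X 0).Opens)

/-- the sections functor -/
def secF : Sheaf (Opens.grothendieckTopology (𝔛.X 0)) CommRingCat.{u} ⥤ Type u :=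
  sheafToPresheaf _ _ ⋙ (evaluation _ _).obj (op U) ⋙ forget CommRingCat

instance : PreservesLimitsOfShape ℕᵒᵖ (secF 𝔛 U) := by
  unfold secF
  infer_instance

/-- the sections of the limit are the limit of the sections -/
def secIsLimit : IsLimit ((secF 𝔛 U).mapCone (limit.cone (𝔛.levelRing h))) :=
  isLimitOfPreserves _ (limit.isLimit _)

/-- the projection on sections -/
def πn (n : ℕ) : (𝔛.Osh h).obj.obj (op U) →+* (𝔛.levelObj h n).obj.obj (op U) :=
  ((𝔛.OshProj h n).hom.app (op U)).hom

/-- the transition map on sections -/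
def tn (n : ℕ) : (𝔛.levelObj h (n + 1)).obj.obj (op U) →+* (𝔛.levelObj h n).obj.obj (op U) :=
  ((𝔛.levelMap h n).hom.app (op U)).hom

lemma tn_πn (n : ℕ) (r : (𝔛.Osh h).obj.obj (op U)) :
    tn 𝔛 h U n (πn 𝔛 h U (n + 1) r) = πn 𝔛 h U n r := by
  have := 𝔛.OshProj_levelMap h n
  have h2 := congrArg (fun φ => (φ.hom.app (op U)).hom r) this
  exact h2

lemma πn_injective (r r' : (𝔛.Osh h).obj.obj (op U))
    (hr : ∀ n, πn 𝔛 h U n r = πn 𝔛 h U n r') : r = r' := by
  apply (Types.isLimitEquivSections (secIsLimit 𝔛 h U)).injective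
  apply Subtype.ext
  funext j
  rw [Types.isLimitEquivSections_apply, Types.isLimitEquivSections_apply]
  exact hr j.unop

/-- the transition maps of the tower of sections -/
lemma levelRing_map_app {m n : ℕ} (hmn : m ≤ n)
    (a : ∀ n, (𝔛.levelObj h n).obj.obj (op U)) (ha : ∀ n, tn 𝔛 h U n (a (n + 1)) = a n) :
    (((𝔛.levelRing h).map (homOfLE hmn).op).hom.app (op U)).hom (a n) = a m := by
  induction n, hmn using Nat.le_induction with
  | base =>
    have : (homOfLE (le_refl m)).op = 𝟙 (op m) := rfl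
    rw [this, CategoryTheory.Functor.map_id]
    rfl
  | succ n hmn ih =>
    have e : (homOfLE (hmn.trans (Nat.le_succ n))).op =
        (homOfLE (Nat.le_add_right n 1)).op ≫ (homOfLE hmn).op := rfl
    rw [e, Functor.map_comp, 𝔛.levelRing_map_succ h n]
    change (((𝔛.levelRing h).map (homOfLE hmn).op).hom.app (op U)).hom (tn 𝔛 h U n (a (n + 1))) = a m
    rw [ha n, ih]

lemma πn_surjective (a : ∀ n, (𝔛.levelObj h n).obj.obj (op U))
    (ha : ∀ n, tn 𝔛 h U n (a (n + 1)) = a n) :
    ∃ r : (𝔛.Osh h).obj.obj (op U), ∀ n, πn 𝔛 h U n r = a n := by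
  let s : (𝔛.levelRing h ⋙ secF 𝔛 U).sections :=
    ⟨fun j => a j.unop, by
      intro j j' g
      have hle : j'.unop ≤ j.unop := leOfHom g.unop
      have hg : g = (homOfLE hle).op := Subsingleton.elim _ _
      rw [hg]
      exact levelRing_map_app 𝔛 h U hle a ha⟩
  refine ⟨(Types.isLimitEquivSections (secIsLimit 𝔛 h U)).symm s, fun n => ?_⟩
  exact Types.isLimitEquivSections_symm_apply (secIsLimit 𝔛 h U) s (op n)

end

end Groth.Agent.Lib.Helper9.CplFlat
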