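import Mathlib
import Groth.Agent.Lib.Helper9.CplFlat1
import Groth.Agent.Lib.Helper9.CplFlat2

/-!
# Flatness of `O_S(W) → O_𝔛(p⁻¹ W)` for a formal system over a scheme (helper9)
-/

set_option autoImplicit false

universe u

open CategoryTheory Limits TopologicalSpace Opposite AlgebraicGeometry

namespace Groth.Agent.Lib.Helper9.CplFlat

noncomputable section

variable (𝔛 : FSch.Sys.{u}) (h : 𝔛.IsFormal) {S : Scheme.{u}} (p : ∀ n, 𝔛.X n ⟶ S)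
  (hp : ∀ n, 𝔛.ι n ≫ p (n + 1) = p n) (W : S.Opens)

/-- the map to the sections of level `n` -/
def qn (n : ℕ) : Γ(S, W) →+* (𝔛.levelObj h n).obj.obj (op (p 0 ⁻¹ᵁ W)) :=
  ((FSch.schLevel 𝔛 h p hp n).hom.app (op W)).hom

/-- the map to the sections of the structure sheaf of the formal system -/
def φW : Γ(S, W) →+* (𝔛.Osh h).obj.obj (op (p 0 ⁻¹ᵁ W)) :=
  ((FSch.schSharp 𝔛 h p hp).hom.app (op W)).hom

lemma πn_φW (n : ℕ) (a : Γ(S, W)) :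
    πn 𝔛 h (p 0 ⁻¹ᵁ W) n (φW 𝔛 h p hp W a) = qn 𝔛 h p hp W n a := by
  have := FSch.schSharp_proj 𝔛 h p hp n
  exact congrArg (fun φ => (φ.hom.app (op W)).hom a) this

lemma tn_qn (n : ℕ) (a : Γ(S, W)) :
    tn 𝔛 h (p 0 ⁻¹ᵁ W) n (qn 𝔛 h p hp W (n + 1) a) = qn 𝔛 h p hp W n a := by
  have := FSch.schLevel_levelMap 𝔛 h p hp n
  exact congrArg (fun φ => (φ.hom.app (op W)).hom a) this

lemma qn_eq (n : ℕ) :
    qn 𝔛 h p hp W n =
      ((p n).appLE W (𝔛.lvU h n (p 0 ⁻¹ᵁ W)) (FSch.lvU_p 𝔛 h p hp n W).ge).hom := rfl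

/-- the structure sheaf of the formal system is flat over good opens -/
theorem flat_φW [IsNoetherianRing Γ(S, W)] (I : Ideal Γ(S, W))
    (hq : ∀ n, Function.Surjective (qn 𝔛 h p hp W n))
    (hker : ∀ n, RingHom.ker (qn 𝔛 h p hp W n) = I ^ (n + 1)) :
    (φW 𝔛 h p hp W).Flat := by
  let _ : Algebra Γ(S, W) ((𝔛.Osh h).obj.obj (op (p 0 ⁻¹ᵁ W))) := (φW 𝔛 h p hp W).toAlgebra
  let _ : ∀ n, Algebra Γ(S, W) ((𝔛.levelObj h n).obj.obj (op (p 0 ⁻¹ᵁ W))) :=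
    fun n => (qn 𝔛 h p hp W n).toAlgebra
  change Module.Flat Γ(S, W) ((𝔛.Osh h).obj.obj (op (p 0 ⁻¹ᵁ W)))
  refine flat_of_limit (A := Γ(S, W)) (R := (𝔛.Osh h).obj.obj (op (p 0 ⁻¹ᵁ W))) I
    (fun n => ((𝔛.levelObj h n).obj.obj (op (p 0 ⁻¹ᵁ W)) : Type u))
    (fun n => { toRingHom := πn 𝔛 h (p 0 ⁻¹ᵁ W) n, commutes' := πn_φW 𝔛 h p hp W n })
    (fun n => { toRingHom := tn 𝔛 h (p 0 ⁻¹ᵁ W) n, commutes' := tn_qn 𝔛 h p hp W n })
    hq hker (fun n r => tn_πn 𝔛 h (p 0 ⁻¹ᵁ W) n r) ?_ ?_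
  · intro r hr
    apply πn_injective 𝔛 h (p 0 ⁻¹ᵁ W)
    intro n
    rw [map_zero]
    exact hr n
  · intro a ha
    exact πn_surjective 𝔛 h (p 0 ⁻¹ᵁ W) a ha

end

section

variable {Z S : Scheme.{u}} (f : Z ⟶ S) (W : S.Opens) (V : Z.Opens) (hV : V = f ⁻¹ᵁ W)

include hV in
lemma appLE_surjective_of_eq (hs : Function.Surjective (f.app W).hom) :
    Function.Surjective (f.appLE W V hV.le).hom := by
  subst hV
  rw [← Scheme.Hom.app_eq_appLE]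
  exact hs

include hV in
lemma ker_appLE_of_eq : RingHom.ker (f.appLE W V hV.le).hom = RingHom.ker (f.app W).hom := by
  subst hV
  rw [← Scheme.Hom.app_eq_appLE]

end

end Groth.Agent.Lib.Helper9.CplFlat
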