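import Mathlib
import Groth.Agent.Lib.Helper9.CplFlat3
import Groth.Agent.Lib.Helper1.AffThick

/-!
# Surjectivity of `O_𝔛(U) → O_{X_i}(U_i)` on affine opens of a formal system (helper9)
-/

set_option autoImplicit false

universe u

open CategoryTheory Limits TopologicalSpace Opposite AlgebraicGeometry

namespace Groth.Agent.Lib.Helper9.CplFlat

noncomputable section

variable (𝔛 : FSch.Sys.{u}) (h : 𝔛.IsFormal) (U : (𝔛.X 0).Opens)

lemma toX_preimage_lvU (n : ℕ) : (𝔛.toX n) ⁻¹ᵁ (𝔛.lvU h n U) = U := by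
  change (Opens.map ((𝔛.toX n).base ≫ 𝔛.gInv h n)).obj U = U
  rw [𝔛.toX_base_gInv h n]
  rfl

lemma isAffineOpen_lvU (hU : IsAffineOpen U) (n : ℕ) : IsAffineOpen (𝔛.lvU h n U) := by
  have := 𝔛.toX_isClosedImmersion h n
  apply Groth.Agent.Lib.Helper1.AffThick.isAffineOpen_of_preimage (𝔛.toX n) (𝔛.toX_surjective h n)
  rw [toX_preimage_lvU]
  exact hU

lemma tn_surjective (hU : IsAffineOpen U) (n : ℕ) : Function.Surjective (tn 𝔛 h U n) := by
  have := (h n).1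
  have h1 : tn 𝔛 h U n = ((𝔛.ι n).appLE (𝔛.lvU h (n + 1) U) (𝔛.lvU h n U) (𝔛.lvU_le h n U)).hom := rfl
  rw [h1]
  exact appLE_surjective_of_eq (𝔛.ι n) (𝔛.lvU h (n + 1) U) (𝔛.lvU h n U) (𝔛.lvU_succ h n U).symm
    ((𝔛.ι n).app_surjective _ (isAffineOpen_lvU 𝔛 h U hU (n + 1)))

/-- the composite transition maps on sections -/
def Tn {m n : ℕ} (hmn : m ≤ n) :
    (𝔛.levelObj h n).obj.obj (op U) →+* (𝔛.levelObj h m).obj.obj (op U) :=
  (((𝔛.levelRing h).map (homOfLE hmn).op).hom.app (op U)).hom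

lemma Tn_self (m : ℕ) (a : (𝔛.levelObj h m).obj.obj (op U)) : Tn 𝔛 h U (le_refl m) a = a := by
  have : (homOfLE (le_refl m)).op = 𝟙 (op m) := rfl
  unfold Tn
  rw [this, CategoryTheory.Functor.map_id]
  rfl

lemma Tn_succ {m n : ℕ} (hmn : m ≤ n) (a : (𝔛.levelObj h (n + 1)).obj.obj (op U)) :
    Tn 𝔛 h U (hmn.trans (Nat.le_succ n)) a = Tn 𝔛 h U hmn (tn 𝔛 h U n a) := by
  have e : (homOfLE (hmn.trans (Nat.le_succ n))).op =
      (homOfLE (Nat.le_add_right n 1)).op ≫ (homOfLE hmn).op := rfl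
  unfold Tn
  rw [e, Functor.map_comp, 𝔛.levelRing_map_succ h n]
  rfl

lemma tn_Tn {m n : ℕ} (hmn : m + 1 ≤ n) (a : (𝔛.levelObj h n).obj.obj (op U)) :
    tn 𝔛 h U m (Tn 𝔛 h U hmn a) = Tn 𝔛 h U ((Nat.le_succ m).trans hmn) a := by
  have e : (homOfLE ((Nat.le_succ m).trans hmn)).op =
      (homOfLE hmn).op ≫ (homOfLE (Nat.le_add_right m 1)).op := rfl
  unfold Tn
  rw [e, Functor.map_comp, 𝔛.levelRing_map_succ h m]
  rfl

lemma Tn_congr {m n : ℕ} (h1 h2 : m ≤ n) (a : (𝔛.levelObj h n).obj.obj (op U)) :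
    Tn 𝔛 h U h1 a = Tn 𝔛 h U h2 a := rfl

/-- successive lifts of a section of level `i` -/
def liftSeq (hU : IsAffineOpen U) (i : ℕ) (b : (𝔛.levelObj h i).obj.obj (op U)) :
    ∀ k : ℕ, (𝔛.levelObj h (i + k)).obj.obj (op U)
  | 0 => b
  | k + 1 => (tn_surjective 𝔛 h U hU (i + k) (liftSeq hU i b k)).choose

lemma tn_liftSeq (hU : IsAffineOpen U) (i : ℕ) (b : (𝔛.levelObj h i).obj.obj (op U)) (k : ℕ) :
    tn 𝔛 h U (i + k) (liftSeq 𝔛 h U hU i b (k + 1)) = liftSeq 𝔛 h U hU i b k :=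
  (tn_surjective 𝔛 h U hU (i + k) (liftSeq 𝔛 h U hU i b k)).choose_spec

lemma Tn_liftSeq (hU : IsAffineOpen U) (i : ℕ) (b : (𝔛.levelObj h i).obj.obj (op U)) (k : ℕ) :
    Tn 𝔛 h U (Nat.le_add_right i k) (liftSeq 𝔛 h U hU i b k) = b := by
  induction k with
  | zero => exact Tn_self 𝔛 h U i b
  | succ k ih =>
    have := Tn_succ 𝔛 h U (Nat.le_add_right i k) (liftSeq 𝔛 h U hU i b (k + 1))
    rw [tn_liftSeq, ih] at this
    exact this

/-- **Surjectivity of the projections on affine opens.** -/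
theorem πn_surjective_of_isAffineOpen (hU : IsAffineOpen U) (i : ℕ) :
    Function.Surjective (πn 𝔛 h U i) := by
  intro b
  obtain ⟨r, hr⟩ := πn_surjective 𝔛 h U
    (fun n => Tn 𝔛 h U (Nat.le_add_left n i) (liftSeq 𝔛 h U hU i b n)) (by
      intro n
      have h1 : n + 1 ≤ i + (n + 1) := Nat.le_add_left _ _
      have h2 := tn_Tn 𝔛 h U h1 (liftSeq 𝔛 h U hU i b (n + 1))
      rw [h2]
      have h3 := Tn_succ 𝔛 h U (Nat.le_add_left n i) (liftSeq 𝔛 h U hU i b (n + 1))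
      rw [tn_liftSeq] at h3
      exact h3)
  refine ⟨r, ?_⟩
  rw [hr i]
  exact Tn_liftSeq 𝔛 h U hU i b i

end

end Groth.Agent.Lib.Helper9.CplFlat
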