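import Mathlib
import Groth.Agent.Lib.Helper9.OshSurj

/-!
# Units of the structure sheaf of a formal system on affine opens (helper9)
-/

set_option autoImplicit false

universe u

open CategoryTheory Limits TopologicalSpace Opposite AlgebraicGeometry

namespace Groth.Agent.Lib.Helper9.CplFlat

noncomputable section

lemma isNilpotent_of_appLE_eq_zero {Z S : Scheme.{u}} (f : Z ⟶ S) (hf : Function.Surjective f)
    (W : S.Opens) (V : Z.Opens) (hV : V = f ⁻¹ᵁ W) (hW : IsCompact (W : Set S)) (e : Γ(S, W))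
    (he : (f.appLE W V hV.le).hom e = 0) : IsNilpotent e := by
  subst hV
  rw [← Scheme.Hom.app_eq_appLE] at he
  exact Groth.Agent.Lib.Helper1.AffThick.isNilpotent_of_app_eq_zero f hf hW e he

/-- units lift along a surjection with nil kernel -/
lemma isUnit_of_map_of_nil {A B : Type u} [CommRing A] [CommRing B] (g : A →+* B)
    (hg : Function.Surjective g) (hnil : ∀ e, g e = 0 → IsNilpotent e) (a : A) (ha : IsUnit (g a)) :
    IsUnit a := by
  obtain ⟨b, hb⟩ := ha.exists_right_inv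
  obtain ⟨v, rfl⟩ := hg b
  have h1 : IsNilpotent (a * v - 1) := hnil _ (by rw [map_sub, map_mul, hb, map_one, sub_self])
  have h2 : IsUnit (a * v) := by
    have : a * v = (a * v - 1) + 1 := by ring
    rw [this]
    exact h1.isUnit_add_one
  exact isUnit_of_mul_isUnit_left h2

variable (𝔛 : FSch.Sys.{u}) (h : 𝔛.IsFormal) (U : (𝔛.X 0).Opens)

lemma isUnit_of_tn (hU : IsAffineOpen U) (n : ℕ) (a : (𝔛.levelObj h (n + 1)).obj.obj (op U))
    (ha : IsUnit (tn 𝔛 h U n a)) : IsUnit a := by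
  refine isUnit_of_map_of_nil (tn 𝔛 h U n) (tn_surjective 𝔛 h U hU n) ?_ a ha
  intro e he
  exact isNilpotent_of_appLE_eq_zero (𝔛.ι n) (h n).2 (𝔛.lvU h (n + 1) U) (𝔛.lvU h n U)
    (𝔛.lvU_succ h n U).symm (isAffineOpen_lvU 𝔛 h U hU (n + 1)).isCompact e he

/-- a section of `O_𝔛` over an affine open whose image in `O_{X_0}` is a unit is a unit -/
theorem isUnit_of_isUnit_π0 (hU : IsAffineOpen U) (r : (𝔛.Osh h).obj.obj (op U))
    (hr : IsUnit (πn 𝔛 h U 0 r)) : IsUnit r := by
  have hall : ∀ n, IsUnit (πn 𝔛 h U n r) := by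
    intro n
    induction n with
    | zero => exact hr
    | succ n ih =>
      apply isUnit_of_tn 𝔛 h U hU n
      rw [tn_πn]
      exact ih
  obtain ⟨v, hv⟩ := πn_surjective 𝔛 h U (fun n => ((hall n).unit⁻¹ : _ˣ).val) (by
    intro n
    have h1 : tn 𝔛 h U n (πn 𝔛 h U (n + 1) r) * tn 𝔛 h U n ((hall (n + 1)).unit⁻¹ : _ˣ).val = 1 := by
      rw [← map_mul, IsUnit.mul_val_inv, map_one]
    rw [tn_πn] at h1
    have h2 : πn 𝔛 h U n r * ((hall n).unit⁻¹ : _ˣ).val = 1 := IsUnit.mul_val_inv (hall n)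
    have h3 : IsUnit (πn 𝔛 h U n r) := hall n
    exact h3.mul_left_cancel (h1.trans h2.symm))
  refine IsUnit.of_mul_eq_one v ?_
  apply πn_injective 𝔛 h U
  intro n
  rw [map_mul, hv n, map_one]
  exact IsUnit.mul_val_inv (hall n)

end

end Groth.Agent.Lib.Helper9.CplFlat
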