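import Mathlib

/-! Jacobian criterion for smoothness of `A/I` at a prime, for `A` smooth over `R`
(`Algebra.IsSmoothAt R P ↔` the ideal is locally generated by elements with independent differentials). -/

set_option autoImplicit false
universe u

namespace Groth.Agent.Lib.Helper9.JacobianPt

open TensorProduct KaehlerDifferential IsLocalRing

section general

/-- Nakayama for spanning families. -/
theorem span_eq_top_of_span_tmul_eq_top {R M : Type*} [CommRing R] [IsLocalRing R] [AddCommGroup M]
    [Module R M] [Module.Finite R M] {ι : Type*} (f : ι → M)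
    (h : Submodule.span (ResidueField R) (Set.range fun i => (1 : ResidueField R) ⊗ₜ[R] f i) = ⊤) :
    Submodule.span R (Set.range f) = ⊤ := by
  rw [← IsLocalRing.map_tensorProduct_mk_eq_top, Submodule.map_span,
    ← Submodule.restrictScalars_span R (ResidueField R) Ideal.Quotient.mk_surjective,
    Submodule.restrictScalars_eq_top_iff, ← Set.range_comp]
  exact h

theorem span_tmul_eq_top {R M L : Type*} [CommRing R] [AddCommGroup M] [Module R M] [CommRing L]
    [Algebra R L] {ι : Type*} (f : ι → M) (h : Submodule.span R (Set.range f) = ⊤) :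
    Submodule.span L (Set.range fun i => (1 : L) ⊗ₜ[R] f i) = ⊤ := by
  rw [eq_top_iff]
  rintro z -
  induction z using TensorProduct.induction_on with
  | zero => exact Submodule.zero_mem _
  | add x y hx hy => exact Submodule.add_mem _ hx hy
  | tmul c m =>
    have hm : m ∈ Submodule.span R (Set.range f) := h ▸ Submodule.mem_top
    induction hm using Submodule.span_induction generalizing c with
    | mem x hx =>
      obtain ⟨i, rfl⟩ := hx
      have : c ⊗ₜ[R] f i = c • ((1 : L) ⊗ₜ[R] f i) := by
        rw [TensorProduct.smul_tmul', smul_eq_mul, mul_one]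
      rw [this]
      exact Submodule.smul_mem _ _ (Submodule.subset_span ⟨i, rfl⟩)
    | zero => simp
    | add x y _ _ hx hy =>
      rw [TensorProduct.tmul_add]
      exact Submodule.add_mem _ (hx c) (hy c)
    | smul r x _ hx =>
      rw [← TensorProduct.smul_tmul]
      exact hx _

/-- a linear map sending a spanning family to a linearly independent family is injective. -/
theorem injective_of_linearIndependent_comp {K V W : Type*} [Field K] [AddCommGroup V] [Module K V]
    [AddCommGroup W] [Module K W] {ι : Type*} (v : ι → V) (hv : Submodule.span K (Set.range v) = ⊤)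
    (f : V →ₗ[K] W) (hli : LinearIndependent K (f ∘ v)) : Function.Injective f := by
  rw [injective_iff_map_eq_zero]
  intro x hx
  have hxs : x ∈ Submodule.span K (Set.range v) := hv ▸ Submodule.mem_top
  obtain ⟨c, rfl⟩ := (Finsupp.mem_span_range_iff_exists_finsupp).mp hxs
  have h2 : Finsupp.linearCombination K (f ∘ v) c = 0 := by
    rw [Finsupp.linearCombination_apply]
    rw [map_finsuppSum] at hx
    simpa using hx
  have hc : c = 0 := (linearIndependent_iff.mp hli) c h2
  simp [hc]

end general

section setup

variable {A : Type u} [CommRing A] (I : Ideal A) (P : Ideal (A ⧸ I)) [P.IsPrime]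

/-- the prime of `A` below `P` -/
abbrev qq : Ideal A := P.comap (Ideal.Quotient.mk I)

/-- the surjection `A_q → (A/I)_P`. -/
noncomputable def fP : Localization.AtPrime (qq I P) →+* Localization.AtPrime P :=
  IsLocalization.lift (M := (qq I P).primeCompl)
    (g := (algebraMap (A ⧸ I) (Localization.AtPrime P)).comp (Ideal.Quotient.mk I))
    (fun x => by
      have hx : Ideal.Quotient.mk I x.1 ∈ P.primeCompl := x.2
      simpa using IsLocalization.map_units (M := P.primeCompl) (Localization.AtPrime P)
        ⟨Ideal.Quotient.mk I x.1, hx⟩)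

theorem fP_algebraMap (a : A) :
    fP I P (algebraMap A _ a) = algebraMap (A ⧸ I) (Localization.AtPrime P) (Ideal.Quotient.mk I a) := by
  simp [fP]

theorem fP_surjective : Function.Surjective (fP I P) := by
  intro x
  obtain ⟨x, ⟨s, hs⟩, rfl⟩ := IsLocalization.exists_mk'_eq P.primeCompl x
  obtain ⟨x, rfl⟩ := Ideal.Quotient.mk_surjective x
  obtain ⟨s, rfl⟩ := Ideal.Quotient.mk_surjective s
  refine ⟨IsLocalization.mk' (M := (qq I P).primeCompl) _ x ⟨s, hs⟩, ?_⟩
  simp [fP, IsLocalization.lift_mk', Units.mul_inv_eq_iff_eq_mul, IsUnit.liftRight]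

theorem ker_fP : RingHom.ker (fP I P) = I.map (algebraMap A (Localization.AtPrime (qq I P))) := by
  refine le_antisymm ?_ (Ideal.map_le_iff_le_comap.mpr fun x hx ↦ ?_)
  · intro x hx
    obtain ⟨x, s, rfl⟩ := IsLocalization.exists_mk'_eq (qq I P).primeCompl x
    obtain ⟨a, ha, e⟩ : ∃ a ∈ P.primeCompl, a * Ideal.Quotient.mk I x = 0 := by
      simpa [fP, IsLocalization.lift_mk', IsLocalization.map_eq_zero_iff P.primeCompl] using hx
    obtain ⟨a, rfl⟩ := Ideal.Quotient.mk_surjective a
    rw [IsLocalization.mk'_mem_map_algebraMap_iff]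
    refine ⟨a, ha, ?_⟩
    rw [← map_mul, Ideal.Quotient.eq_zero_iff_mem] at e
    exact e
  · rw [Ideal.mem_comap, RingHom.mem_ker, fP_algebraMap, Ideal.Quotient.eq_zero_iff_mem.mpr hx, map_zero]

/-- `A_q`-algebra structure on `(A/I)_P`. -/
@[reducible] noncomputable def algPS : Algebra (Localization.AtPrime (qq I P)) (Localization.AtPrime P) :=
  (fP I P).toAlgebra

omit [P.IsPrime] in
theorem le_qq : I ≤ qq I P := by
  intro a ha
  rw [Ideal.mem_comap, Ideal.Quotient.eq_zero_iff_mem.mpr ha]
  exact zero_mem _

/-- the map `A/I → κ(q)`. -/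
noncomputable def quotToK : A ⧸ I →+* (qq I P).ResidueField :=
  Ideal.Quotient.lift I (algebraMap A (qq I P).ResidueField) (fun a ha => by
    rw [Ideal.algebraMap_residueField_eq_zero]
    exact le_qq I P ha)

/-- the map `(A/I)_P → κ(q)`. -/
noncomputable def toK : Localization.AtPrime P →+* (qq I P).ResidueField :=
  IsLocalization.lift (M := P.primeCompl) (g := quotToK I P) (fun y => by
    obtain ⟨y, hy⟩ := y
    obtain ⟨a, rfl⟩ := Ideal.Quotient.mk_surjective y
    have : a ∉ qq I P := hy
    simp only [quotToK, Ideal.Quotient.lift_mk]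
    rw [isUnit_iff_ne_zero, Ne, Ideal.algebraMap_residueField_eq_zero]
    exact this)

/-- `(A/I)_P`-algebra structure on `κ(q)`. -/
@[reducible] noncomputable def algSK : Algebra (Localization.AtPrime P) (qq I P).ResidueField :=
  (toK I P).toAlgebra

attribute [local instance] algPS algSK

instance : IsScalarTower (Localization.AtPrime (qq I P)) (Localization.AtPrime P) (qq I P).ResidueField := by
  refine IsScalarTower.of_algebraMap_eq' ?_
  apply IsLocalization.ringHom_ext (qq I P).primeCompl
  ext a
  simp only [RingHom.comp_apply, RingHom.algebraMap_toAlgebra, fP_algebraMap]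
  simp [toK, quotToK]
  rfl

theorem maximalIdeal_le_ker_toK :
    maximalIdeal (Localization.AtPrime P) ≤
      RingHom.ker (algebraMap (Localization.AtPrime P) (qq I P).ResidueField) := by
  intro x hx
  obtain ⟨z, rfl⟩ := fP_surjective I P x
  have hz : z ∈ maximalIdeal (Localization.AtPrime (qq I P)) := by
    rw [mem_maximalIdeal, mem_nonunits_iff]
    intro hu
    exact hx (hu.map (fP I P))
  rw [RingHom.mem_ker]
  change algebraMap (Localization.AtPrime P) (qq I P).ResidueField
    (algebraMap (Localization.AtPrime (qq I P)) (Localization.AtPrime P) z) = 0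
  rw [← IsScalarTower.algebraMap_apply]
  exact (IsLocalRing.residue_eq_zero_iff z).mpr hz

variable (R : Type u) [CommRing R] [Algebra R A]

instance : IsScalarTower R (Localization.AtPrime (qq I P)) (Localization.AtPrime P) := by
  refine IsScalarTower.of_algebraMap_eq fun r => ?_
  rw [IsScalarTower.algebraMap_apply R A (Localization.AtPrime (qq I P)), RingHom.algebraMap_toAlgebra,
    fP_algebraMap, IsScalarTower.algebraMap_apply R (A ⧸ I) (Localization.AtPrime P),
    IsScalarTower.algebraMap_apply R A (A ⧸ I)]
  rfl

section smooth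

variable [Algebra.Smooth R A]

instance : Algebra.FormallySmooth R (Localization.AtPrime (qq I P)) :=
  have : Algebra.FormallyEtale A (Localization.AtPrime (qq I P)) := .of_isLocalization (qq I P).primeCompl
  .comp R A _

instance : Module.Finite (Localization.AtPrime (qq I P)) Ω[Localization.AtPrime (qq I P)⁄R] := by
  have : Algebra.FormallyEtale A (Localization.AtPrime (qq I P)) := .of_isLocalization (qq I P).primeCompl
  exact Module.Finite.equiv (tensorKaehlerEquivOfFormallyEtale R A (Localization.AtPrime (qq I P)))

instance : Module.Free (Localization.AtPrime (qq I P)) Ω[Localization.AtPrime (qq I P)⁄R] := by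
  have : Algebra.FormallyEtale A (Localization.AtPrime (qq I P)) := .of_isLocalization (qq I P).primeCompl
  have : Module.Projective (Localization.AtPrime (qq I P)) Ω[Localization.AtPrime (qq I P)⁄R] :=
    Module.Projective.of_equiv (tensorKaehlerEquivOfFormallyEtale R A (Localization.AtPrime (qq I P)))
  exact Module.free_of_flat_of_isLocalRing

theorem criterion (hI : I.FG) :
    Algebra.FormallySmooth R (Localization.AtPrime P) ↔
      Function.Injective (cotangentComplexBaseChange R (Localization.AtPrime P)
        (Localization.AtPrime (qq I P)) (qq I P).ResidueField) := by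
  apply Algebra.FormallySmooth.iff_injective_cotangentComplexBaseChange
  · exact fP_surjective I P
  · change (RingHom.ker (fP I P)).FG
    rw [ker_fP]
    exact hI.map _
  · exact maximalIdeal_le_ker_toK I P

/-- comparison of the fibres of the differentials -/
noncomputable def eR : (qq I P).ResidueField ⊗[Localization.AtPrime (qq I P)]
      Ω[Localization.AtPrime (qq I P)⁄R] ≃ₗ[(qq I P).ResidueField]
    (qq I P).ResidueField ⊗[A] Ω[A⁄R] :=
  have : Algebra.FormallyEtale A (Localization.AtPrime (qq I P)) := .of_isLocalization (qq I P).primeCompl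
  (AlgebraTensorModule.congr (LinearEquiv.refl (qq I P).ResidueField (qq I P).ResidueField)
    (tensorKaehlerEquivOfFormallyEtale R A (Localization.AtPrime (qq I P))).symm) ≪≫ₗ
  (AlgebraTensorModule.cancelBaseChange A (Localization.AtPrime (qq I P)) (qq I P).ResidueField
    (qq I P).ResidueField Ω[A⁄R])

theorem eR_tmul_D (c : (qq I P).ResidueField) (a : A) :
    eR I P R (c ⊗ₜ D R (Localization.AtPrime (qq I P)) (algebraMap A _ a)) = c ⊗ₜ D R A a := by
  have : Algebra.FormallyEtale A (Localization.AtPrime (qq I P)) := .of_isLocalization (qq I P).primeCompl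
  simp [eR, tensorKaehlerEquivOfFormallyEtale_symm_D_algebraMap]

local notation "Pq" => Localization.AtPrime (qq I P)
local notation "S" => Localization.AtPrime P
local notation "K" => Ideal.ResidueField (qq I P)

/-- the element of the kernel defined by `g ∈ I`. -/
noncomputable def jg (g : A) (hg : g ∈ I) : RingHom.ker (algebraMap Pq S) :=
  ⟨algebraMap A Pq g, by
    change algebraMap A Pq g ∈ RingHom.ker (fP I P)
    rw [ker_fP]; exact Ideal.mem_map_of_mem _ hg⟩

theorem eR_cc (g : A) (hg : g ∈ I) :
    eR I P R (cotangentComplexBaseChange R S Pq K (1 ⊗ₜ jg I P g hg)) = 1 ⊗ₜ D R A g := by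
  rw [cotangentComplexBaseChange_tmul, one_smul, kerToTensor_apply]
  exact eR_tmul_D I P R 1 g

theorem map_span_jg (s : Set A) (hs : s ⊆ I) :
    Submodule.map (RingHom.ker (algebraMap Pq S)).subtype
      (Submodule.span Pq (Set.range (fun g : s => jg I P g.1 (hs g.2)))) =
      Ideal.span (algebraMap A Pq '' s) := by
  rw [Submodule.map_span, ← Set.range_comp, Set.image_eq_range]
  rfl

theorem span_jg_eq_top_iff (s : Set A) (hs : s ⊆ I) :
    Submodule.span Pq (Set.range (fun g : s => jg I P g.1 (hs g.2))) = ⊤ ↔
      I.map (algebraMap A Pq) = Ideal.span (algebraMap A Pq '' s) := by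
  rw [← map_span_jg I P s hs, ← ker_fP]
  constructor
  · intro h
    rw [h, Submodule.map_subtype_top]
    rfl
  · intro h
    apply Submodule.map_injective_of_injective (RingHom.ker (algebraMap Pq S)).subtype_injective
    rw [← h, Submodule.map_subtype_top]
    rfl

theorem injective_of_linearIndependent (s : Finset A) (hs : (↑s : Set A) ⊆ I)
    (hspan : I.map (algebraMap A Pq) = Ideal.span (algebraMap A Pq '' (↑s : Set A)))
    (hli : LinearIndependent K (fun g : (↑s : Set A) => (1 : K) ⊗ₜ[A] D R A (g : A))) :
    Function.Injective (cotangentComplexBaseChange R S Pq K) := by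
  have hv := span_tmul_eq_top (L := K) _ ((span_jg_eq_top_iff I P ↑s hs).mpr hspan)
  have hinj := injective_of_linearIndependent_comp _ hv
    ((eR I P R).toLinearMap ∘ₗ cotangentComplexBaseChange R S Pq K) (by
      have hfun : (⇑((eR I P R).toLinearMap ∘ₗ cotangentComplexBaseChange R S Pq K) ∘
          fun g : (↑s : Set A) => (1 : K) ⊗ₜ[Pq] jg I P g.1 (hs g.2)) =
          fun g : (↑s : Set A) => (1 : K) ⊗ₜ[A] D R A (g : A) :=
        funext fun g => eR_cc I P R g.1 (hs g.2)
      rw [hfun]
      exact hli)
  exact Function.Injective.of_comp (f := ⇑(eR I P R)) (by simpa using hinj)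

open Classical in
theorem exists_of_injective [IsNoetherianRing A]
    (hinj : Function.Injective (cotangentComplexBaseChange R S Pq K)) :
    ∃ s : Finset A, (↑s : Set A) ⊆ I ∧
      I.map (algebraMap A Pq) = Ideal.span (algebraMap A Pq '' (↑s : Set A)) ∧
      LinearIndependent K (fun g : (↑s : Set A) => (1 : K) ⊗ₜ[A] D R A (g : A)) := by
  have hNoeth : IsNoetherianRing Pq := IsLocalization.isNoetherianRing (qq I P).primeCompl _ inferInstance
  have hfin : Module.Finite Pq (RingHom.ker (algebraMap Pq S)) :=
    Module.Finite.of_fg (IsNoetherian.noetherian _)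
  set w : ↥(I : Set A) → K ⊗[Pq] RingHom.ker (algebraMap Pq S) :=
    fun g => 1 ⊗ₜ jg I P g.1 g.2 with hw_def
  have hw : Submodule.span K (Set.range w) = ⊤ :=
    span_tmul_eq_top (L := K) _ ((span_jg_eq_top_iff I P (I : Set A) le_rfl).mpr rfl)
  obtain ⟨κ, a, ha_inj, ha_span, ha_li⟩ := exists_linearIndependent' K w
  rw [hw] at ha_span
  have : Finite κ := ha_li.finite_of_isNoetherian
  have : Fintype κ := Fintype.ofFinite κ
  let s : Finset A := Finset.univ.image (fun k => (a k).1)
  have hs : (↑s : Set A) ⊆ I := by
    intro g hg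
    obtain ⟨k, -, rfl⟩ := Finset.mem_image.mp hg
    exact (a k).2
  have hrange : Set.range (w ∘ a) ⊆ Set.range (fun g : (↑s : Set A) => (1 : K) ⊗ₜ[Pq] jg I P g.1 (hs g.2)) := by
    rintro _ ⟨k, rfl⟩
    exact ⟨⟨(a k).1, Finset.mem_image.mpr ⟨k, Finset.mem_univ _, rfl⟩⟩, rfl⟩
  have hspan' : Submodule.span K (Set.range (fun g : (↑s : Set A) => (1 : K) ⊗ₜ[Pq] jg I P g.1 (hs g.2))) = ⊤ := by
    rw [eq_top_iff, ← ha_span]
    exact Submodule.span_mono hrange
  refine ⟨s, hs, (span_jg_eq_top_iff I P ↑s hs).mp (span_eq_top_of_span_tmul_eq_top _ hspan'), ?_⟩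
  -- linear independence
  have hex : ∀ g : (↑s : Set A), ∃ k : κ, (a k).1 = g.1 := by
    intro g
    obtain ⟨k, -, hk⟩ := Finset.mem_image.mp g.2
    exact ⟨k, hk⟩
  choose r hr using hex
  have hr_inj : Function.Injective r := by
    intro g g' h
    apply Subtype.ext
    rw [← hr g, ← hr g', h]
  have h1 : LinearIndependent K ((w ∘ a) ∘ r) := ha_li.comp r hr_inj
  have h2 := h1.map' ((eR I P R).toLinearMap ∘ₗ cotangentComplexBaseChange R S Pq K) (by
    rw [LinearMap.ker_eq_bot]
    exact (eR I P R).injective.comp hinj)
  have hfun : (⇑((eR I P R).toLinearMap ∘ₗ cotangentComplexBaseChange R S Pq K) ∘ ((w ∘ a) ∘ r)) =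
      fun g : (↑s : Set A) => (1 : K) ⊗ₜ[A] D R A (g : A) := by
    funext g
    have := eR_cc I P R (a (r g)).1 (a (r g)).2
    simp only [Function.comp_apply, LinearMap.coe_comp, LinearEquiv.coe_coe, hw_def]
    rw [this, hr g]
  rw [hfun] at h2
  exact h2

end smooth

end setup


section final

/-- **Jacobian criterion at a prime.** `R` Noetherian, `A` smooth over `R`, `I` an ideal of `A`, `P` a prime of `A/I`
with preimage `q`. Then `A/I` is smooth over `R` at `P` iff `I A_q` is generated by finitely many elements of `I`
whose differentials are linearly independent in `κ(q) ⊗ Ω_{A/R}`. -/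
theorem isSmoothAt_iff (R A : Type u) [CommRing R] [CommRing A] [IsNoetherianRing R] [Algebra R A]
    [Algebra.Smooth R A] (I : Ideal A) (P : Ideal (A ⧸ I)) [P.IsPrime] :
    Algebra.IsSmoothAt R P ↔ ∃ s : Finset A, (↑s : Set A) ⊆ (I : Set A) ∧
      Ideal.map (algebraMap A (Localization.AtPrime (qq I P))) I =
        Ideal.span ((algebraMap A (Localization.AtPrime (qq I P))) '' (↑s : Set A)) ∧
      LinearIndependent (qq I P).ResidueField
        (fun g : ↥s => (1 : (qq I P).ResidueField) ⊗ₜ[A] KaehlerDifferential.D R A (g : A)) := by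
  have hA : IsNoetherianRing A := Algebra.FiniteType.isNoetherianRing R A
  have hIfg : I.FG := IsNoetherian.noetherian I
  change Algebra.FormallySmooth R (Localization.AtPrime P) ↔ _
  rw [criterion I P R hIfg]
  constructor
  · intro h
    exact exists_of_injective I P R h
  · rintro ⟨s, hs, hspan, hli⟩
    exact injective_of_linearIndependent I P R s hs hspan hli

end final

end Groth.Agent.Lib.Helper9.JacobianPt
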