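import Mathlib
import Groth.Agent.Lib.Helper9.JacobianPt
import Groth.Agent.Lib.Helper7.DimFT
import Groth.Agent.Lib.Helper12.RegularSeqQuot
import Groth.Agent.Lib.Helper23.FieldSep3
import Groth.Agent.Lib.Helper21.RegularLocal

set_option autoImplicit false
universe u

namespace Groth.Agent.Lib.Helper9.SmoothDim

open TensorProduct KaehlerDifferential IsLocalRing Groth.Agent.Lib.Helper9.JacobianPt

section general

/-- over a local ring `R` with a derivation-like structure: `x ↦ 1 ⊗ D x` kills `m²`. -/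
theorem tmul_D_eq_zero_of_mem_sq {k R : Type*} [CommRing k] [CommRing R] [Algebra k R] [IsLocalRing R]
    (x : R) (hx : x ∈ maximalIdeal R ^ 2) :
    (1 : ResidueField R) ⊗ₜ[R] D k R x = 0 := by
  rw [pow_two] at hx
  induction hx using Submodule.mul_induction_on' with
  | mem_mul_mem a ha b hb =>
    rw [Derivation.leibniz, TensorProduct.tmul_add, ← TensorProduct.smul_tmul,
      ← TensorProduct.smul_tmul, Algebra.smul_def, Algebra.smul_def, mul_one, mul_one,
      ResidueField.algebraMap_eq, (residue_eq_zero_iff a).mpr ha, (residue_eq_zero_iff b).mpr hb,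
      TensorProduct.zero_tmul, TensorProduct.zero_tmul, add_zero]
  | add x _ y _ hx hy =>
    rw [map_add, TensorProduct.tmul_add, hx, hy, add_zero]

theorem tmul_D_mul {k R : Type*} [CommRing k] [CommRing R] [Algebra k R] [IsLocalRing R]
    (a f : R) (hf : f ∈ maximalIdeal R) :
    (1 : ResidueField R) ⊗ₜ[R] D k R (a * f) = residue R a • ((1 : ResidueField R) ⊗ₜ[R] D k R f) := by
  rw [Derivation.leibniz, TensorProduct.tmul_add, ← TensorProduct.smul_tmul,
    ← TensorProduct.smul_tmul, Algebra.smul_def, Algebra.smul_def, mul_one, mul_one,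
    ResidueField.algebraMap_eq, (residue_eq_zero_iff f).mpr hf, TensorProduct.zero_tmul, add_zero,
    TensorProduct.smul_tmul', smul_eq_mul, mul_one]

/-- linear independence of differentials in the fibre gives independence modulo `m²`. -/
theorem mem_maximalIdeal_of_sum_mem_sq {k R : Type*} [CommRing k] [CommRing R] [Algebra k R]
    [IsLocalRing R] {ι : Type*} [Fintype ι] (f : ι → R) (hf : ∀ i, f i ∈ maximalIdeal R)
    (hli : LinearIndependent (ResidueField R) fun i => (1 : ResidueField R) ⊗ₜ[R] D k R (f i))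
    (a : ι → R) (ha : ∑ j, a j * f j ∈ maximalIdeal R ^ 2) (j : ι) : a j ∈ maximalIdeal R := by
  have h0 := tmul_D_eq_zero_of_mem_sq (k := k) _ ha
  rw [map_sum, TensorProduct.tmul_sum] at h0
  simp only [tmul_D_mul (k := k) _ _ (hf _)] at h0
  have := (Fintype.linearIndependent_iff.mp hli) (fun i => residue R (a i)) h0 j
  exact (residue_eq_zero_iff _).mp this

end general

section Q

instance smooth_mvPolynomial (R : Type u) [CommRing R] (n : ℕ) :
    Algebra.Smooth R (MvPolynomial (Fin n) R) := {}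

variable (k : Type u) [Field k] (N : ℕ) (I : Ideal (MvPolynomial (Fin N) k))
  (m : Ideal (MvPolynomial (Fin N) k ⧸ I)) [hm : m.IsMaximal]

local notation "Pol" => MvPolynomial (Fin N) k
local notation "q" => qq I m
local notation "Pq" => Localization.AtPrime (qq I m)
local notation "K" => Ideal.ResidueField (qq I m)

instance qq_isMaximal : (qq I m).IsMaximal :=
  Ideal.comap_isMaximal_of_surjective (Ideal.Quotient.mk I) Ideal.Quotient.mk_surjective

instance : IsNoetherianRing Pq :=
  IsLocalization.isNoetherianRing (qq I m).primeCompl _ inferInstance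

theorem isRegularLocalRing_Pq : IsRegularLocalRing Pq :=
  Groth.Agent.Lib.Helper23.FieldSep.isRegularLocalRing_of_formallySmooth_field k Pq

theorem ringKrullDim_Pq : ringKrullDim Pq = N := by
  rw [IsLocalization.AtPrime.ringKrullDim_eq_height (qq I m) Pq,
    Groth.Agent.Lib.Helper7.DimFT.height_eq_of_isMaximal_mvPolynomial k N (qq I m) inferInstance]
  rfl

theorem algebraMap_mem_maximalIdeal (g : Pol) (hg : g ∈ I) :
    algebraMap Pol Pq g ∈ maximalIdeal Pq :=
  (IsLocalization.AtPrime.to_map_mem_maximal_iff Pq (qq I m) g).mpr (le_qq I m hg)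

theorem linearIndependent_Pq (s : Finset Pol)
    (hli : LinearIndependent K (fun g : s => (1 : K) ⊗ₜ[Pol] D k Pol (g : Pol))) :
    LinearIndependent K (fun g : s => (1 : K) ⊗ₜ[Pq] D k Pq (algebraMap Pol Pq (g : Pol))) := by
  apply LinearIndependent.of_comp (eR I m k).toLinearMap
  have : (⇑(eR I m k).toLinearMap ∘ fun g : s => (1 : K) ⊗ₜ[Pq] D k Pq (algebraMap Pol Pq (g : Pol)))
      = fun g : s => (1 : K) ⊗ₜ[Pol] D k Pol (g : Pol) := by
    funext g
    exact eR_tmul_D I m k 1 g
  rw [this]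
  exact hli

theorem regular_quot (s : Finset Pol) (hs : (↑s : Set Pol) ⊆ I)
    (hli : LinearIndependent K (fun g : s => (1 : K) ⊗ₜ[Pol] D k Pol (g : Pol))) :
    IsRegularLocalRing (Pq ⧸ Ideal.span (algebraMap Pol Pq '' (↑s : Set Pol))) ∧
    ringKrullDim (Pq ⧸ Ideal.span (algebraMap Pol Pq '' (↑s : Set Pol))) + s.card = N := by
  have := isRegularLocalRing_Pq k N I m
  let e := s.equivFin
  let f : Fin s.card → Pq := fun i => algebraMap Pol Pq (e.symm i : Pol)
  have hf : ∀ i, f i ∈ maximalIdeal Pq := fun i =>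
    algebraMap_mem_maximalIdeal k N I m _ (hs (e.symm i).2)
  have hli' : LinearIndependent K fun i => (1 : K) ⊗ₜ[Pq] D k Pq (f i) :=
    (linearIndependent_Pq k N I m s hli).comp e.symm e.symm.injective
  have hrange : Set.range f = algebraMap Pol Pq '' (↑s : Set Pol) := by
    ext x
    constructor
    · rintro ⟨i, rfl⟩
      exact ⟨(e.symm i : Pol), (e.symm i).2, rfl⟩
    · rintro ⟨g, hg, rfl⟩
      exact ⟨e ⟨g, hg⟩, by simp [f]⟩
  obtain ⟨h1, h2⟩ := Groth.Agent.Lib.Helper12.isRegularLocalRing_quotient_and_isRegular_of_indep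
    s.card Pq f hf (fun a ha j => mem_maximalIdeal_of_sum_mem_sq (k := k) f hf hli' a ha j)
  rw [hrange] at h1
  refine ⟨h1, ?_⟩
  have h3 := ringKrullDim_add_length_eq_ringKrullDim_of_isRegular (List.ofFn f) h2
  rw [List.length_ofFn, ringKrullDim_Pq] at h3
  have h4 : Ideal.ofList (List.ofFn f) = Ideal.span (algebraMap Pol Pq '' (↑s : Set Pol)) := by
    rw [← hrange]
    unfold Ideal.ofList
    congr 1
    ext x
    simp [List.mem_ofFn]
  rw [← ringKrullDim_eq_of_ringEquiv (Ideal.quotEquivOfEq h4)]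
  exact h3

/-- `κ(q)` as an algebra over the quotient. -/
@[reducible] noncomputable def algBK : Algebra (Pol ⧸ I) K := (quotToK I m).toAlgebra

attribute [local instance] algBK

instance : IsScalarTower Pol (Pol ⧸ I) K :=
  IsScalarTower.of_algebraMap_eq (R := Pol) (S := Pol ⧸ I) (A := K) fun _ => rfl

/-- the presentation as an extension -/
noncomputable def ext : Algebra.Extension.{u} k (Pol ⧸ I) where
  Ring := Pol
  σ := Function.surjInv Ideal.Quotient.mk_surjective
  algebraMap_σ := Function.surjInv_eq _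

/-- the span of the differentials of the elements of `I` in the fibre of `Ω` at `q`. -/
noncomputable def WW : Submodule K (K ⊗[Pol] Ω[Pol⁄k]) :=
  Submodule.span K (Set.range fun g : I => (1 : K) ⊗ₜ[Pol] D k Pol (g : Pol))

theorem finrank_fibre : Module.finrank K (K ⊗[Pol] Ω[Pol⁄k]) = N := by
  rw [Module.finrank_baseChange, Module.finrank_eq_card_basis (mvPolynomialBasis k (Fin N)),
    Fintype.card_fin]

theorem finrank_WW_add :
    Module.finrank K (WW k N I m) + Module.finrank K (K ⊗[Pol ⧸ I] Ω[(Pol ⧸ I)⁄k]) = N := by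
  let E := ext k N I
  let ψ₁ : K ⊗[Pol ⧸ I] E.Cotangent →ₗ[K] K ⊗[Pol ⧸ I] E.CotangentSpace :=
    E.cotangentComplex.baseChange K
  let ψ₂ : K ⊗[Pol ⧸ I] E.CotangentSpace →ₗ[K] K ⊗[Pol ⧸ I] Ω[(Pol ⧸ I)⁄k] :=
    E.toKaehler.baseChange K
  have hex : Function.Exact ψ₁ ψ₂ := by
    have := lTensor_exact K E.exact_cotangentComplex_toKaehler E.toKaehler_surjective
    simpa only [ψ₁, ψ₂, LinearMap.baseChange_eq_ltensor] using this
  have hsurj : Function.Surjective ψ₂ := by
    have := LinearMap.lTensor_surjective K E.toKaehler_surjective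
    simpa only [ψ₂, LinearMap.baseChange_eq_ltensor] using this
  let can : K ⊗[Pol ⧸ I] E.CotangentSpace ≃ₗ[K] K ⊗[Pol] Ω[Pol⁄k] :=
    AlgebraTensorModule.cancelBaseChange Pol (Pol ⧸ I) K K Ω[Pol⁄k]
  have hrange : (LinearMap.range ψ₁).map can.toLinearMap = WW k N I m := by
    have htop : Submodule.span K (Set.range fun x : E.ker => (1 : K) ⊗ₜ[Pol ⧸ I]
        (Algebra.Extension.Cotangent.mk x : E.Cotangent)) = ⊤ := by
      apply JacobianPt.span_tmul_eq_top
      rw [eq_top_iff]
      rintro y -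
      obtain ⟨x, rfl⟩ := Algebra.Extension.Cotangent.mk_surjective y
      exact Submodule.subset_span ⟨x, rfl⟩
    rw [LinearMap.range_eq_map, ← htop, Submodule.map_span, Submodule.map_span, ← Set.range_comp,
      ← Set.range_comp]
    unfold WW
    have hI : ∀ x : Pol, x ∈ E.ker ↔ x ∈ I := by
      intro x
      change x ∈ RingHom.ker (algebraMap Pol (Pol ⧸ I)) ↔ _
      rw [Ideal.Quotient.algebraMap_eq, Ideal.mk_ker]
    congr 1
    ext z
    constructor
    · rintro ⟨x, rfl⟩
      refine ⟨⟨x.1, (hI _).mp x.2⟩, ?_⟩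
      change _ = (AlgebraTensorModule.cancelBaseChange Pol (Pol ⧸ I) K K Ω[Pol⁄k])
        ((1 : K) ⊗ₜ[Pol ⧸ I] ((1 : Pol ⧸ I) ⊗ₜ[Pol] D k Pol x.1))
      rw [AlgebraTensorModule.cancelBaseChange_tmul, one_smul]
    · rintro ⟨x, rfl⟩
      refine ⟨⟨x.1, (hI _).mpr x.2⟩, ?_⟩
      change (AlgebraTensorModule.cancelBaseChange Pol (Pol ⧸ I) K K Ω[Pol⁄k])
        ((1 : K) ⊗ₜ[Pol ⧸ I] ((1 : Pol ⧸ I) ⊗ₜ[Pol] D k Pol x.1)) = _
      rw [AlgebraTensorModule.cancelBaseChange_tmul, one_smul]
  have : Module.Finite K (K ⊗[Pol ⧸ I] E.CotangentSpace) := Module.Finite.equiv can.symm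
  have h1 := LinearMap.finrank_range_add_finrank_ker ψ₂
  have h2 : LinearMap.ker ψ₂ = LinearMap.range ψ₁ := (LinearMap.exact_iff.mp hex)
  have h3 : Module.finrank K (LinearMap.range ψ₂) = Module.finrank K (K ⊗[Pol ⧸ I] Ω[(Pol ⧸ I)⁄k]) := by
    rw [LinearMap.range_eq_top.mpr hsurj, finrank_top]
  have h4 : Module.finrank K (LinearMap.range ψ₁) = Module.finrank K (WW k N I m) := by
    rw [← hrange]
    exact (LinearEquiv.finrank_map_eq can _).symm
  have h5 : Module.finrank K (K ⊗[Pol ⧸ I] E.CotangentSpace) = N := by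
    rw [can.finrank_eq, finrank_fibre]
  rw [h2, h3, h4, h5] at h1
  omega

theorem tmul_D_mul_K (x y : Pol) :
    (1 : K) ⊗ₜ[Pol] D k Pol (x * y) =
      algebraMap Pol K x • ((1 : K) ⊗ₜ[Pol] D k Pol y) + algebraMap Pol K y • ((1 : K) ⊗ₜ[Pol] D k Pol x) := by
  rw [Derivation.leibniz, TensorProduct.tmul_add, ← TensorProduct.smul_tmul,
    ← TensorProduct.smul_tmul, Algebra.smul_def, Algebra.smul_def, mul_one, mul_one,
    TensorProduct.smul_tmul', TensorProduct.smul_tmul', smul_eq_mul, smul_eq_mul, mul_one, mul_one]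

open Classical in
theorem exists_finset_basis_WW :
    ∃ s : Finset Pol, (↑s : Set Pol) ⊆ I ∧
      LinearIndependent K (fun g : s => (1 : K) ⊗ₜ[Pol] D k Pol (g : Pol)) ∧
      s.card = Module.finrank K (WW k N I m) := by
  set w : I → K ⊗[Pol] Ω[Pol⁄k] := fun g => (1 : K) ⊗ₜ[Pol] D k Pol (g : Pol) with hw
  obtain ⟨κ, a, ha_inj, ha_span, ha_li⟩ := exists_linearIndependent' K w
  have : Finite κ := ha_li.finite_of_isNoetherian
  have : Fintype κ := Fintype.ofFinite κ
  let s : Finset Pol := Finset.univ.image (fun i => (a i).1)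
  have hs : (↑s : Set Pol) ⊆ I := by
    intro g hg
    obtain ⟨i, -, rfl⟩ := Finset.mem_image.mp hg
    exact (a i).2
  have hex : ∀ g : (↑s : Set Pol), ∃ i : κ, (a i).1 = g.1 := by
    intro g
    obtain ⟨i, -, hi⟩ := Finset.mem_image.mp g.2
    exact ⟨i, hi⟩
  choose r hr using hex
  have hr_inj : Function.Injective r := by
    intro g g' h
    apply Subtype.ext
    rw [← hr g, ← hr g', h]
  refine ⟨s, hs, ?_, ?_⟩
  · have h1 : LinearIndependent K ((w ∘ a) ∘ r) := ha_li.comp r hr_inj
    have hfun : ((w ∘ a) ∘ r) = fun g : (↑s : Set Pol) => (1 : K) ⊗ₜ[Pol] D k Pol (g : Pol) := by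
      funext g
      simp only [Function.comp_apply, hw, hr g]
    rw [hfun] at h1
    exact h1
  · have hcard : s.card = Fintype.card κ := by
      rw [Finset.card_image_of_injective _ (fun i j hij => ha_inj (Subtype.ext hij))]
      rfl
    rw [hcard]
    unfold WW
    rw [← ha_span]
    exact (finrank_span_eq_card ha_li).symm

theorem isSmoothAt_of_finrank_le
    (h : ((Module.finrank K (K ⊗[Pol ⧸ I] Ω[(Pol ⧸ I)⁄k]) : ℕ) : WithBot ℕ∞) ≤
      ringKrullDim (Localization.AtPrime m)) :
    Algebra.IsSmoothAt k m := by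
  obtain ⟨s, hs, hli, hcard⟩ := exists_finset_basis_WW k N I m
  obtain ⟨hreg, hdim⟩ := regular_quot k N I m s hs hli
  have hsum := finrank_WW_add k N I m
  set J₀ := Ideal.span (algebraMap Pol Pq '' (↑s : Set Pol)) with hJ₀
  have hJ₀le : J₀ ≤ RingHom.ker (fP I m) := by
    rw [ker_fP, hJ₀, Ideal.span_le]
    rintro _ ⟨g, hg, rfl⟩
    exact Ideal.mem_map_of_mem _ (hs hg)
  have hdom := Groth.Agent.Lib.Helper21.isDomain_of_isRegularLocalRing (Pq ⧸ J₀)
  let π : Pq ⧸ J₀ →+* Localization.AtPrime m :=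
    Ideal.Quotient.lift J₀ (fP I m) (fun x hx => hJ₀le hx)
  have hπ : Function.Surjective π := Ideal.Quotient.lift_surjective_of_surjective _ _ (fP_surjective I m)
  have hinj : Function.Injective π := by
    rw [injective_iff_map_eq_zero]
    intro x hx
    by_contra hx0
    have hnzd : x ∈ nonZeroDivisors (Pq ⧸ J₀) := mem_nonZeroDivisors_of_ne_zero hx0
    have h1 := ringKrullDim_succ_le_of_surjective (R := Pq ⧸ J₀) (S := Localization.AtPrime m) π hπ (r := x) hnzd hx
    have hNoeth : IsNoetherianRing (Localization.AtPrime m) :=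
      IsLocalization.isNoetherianRing m.primeCompl _ inferInstance
    obtain ⟨n, hn⟩ := Groth.Agent.Lib.Helper21.exists_nat_eq_ringKrullDim (R := Localization.AtPrime m)
    obtain ⟨n', hn'⟩ := Groth.Agent.Lib.Helper21.exists_nat_eq_ringKrullDim (R := Pq ⧸ J₀)
    rw [hn] at h h1
    rw [hn'] at h1 hdim
    have e1 : n + 1 ≤ n' := by exact_mod_cast h1
    have e2 : n' + s.card = N := by exact_mod_cast hdim
    have e3 : Module.finrank K (K ⊗[Pol ⧸ I] Ω[(Pol ⧸ I)⁄k]) ≤ n := by exact_mod_cast h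
    omega
  rw [isSmoothAt_iff]
  refine ⟨s, hs, ?_, hli⟩
  rw [← ker_fP]
  apply le_antisymm _ hJ₀le
  intro y hy
  have : π (Ideal.Quotient.mk J₀ y) = 0 := hy
  have h2 := hinj (this.trans (map_zero π).symm)
  exact Ideal.Quotient.eq_zero_iff_mem.mp h2

theorem tmul_D_mem_of_mem_span (s : Finset Pol) (hs : (↑s : Set Pol) ⊆ I) (x : Pol)
    (hx : x ∈ Ideal.span (↑s : Set Pol)) :
    (1 : K) ⊗ₜ[Pol] D k Pol x ∈
      Submodule.span K (Set.range fun g : s => (1 : K) ⊗ₜ[Pol] D k Pol (g : Pol)) := by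
  induction hx using Submodule.span_induction with
  | mem y hy => exact Submodule.subset_span ⟨⟨y, hy⟩, rfl⟩
  | zero => simp
  | add y z _ _ hy hz =>
    rw [map_add, TensorProduct.tmul_add]
    exact Submodule.add_mem _ hy hz
  | smul a y hy ih =>
    rw [smul_eq_mul, tmul_D_mul_K]
    have hyq : algebraMap Pol K y = 0 := by
      rw [Ideal.algebraMap_residueField_eq_zero]
      exact le_qq I m ((Ideal.span_le.mpr hs) hy)
    rw [hyq, zero_smul, add_zero]
    exact Submodule.smul_mem _ _ ih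

theorem WW_eq_of_span_eq (s : Finset Pol) (hs : (↑s : Set Pol) ⊆ I)
    (hspan : Ideal.map (algebraMap Pol Pq) I = Ideal.span (algebraMap Pol Pq '' (↑s : Set Pol))) :
    WW k N I m = Submodule.span K (Set.range fun g : s => (1 : K) ⊗ₜ[Pol] D k Pol (g : Pol)) := by
  apply le_antisymm
  · unfold WW
    rw [Submodule.span_le]
    rintro _ ⟨g, rfl⟩
    have hg : algebraMap Pol Pq g.1 ∈ Ideal.map (algebraMap Pol Pq) (Ideal.span (↑s : Set Pol)) := by
      rw [Ideal.map_span, ← hspan]
      exact Ideal.mem_map_of_mem _ g.2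
    obtain ⟨t, ht, htg⟩ := (IsLocalization.algebraMap_mem_map_algebraMap_iff (qq I m).primeCompl Pq
      (Ideal.span (↑s : Set Pol)) g.1).mp hg
    have h1 := tmul_D_mem_of_mem_span k N I m s hs _ htg
    rw [tmul_D_mul_K] at h1
    have hgq : algebraMap Pol K g.1 = 0 := by
      rw [Ideal.algebraMap_residueField_eq_zero]
      exact le_qq I m g.2
    rw [hgq, zero_smul, add_zero] at h1
    have htq : algebraMap Pol K t ≠ 0 := by
      rw [Ne, Ideal.algebraMap_residueField_eq_zero]
      exact ht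
    have h2 := Submodule.smul_mem _ (algebraMap Pol K t)⁻¹ h1
    rwa [smul_smul, inv_mul_cancel₀ htq, one_smul] at h2
  · apply Submodule.span_mono
    rintro _ ⟨g, rfl⟩
    exact ⟨⟨g.1, hs g.2⟩, rfl⟩

theorem ringKrullDim_eq_finrank_of_isSmoothAt (h : Algebra.IsSmoothAt k m) :
    ringKrullDim (Localization.AtPrime m) =
      ((Module.finrank K (K ⊗[Pol ⧸ I] Ω[(Pol ⧸ I)⁄k]) : ℕ) : WithBot ℕ∞) := by
  rw [isSmoothAt_iff] at h
  obtain ⟨s, hs, hspan, hli⟩ := h
  obtain ⟨hreg, hdim⟩ := regular_quot k N I m s hs hli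
  have hsum := finrank_WW_add k N I m
  have hW : Module.finrank K (WW k N I m) = s.card := by
    rw [WW_eq_of_span_eq k N I m s hs hspan, finrank_span_eq_card hli, Fintype.card_coe]
  have e : (Pq ⧸ Ideal.span (algebraMap Pol Pq '' (↑s : Set Pol))) ≃+* Localization.AtPrime m :=
    (Ideal.quotEquivOfEq (by rw [← hspan, ker_fP])).trans
      (RingHom.quotientKerEquivOfSurjective (fP_surjective I m))
  rw [← ringKrullDim_eq_of_ringEquiv e]
  obtain ⟨n', hn'⟩ := Groth.Agent.Lib.Helper21.exists_nat_eq_ringKrullDim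
    (R := Pq ⧸ Ideal.span (algebraMap Pol Pq '' (↑s : Set Pol)))
  rw [hn'] at hdim ⊢
  have e2 : n' + s.card = N := by exact_mod_cast hdim
  have : n' = Module.finrank K (K ⊗[Pol ⧸ I] Ω[(Pol ⧸ I)⁄k]) := by omega
  rw [this]

end Q

section field

/-- the dimension of the fibre of a module at a prime can be computed over any field. -/
theorem finrank_tensor_field_eq {A : Type*} [CommRing A] (m : Ideal A) [m.IsPrime] (L : Type*) [Field L]
    [Algebra A L] (hker : RingHom.ker (algebraMap A L) = m) (M : Type*) [AddCommGroup M]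
    [Module A M] :
    Module.finrank L (L ⊗[A] M) = Module.finrank m.ResidueField (m.ResidueField ⊗[A] M) := by
  let f : m.ResidueField →+* L := Ideal.ResidueField.lift m (algebraMap A L) hker.ge (fun x hx => by
    change IsUnit (algebraMap A L x)
    rw [isUnit_iff_ne_zero, Ne, ← RingHom.mem_ker, hker]
    exact hx)
  let _ : Algebra m.ResidueField L := f.toAlgebra
  have : IsScalarTower A m.ResidueField L := IsScalarTower.of_algebraMap_eq (fun a =>
    (Ideal.ResidueField.lift_algebraMap m (algebraMap A L) hker.ge _ a).symm)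
  rw [← Module.finrank_baseChange (R := L) (S := m.ResidueField)]
  exact LinearEquiv.finrank_eq (AlgebraTensorModule.cancelBaseChange A m.ResidueField L L M).symm

end field

section transport

variable (k A : Type u) [Field k] [CommRing A] [Algebra k A] [Algebra.FiniteType k A]
  (m : Ideal A) [hm : m.IsMaximal]

attribute [local instance] algBK

theorem ker_quotToK {N : ℕ} (I : Ideal (MvPolynomial (Fin N) k))
    (m' : Ideal (MvPolynomial (Fin N) k ⧸ I)) [m'.IsMaximal] :
    RingHom.ker (quotToK I m') = m' := by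
  ext y
  obtain ⟨z, rfl⟩ := Ideal.Quotient.mk_surjective y
  rw [RingHom.mem_ker]
  change algebraMap (MvPolynomial (Fin N) k) (qq I m').ResidueField z = 0 ↔ _
  rw [Ideal.algebraMap_residueField_eq_zero]
  rfl

theorem key_aux :
    (Algebra.IsSmoothAt k m ↔
      ((Module.finrank m.ResidueField (m.ResidueField ⊗[A] Ω[A⁄k]) : ℕ) : WithBot ℕ∞) ≤
        ringKrullDim (Localization.AtPrime m)) ∧
    (Algebra.IsSmoothAt k m → ringKrullDim (Localization.AtPrime m) =
      ((Module.finrank m.ResidueField (m.ResidueField ⊗[A] Ω[A⁄k]) : ℕ) : WithBot ℕ∞)) := by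
  obtain ⟨N, φ, hφ⟩ := Algebra.FiniteType.iff_quotient_mvPolynomial''.mp
    (inferInstance : Algebra.FiniteType k A)
  let I : Ideal (MvPolynomial (Fin N) k) := RingHom.ker φ.toRingHom
  let e : (MvPolynomial (Fin N) k ⧸ I) ≃ₐ[k] A := Ideal.quotientKerAlgEquivOfSurjective hφ
  let m' : Ideal (MvPolynomial (Fin N) k ⧸ I) := m.comap (e : (MvPolynomial (Fin N) k ⧸ I) →+* A)
  have hm' : m'.IsMaximal := Ideal.comap_isMaximal_of_surjective _ e.surjective
  let loc : Localization.AtPrime m' ≃ₐ[k] Localization.AtPrime m :=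
    Localization.localAlgEquiv m' m e rfl
  have T1 : Algebra.IsSmoothAt k m ↔ Algebra.IsSmoothAt k m' :=
    (Algebra.FormallySmooth.iff_of_equiv loc).symm
  have T3 : ringKrullDim (Localization.AtPrime m) = ringKrullDim (Localization.AtPrime m') :=
    ringKrullDim_eq_of_ringEquiv loc.symm.toRingEquiv
  have T2 : Module.finrank m.ResidueField (m.ResidueField ⊗[A] Ω[A⁄k]) =
      Module.finrank (qq I m').ResidueField
        ((qq I m').ResidueField ⊗[MvPolynomial (Fin N) k ⧸ I] Ω[(MvPolynomial (Fin N) k ⧸ I)⁄k]) := by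
    let _ : Algebra A (MvPolynomial (Fin N) k ⧸ I) := (e.symm : A →+* _).toAlgebra
    let _ : Algebra A (qq I m').ResidueField :=
      ((algebraMap (MvPolynomial (Fin N) k ⧸ I) (qq I m').ResidueField).comp
        (algebraMap A (MvPolynomial (Fin N) k ⧸ I))).toAlgebra
    have : IsScalarTower A (MvPolynomial (Fin N) k ⧸ I) (qq I m').ResidueField :=
      IsScalarTower.of_algebraMap_eq fun _ => rfl
    have : IsScalarTower k A (MvPolynomial (Fin N) k ⧸ I) :=
      IsScalarTower.of_algebraMap_eq fun c => (e.symm.commutes c).symm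
    have : Algebra.FormallyEtale A (MvPolynomial (Fin N) k ⧸ I) :=
      Algebra.FormallyEtale.of_equiv (A := A)
        (AlgEquiv.ofRingEquiv (f := e.symm.toRingEquiv) fun _ => rfl)
    have hker : RingHom.ker (algebraMap A (qq I m').ResidueField) = m := by
      ext x
      rw [RingHom.mem_ker]
      change quotToK I m' (e.symm x) = 0 ↔ _
      rw [← RingHom.mem_ker, ker_quotToK]
      change e (e.symm x) ∈ m ↔ _
      rw [e.apply_symm_apply]
    rw [← finrank_tensor_field_eq m (qq I m').ResidueField hker Ω[A⁄k]]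
    exact LinearEquiv.finrank_eq
      ((AlgebraTensorModule.congr (LinearEquiv.refl (qq I m').ResidueField (qq I m').ResidueField)
        (tensorKaehlerEquivOfFormallyEtale k A (MvPolynomial (Fin N) k ⧸ I)).symm) ≪≫ₗ
      (AlgebraTensorModule.cancelBaseChange A (MvPolynomial (Fin N) k ⧸ I) (qq I m').ResidueField
        (qq I m').ResidueField Ω[A⁄k])).symm
  rw [T1, T3, T2]
  refine ⟨⟨fun h => ?_, fun h => isSmoothAt_of_finrank_le k N I m' h⟩,
    fun h => ringKrullDim_eq_finrank_of_isSmoothAt k N I m' h⟩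
  rw [ringKrullDim_eq_finrank_of_isSmoothAt k N I m' h]

/-- **Smoothness at a closed point via dimension.** -/
theorem isSmoothAt_iff_finrank_le :
    Algebra.IsSmoothAt k m ↔
      ((Module.finrank m.ResidueField (m.ResidueField ⊗[A] Ω[A⁄k]) : ℕ) : WithBot ℕ∞) ≤
        ringKrullDim (Localization.AtPrime m) :=
  (key_aux k A m).1

theorem ringKrullDim_eq_finrank (h : Algebra.IsSmoothAt k m) :
    ringKrullDim (Localization.AtPrime m) =
      ((Module.finrank m.ResidueField (m.ResidueField ⊗[A] Ω[A⁄k]) : ℕ) : WithBot ℕ∞) :=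
  (key_aux k A m).2 h

end transport

end Groth.Agent.Lib.Helper9.SmoothDim
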