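import Mathlib

/-!
Flatness descends along a faithfully flat map: `A → B → C`, `C` flat over `A`, `C` faithfully flat
over `B` ⟹ `B` flat over `A`.  (Same statement as helper23's
`RegularHom2.flat_of_faithfullyFlat_comp`; duplicated here to avoid the heavy import chain.)
-/

set_option autoImplicit false
universe u

namespace Groth.Agent.Lib.Helper9.FFDescent

theorem flat_of_faithfullyFlat_comp (A B C : Type u) [CommRing A] [CommRing B] [CommRing C]
    [Algebra A B] [Algebra B C] [Algebra A C] [IsScalarTower A B C]
    [Module.Flat A C] [Module.FaithfullyFlat B C] :
    Module.Flat A B := by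
  rw [Module.Flat.iff_lTensor_preserves_injective_linearMap]
  intro N P _ _ _ _ f hf
  have h1 : Function.Injective (f.baseChange B) := by
    rw [← Module.FaithfullyFlat.lTensor_injective_iff_injective B C]
    have h2 : Function.Injective (f.baseChange C) := by
      rw [LinearMap.baseChange_eq_ltensor]
      exact Module.Flat.lTensor_preserves_injective_linearMap f hf
    have h3 : (f.baseChange B).lTensor C =
        (TensorProduct.AlgebraTensorModule.cancelBaseChange A B C C P).symm.toLinearMap.restrictScalars B ∘ₗ
          (f.baseChange C).restrictScalars B ∘ₗ
          (TensorProduct.AlgebraTensorModule.cancelBaseChange A B C C N).toLinearMap.restrictScalars B := by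
      ext c b
      simp
    rw [h3]
    simp only [LinearMap.coe_comp, LinearMap.coe_restrictScalars, LinearEquiv.coe_coe]
    exact (LinearEquiv.injective _).comp (h2.comp (LinearEquiv.injective _))
  rw [← LinearMap.baseChange_eq_ltensor]
  exact h1

end Groth.Agent.Lib.Helper9.FFDescent
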