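import Mathlib
import Groth.Agent.Lib.Helper12.IntegralDim

set_option autoImplicit false
universe u

namespace Groth.Agent.Lib.Helper9.DimTrdeg

open Cardinal

/-- A finitely generated domain over a field has Krull dimension equal to its transcendence
degree: here in the form `trdeg k D = s = dim D` for a Noether normalization. -/
theorem exists_nat_dim_eq_trdeg (k D : Type u) [Field k] [CommRing D] [IsDomain D] [Algebra k D]
    [Algebra.FiniteType k D] :
    ∃ s : ℕ, ringKrullDim D = s ∧ Algebra.trdeg k D = s := by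
  obtain ⟨s, g, hginj, hgfin⟩ := exists_finite_inj_algHom_of_fg k D
  let _ : Algebra (MvPolynomial (Fin s) k) D := g.toRingHom.toAlgebra
  have hfin : Module.Finite (MvPolynomial (Fin s) k) D := hgfin
  have htow : IsScalarTower k (MvPolynomial (Fin s) k) D :=
    IsScalarTower.of_algebraMap_eq fun r => (g.commutes r).symm
  have hint : Algebra.IsIntegral (MvPolynomial (Fin s) k) D := inferInstance
  refine ⟨s, ?_, ?_⟩
  · have h1 := Groth.Agent.Lib.Helper12.ringKrullDim_eq_of_isIntegral_of_injective
      (MvPolynomial (Fin s) k) D hginj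
    have h2 : ringKrullDim (MvPolynomial (Fin s) k) = ringKrullDim k + Nat.card (Fin s) :=
      MvPolynomial.ringKrullDim_of_isNoetherianRing
    rw [ringKrullDim_eq_zero_of_field, zero_add, Nat.card_fin] at h2
    rw [← h1, h2]
  · have halg : Algebra.IsAlgebraic (MvPolynomial (Fin s) k) D := inferInstance
    have hfs : FaithfulSMul (MvPolynomial (Fin s) k) D :=
      (faithfulSMul_iff_algebraMap_injective _ _).mpr hginj
    have h1 := trdeg_add_eq k (MvPolynomial (Fin s) k) (A := D)
    rw [trdeg_eq_zero (R := MvPolynomial (Fin s) k) (A := D), add_zero,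
      MvPolynomial.trdeg_of_isDomain] at h1
    rw [← h1]
    simp

/-- If a polynomial ring in `t` variables over a field `k` embeds in a finitely generated
`k`-algebra `F`, then `t ≤ dim F`. -/
theorem le_ringKrullDim_of_injective (k F : Type u) [Field k] [CommRing F] [Algebra k F]
    [Algebra.FiniteType k F] (t : ℕ) (φ : MvPolynomial (Fin t) k →ₐ[k] F)
    (hφ : Function.Injective φ) : ((t : ℕ∞) : WithBot ℕ∞) ≤ ringKrullDim F := by
  have hmin : (⊥ : Ideal (MvPolynomial (Fin t) k)) ∈ minimalPrimes (MvPolynomial (Fin t) k) := by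
    rw [IsDomain.minimalPrimes_eq_singleton_bot]; rfl
  obtain ⟨Q, hQ, hQc⟩ := Ideal.exists_comap_eq_of_mem_minimalPrimes_of_injective
    (f := φ.toRingHom) hφ ⊥ hmin
  have hdom : IsDomain (F ⧸ Q) := Ideal.Quotient.isDomain Q
  have hft : Algebra.FiniteType k (F ⧸ Q) :=
    Algebra.FiniteType.of_surjective (Ideal.Quotient.mkₐ k Q) (Ideal.Quotient.mkₐ_surjective k Q)
  obtain ⟨s, hs1, hs2⟩ := exists_nat_dim_eq_trdeg k (F ⧸ Q)
  let χ : MvPolynomial (Fin t) k →ₐ[k] F ⧸ Q := (Ideal.Quotient.mkₐ k Q).comp φ
  have hχ : Function.Injective χ := by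
    rw [injective_iff_map_eq_zero]
    intro p hp
    have : φ p ∈ Q := Ideal.Quotient.eq_zero_iff_mem.mp hp
    have : p ∈ Ideal.comap φ.toRingHom Q := this
    rw [hQc] at this
    exact this
  have hai : AlgebraicIndependent k (fun i : Fin t => χ (MvPolynomial.X i)) := by
    rw [algebraicIndependent_iff_injective_aeval]
    have : MvPolynomial.aeval (fun i : Fin t => χ (MvPolynomial.X i)) = χ := by
      apply MvPolynomial.algHom_ext
      intro i
      simp
    rw [this]
    exact hχ
  have h3 := hai.lift_cardinalMk_le_trdeg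
  rw [hs2] at h3
  simp only [mk_fintype, Fintype.card_fin, lift_natCast, Nat.cast_le] at h3
  have h4 : ringKrullDim (F ⧸ Q) ≤ ringKrullDim F := ringKrullDim_quotient_le Q
  rw [hs1] at h4
  refine le_trans ?_ h4
  exact_mod_cast h3

end Groth.Agent.Lib.Helper9.DimTrdeg
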