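import Mathlib
import Groth.Agent.Lib.Helper9.FlatCrit

set_option autoImplicit false
set_option linter.unusedSectionVars false
universe u
open TensorProduct Function
open scoped Pointwise

namespace Groth.Agent.Lib.Helper9.RegFlat

variable {A : Type*} [CommRing A]

/-- `J ⊗ M → M` -/
noncomputable def mu (J : Ideal A) (M : Type*) [AddCommGroup M] [Module A M] : J ⊗[A] M →ₗ[A] M :=
  (TensorProduct.lid A M).toLinearMap ∘ₗ J.subtype.rTensor M

theorem mu_tmul (J : Ideal A) (M : Type*) [AddCommGroup M] [Module A M] (j : J) (m : M) :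
    mu J M (j ⊗ₜ m) = (j : A) • m := by
  simp [mu]

theorem rTensor_injective_iff_mu (J : Ideal A) (M : Type*) [AddCommGroup M] [Module A M] :
    Injective (J.subtype.rTensor M) ↔ Injective (mu J M) := by
  unfold mu
  rw [LinearMap.coe_comp, LinearEquiv.coe_coe]
  exact (EquivLike.comp_injective _ (TensorProduct.lid A M)).symm

/-- If `fs` is weakly regular on `M` then `Tor₁(A/(fs), M) = 0`, i.e. `(fs) ⊗ M → M` is injective. -/
theorem mu_injective_of_isWeaklyRegular (fs : List A) :
    ∀ (M : Type u) [AddCommGroup M] [Module A M],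
      RingTheory.Sequence.IsWeaklyRegular M fs → Injective (mu (Ideal.ofList fs) M) := by
  induction fs with
  | nil =>
    intro M _ _ _
    rw [Ideal.ofList_nil]
    intro x y _
    have : Subsingleton ((⊥ : Ideal A) ⊗[A] M) := by
      have : Subsingleton (⊥ : Ideal A) := by
        refine ⟨fun a b => Subtype.ext ?_⟩
        rw [(Submodule.mem_bot A).mp a.2, (Submodule.mem_bot A).mp b.2]
      infer_instance
    exact Subsingleton.elim x y
  | cons f gs ih =>
    intro M _ _ hreg
    rw [RingTheory.Sequence.isWeaklyRegular_cons_iff] at hreg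
    obtain ⟨hf, hgs⟩ := hreg
    set J' : Ideal A := Ideal.ofList gs with hJ'
    set J : Ideal A := Ideal.ofList (f :: gs) with hJ
    have hJeq : J = Ideal.span {f} ⊔ J' := Ideal.ofList_cons f gs
    have hfJ : f ∈ J := by
      rw [hJeq]
      exact Ideal.mem_sup_left (Ideal.mem_span_singleton_self f)
    have hle : J' ≤ J := by
      rw [hJeq]
      exact le_sup_right
    -- the maps
    let ι' : J' →ₗ[A] J := Submodule.inclusion hle
    let φ : A →ₗ[A] J := LinearMap.toSpanSingleton A J ⟨f, hfJ⟩
    have hih := ih (QuotSMulTop f M) hgs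
    -- decomposition
    have hdec : ∀ x : J ⊗[A] M, ∃ (m₀ : M) (y' : J' ⊗[A] M),
        x = φ.rTensor M (1 ⊗ₜ m₀) + ι'.rTensor M y' := by
      intro x
      induction x using TensorProduct.induction_on with
      | zero => exact ⟨0, 0, by simp⟩
      | tmul j m =>
        obtain ⟨j, hj⟩ := j
        have hj' := hj
        rw [hJeq, Submodule.mem_sup] at hj'
        obtain ⟨a, ha, b, hb, hab⟩ := hj'
        obtain ⟨c, rfl⟩ := Ideal.mem_span_singleton'.mp ha
        refine ⟨c • m, (⟨b, hb⟩ : J') ⊗ₜ m, ?_⟩
        rw [LinearMap.rTensor_tmul, LinearMap.rTensor_tmul, ← TensorProduct.smul_tmul,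
          ← TensorProduct.add_tmul]
        congr 1
        apply Subtype.ext
        simp [φ, ι', ← hab]
      | add x y hx' hy' =>
        obtain ⟨m₁, y₁, h₁⟩ := hx'
        obtain ⟨m₂, y₂, h₂⟩ := hy'
        refine ⟨m₁ + m₂, y₁ + y₂, ?_⟩
        rw [h₁, h₂, TensorProduct.tmul_add, map_add, map_add]
        abel
    -- compatibilities
    have hmuφ : ∀ m : M, mu J M (φ.rTensor M (1 ⊗ₜ m)) = f • m := by
      intro m
      rw [LinearMap.rTensor_tmul, mu_tmul]
      simp [φ]
    have hmuι : ∀ y : J' ⊗[A] M, mu J M (ι'.rTensor M y) = mu J' M y := by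
      intro y
      induction y using TensorProduct.induction_on with
      | zero => simp
      | tmul j m => rw [LinearMap.rTensor_tmul, mu_tmul, mu_tmul]; rfl
      | add a b ha hb => rw [map_add, map_add, map_add, ha, hb]
    have hkey : ∀ y : J' ⊗[A] M, ι'.rTensor M (f • y) = φ.rTensor M (1 ⊗ₜ (mu J' M y)) := by
      intro y
      induction y using TensorProduct.induction_on with
      | zero => simp
      | tmul j m =>
        rw [mu_tmul, TensorProduct.smul_tmul', LinearMap.rTensor_tmul, LinearMap.rTensor_tmul,
          TensorProduct.tmul_smul, TensorProduct.smul_tmul']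
        congr 1
        apply Subtype.ext
        simp [φ, ι', mul_comm]
      | add a b ha hb => rw [smul_add, map_add, ha, hb, map_add, TensorProduct.tmul_add, map_add]
    have hmuπ : ∀ y : J' ⊗[A] M, mu J' (QuotSMulTop f M)
        ((Submodule.mkQ (f • (⊤ : Submodule A M))).lTensor J' y) =
        Submodule.mkQ (f • (⊤ : Submodule A M)) (mu J' M y) := by
      intro y
      induction y using TensorProduct.induction_on with
      | zero => simp
      | tmul j m => rw [LinearMap.lTensor_tmul, mu_tmul, mu_tmul, map_smul]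
      | add a b ha hb => rw [map_add, map_add, ha, hb, map_add, map_add]
    rw [injective_iff_map_eq_zero]
    intro x hx
    obtain ⟨m₀, y', rfl⟩ := hdec x
    rw [map_add, hmuφ, hmuι] at hx
    -- reduce mod f
    have h1 : mu J' (QuotSMulTop f M) ((Submodule.mkQ (f • (⊤ : Submodule A M))).lTensor J' y') = 0 := by
      rw [hmuπ]
      have : mu J' M y' = - (f • m₀) := eq_neg_of_add_eq_zero_right hx
      have h0 : Submodule.mkQ (f • (⊤ : Submodule A M)) (f • m₀) = 0 := by
        rw [Submodule.mkQ_apply, Submodule.Quotient.mk_eq_zero]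
        exact Submodule.smul_mem_pointwise_smul m₀ f ⊤ trivial
      rw [this, map_neg, h0, neg_zero]
    have h2 := (injective_iff_map_eq_zero _).mp hih _ h1
    -- exactness
    have hex : Function.Exact (LinearMap.lsmul A M f) (Submodule.mkQ (f • (⊤ : Submodule A M))) := by
      intro m
      rw [Submodule.mkQ_apply, Submodule.Quotient.mk_eq_zero]
      constructor
      · intro hm
        obtain ⟨n, -, rfl⟩ := (Submodule.mem_smul_pointwise_iff_exists m f ⊤).mp hm
        exact ⟨n, rfl⟩
      · rintro ⟨n, rfl⟩
        exact Submodule.smul_mem_pointwise_smul n f ⊤ trivial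
    have hex2 := lTensor_exact J' hex (Submodule.mkQ_surjective _)
    obtain ⟨y'', hy''⟩ := (hex2 y').mp h2
    have hsm : ∀ z : J' ⊗[A] M, (LinearMap.lsmul A M f).lTensor J' z = f • z := by
      intro z
      induction z using TensorProduct.induction_on with
      | zero => simp
      | tmul j m => rw [LinearMap.lTensor_tmul, TensorProduct.smul_tmul', TensorProduct.smul_tmul]; rfl
      | add a b ha hb => rw [map_add, ha, hb, smul_add]
    have h3 : y' = f • y'' := by rw [← hy'', hsm]
    rw [h3, hkey, ← map_add, ← TensorProduct.tmul_add]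
    rw [h3, map_smul, ← smul_add] at hx
    have h4 : m₀ + mu J' M y'' = 0 :=
      hf (show f • (m₀ + mu J' M y'') = f • (0 : M) by rw [hx, smul_zero])
    rw [h4, TensorProduct.tmul_zero, map_zero]

end Groth.Agent.Lib.Helper9.RegFlat
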