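import Mathlib
import Groth.Agent.Lib.Helper9.RegFlat1

set_option autoImplicit false
set_option linter.unusedSectionVars false
universe u
open TensorProduct Function IsLocalRing

namespace Groth.Agent.Lib.Helper9.RegFlat

/-- `(A/J) ⊗ M ≃ M / J M`, linearly over `A/J` -/
noncomputable def quotEquiv {A : Type*} [CommRing A] (J : Ideal A) (M : Type*) [AddCommGroup M]
    [Module A M] : (A ⧸ J) ⊗[A] M ≃ₗ[A ⧸ J] M ⧸ (J • (⊤ : Submodule A M)) :=
  LinearEquiv.extendScalarsOfSurjective Ideal.Quotient.mk_surjective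
    (TensorProduct.quotTensorEquivQuotSMul M J)

theorem main (A B : Type u) [CommRing A] [CommRing B]
    [IsLocalRing A] [IsLocalRing B] [IsNoetherianRing A] [IsNoetherianRing B] [Algebra A B]
    [IsLocalHom (algebraMap A B)] (M : Type u) [AddCommGroup M] [Module B M] [Module A M]
    [IsScalarTower A B M] [Module.Finite B M] (fs : List A)
    (hfs : ∀ f ∈ fs, f ∈ IsLocalRing.maximalIdeal A)
    (hA : RingTheory.Sequence.IsWeaklyRegular A fs) :
    Module.Flat A M ↔
      Module.Flat (A ⧸ Ideal.ofList fs) (M ⧸ (Ideal.ofList fs • (⊤ : Submodule A M))) ∧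
        RingTheory.Sequence.IsWeaklyRegular M fs := by
  set J := Ideal.ofList fs with hJ
  constructor
  · intro hM
    refine ⟨Module.Flat.of_linearEquiv (quotEquiv J M).symm, ?_⟩
    have h1 : RingTheory.Sequence.IsWeaklyRegular (A ⊗[A] M) fs := hA.isWeaklyRegular_rTensor
    exact (LinearEquiv.isWeaklyRegular_congr (TensorProduct.lid A M) fs).mp h1
  · rintro ⟨hfl, hreg⟩
    have hI : Injective (J.subtype.rTensor M) :=
      (rTensor_injective_iff_mu J M).mpr (mu_injective_of_isWeaklyRegular fs M hreg)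
    have : Module.Flat (A ⧸ J) ((A ⧸ J) ⊗[A] M) := Module.Flat.of_linearEquiv (quotEquiv J M)
    have hJm : J ≤ maximalIdeal A := by
      rw [hJ, Ideal.ofList, Ideal.span_le]
      exact fun x hx => hfs x hx
    have hIS : J.map (algebraMap A B) ≤ Ideal.jacobson ⊥ := by
      rw [IsLocalRing.jacobson_eq_maximalIdeal ⊥ bot_ne_top]
      exact (Ideal.map_mono hJm).trans
        (((IsLocalRing.local_hom_TFAE (algebraMap A B)).out 0 2).mp ‹IsLocalHom (algebraMap A B)›)
    exact Groth.Agent.Lib.Helper9.flat_of_rTensor_injective_of_le_jacobson (S := B) J hIS hI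

end Groth.Agent.Lib.Helper9.RegFlat
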