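import Mathlib
import Groth.Agent.Lib.Helper2.TorBalance
import Groth.Agent.Lib.Helper21.TorBridge

/-!
# Objectwise symmetry of `Tor` for modules (helper9 library)

`nonempty_tor_iso_swap : Nonempty (Tor_n(M, N) ≅ Tor_n(N, M))`, `isZero_tor_swap`.
Also `flat_of_isZero_tor_one_quotient` (flat iff `Tor₁(A/I, M) = 0` for all ideals) and the
prime-filtration criterion `isZero_tor_of_forall_prime` over a Noetherian ring.
-/

set_option autoImplicit false

universe u

open CategoryTheory MonoidalCategory Limits

namespace Groth.Agent.Lib.Helper9.TorSymm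

open Groth.Agent.Lib.Helper4 Groth.Agent.Lib.Helper2.TorBalance

variable {A : Type u} [CommRing A]

/-- Objectwise symmetry of `Tor`. -/
theorem nonempty_tor_iso_swap (M N : ModuleCat.{u} A) (n : ℕ) :
    Nonempty (((Tor (ModuleCat.{u} A) n).obj M).obj N ≅ ((Tor (ModuleCat.{u} A) n).obj N).obj M) := by
  obtain ⟨e1⟩ := nonempty_tor_iso_homology (projectiveResolution M) N n
  let e2 := torIsoHomology N M n
  let α : tensorLeft N ≅ tensorRight N := BraidedCategory.tensorLeftIsoTensorRight N
  let e3 := (HomologicalComplex.homologyFunctor (ModuleCat.{u} A) (ComplexShape.down ℕ) n).mapIso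
    ((NatIso.mapHomologicalComplex α (ComplexShape.down ℕ)).app (projectiveResolution M).complex)
  exact ⟨e1 ≪≫ e3.symm ≪≫ e2.symm⟩

theorem isZero_tor_swap {M N : ModuleCat.{u} A} {n : ℕ}
    (h : IsZero (((Tor (ModuleCat.{u} A) n).obj M).obj N)) :
    IsZero (((Tor (ModuleCat.{u} A) n).obj N).obj M) := by
  obtain ⟨e⟩ := nonempty_tor_iso_swap M N n
  exact h.of_iso e.symm

/-- If `Tor₁(A/I, M) = 0` for all ideals `I`, then `M` is flat. -/
theorem flat_of_isZero_tor_one_quotient (M : Type u) [AddCommGroup M] [Module A M]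
    (h : ∀ I : Ideal A, IsZero (((Tor (ModuleCat.{u} A) 1).obj (ModuleCat.of A (A ⧸ I))).obj
      (ModuleCat.of A M))) : Module.Flat A M := by
  rw [Module.Flat.iff_rTensor_injective']
  intro I
  exact Groth.Agent.Lib.Helper21.injective_rTensor_subtype_of_isZero_tor_one A I M (h I)

/-- Over a Noetherian ring, if `Tor_i(A/p, M) = 0` for all primes `p` then `Tor_i(N, M) = 0` for all
finite modules `N`. -/
theorem isZero_tor_of_forall_prime [IsNoetherianRing A] (M : ModuleCat.{u} A) (i : ℕ)
    (h : ∀ p : Ideal A, p.IsPrime →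
      IsZero (((Tor (ModuleCat.{u} A) i).obj (ModuleCat.of A (A ⧸ p))).obj M))
    (N : Type u) [AddCommGroup N] [Module A N] [hN : Module.Finite A N] :
    IsZero (((Tor (ModuleCat.{u} A) i).obj (ModuleCat.of A N)).obj M) := by
  induction hN using IsNoetherianRing.induction_on_isQuotientEquivQuotientPrime A with
  | subsingleton N =>
    refine IsZero.of_iso ?_ (torIsoHomology (ModuleCat.of A N) M i)
    rw [← HomologicalComplex.exactAt_iff_isZero_homology]
    apply ShortComplex.exact_of_isZero_X₂
    have : Subsingleton ((ModuleCat.of A N) ⊗ (projectiveResolution M).complex.X i : ModuleCat.{u} A) := by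
      change Subsingleton (TensorProduct A N ((projectiveResolution M).complex.X i))
      infer_instance
    exact @ModuleCat.isZero_of_subsingleton _ _ _ this
  | quotient N p f =>
    have iso : ModuleCat.of A N ≅ ModuleCat.of A (A ⧸ p.1) := f.toModuleIso
    exact (h p.1 p.2).of_iso (((Tor (ModuleCat.{u} A) i).mapIso iso).app M)
  | exact N₁ N₂ N₃ f g hf hg hfg h₁ h₃ =>
    let T : ShortComplex (ModuleCat.{u} A) :=
      ShortComplex.mk (ModuleCat.ofHom f) (ModuleCat.ofHom g) (by
        ext x; simpa using hfg.apply_apply_eq_zero x)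
    have hT : T.ShortExact := ModuleCat.shortComplex_shortExact T hfg hf hg
    exact isZero_tor_X₂ T hT M i h₁ h₃

end Groth.Agent.Lib.Helper9.TorSymm
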