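import Mathlib

/-!
# The diagonal ("Segre") projection on a tensor product of graded algebras

For graded `k`-algebras `R = ⨁ 𝒜 i`, `S = ⨁ ℬ j` we construct the `k`-linear projection
`π : R ⊗ S → R ⊗ S` onto `⨁ₙ 𝒜 n ⊗ ℬ n`, show it is linear over the diagonal part, and deduce
that a subring `T ↪ R ⊗ S` with image the diagonal part is Noetherian when `R ⊗ S` is.
-/

namespace Groth.Agent.Lib.Helper9.Segre

open TensorProduct DirectSum

variable {k : Type*} [CommRing k] {ι : Type*} [DecidableEq ι] [AddLeftCancelMonoid ι]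
  {R : Type*} [CommRing R] [Algebra k R] (𝒜 : ι → Submodule k R) [GradedAlgebra 𝒜]
  {S : Type*} [CommRing S] [Algebra k S] (ℬ : ι → Submodule k S) [GradedAlgebra ℬ]

/-- Induction principle: every element of `R ⊗ S` is a sum of bihomogeneous pure tensors. -/
theorem bihom_induction {P : R ⊗[k] S → Prop} (h0 : P 0) (hadd : ∀ x y, P x → P y → P (x + y))
    (hom : ∀ (i j : ι) (a : R) (_ : a ∈ 𝒜 i) (b : S) (_ : b ∈ ℬ j), P (a ⊗ₜ[k] b))
    (x : R ⊗[k] S) : P x := by
  induction x using TensorProduct.induction_on with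
  | zero => exact h0
  | add x y hx hy => exact hadd x y hx hy
  | tmul a b =>
    induction a using DirectSum.Decomposition.inductionOn 𝒜 with
    | zero => rw [TensorProduct.zero_tmul]; exact h0
    | add a a' ha ha' => rw [TensorProduct.add_tmul]; exact hadd _ _ ha ha'
    | homogeneous a =>
      rename_i i
      induction b using DirectSum.Decomposition.inductionOn ℬ with
      | zero => rw [TensorProduct.tmul_zero]; exact h0
      | add b b' hb hb' => rw [TensorProduct.tmul_add]; exact hadd _ _ hb hb'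
      | homogeneous b =>
        rename_i j
        exact hom i j a a.2 b b.2

/-- The diagonal projection. -/
noncomputable def diagProj : R ⊗[k] S →ₗ[k] R ⊗[k] S :=
  (DirectSum.toModule k (ι × ι) (R ⊗[k] S)
      (fun ij => if ij.1 = ij.2 then TensorProduct.map (𝒜 ij.1).subtype (ℬ ij.2).subtype else 0)) ∘ₗ
    (TensorProduct.directSum k k (fun i => 𝒜 i) (fun j => ℬ j)).toLinearMap ∘ₗ
    (TensorProduct.congr (DirectSum.decomposeLinearEquiv 𝒜)
      (DirectSum.decomposeLinearEquiv ℬ)).toLinearMap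

theorem diagProj_tmul_of_mem {i j : ι} {a : R} (ha : a ∈ 𝒜 i) {b : S} (hb : b ∈ ℬ j) :
    diagProj 𝒜 ℬ (a ⊗ₜ[k] b) = if i = j then a ⊗ₜ[k] b else 0 := by
  lift a to 𝒜 i using ha
  lift b to ℬ j using hb
  simp only [diagProj, LinearMap.comp_apply, LinearEquiv.coe_coe, TensorProduct.congr_tmul,
    DirectSum.decomposeLinearEquiv_apply, DirectSum.decompose_coe]
  rw [← DirectSum.lof_eq_of k, ← DirectSum.lof_eq_of k, TensorProduct.directSum_lof_tmul_lof,
    DirectSum.toModule_lof]
  split_ifs with h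
  · simp
  · simp

section Sub

variable {T : Type*} [CommRing T] [Algebra k T] (𝒯 : ι → Submodule k T) [GradedAlgebra 𝒯]
  (ψ : T →ₐ[k] R ⊗[k] S)
  (hdegT : ∀ n : ι, (𝒯 n).map ψ.toLinearMap =
    Submodule.span k {x : R ⊗[k] S | ∃ a ∈ 𝒜 n, ∃ b ∈ ℬ n, x = a ⊗ₜ[k] b})

include hdegT

omit [GradedAlgebra 𝒯] in
theorem diagProj_mem_range (x : R ⊗[k] S) : ∃ t : T, ψ t = diagProj 𝒜 ℬ x := by
  induction x using bihom_induction 𝒜 ℬ with
  | h0 => exact ⟨0, by simp⟩
  | hadd x y hx hy =>
    obtain ⟨t, ht⟩ := hx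
    obtain ⟨t', ht'⟩ := hy
    exact ⟨t + t', by rw [map_add, map_add, ht, ht']⟩
  | hom i j a ha b hb =>
    rw [diagProj_tmul_of_mem 𝒜 ℬ ha hb]
    split_ifs with h
    · subst h
      have : a ⊗ₜ[k] b ∈ (𝒯 i).map ψ.toLinearMap := by
        rw [hdegT i]
        exact Submodule.subset_span ⟨a, ha, b, hb, rfl⟩
      obtain ⟨t, -, ht⟩ := this
      exact ⟨t, ht⟩
    · exact ⟨0, by simp⟩

theorem diagProj_psi (t : T) : diagProj 𝒜 ℬ (ψ t) = ψ t := by
  induction t using DirectSum.Decomposition.inductionOn 𝒯 with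
  | zero => simp
  | add t t' ht ht' => rw [map_add, map_add, ht, ht']
  | homogeneous t =>
    rename_i n
    have hmem : ψ (t : T) ∈ Submodule.span k
        {x : R ⊗[k] S | ∃ a ∈ 𝒜 n, ∃ b ∈ ℬ n, x = a ⊗ₜ[k] b} := by
      rw [← hdegT n]
      exact ⟨t, t.2, rfl⟩
    generalize ψ (t : T) = y at hmem ⊢
    induction hmem using Submodule.span_induction with
    | mem x hx =>
      obtain ⟨a, ha, b, hb, rfl⟩ := hx
      rw [diagProj_tmul_of_mem 𝒜 ℬ ha hb, if_pos rfl]
    | zero => simp
    | add x y _ _ hx hy => rw [map_add, hx, hy]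
    | smul c x _ hx => rw [map_smul, hx]

theorem diagProj_mul (t : T) (x : R ⊗[k] S) :
    diagProj 𝒜 ℬ (ψ t * x) = ψ t * diagProj 𝒜 ℬ x := by
  induction t using DirectSum.Decomposition.inductionOn 𝒯 with
  | zero => simp
  | add t t' ht ht' => rw [map_add, add_mul, map_add, ht, ht', add_mul]
  | homogeneous t =>
    rename_i n
    have hmem : ψ (t : T) ∈ Submodule.span k
        {x : R ⊗[k] S | ∃ a ∈ 𝒜 n, ∃ b ∈ ℬ n, x = a ⊗ₜ[k] b} := by
      rw [← hdegT n]
      exact ⟨t, t.2, rfl⟩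
    generalize ψ (t : T) = y at hmem ⊢
    induction hmem using Submodule.span_induction generalizing x with
    | mem y hy =>
      obtain ⟨a', ha', b', hb', rfl⟩ := hy
      induction x using bihom_induction 𝒜 ℬ with
      | h0 => simp
      | hadd x y hx hy => rw [mul_add, map_add, hx, hy, map_add, mul_add]
      | hom i j a ha b hb =>
        rw [Algebra.TensorProduct.tmul_mul_tmul,
          diagProj_tmul_of_mem 𝒜 ℬ (SetLike.mul_mem_graded ha' ha) (SetLike.mul_mem_graded hb' hb),
          diagProj_tmul_of_mem 𝒜 ℬ ha hb]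
        by_cases h : i = j
        · rw [if_pos h, if_pos (by rw [h]), Algebra.TensorProduct.tmul_mul_tmul]
        · rw [if_neg h, if_neg (fun h' => h (add_left_cancel h')), mul_zero]
    | zero => simp
    | add y y' _ _ hy hy' => rw [add_mul, map_add, hy, hy', add_mul]
    | smul c y _ hy => rw [smul_mul_assoc, map_smul, hy, smul_mul_assoc]

theorem comap_map_eq (hψ : Function.Injective ψ) (I : Ideal T) :
    (I.map ψ).comap ψ = I := by
  apply le_antisymm _ Ideal.le_comap_map
  have key : ∀ y ∈ I.map ψ, ∀ c : R ⊗[k] S, ∃ t' ∈ I, diagProj 𝒜 ℬ (c * y) = ψ t' := by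
    intro y hy
    induction hy using Submodule.span_induction with
    | mem y hy =>
      obtain ⟨i, hi, rfl⟩ := hy
      intro c
      obtain ⟨tc, htc⟩ := diagProj_mem_range 𝒜 ℬ 𝒯 ψ hdegT c
      refine ⟨i * tc, I.mul_mem_right _ hi, ?_⟩
      rw [mul_comm c, diagProj_mul 𝒜 ℬ 𝒯 ψ hdegT, ← htc, map_mul]
    | zero => intro c; exact ⟨0, I.zero_mem, by simp⟩
    | add y y' _ _ hy hy' =>
      intro c
      obtain ⟨t, ht, h1⟩ := hy c
      obtain ⟨t', ht', h2⟩ := hy' c
      exact ⟨t + t', I.add_mem ht ht', by rw [mul_add, map_add, h1, h2, map_add]⟩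
    | smul d y _ hy =>
      intro c
      obtain ⟨t, ht, h1⟩ := hy (c * d)
      exact ⟨t, ht, by rw [smul_eq_mul, ← mul_assoc, h1]⟩
  intro t ht
  rw [Ideal.mem_comap] at ht
  obtain ⟨t', ht', h⟩ := key _ ht 1
  rw [one_mul, diagProj_psi 𝒜 ℬ 𝒯 ψ hdegT] at h
  rw [hψ h]
  exact ht'

theorem isNoetherianRing_of_injective [IsNoetherianRing (R ⊗[k] S)] (hψ : Function.Injective ψ) :
    IsNoetherianRing T := by
  rw [isNoetherianRing_iff, isNoetherian_iff']
  have hmono : StrictMono (fun I : Ideal T => I.map ψ) := by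
    apply Monotone.strictMono_of_injective
    · intro I J h
      exact Ideal.map_mono h
    · intro I J h
      have := congrArg (Ideal.comap ψ) h
      simpa only [comap_map_eq 𝒜 ℬ 𝒯 ψ hdegT hψ] using this
  exact hmono.wellFoundedGT

end Sub

end Groth.Agent.Lib.Helper9.Segre
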