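import Mathlib
import Groth.Prelude.Def_CAlgX

/-!
# McCoy's theorem (helper9)

For a matrix `M : Matrix (Fin n) (Fin m) R` over a nontrivial commutative ring, `M.mulVecLin` is
injective iff the annihilator of the ideal of `m × m` minors is zero; in the `CAlgX` vocabulary,
iff `matrixRank M = m` and `(detIdeal M).annihilator = ⊥`.
-/

set_option autoImplicit false

namespace Groth.Agent.Lib.Helper9.McCoy

universe u

open Matrix

variable {R : Type u} [CommRing R] {m n : ℕ} (M : Matrix (Fin n) (Fin m) R)

lemma minorIdeal_zero : CAlgX.minorIdeal M 0 = ⊤ := by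
  rw [Ideal.eq_top_iff_one]
  refine Ideal.subset_span ⟨(Fin.elim0, Fin.elim0), ?_⟩
  exact Matrix.det_isEmpty

lemma det_submatrix_eq_zero_of_not_injective {r : ℕ} (s : Fin r → Fin n) (t : Fin r → Fin m)
    (ht : ¬ Function.Injective t) : (M.submatrix s t).det = 0 := by
  rw [Function.Injective] at ht
  push Not at ht
  obtain ⟨i, j, hij, hne⟩ := ht
  exact Matrix.det_zero_of_column_eq hne (fun k => by simp [hij])

lemma minorIdeal_eq_bot_of_lt {r : ℕ} (hr : m < r) : CAlgX.minorIdeal M r = ⊥ := by
  rw [CAlgX.minorIdeal, Ideal.span_eq_bot]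
  rintro _ ⟨⟨s, t⟩, rfl⟩
  refine det_submatrix_eq_zero_of_not_injective M s t fun hinj => ?_
  have := Fintype.card_le_of_injective t hinj
  simp at this
  omega

lemma mem_annihilator_minorIdeal {r : ℕ} (a : R) :
    a ∈ (CAlgX.minorIdeal M r).annihilator ↔
      ∀ (s : Fin r → Fin n) (t : Fin r → Fin m), a * (M.submatrix s t).det = 0 := by
  rw [CAlgX.minorIdeal, Ideal.span, Submodule.mem_annihilator_span]
  constructor
  · intro h s t
    exact h ⟨_, ⟨(s, t), rfl⟩⟩
  · rintro h ⟨_, ⟨⟨s, t⟩, rfl⟩⟩
    exact h s t

/-- Easy direction of McCoy's theorem. -/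
lemma injective_of_annihilator_eq_bot (h : (CAlgX.minorIdeal M m).annihilator = ⊥) :
    Function.Injective (Matrix.mulVecLin M) := by
  rw [← LinearMap.ker_eq_bot, LinearMap.ker_eq_bot']
  intro x hx
  rw [Matrix.mulVecLin_apply] at hx
  ext j
  have hj : x j ∈ (CAlgX.minorIdeal M m).annihilator := by
    rw [mem_annihilator_minorIdeal]
    intro s t
    by_cases ht : Function.Injective t
    · have hbij : Function.Bijective t := Finite.injective_iff_bijective.mp ht
      set N := M.submatrix s t with hN
      have h1 : N.mulVec (x ∘ t) = 0 := by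
        ext i
        have h2 := congrFun hx (s i)
        simp only [Matrix.mulVec, dotProduct, Pi.zero_apply] at h2 ⊢
        rw [← h2]
        exact Equiv.sum_comp (Equiv.ofBijective t hbij) (fun j => M (s i) j * x j)
      have h3 : N.det • (x ∘ t) = 0 := by
        have := congrArg (fun v => N.adjugate.mulVec v) h1
        simp only [Matrix.mulVec_mulVec, Matrix.adjugate_mul, Matrix.mulVec_zero] at this
        rwa [Matrix.smul_mulVec, Matrix.one_mulVec] at this
      obtain ⟨k, rfl⟩ := hbij.2 j
      have := congrFun h3 k
      simp only [Pi.smul_apply, Function.comp_apply, smul_eq_mul, Pi.zero_apply] at this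
      rw [mul_comm]; exact this
    · rw [det_submatrix_eq_zero_of_not_injective M s t ht, mul_zero]
  rw [h] at hj
  simpa using hj

/-- Hard direction of McCoy's theorem. -/
lemma annihilator_eq_bot_of_injective (h : Function.Injective (Matrix.mulVecLin M)) :
    (CAlgX.minorIdeal M m).annihilator = ⊥ := by
  rw [eq_bot_iff]
  intro a ha
  rw [Submodule.mem_bot]
  by_contra ha0
  have hex : ∃ r, a ∈ (CAlgX.minorIdeal M r).annihilator := ⟨m, ha⟩
  classical
  have hfind := Nat.find_spec hex
  have hmin := fun k (hk : k < Nat.find hex) => Nat.find_min hex hk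
  have hle : Nat.find hex ≤ m := Nat.find_min' hex ha
  rcases hr : Nat.find hex with _ | r
  · rw [hr] at hfind
    have h1 := (Submodule.mem_annihilator.mp hfind) 1 (by rw [minorIdeal_zero]; trivial)
    exact ha0 (by simpa using h1)
  · rw [hr] at hfind hle
    have hnot := hmin r (by omega)
    rw [mem_annihilator_minorIdeal] at hnot hfind
    push Not at hnot
    obtain ⟨s, t, hst⟩ := hnot
    have hns : ¬ Function.Surjective t := fun hs => by
      have := Fintype.card_le_of_surjective t hs
      simp at this
      omega
    rw [Function.Surjective] at hns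
    push Not at hns
    obtain ⟨j₀, hj₀⟩ := hns
    set t' : Fin (r + 1) → Fin m := Fin.cons j₀ t with ht'
    set c : Fin (r + 1) → R := fun k =>
      a * ((-1) ^ (k : ℕ) * (M.submatrix s (t' ∘ k.succAbove)).det) with hc
    set x : Fin m → R := fun j => ∑ k : Fin (r + 1), if t' k = j then c k else 0 with hx
    have hMx : M.mulVec x = 0 := by
      ext i
      simp only [Matrix.mulVec, dotProduct, Pi.zero_apply, hx]
      have h1 : ∀ j, M i j * ∑ k : Fin (r + 1), (if t' k = j then c k else 0) =
          ∑ k : Fin (r + 1), if t' k = j then M i (t' k) * c k else 0 := by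
        intro j
        rw [Finset.mul_sum]
        refine Finset.sum_congr rfl fun k _ => ?_
        split_ifs with hk
        · rw [hk]
        · rw [mul_zero]
      simp_rw [h1]
      rw [Finset.sum_comm]
      simp only [Finset.sum_ite_eq, Finset.mem_univ, if_true]
      have h2 := hfind (Fin.cons i s) t'
      rw [Matrix.det_succ_row_zero, Finset.mul_sum] at h2
      rw [← h2]
      refine Finset.sum_congr rfl fun k _ => ?_
      simp only [hc, Matrix.submatrix_apply, Fin.cons_zero, Matrix.submatrix_submatrix]
      have : (Fin.cons i s : Fin (r + 1) → Fin n) ∘ Fin.succ = s := by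
        ext l; simp
      rw [this]
      ring
    have hx0 : x = 0 := by
      apply h
      rw [Matrix.mulVecLin_apply, hMx, map_zero]
    have hxj : x j₀ = a * (M.submatrix s t).det := by
      simp only [hx]
      rw [Fin.sum_univ_succ]
      have h0 : t' 0 = j₀ := by simp [ht']
      have hs : ∀ l : Fin r, t' l.succ ≠ j₀ := fun l => by
        simp only [ht', Fin.cons_succ]; exact hj₀ l
      rw [if_pos h0, Finset.sum_eq_zero (fun l _ => if_neg (hs l)), add_zero]
      simp only [hc, Fin.val_zero, pow_zero, one_mul, Fin.succAbove_zero]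
      have : t' ∘ Fin.succ = t := by
        ext l; simp [ht']
      rw [this]
    apply hst
    rw [← hxj, hx0, Pi.zero_apply]

/-- McCoy's theorem in the `CAlgX` vocabulary. -/
theorem injective_iff [Nontrivial R] :
    Function.Injective (Matrix.mulVecLin M) ↔
      CAlgX.matrixRank M = m ∧ (CAlgX.detIdeal M).annihilator = ⊥ := by
  have hbdd : BddAbove {r : ℕ | CAlgX.minorIdeal M r ≠ ⊥} := ⟨m, fun r hr => by
    by_contra hlt
    exact hr (minorIdeal_eq_bot_of_lt M (by omega))⟩
  constructor
  · intro h
    have hann := annihilator_eq_bot_of_injective M h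
    have hne : CAlgX.minorIdeal M m ≠ ⊥ := fun h0 => by
      rw [h0, Submodule.annihilator_bot] at hann
      exact top_ne_bot hann
    have hrank : CAlgX.matrixRank M = m := by
      apply le_antisymm
      · refine csSup_le ⟨m, hne⟩ (fun r hr => ?_)
        by_contra hlt
        exact hr (minorIdeal_eq_bot_of_lt M (by omega))
      · exact le_csSup hbdd hne
    refine ⟨hrank, ?_⟩
    rw [CAlgX.detIdeal, hrank]
    exact hann
  · rintro ⟨hrank, hann⟩
    rw [CAlgX.detIdeal, hrank] at hann
    exact injective_of_annihilator_eq_bot M hann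

end Groth.Agent.Lib.Helper9.McCoy
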