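import Mathlib
import Groth.Prelude.Def_BlowUp2

/-!
# Elements of the affine blow-up algebra `A[I/π] ⊆ A_π`

`x ∈ A[I/π]` iff `x = b / π^n` with `b ∈ I^n` (for `π ∈ I`).
-/

set_option autoImplicit false
universe u

namespace Groth.Agent.Lib.Helper9.BlowupAlg

variable {A : Type u} [CommRing A] (I : Ideal A) (π : A)

/-- the fraction `b / π^n` in `A_π` -/
noncomputable def frac (n : ℕ) (b : A) : Localization.Away π :=
  IsLocalization.mk' (Localization.Away π) b (⟨π ^ n, n, rfl⟩ : Submonoid.powers π)

lemma frac_mul (n m : ℕ) (b c : A) : frac π n b * frac π m c = frac π (n + m) (b * c) := by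
  unfold frac
  rw [← IsLocalization.mk'_mul]
  congr 1
  ext
  simp [pow_add]

lemma frac_zero_exp (b : A) : frac π 0 b = algebraMap A (Localization.Away π) b := by
  unfold frac
  have : (⟨π ^ 0, 0, rfl⟩ : Submonoid.powers π) = 1 := by
    ext
    simp
  rw [this, IsLocalization.mk'_one]

lemma pow_mul_frac (n : ℕ) (b : A) :
    algebraMap A (Localization.Away π) π ^ n * frac π n b = algebraMap A (Localization.Away π) b := by
  unfold frac
  rw [← map_pow, mul_comm]
  exact IsLocalization.mk'_spec (Localization.Away π) b (⟨π ^ n, n, rfl⟩ : Submonoid.powers π)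

lemma isUnit_algebraMap : IsUnit (algebraMap A (Localization.Away π) π) :=
  IsLocalization.Away.algebraMap_isUnit π

lemma eq_frac_iff (x : Localization.Away π) (n : ℕ) (b : A) :
    x = frac π n b ↔
      algebraMap A (Localization.Away π) π ^ n * x = algebraMap A (Localization.Away π) b := by
  constructor
  · rintro rfl
    exact pow_mul_frac π n b
  · intro h
    have hu := (isUnit_algebraMap π).pow n
    apply hu.mul_left_cancel
    rw [h, pow_mul_frac]

lemma frac_add (n : ℕ) (b c : A) : frac π n b + frac π n c = frac π n (b + c) := by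
  rw [eq_frac_iff, mul_add, pow_mul_frac, pow_mul_frac, map_add]

lemma frac_shift (n k : ℕ) (b : A) : frac π (n + k) (π ^ k * b) = frac π n b := by
  symm
  rw [eq_frac_iff, pow_add, mul_assoc, mul_comm, mul_assoc, mul_comm _ (_ ^ n), pow_mul_frac,
    map_mul, map_pow, mul_comm]

lemma frac_eq_zero_iff (n : ℕ) (b : A) : frac π n b = 0 ↔ ∃ l : ℕ, π ^ l * b = 0 := by
  unfold frac
  rw [IsLocalization.mk'_eq_zero_iff]
  constructor
  · rintro ⟨⟨_, l, rfl⟩, h⟩
    exact ⟨l, h⟩
  · rintro ⟨l, h⟩
    exact ⟨⟨π ^ l, l, rfl⟩, h⟩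

lemma algebraMap_mul_frac (n : ℕ) (r b : A) :
    algebraMap A (Localization.Away π) r * frac π n b = frac π n (r * b) := by
  rw [← frac_zero_exp, frac_mul, zero_add]

variable {I π}

theorem frac_mem {n : ℕ} {b : A} (hb : b ∈ I ^ n) : frac π n b ∈ BlowUp.affineAlgebra A I π := by
  induction n generalizing b with
  | zero =>
    rw [frac_zero_exp]
    exact Subalgebra.algebraMap_mem _ b
  | succ n ih =>
    rw [pow_succ] at hb
    induction hb using Submodule.mul_induction_on' with
    | mem_mul_mem c hc d hd =>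
      rw [← frac_mul]
      refine Subalgebra.mul_mem _ (ih hc) ?_
      apply Algebra.subset_adjoin
      refine ⟨d, hd, ?_⟩
      unfold frac
      congr 1
      ext
      simp
    | add x _ y _ hx hy =>
      rw [← frac_add]
      exact Subalgebra.add_mem _ hx hy

theorem mem_iff (hπ : π ∈ I) (x : Localization.Away π) :
    x ∈ BlowUp.affineAlgebra A I π ↔ ∃ n : ℕ, ∃ b ∈ I ^ n, x = frac π n b := by
  constructor
  · intro hx
    unfold BlowUp.affineAlgebra at hx
    induction hx using Algebra.adjoin_induction with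
    | mem q hq =>
      obtain ⟨d, hd, rfl⟩ := hq
      refine ⟨1, d, by rwa [pow_one], ?_⟩
      unfold frac
      congr 1
      ext
      simp
    | algebraMap r =>
      exact ⟨0, r, by simp, (frac_zero_exp π r).symm⟩
    | add x y _ _ hx hy =>
      obtain ⟨n, b, hb, rfl⟩ := hx
      obtain ⟨m, c, hc, rfl⟩ := hy
      refine ⟨n + m, π ^ m * b + π ^ n * c, ?_, ?_⟩
      · refine Ideal.add_mem _ ?_ ?_
        · rw [add_comm, pow_add]
          exact Ideal.mul_mem_mul (Ideal.pow_mem_pow hπ m) hb
        · rw [pow_add]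
          exact Ideal.mul_mem_mul (Ideal.pow_mem_pow hπ n) hc
      · rw [← frac_add, frac_shift, add_comm n m, frac_shift]
    | mul x y _ _ hx hy =>
      obtain ⟨n, b, hb, rfl⟩ := hx
      obtain ⟨m, c, hc, rfl⟩ := hy
      refine ⟨n + m, b * c, ?_, frac_mul π n m b c⟩
      rw [pow_add]
      exact Ideal.mul_mem_mul hb hc
  · rintro ⟨n, b, hb, rfl⟩
    exact frac_mem hb

/-- `awayMap` on fractions. -/
lemma awayMap_frac {B : Type u} [CommRing B] (f : A →+* B) (n : ℕ) (b : A) :
    Localization.awayMap f π (frac π n b) = frac (f π) n (f b) := by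
  unfold frac Localization.awayMap IsLocalization.Away.map
  rw [IsLocalization.map_mk']
  congr 1
  ext
  simp

lemma awayMap_algebraMap {B : Type u} [CommRing B] (f : A →+* B) (b : A) :
    Localization.awayMap f π (algebraMap A (Localization.Away π) b) =
      algebraMap B (Localization.Away (f π)) (f b) := by
  unfold Localization.awayMap IsLocalization.Away.map
  rw [IsLocalization.map_eq]

end Groth.Agent.Lib.Helper9.BlowupAlg
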