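import Mathlib.RingTheory.AdicCompletion.Basic
import Mathlib.RingTheory.Finiteness.Basic
import Mathlib.RingTheory.Ideal.Operations
import Mathlib.Tactic.Choose

/-!
# Inverse limits of modules over adically complete rings (helper9 library)
-/

set_option autoImplicit false

namespace Groth.Agent.Lib.Helper9

open Function

universe u v w

section Precomplete

variable {A : Type*} [CommRing A] (I : Ideal A)

theorem isPrecomplete_pi {ι : Type*} [Fintype ι] [DecidableEq ι] [IsPrecomplete I A] :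
    IsPrecomplete I (ι → A) := by
  refine ⟨fun f hf => ?_⟩
  have hproj : ∀ (m : ℕ) (v : ι → A), v ∈ (I ^ m • ⊤ : Submodule A (ι → A)) →
      ∀ i, v i ∈ (I ^ m • ⊤ : Submodule A A) := by
    intro m v hv i
    have h1 : (I ^ m • ⊤ : Submodule A (ι → A)).map (LinearMap.proj i) ≤ I ^ m • ⊤ := by
      rw [Submodule.map_smul'']
      exact Submodule.smul_mono le_rfl le_top
    exact h1 ⟨v, hv, rfl⟩
  have hcomp : ∀ i, ∃ ℓ : A, ∀ n, f n i ≡ ℓ [SMOD (I ^ n • ⊤ : Submodule A A)] := by
    intro i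
    apply IsPrecomplete.prec ‹_› (f := fun n => f n i)
    intro m n hmn
    rw [SModEq.sub_mem]
    have := hproj m (f m - f n) ((SModEq.sub_mem).mp (hf hmn)) i
    simpa using this
  choose ℓ hℓ using hcomp
  refine ⟨ℓ, fun n => ?_⟩
  rw [SModEq.sub_mem]
  have h2 : f n - ℓ = ∑ i, (f n i - ℓ i) • (Pi.single i (1 : A) : ι → A) := by
    funext j
    simp [Finset.sum_apply, Pi.single_apply]
  rw [h2]
  refine Submodule.sum_mem _ fun i _ => Submodule.smul_mem_smul ?_ trivial
  have := (SModEq.sub_mem).mp (hℓ i n)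
  rwa [smul_eq_mul, Ideal.mul_top] at this

end Precomplete

section Nakayama

variable {R M : Type*} [CommRing R] [AddCommGroup M] [Module R M]

/-- Nilpotent Nakayama, module version: if `I ^ k` kills `M` and `N + I M = M` then `N = M`. -/
theorem eq_top_of_sup_smul_top_eq_top_of_pow_smul_eq_bot (I : Ideal R) (k : ℕ)
    (hI : I ^ k • (⊤ : Submodule R M) = ⊥) (N : Submodule R M)
    (h : N ⊔ I • ⊤ = ⊤) : N = ⊤ := by
  have key : ∀ k : ℕ, N ⊔ (I ^ k) • (⊤ : Submodule R M) = ⊤ := by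
    intro k
    induction k with
    | zero => simp
    | succ k ih =>
      rw [eq_top_iff]
      calc (⊤ : Submodule R M) = N ⊔ (I ^ k) • (⊤ : Submodule R M) := ih.symm
        _ = N ⊔ (I ^ k) • (N ⊔ I • ⊤) := by rw [h]
        _ = N ⊔ ((I ^ k) • N ⊔ (I ^ k) • (I • ⊤)) := by rw [Submodule.smul_sup]
        _ ≤ N ⊔ (I ^ (k + 1)) • ⊤ := by
          rw [← Submodule.mul_smul, ← pow_succ]
          refine sup_le le_sup_left (sup_le ?_ le_sup_right)
          exact le_sup_of_le_left Submodule.smul_le_right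
  have := key k
  rw [hI] at this
  simpa using this

end Nakayama

section System

theorem exists_compatible_family :
    ∀ (n : ℕ) (M : ℕ → Type v) (f : ∀ k, M (k + 1) → M k), (∀ k, Function.Surjective (f k)) →
      ∀ y : M n, ∃ z : ∀ k, M k, (∀ k, f k (z (k + 1)) = z k) ∧ z n = y := by
  intro n
  induction n with
  | zero =>
    intro M f hf y
    choose e he using hf
    refine ⟨fun k => Nat.rec y (fun k w => e k w) k, fun k => ?_, rfl⟩
    exact he k _
  | succ n ih =>
    intro M f hf y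
    obtain ⟨z', hz', hz'n⟩ := ih (fun k => M (k + 1)) (fun k => f (k + 1)) (fun k => hf (k + 1)) y
    refine ⟨fun k => match k with
      | 0 => f 0 (z' 0)
      | k + 1 => z' k, fun k => ?_, hz'n⟩
    cases k with
    | zero => rfl
    | succ k => exact hz' k

variable {A : Type u} [CommRing A] (I : Ideal A)
  {M : ℕ → Type v} [∀ n, AddCommGroup (M n)] [∀ n, Module A (M n)]
  (f : ∀ n, M (n + 1) →ₗ[A] M n)
  {L : Type w} [AddCommGroup L] [Module A L] (π : ∀ n, L →ₗ[A] M n)

include f in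
theorem proj_surjective (hf : ∀ n, Surjective (f n))
    (hlift : ∀ y : (∀ n, M n), (∀ n, f n (y (n + 1)) = y n) → ∃ x : L, ∀ n, π n x = y n)
    (n : ℕ) : Surjective (π n) := by
  intro y
  obtain ⟨z, hz, hzn⟩ := exists_compatible_family n M (fun k => f k) hf y
  obtain ⟨x, hx⟩ := hlift z hz
  exact ⟨x, (hx n).trans hzn⟩

include f in
theorem proj_eq_zero_of_le (hπ : ∀ n, f n ∘ₗ π (n + 1) = π n) (y : L) {j N : ℕ} (hjN : j ≤ N)
    (hy : π N y = 0) : π j y = 0 := by
  induction N, hjN using Nat.le_induction with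
  | base => exact hy
  | succ N _ ih =>
    apply ih
    rw [← hπ N, LinearMap.comp_apply, hy, map_zero]

include f in
theorem proj_mem_smul_top (hf : ∀ n, Surjective (f n))
    (hker : ∀ n, LinearMap.ker (f n) = I ^ (n + 1) • (⊤ : Submodule A (M (n + 1))))
    (hπ : ∀ n, f n ∘ₗ π (n + 1) = π n) (z : L) (hz : π 0 z = 0) (n : ℕ) :
    π n z ∈ I • (⊤ : Submodule A (M n)) := by
  induction n with
  | zero => rw [hz]; exact Submodule.zero_mem _
  | succ n ih =>
    have h1 : f n (π (n + 1) z) ∈ (I • (⊤ : Submodule A (M (n + 1)))).map (f n) := by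
      rw [Submodule.map_smul'', Submodule.map_top, LinearMap.range_eq_top.mpr (hf n)]
      have := congrArg (fun g => g z) (hπ n)
      simp only [LinearMap.comp_apply] at this
      rw [this]
      exact ih
    obtain ⟨w, hw, hwz⟩ := h1
    have h2 : π (n + 1) z - w ∈ LinearMap.ker (f n) := by
      rw [LinearMap.mem_ker, map_sub, hwz, sub_self]
    rw [hker n] at h2
    have h3 : I ^ (n + 1) • (⊤ : Submodule A (M (n + 1))) ≤ I • ⊤ :=
      Submodule.smul_mono (Ideal.pow_le_self (by omega)) le_rfl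
    have : π (n + 1) z = (π (n + 1) z - w) + w := by abel
    rw [this]
    exact Submodule.add_mem _ (h3 h2) hw

section Approx

variable {P : Type*} [AddCommGroup P] [Module A P] (φ : P →ₗ[A] L)

include f in
theorem comp_surjective (hf : ∀ n, Surjective (f n))
    (hk : ∀ n, I ^ (n + 1) • (⊤ : Submodule A (M n)) = ⊥)
    (hker : ∀ n, LinearMap.ker (f n) = I ^ (n + 1) • (⊤ : Submodule A (M (n + 1))))
    (hπ : ∀ n, f n ∘ₗ π (n + 1) = π n)
    (hlift : ∀ y : (∀ n, M n), (∀ n, f n (y (n + 1)) = y n) → ∃ x : L, ∀ n, π n x = y n)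
    (h0 : Surjective (π 0 ∘ₗ φ)) (n : ℕ) : Surjective (π n ∘ₗ φ) := by
  rw [← LinearMap.range_eq_top]
  refine eq_top_of_sup_smul_top_eq_top_of_pow_smul_eq_bot I (n + 1) (hk n) _ ?_
  rw [eq_top_iff]
  intro m _
  obtain ⟨y, rfl⟩ := proj_surjective f π hf hlift n m
  obtain ⟨p, hp⟩ := h0 (π 0 y)
  have hz : π 0 (y - φ p) = 0 := by
    rw [map_sub, ← hp, LinearMap.comp_apply, sub_self]
  have h1 := proj_mem_smul_top I f π hf hker hπ (y - φ p) hz n
  have : π n y = (π n ∘ₗ φ) p + π n (y - φ p) := by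
    rw [LinearMap.comp_apply, map_sub]; abel
  rw [this]
  exact Submodule.add_mem_sup (LinearMap.mem_range_self _ p) h1

include f in
theorem approx_step (hker : ∀ n, LinearMap.ker (f n) = I ^ (n + 1) • (⊤ : Submodule A (M (n + 1))))
    (hπ : ∀ n, f n ∘ₗ π (n + 1) = π n)
    (hsurj : ∀ n, Surjective (π n ∘ₗ φ)) (x : L) (N : ℕ) (b : P) (hb : π N (φ b - x) = 0) :
    ∃ b' : P, b' - b ∈ (I ^ (N + 1) • ⊤ : Submodule A P) ∧ π (N + 1) (φ b' - x) = 0 := by
  have h1 : π (N + 1) (x - φ b) ∈ LinearMap.ker (f N) := by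
    rw [LinearMap.mem_ker]
    have := congrArg (fun g => g (x - φ b)) (hπ N)
    simp only [LinearMap.comp_apply] at this
    rw [this, ← neg_sub, map_neg, hb, neg_zero]
  rw [hker N] at h1
  have h2 : (I ^ (N + 1) • ⊤ : Submodule A (M (N + 1))) =
      (I ^ (N + 1) • ⊤ : Submodule A P).map (π (N + 1) ∘ₗ φ) := by
    rw [Submodule.map_smul'', Submodule.map_top, LinearMap.range_eq_top.mpr (hsurj (N + 1))]
  rw [h2] at h1
  obtain ⟨δ, hδ, hδy⟩ := h1
  refine ⟨b + δ, by simpa using hδ, ?_⟩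
  rw [LinearMap.comp_apply] at hδy
  have : φ (b + δ) - x = φ δ - (x - φ b) := by rw [map_add]; abel
  rw [this, map_sub, hδy, sub_self]

include f in
/-- Successive approximation. -/
theorem approx [IsPrecomplete I P]
    (hk : ∀ n, I ^ (n + 1) • (⊤ : Submodule A (M n)) = ⊥)
    (hker : ∀ n, LinearMap.ker (f n) = I ^ (n + 1) • (⊤ : Submodule A (M (n + 1))))
    (hπ : ∀ n, f n ∘ₗ π (n + 1) = π n)
    (hinj : ∀ x : L, (∀ n, π n x = 0) → x = 0)
    (hsurj : ∀ n, Surjective (π n ∘ₗ φ)) (n : ℕ) (x : L) (b : P) (hb : π n (φ b - x) = 0) :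
    ∃ a : P, a - b ∈ (I ^ (n + 1) • ⊤ : Submodule A P) ∧ φ a = x := by
  have hstep := approx_step I f π φ hker hπ hsurj x
  let s : (k : ℕ) → {p : P // π (n + k) (φ p - x) = 0} := fun k =>
    Nat.rec (motive := fun k => {p : P // π (n + k) (φ p - x) = 0}) ⟨b, hb⟩
      (fun k p => ⟨Classical.choose (hstep (n + k) p.1 p.2),
        (Classical.choose_spec (hstep (n + k) p.1 p.2)).2⟩) k
  have hs : ∀ k, (s (k + 1)).1 - (s k).1 ∈ (I ^ (n + k + 1) • ⊤ : Submodule A P) := fun k =>
    (Classical.choose_spec (hstep (n + k) (s k).1 (s k).2)).1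
  have hs0 : (s 0).1 = b := rfl
  have hcauchy : ∀ m m', m ≤ m' → (s m').1 - (s m).1 ∈ (I ^ (n + m + 1) • ⊤ : Submodule A P) := by
    intro m m' hmm'
    induction m', hmm' using Nat.le_induction with
    | base => rw [sub_self]; exact Submodule.zero_mem _
    | succ m' hm' ih =>
      have h1 : (I ^ (n + m' + 1) • ⊤ : Submodule A P) ≤ I ^ (n + m + 1) • ⊤ :=
        Submodule.smul_mono (Ideal.pow_le_pow_right (by omega)) le_rfl
      have : (s (m' + 1)).1 - (s m).1 = ((s (m' + 1)).1 - (s m').1) + ((s m').1 - (s m).1) := by abel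
      rw [this]
      exact Submodule.add_mem _ (h1 (hs m')) ih
  obtain ⟨a, ha⟩ := IsPrecomplete.prec ‹IsPrecomplete I P› (f := fun k => (s k).1) (by
    intro m m' hmm'
    rw [SModEq.sub_mem, ← neg_sub, Submodule.neg_mem_iff]
    exact Submodule.smul_mono (Ideal.pow_le_pow_right (by omega)) le_rfl (hcauchy m m' hmm'))
  have ha' : ∀ k, a - (s k).1 ∈ (I ^ k • ⊤ : Submodule A P) := fun k => by
    have := (SModEq.sub_mem).mp (ha k)
    rwa [← neg_sub, Submodule.neg_mem_iff] at this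
  refine ⟨a, ?_, ?_⟩
  · have : a - b = (a - (s (n + 1)).1) + ((s (n + 1)).1 - (s 0).1) := by rw [hs0]; abel
    rw [this]
    refine Submodule.add_mem _ (ha' (n + 1)) ?_
    have := hcauchy 0 (n + 1) (by omega)
    simpa using this
  · rw [← sub_eq_zero]
    apply hinj
    intro j
    have h1 : π j (φ (a - (s (j + 1)).1)) = 0 := by
      have h2 : π j (φ (a - (s (j + 1)).1)) ∈ (I ^ (j + 1) • ⊤ : Submodule A P).map (π j ∘ₗ φ) :=
        ⟨_, ha' (j + 1), rfl⟩
      rw [Submodule.map_smul''] at h2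
      have h3 : (I ^ (j + 1) • Submodule.map (π j ∘ₗ φ) ⊤ : Submodule A (M j)) ≤ ⊥ := by
        rw [← hk j]
        exact Submodule.smul_mono le_rfl le_top
      simpa using h3 h2
    have h4 : π j (φ (s (j + 1)).1 - x) = 0 :=
      proj_eq_zero_of_le f π hπ _ (by omega) (s (j + 1)).2
    have : φ a - x = φ (a - (s (j + 1)).1) + (φ (s (j + 1)).1 - x) := by rw [map_sub]; abel
    rw [this, map_add, h1, h4, add_zero]

end Approx

end System

end Groth.Agent.Lib.Helper9
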