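import Mathlib
import Groth.Agent.Lib.Helper9.AdicLimit
import Groth.Agent.Lib.Helper1.ArtFunQuotRing

/-!
# Finite products of local rings; finite algebras over complete local rings

* `isAdicComplete_of_le_of_pow_le`: change of ideal of definition.
* `isAdicComplete_of_finite`: finite modules over complete Noetherian local rings are complete.
* `isAdicComplete_maximalIdeal_of_finite`: a local ring finite over a complete Noetherian local ring
  is complete.
* `finite_maximalSpectrum`, `algebraMap_pi_localization_bijective`,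
  `algebraMap_localization_surjective`: a ring `S` with `S ≃ ∏ A i` (finitely many local rings, given by
  components `φ i` with `RingHom.pi φ` bijective) has finitely many maximal ideals, maps bijectively
  to the product of its localizations at maximal ideals, and maps onto each of these.
-/

set_option autoImplicit false
set_option linter.unusedSectionVars false
universe u

namespace Groth.Agent.Lib.Helper9.SemiLocalProd

open IsLocalRing

/-- Changing the ideal of definition: if `J ≤ J'` and `J' ^ k ≤ J`, then `J`-adic completeness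
implies `J'`-adic completeness. -/
theorem isAdicComplete_of_le_of_pow_le {A : Type*} [CommRing A] (J J' : Ideal A) (h1 : J ≤ J')
    (k : ℕ) (h2 : J' ^ k ≤ J) [IsAdicComplete J A] : IsAdicComplete J' A := by
  have h2' : J' ^ (k + 1) ≤ J := (Ideal.pow_le_pow_right (Nat.le_succ k)).trans h2
  have hpow : ∀ n, J' ^ ((k + 1) * n) ≤ J ^ n := fun n => by
    rw [pow_mul]; exact Ideal.pow_right_mono h2' n
  have hle : ∀ n, n ≤ (k + 1) * n := fun n => Nat.le_mul_of_pos_left n (Nat.succ_pos k)
  have hH : IsHausdorff J' A := by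
    constructor
    intro x hx
    apply IsHausdorff.haus' (I := J) x
    intro n
    have := hx ((k + 1) * n)
    rw [SModEq.zero, smul_eq_mul, Ideal.mul_top] at this ⊢
    exact hpow n this
  have hP : IsPrecomplete J' A := by
    constructor
    intro f hf
    obtain ⟨L, hL⟩ := IsPrecomplete.prec' (I := J) (fun n => f ((k + 1) * n)) (by
      intro m n hmn
      have := @hf ((k + 1) * m) ((k + 1) * n) (Nat.mul_le_mul_left _ hmn)
      rw [SModEq.sub_mem, smul_eq_mul, Ideal.mul_top] at this ⊢
      exact hpow m this)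
    refine ⟨L, fun n => ?_⟩
    have e1 := @hf n ((k + 1) * n) (hle n)
    have e2 := hL n
    rw [SModEq.sub_mem, smul_eq_mul, Ideal.mul_top] at e1 e2 ⊢
    have : f n - L = (f n - f ((k + 1) * n)) + (f ((k + 1) * n) - L) := by ring
    rw [this]
    exact Ideal.add_mem _ e1 (Ideal.pow_right_mono h1 n e2)
  exact { hH, hP with }

/-- A finite module over a Noetherian local ring complete for its maximal ideal is complete. -/
theorem isAdicComplete_of_finite (R : Type*) [CommRing R] [IsLocalRing R] [IsNoetherianRing R]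
    [IsAdicComplete (maximalIdeal R) R] (M : Type*) [AddCommGroup M] [Module R M]
    [Module.Finite R M] : IsAdicComplete (maximalIdeal R) M := by
  have hH : IsHausdorff (maximalIdeal R) M := inferInstance
  obtain ⟨n, f, hf⟩ := Module.Finite.exists_fin' R M
  have hP0 : IsPrecomplete (maximalIdeal R) (Fin n → R) :=
    Groth.Agent.Lib.Helper9.isPrecomplete_pi (maximalIdeal R)
  have hP : IsPrecomplete (maximalIdeal R) M :=
    Groth.Agent.Lib.Helper1.ArtFunLib.isPrecomplete_of_surjective (maximalIdeal R) f hf
  exact { hH, hP with }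

/-- A local ring which is module-finite over a complete Noetherian local ring is complete for its
own maximal ideal. -/
theorem isAdicComplete_maximalIdeal_of_finite (R : Type*) [CommRing R] [IsLocalRing R]
    [IsNoetherianRing R] [IsAdicComplete (maximalIdeal R) R] (T : Type*) [CommRing T] [Algebra R T]
    [Module.Finite R T] [IsLocalRing T] : IsAdicComplete (maximalIdeal T) T := by
  have hNT : IsNoetherianRing T := IsNoetherianRing.of_finite R T
  have hint : Algebra.IsIntegral R T := inferInstance
  set J : Ideal T := (maximalIdeal R).map (algebraMap R T) with hJ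
  have hc0 : IsAdicComplete (maximalIdeal R) T := isAdicComplete_of_finite R T
  have hc : IsAdicComplete J T := (IsAdicComplete.map_algebraMap_iff (R := R) (S := T) (M := T) (I := maximalIdeal R)).mpr hc0
  -- comap of the maximal ideal of T is the maximal ideal of R
  have hcomap : (maximalIdeal T).comap (algebraMap R T) = maximalIdeal R := by
    have : ((maximalIdeal T).comap (algebraMap R T)).IsMaximal :=
      Ideal.isMaximal_comap_of_isIntegral_of_isMaximal (R := R) (maximalIdeal T)
    exact IsLocalRing.eq_maximalIdeal this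
  have h1 : J ≤ maximalIdeal T := by
    rw [hJ, Ideal.map_le_iff_le_comap, hcomap]
  -- maximal ideal of T is contained in the radical of J
  have hrad : maximalIdeal T ≤ J.radical := by
    rw [Ideal.radical_eq_sInf]
    refine le_sInf ?_
    rintro P ⟨hJP, hP⟩
    have hPc : (P.comap (algebraMap R T)) = maximalIdeal R := by
      apply le_antisymm
      · exact IsLocalRing.le_maximalIdeal (Ideal.IsPrime.ne_top (Ideal.comap_isPrime _ P))
      · rw [← Ideal.map_le_iff_le_comap]; exact hJP
    have hPmax : P.IsMaximal := by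
      apply Ideal.isMaximal_of_isIntegral_of_isMaximal_comap (R := R) P
      rw [hPc]; infer_instance
    rw [IsLocalRing.eq_maximalIdeal hPmax]
  obtain ⟨k, hk⟩ := Ideal.exists_pow_le_of_le_radical_of_fg hrad
    (IsNoetherian.noetherian (maximalIdeal T))
  exact isAdicComplete_of_le_of_pow_le J (maximalIdeal T) h1 k hk

section Prod

variable {S : Type*} [CommRing S] {ι : Type*} [Fintype ι] [DecidableEq ι] {A : ι → Type*}
  [∀ i, CommRing (A i)] [∀ i, IsLocalRing (A i)] (φ : ∀ i, S →+* A i)
  (hΦ : Function.Bijective (RingHom.pi φ))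

include hΦ

theorem ext_of_forall_eq {x y : S} (h : ∀ i, φ i x = φ i y) : x = y :=
  hΦ.1 (funext h)

theorem exists_idem : ∃ ε : ι → S, ∀ i j, φ j (ε i) = if j = i then 1 else 0 := by
  have : ∀ i, ∃ e : S, RingHom.pi φ e = Pi.single i 1 := fun i => hΦ.2 _
  choose ε hε using this
  refine ⟨ε, fun i j => ?_⟩
  have := congrFun (hε i) j
  rw [RingHom.pi_apply] at this
  rw [this]
  by_cases h : j = i
  · subst h; rw [Pi.single_eq_same, if_pos rfl]
  · rw [Pi.single_eq_of_ne h, if_neg h]

theorem surjective_component (i : ι) : Function.Surjective (φ i) := by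
  intro a
  obtain ⟨s, hs⟩ := hΦ.2 (Pi.single i a)
  refine ⟨s, ?_⟩
  have := congrFun hs i
  rwa [RingHom.pi_apply, Pi.single_eq_same] at this

variable {φ}

/-- Structure of maximal ideals: given idempotents `ε` as in `exists_idem`, for every maximal ideal
`m` there is an index `i` with `ε i ∉ m`. -/
theorem exists_notMem_of_isMaximal {ε : ι → S}
    (hε : ∀ i j, φ j (ε i) = if j = i then 1 else 0) (m : Ideal S) (hm : m.IsMaximal) :
    ∃ i, ε i ∉ m := by
  by_contra h
  push Not at h
  have h1 : ∑ i, ε i = 1 := by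
    apply ext_of_forall_eq φ hΦ
    intro j
    rw [map_sum, map_one]
    simp [hε]
  apply hm.ne_top
  rw [Ideal.eq_top_iff_one, ← h1]
  exact Ideal.sum_mem _ fun i _ => h i

theorem mem_of_ne {ε : ι → S}
    (hε : ∀ i j, φ j (ε i) = if j = i then 1 else 0) (m : Ideal S) (hm : m.IsMaximal) {i j : ι}
    (hi : ε i ∉ m) (hij : j ≠ i) : ε j ∈ m := by
  have h0 : ε j * ε i = 0 := by
    apply ext_of_forall_eq φ hΦ
    intro l
    rw [map_mul, map_zero, hε, hε]
    by_cases h1 : l = j
    · have : l ≠ i := fun h => hij (h1.symm.trans h)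
      simp [this]
    · simp [h1]
  have : ε j * ε i ∈ m := by rw [h0]; exact m.zero_mem
  exact (hm.isPrime.mem_or_mem this).resolve_right hi

theorem map_mem_maximalIdeal {ε : ι → S}
    (hε : ∀ i j, φ j (ε i) = if j = i then 1 else 0) (m : Ideal S) {i : ι}
    (hi : ε i ∉ m) {x : S} (hx : x ∈ m) : φ i x ∈ maximalIdeal (A i) := by
  rw [mem_maximalIdeal, mem_nonunits_iff]
  intro hu
  obtain ⟨b, hb⟩ := hu.exists_right_inv
  obtain ⟨y, rfl⟩ := surjective_component φ hΦ i b
  apply hi
  have : x * y * ε i = ε i := by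
    apply ext_of_forall_eq φ hΦ
    intro l
    rw [map_mul, map_mul, hε]
    by_cases h1 : l = i
    · subst h1; simp [hb]
    · simp [h1]
  rw [← this]
  exact m.mul_mem_right _ (m.mul_mem_right _ hx)

theorem eq_comap_maximalIdeal {ε : ι → S}
    (hε : ∀ i j, φ j (ε i) = if j = i then 1 else 0) (m : Ideal S) (hm : m.IsMaximal) {i : ι}
    (hi : ε i ∉ m) : m = (maximalIdeal (A i)).comap (φ i) := by
  apply hm.eq_of_le (Ideal.comap_ne_top _ (Ideal.IsPrime.ne_top inferInstance))
  intro x hx
  exact map_mem_maximalIdeal hΦ hε m hi hx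

/-- Elements outside `m` become invertible on the `i`-th factor. -/
theorem exists_mul_mul_eq {ε : ι → S}
    (hε : ∀ i j, φ j (ε i) = if j = i then 1 else 0) (m : Ideal S) (hm : m.IsMaximal) {i : ι}
    (hi : ε i ∉ m) {t : S} (ht : t ∉ m) : ∃ t' : S, t * t' * ε i = ε i := by
  have hu : IsUnit (φ i t) := by
    by_contra hnu
    apply ht
    rw [eq_comap_maximalIdeal hΦ hε m hm hi, Ideal.mem_comap, mem_maximalIdeal, mem_nonunits_iff]
    exact hnu
  obtain ⟨b, hb⟩ := hu.exists_right_inv
  obtain ⟨y, rfl⟩ := surjective_component φ hΦ i b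
  refine ⟨y, ?_⟩
  apply ext_of_forall_eq φ hΦ
  intro l
  rw [map_mul, map_mul, hε]
  by_cases h1 : l = i
  · subst h1; simp [hb]
  · simp [h1]

theorem algebraMap_idem_eq_one {ε : ι → S}
    (hε : ∀ i j, φ j (ε i) = if j = i then 1 else 0) (m : Ideal S) [hm : m.IsMaximal] {i : ι}
    (hi : ε i ∉ m) : algebraMap S (Localization.AtPrime m) (ε i) = 1 := by
  rw [← map_one (algebraMap S (Localization.AtPrime m)),
    IsLocalization.eq_iff_exists m.primeCompl]
  refine ⟨⟨ε i, hi⟩, ?_⟩
  apply ext_of_forall_eq φ hΦ
  intro l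
  simp only [map_mul, map_one, hε]
  by_cases h1 : l = i <;> simp [h1]

theorem algebraMap_idem_eq_zero {ε : ι → S}
    (hε : ∀ i j, φ j (ε i) = if j = i then 1 else 0) (m : Ideal S) [hm : m.IsMaximal] {i j : ι}
    (hi : ε i ∉ m) (hij : j ≠ i) : algebraMap S (Localization.AtPrime m) (ε j) = 0 := by
  rw [← map_zero (algebraMap S (Localization.AtPrime m)),
    IsLocalization.eq_iff_exists m.primeCompl]
  refine ⟨⟨ε i, hi⟩, ?_⟩
  apply ext_of_forall_eq φ hΦ
  intro l
  simp only [map_mul, map_zero, hε]
  by_cases h1 : l = i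
  · have : l ≠ j := fun h => hij (h.symm.trans h1)
    simp [this]
  · simp [h1]

theorem algebraMap_localization_surjective {ε : ι → S}
    (hε : ∀ i j, φ j (ε i) = if j = i then 1 else 0) (m : Ideal S) [hm : m.IsMaximal] {i : ι}
    (hi : ε i ∉ m) : Function.Surjective (algebraMap S (Localization.AtPrime m)) := by
  intro x
  obtain ⟨a, ⟨t, ht⟩, rfl⟩ := IsLocalization.exists_mk'_eq m.primeCompl x
  obtain ⟨t', ht'⟩ := exists_mul_mul_eq hΦ hε m hm hi ht
  refine ⟨a * t' * ε i, ?_⟩
  rw [eq_comm, IsLocalization.mk'_eq_iff_eq_mul, ← map_mul]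
  have : a * t' * ε i * t = a * (t * t' * ε i) := by ring
  simp only
  rw [this, ht', map_mul, algebraMap_idem_eq_one hΦ hε m hi, mul_one]


theorem finite_maximalSpectrum : Finite (MaximalSpectrum S) := by
  obtain ⟨ε, hε⟩ := exists_idem φ hΦ
  have hex : ∀ m : MaximalSpectrum S, ∃ i, ε i ∉ m.asIdeal := fun m =>
    exists_notMem_of_isMaximal hΦ hε m.asIdeal m.isMaximal
  choose idx hidx using hex
  apply Finite.of_injective idx
  intro m m' h
  apply MaximalSpectrum.ext
  rw [eq_comap_maximalIdeal hΦ hε m.asIdeal m.isMaximal (hidx m),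
    eq_comap_maximalIdeal hΦ hε m'.asIdeal m'.isMaximal (hidx m'), h]

theorem algebraMap_localization_surjective' (m : Ideal S) [hm : m.IsMaximal] :
    Function.Surjective (algebraMap S (Localization.AtPrime m)) := by
  obtain ⟨ε, hε⟩ := exists_idem φ hΦ
  obtain ⟨i, hi⟩ := exists_notMem_of_isMaximal hΦ hε m hm
  exact algebraMap_localization_surjective hΦ hε m hi

theorem algebraMap_pi_localization_bijective :
    Function.Bijective
      (algebraMap S ((m : MaximalSpectrum S) → Localization.AtPrime m.asIdeal)) := by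
  classical
  refine ⟨MaximalSpectrum.toPiLocalization_injective S, ?_⟩
  obtain ⟨ε, hε⟩ := exists_idem φ hΦ
  have hex : ∀ m : MaximalSpectrum S, ∃ i, ε i ∉ m.asIdeal := fun m =>
    exists_notMem_of_isMaximal hΦ hε m.asIdeal m.isMaximal
  choose idx hidx using hex
  have hinj : Function.Injective idx := by
    intro m m' h
    apply MaximalSpectrum.ext
    rw [eq_comap_maximalIdeal hΦ hε m.asIdeal m.isMaximal (hidx m),
      eq_comap_maximalIdeal hΦ hε m'.asIdeal m'.isMaximal (hidx m'), h]
  have : Finite (MaximalSpectrum S) := Finite.of_injective idx hinj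
  have : Fintype (MaximalSpectrum S) := Fintype.ofFinite _
  intro x
  have hs : ∀ m : MaximalSpectrum S, ∃ s : S,
      algebraMap S (Localization.AtPrime m.asIdeal) s = x m := fun m =>
    algebraMap_localization_surjective hΦ hε m.asIdeal (hidx m) (x m)
  choose s hs using hs
  refine ⟨∑ m, s m * ε (idx m), ?_⟩
  funext m'
  rw [Pi.algebraMap_apply, map_sum, Finset.sum_eq_single m']
  · rw [map_mul, algebraMap_idem_eq_one hΦ hε m'.asIdeal (hidx m'), mul_one, hs]
  · intro m _ hne
    rw [map_mul, algebraMap_idem_eq_zero hΦ hε m'.asIdeal (hidx m') (fun h => hne (hinj h)),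
      mul_zero]
  · intro h; exact absurd (Finset.mem_univ m') h

end Prod

end Groth.Agent.Lib.Helper9.SemiLocalProd
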