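import Mathlib.Algebra.Homology.DerivedCategory.TStructure
import Mathlib.Algebra.Homology.DerivedCategory.FullyFaithful
import Mathlib.CategoryTheory.Shift.CommShift
import Mathlib.CategoryTheory.Triangulated.Functor
import Mathlib.CategoryTheory.Triangulated.TStructure.TruncLTGE

/-!
# Way-out functor lemmas (Hartshorne, Residues and Duality I.7.1) (helper9 library)
-/

set_option autoImplicit false
set_option linter.unusedSectionVars false

universe w w' v v' u u'

open CategoryTheory CategoryTheory.Limits CategoryTheory.Pretriangulated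

namespace Groth.Agent.Lib.Helper9

section General

variable {C : Type*} [Category C] [HasZeroObject C] [Preadditive C] [HasShift C ℤ]
  [∀ n : ℤ, (shiftFunctor C n).Additive] [Pretriangulated C]
  {D : Type*} [Category D] [HasZeroObject D] [Preadditive D] [HasShift D ℤ]
  [∀ n : ℤ, (shiftFunctor D n).Additive] [Pretriangulated D]
  (F G : C ⥤ D) [F.CommShift ℤ] [G.CommShift ℤ] [F.IsTriangulated] [G.IsTriangulated]
  (η : F ⟶ G) [NatTrans.CommShift η ℤ]

set_option backward.isDefEq.respectTransparency.types false in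
set_option backward.defeqAttrib.useBackward true in
/-- The morphism of triangles induced by a natural transformation commuting with shifts. -/
def mapTriangleHom (T : Triangle C) : F.mapTriangle.obj T ⟶ G.mapTriangle.obj T where
  hom₁ := η.app T.obj₁
  hom₂ := η.app T.obj₂
  hom₃ := η.app T.obj₃
  comm₁ := by dsimp; simp
  comm₂ := by dsimp; simp
  comm₃ := by
    dsimp
    simp only [Category.assoc, NatTrans.shift_app_comm η (1 : ℤ) T.obj₁,
      NatTrans.naturality_assoc]

include F G in
theorem isIso_app_obj₂ (T : Triangle C) (hT : T ∈ distTriang C)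
    (h₁ : IsIso (η.app T.obj₁)) (h₃ : IsIso (η.app T.obj₃)) : IsIso (η.app T.obj₂) :=
  isIso₂_of_isIso₁₃ (mapTriangleHom F G η T) (F.map_distinguished T hT)
    (G.map_distinguished T hT) h₁ h₃

include F G in
theorem isIso_app_shift (Y : C) (m : ℤ) (h : IsIso (η.app Y)) : IsIso (η.app (Y⟦m⟧)) := by
  rw [NatTrans.app_shift η m Y]
  infer_instance

include F G in
theorem isIso_app_of_isZero (Y : C) (hY : IsZero Y) : IsIso (η.app Y) := by
  have hF : IsZero (F.obj Y) := F.map_isZero hY
  have hG : IsZero (G.obj Y) := G.map_isZero hY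
  exact ⟨0, hF.eq_of_src _ _, hG.eq_of_src _ _⟩

end General

section Derived

open DerivedCategory

variable {A : Type u} [Category.{v} A] [Abelian A] [HasDerivedCategory.{w} A]

theorem isIso_homologyMap_mor₁ (T : Triangle (DerivedCategory A)) (hT : T ∈ distTriang _)
    (n : ℤ) (h₃ : T.obj₃.IsGE n) (i : ℤ) (hi : i < n) :
    IsIso ((homologyFunctor A i).map T.mor₁) := by
  have hmono : Mono ((homologyFunctor A i).map T.mor₁) := by
    rw [HomologySequence.mono_homologyMap_mor₁_iff T hT (i - 1) i (by omega)]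
    exact (T.obj₃.isZero_of_isGE n (i - 1) (by omega)).eq_of_src _ _
  have hepi : Epi ((homologyFunctor A i).map T.mor₁) := by
    rw [HomologySequence.epi_homologyMap_mor₁_iff T hT i]
    exact (T.obj₃.isZero_of_isGE n i hi).eq_of_tgt _ _
  exact isIso_of_mono_of_epi _

theorem isIso_homologyMap_mor₂ (T : Triangle (DerivedCategory A)) (hT : T ∈ distTriang _)
    (n : ℤ) (h₁ : T.obj₁.IsLE n) (i : ℤ) (hi : n < i) :
    IsIso ((homologyFunctor A i).map T.mor₂) := by
  have hmono : Mono ((homologyFunctor A i).map T.mor₂) := by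
    rw [HomologySequence.mono_homologyMap_mor₂_iff T hT i]
    exact (T.obj₁.isZero_of_isLE n i hi).eq_of_src _ _
  have hepi : Epi ((homologyFunctor A i).map T.mor₂) := by
    rw [HomologySequence.epi_homologyMap_mor₂_iff T hT i (i + 1) rfl]
    exact (T.obj₁.isZero_of_isLE n (i + 1) (by omega)).eq_of_tgt _ _
  exact isIso_of_mono_of_epi _

variable (P : ObjectProperty A) [P.IsClosedUnderIsomorphisms]

theorem prop_homology_truncLT (hP0 : ∀ Z : A, IsZero Z → P Z) (X : DerivedCategory A) (n : ℤ)
    (hX : ∀ i : ℤ, P ((homologyFunctor A i).obj X)) (i : ℤ) :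
    P ((homologyFunctor A i).obj ((TStructure.t.truncLT n).obj X)) := by
  by_cases hi : i < n
  · have h := isIso_homologyMap_mor₁ _ (TStructure.t.triangleLTGE_distinguished n X) n
      inferInstance i hi
    exact P.prop_of_iso (@asIso _ _ _ _ _ h).symm (hX i)
  · apply hP0
    have : ((TStructure.t.truncLT n).obj X).IsLE (n - 1) := inferInstance
    exact ((TStructure.t.truncLT n).obj X).isZero_of_isLE (n - 1) i (by omega)

theorem prop_homology_truncGE (hP0 : ∀ Z : A, IsZero Z → P Z) (X : DerivedCategory A) (n : ℤ)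
    (hX : ∀ i : ℤ, P ((homologyFunctor A i).obj X)) (i : ℤ) :
    P ((homologyFunctor A i).obj ((TStructure.t.truncGE n).obj X)) := by
  by_cases hi : i < n
  · apply hP0
    have : ((TStructure.t.truncGE n).obj X).IsGE n := inferInstance
    exact ((TStructure.t.truncGE n).obj X).isZero_of_isGE n i hi
  · have h := isIso_homologyMap_mor₂ _ (TStructure.t.triangleLTGE_distinguished n X) (n - 1)
      inferInstance i (by omega)
    exact P.prop_of_iso (@asIso _ _ _ _ _ h) (hX i)

section Bounded

variable {B : Type u'} [Category.{v'} B] [Abelian B] [HasDerivedCategory.{w'} B]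
  (F G : DerivedCategory A ⥤ DerivedCategory B) [F.CommShift ℤ] [G.CommShift ℤ]
  [F.IsTriangulated] [G.IsTriangulated] (η : F ⟶ G) [NatTrans.CommShift η ℤ]

include F G in
theorem isIso_app_single
    (hη : ∀ X : A, P X → IsIso (η.app ((singleFunctor A 0).obj X))) (n : ℤ) (Y : A) (hY : P Y) :
    IsIso (η.app ((singleFunctor A n).obj Y)) := by
  have e : ((singleFunctor A 0).obj Y)⟦(-n : ℤ)⟧ ≅ (singleFunctor A n).obj Y :=
    ((singleFunctors A).shiftIso (-n) n 0 (by omega)).app Y
  rw [← NatTrans.isIso_app_iff_of_iso η e]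
  exact isIso_app_shift F G η _ _ (hη Y hY)

include F G in
theorem isIso_app_of_isGE_of_isLE_same
    (hη : ∀ X : A, P X → IsIso (η.app ((singleFunctor A 0).obj X)))
    (X : DerivedCategory A) (n : ℤ) [X.IsGE n] [X.IsLE n]
    (hX : P ((homologyFunctor A n).obj X)) : IsIso (η.app X) := by
  obtain ⟨Y, ⟨e⟩⟩ := exists_iso_singleFunctor_obj_of_isGE_of_isLE X n
  have hY : P Y := by
    have e' : (homologyFunctor A n).obj X ≅ Y :=
      (homologyFunctor A n).mapIso e ≪≫ (singleFunctorCompHomologyFunctorIso A n).app Y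
    exact P.prop_of_iso e' hX
  rw [NatTrans.isIso_app_iff_of_iso η e]
  exact isIso_app_single P F G η hη n Y hY

include F G in
theorem isIso_app_of_bounded_aux
    (hη : ∀ X : A, P X → IsIso (η.app ((singleFunctor A 0).obj X)))
    (hP0 : ∀ Z : A, IsZero Z → P Z) (k : ℕ) :
    ∀ (X : DerivedCategory A) (a b : ℤ), X.IsGE a → X.IsLE b → b - a < k →
      (∀ i : ℤ, P ((homologyFunctor A i).obj X)) → IsIso (η.app X) := by
  induction k with
  | zero =>
    intro X a b _ _ hab _
    exact isIso_app_of_isZero F G η X (TStructure.t.isZero X b a (by simpa using hab))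
  | succ k ih =>
    intro X a b hXa hXb hab hX
    by_cases hba : b < a
    · exact isIso_app_of_isZero F G η X (TStructure.t.isZero X b a hba)
    · have hT := TStructure.t.triangleLTGE_distinguished b X
      refine isIso_app_obj₂ F G η _ hT ?_ ?_
      · show IsIso (η.app ((TStructure.t.truncLT b).obj X))
        have h1 : ((TStructure.t.truncLT b).obj X).IsGE a := inferInstance
        have h2 : ((TStructure.t.truncLT b).obj X).IsLE (b - 1) := inferInstance
        exact ih _ a (b - 1) h1 h2 (by push_cast at hab; omega)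
          (prop_homology_truncLT P hP0 X b hX)
      · show IsIso (η.app ((TStructure.t.truncGE b).obj X))
        have h1 : ((TStructure.t.truncGE b).obj X).IsGE b := inferInstance
        have h2 : ((TStructure.t.truncGE b).obj X).IsLE b := inferInstance
        exact isIso_app_of_isGE_of_isLE_same P F G η hη _ b
          (prop_homology_truncGE P hP0 X b hX b)

include F G in
theorem isIso_app_of_bounded
    (hη : ∀ X : A, P X → IsIso (η.app ((singleFunctor A 0).obj X)))
    (hP0 : ∀ Z : A, IsZero Z → P Z)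
    (X : DerivedCategory A) (a b : ℤ) [hXa : X.IsGE a] [hXb : X.IsLE b]
    (hX : ∀ i : ℤ, P ((homologyFunctor A i).obj X)) : IsIso (η.app X) :=
  isIso_app_of_bounded_aux P F G η hη hP0 (b - a + 1).toNat X a b hXa hXb (by omega) hX

omit [P.IsClosedUnderIsomorphisms] in
/-- A property closed under isomorphisms that holds for all cohomology objects of a bounded below
object contains the zero objects. -/
theorem prop_of_isZero_of_isGE [P.IsClosedUnderIsomorphisms] (X : DerivedCategory A) (a : ℤ)
    [X.IsGE a] (hX : ∀ i : ℤ, P ((homologyFunctor A i).obj X)) (Z : A) (hZ : IsZero Z) : P Z :=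
  P.prop_of_iso ((X.isZero_of_isGE a (a - 1) (by omega)).iso hZ) (hX (a - 1))

end Bounded

section WayOut

variable {B : Type u'} [Category.{v'} B] [Abelian B] [HasDerivedCategory.{w'} B]
  (F G : DerivedCategory A ⥤ DerivedCategory B) [F.CommShift ℤ] [G.CommShift ℤ]
  [F.IsTriangulated] [G.IsTriangulated] (η : F ⟶ G) [NatTrans.CommShift η ℤ]

include F G in
theorem isIso_app_of_isGE_of_wayOutRight
    (hF : ∀ n₁ : ℤ, ∃ n₂ : ℤ, ∀ Y : DerivedCategory A, Y.IsGE n₂ → (F.obj Y).IsGE n₁)
    (hG : ∀ n₁ : ℤ, ∃ n₂ : ℤ, ∀ Y : DerivedCategory A, Y.IsGE n₂ → (G.obj Y).IsGE n₁)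
    (hη : ∀ X : A, P X → IsIso (η.app ((singleFunctor A 0).obj X)))
    (hP0 : ∀ Z : A, IsZero Z → P Z)
    (X : DerivedCategory A) (a : ℤ) [hXa : X.IsGE a]
    (hX : ∀ i : ℤ, P ((homologyFunctor A i).obj X)) : IsIso (η.app X) := by
  rw [DerivedCategory.isIso_iff]
  intro j
  obtain ⟨nF, hnF⟩ := hF (j + 1)
  obtain ⟨nG, hnG⟩ := hG (j + 1)
  let n := max nF nG
  have hT := TStructure.t.triangleLTGE_distinguished n X
  have h3 : ((TStructure.t.truncGE n).obj X).IsGE n := inferInstance
  have h3F : (F.obj ((TStructure.t.truncGE n).obj X)).IsGE (j + 1) :=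
    hnF _ (TStructure.t.isGE_of_ge _ nF n (le_max_left _ _))
  have h3G : (G.obj ((TStructure.t.truncGE n).obj X)).IsGE (j + 1) :=
    hnG _ (TStructure.t.isGE_of_ge _ nG n (le_max_right _ _))
  have hFι : IsIso ((homologyFunctor B j).map (F.map ((TStructure.t.truncLTι n).app X))) :=
    isIso_homologyMap_mor₁ _ (F.map_distinguished _ hT) (j + 1) h3F j (by omega)
  have hGι : IsIso ((homologyFunctor B j).map (G.map ((TStructure.t.truncLTι n).app X))) :=
    isIso_homologyMap_mor₁ _ (G.map_distinguished _ hT) (j + 1) h3G j (by omega)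
  have h1 : ((TStructure.t.truncLT n).obj X).IsGE a := inferInstance
  have h2 : ((TStructure.t.truncLT n).obj X).IsLE (n - 1) := inferInstance
  have hτ : IsIso (η.app ((TStructure.t.truncLT n).obj X)) :=
    isIso_app_of_bounded P F G η hη hP0 _ a (n - 1) (prop_homology_truncLT P hP0 X n hX)
  have hnat : F.map ((TStructure.t.truncLTι n).app X) ≫ η.app X =
      η.app ((TStructure.t.truncLT n).obj X) ≫ G.map ((TStructure.t.truncLTι n).app X) :=
    η.naturality ((TStructure.t.truncLTι n).app X)
  have hnat' := congrArg (fun f => (homologyFunctor B j).map f) hnat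
  simp only [Functor.map_comp] at hnat'
  have : IsIso ((homologyFunctor B j).map (F.map ((TStructure.t.truncLTι n).app X)) ≫
      (homologyFunctor B j).map (η.app X)) := by
    rw [hnat']
    infer_instance
  exact IsIso.of_isIso_comp_left
    ((homologyFunctor B j).map (F.map ((TStructure.t.truncLTι n).app X))) _

include F G in
theorem isIso_app_of_isLE_of_wayOutLeft
    (hF : ∀ n₁ : ℤ, ∃ n₂ : ℤ, ∀ Y : DerivedCategory A, Y.IsLE n₂ → (F.obj Y).IsLE n₁)
    (hG : ∀ n₁ : ℤ, ∃ n₂ : ℤ, ∀ Y : DerivedCategory A, Y.IsLE n₂ → (G.obj Y).IsLE n₁)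
    (hη : ∀ X : A, P X → IsIso (η.app ((singleFunctor A 0).obj X)))
    (hP0 : ∀ Z : A, IsZero Z → P Z)
    (X : DerivedCategory A) (b : ℤ) [hXb : X.IsLE b]
    (hX : ∀ i : ℤ, P ((homologyFunctor A i).obj X)) : IsIso (η.app X) := by
  rw [DerivedCategory.isIso_iff]
  intro j
  obtain ⟨nF, hnF⟩ := hF (j - 1)
  obtain ⟨nG, hnG⟩ := hG (j - 1)
  let n := min nF nG + 1
  have hT := TStructure.t.triangleLTGE_distinguished n X
  have h1 : ((TStructure.t.truncLT n).obj X).IsLE (n - 1) := inferInstance
  have h1F : (F.obj ((TStructure.t.truncLT n).obj X)).IsLE (j - 1) :=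
    hnF _ (TStructure.t.isLE_of_le _ (n - 1) nF (by simp only [n]; have := min_le_left nF nG; omega))
  have h1G : (G.obj ((TStructure.t.truncLT n).obj X)).IsLE (j - 1) :=
    hnG _ (TStructure.t.isLE_of_le _ (n - 1) nG (by simp only [n]; have := min_le_right nF nG; omega))
  have hFπ : IsIso ((homologyFunctor B j).map (F.map ((TStructure.t.truncGEπ n).app X))) :=
    isIso_homologyMap_mor₂ _ (F.map_distinguished _ hT) (j - 1) h1F j (by omega)
  have hGπ : IsIso ((homologyFunctor B j).map (G.map ((TStructure.t.truncGEπ n).app X))) :=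
    isIso_homologyMap_mor₂ _ (G.map_distinguished _ hT) (j - 1) h1G j (by omega)
  have h3 : ((TStructure.t.truncGE n).obj X).IsGE n := inferInstance
  have h4 : ((TStructure.t.truncGE n).obj X).IsLE b := inferInstance
  have hτ : IsIso (η.app ((TStructure.t.truncGE n).obj X)) :=
    isIso_app_of_bounded P F G η hη hP0 _ n b (prop_homology_truncGE P hP0 X n hX)
  have hnat : F.map ((TStructure.t.truncGEπ n).app X) ≫
      η.app ((TStructure.t.truncGE n).obj X) =
      η.app X ≫ G.map ((TStructure.t.truncGEπ n).app X) :=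
    η.naturality ((TStructure.t.truncGEπ n).app X)
  have hnat' := congrArg (fun f => (homologyFunctor B j).map f) hnat
  simp only [Functor.map_comp] at hnat'
  have : IsIso ((homologyFunctor B j).map (η.app X) ≫
      (homologyFunctor B j).map (G.map ((TStructure.t.truncGEπ n).app X))) := by
    rw [← hnat']
    infer_instance
  exact IsIso.of_isIso_comp_right _
    ((homologyFunctor B j).map (G.map ((TStructure.t.truncGEπ n).app X)))

include F G in
theorem isIso_app_of_wayOutBoth
    (hF : ∀ n₁ : ℤ, ∃ n₂ : ℤ, ∀ Y : DerivedCategory A, Y.IsGE n₂ → (F.obj Y).IsGE n₁)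
    (hF' : ∀ n₁ : ℤ, ∃ n₂ : ℤ, ∀ Y : DerivedCategory A, Y.IsLE n₂ → (F.obj Y).IsLE n₁)
    (hG : ∀ n₁ : ℤ, ∃ n₂ : ℤ, ∀ Y : DerivedCategory A, Y.IsGE n₂ → (G.obj Y).IsGE n₁)
    (hG' : ∀ n₁ : ℤ, ∃ n₂ : ℤ, ∀ Y : DerivedCategory A, Y.IsLE n₂ → (G.obj Y).IsLE n₁)
    (hη : ∀ X : A, P X → IsIso (η.app ((singleFunctor A 0).obj X)))
    (hP0 : ∀ Z : A, IsZero Z → P Z)
    (X : DerivedCategory A)
    (hX : ∀ i : ℤ, P ((homologyFunctor A i).obj X)) : IsIso (η.app X) := by
  have hT := TStructure.t.triangleLTGE_distinguished 0 X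
  refine isIso_app_obj₂ F G η _ hT ?_ ?_
  · show IsIso (η.app ((TStructure.t.truncLT 0).obj X))
    have h1 : ((TStructure.t.truncLT 0).obj X).IsLE (0 - 1) := inferInstance
    exact isIso_app_of_isLE_of_wayOutLeft P F G η hF' hG' hη hP0 _ (0 - 1)
      (prop_homology_truncLT P hP0 X 0 hX)
  · show IsIso (η.app ((TStructure.t.truncGE 0).obj X))
    have h1 : ((TStructure.t.truncGE 0).obj X).IsGE 0 := inferInstance
    exact isIso_app_of_isGE_of_wayOutRight P F G η hF hG hη hP0 _ 0
      (prop_homology_truncGE P hP0 X 0 hX)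

end WayOut

end Derived

end Groth.Agent.Lib.Helper9
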