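import Mathlib
import Groth.Agent.Lib.Helper18.CMFib
import Groth.Agent.Lib.Helper18.SerreReg3
import Groth.Agent.Lib.Helper23.FieldSep3
import Groth.Agent.Lib.Helper16.RegularRingFacts

/-!
# Serre's conditions and codepth along formally smooth flat local maps (helper9)
-/

set_option autoImplicit false
set_option linter.unusedSectionVars false
universe u
open IsLocalRing TensorProduct

namespace Groth.Agent.Lib.Helper9.SmoothSerre

open Groth.Agent.Lib.Helper18.CM Groth.Agent.Lib.Helper18.Serre Groth.Agent.Lib.Helper18.RkFlat
  Groth.Agent.Lib.Helper18.FibBridge Groth.Agent.Lib.Helper18.CMFib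
  Groth.Agent.Lib.Helper18.SerreReg

section fibres

variable (A B : Type u) [CommRing A] [CommRing B] [Algebra A B]
  [IsNoetherianRing A] [IsNoetherianRing B] [Algebra.FormallySmooth A B]

/-- the fibre rings of a formally smooth map with Noetherian target are regular -/
theorem isRegularRing_fiber (p : Ideal A) [p.IsPrime] : IsRegularRing (p.Fiber B) := by
  have : Algebra.FormallySmooth p.ResidueField (p.Fiber B) := inferInstance
  exact Groth.Agent.Lib.Helper23.FieldSep.isRegularRing_of_formallySmooth_field
    p.ResidueField (p.Fiber B)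

theorem isCohenMacaulayRing_fiber (p : Ideal A) [p.IsPrime] :
    LocCoh.IsCohenMacaulayRing (p.Fiber B) := by
  have := isRegularRing_fiber A B p
  exact Groth.Agent.Lib.Helper16.PDR.isCohenMacaulayRing_of_isRegularRing _

omit [IsNoetherianRing A] [IsNoetherianRing B] [Algebra.FormallySmooth A B] in
theorem isRegularLocalRing_fibLocRing_of_eq {I J : Ideal B} [I.IsPrime] [J.IsPrime] (h : I = J)
    (hI : IsRegularLocalRing (EGA4.FibLocRing A B I)) :
    IsRegularLocalRing (EGA4.FibLocRing A B J) := by
  subst h
  exact hI

theorem isRegularLocalRing_fibLocRing (Q : Ideal B) [Q.IsPrime] :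
    IsRegularLocalRing (EGA4.FibLocRing A B Q) := by
  obtain ⟨Q', hQ', hctr⟩ := exists_prime_of_comap_eq (Q.comap (algebraMap A B)) Q rfl
  obtain ⟨e⟩ := nonempty_ringEquiv (Q.comap (algebraMap A B)) Q'
  have hreg : IsRegularLocalRing (Localization.AtPrime Q') :=
    (isRegularRing_iff.mp (isRegularRing_fiber A B (Q.comap (algebraMap A B)))) Q'
  have h2 : IsRegularLocalRing (EGA4.FibLocRing A B (ctr (Q.comap (algebraMap A B)) Q')) :=
    @IsRegularLocalRing.of_ringEquiv (Localization.AtPrime Q') _ hreg _ _ e
  exact isRegularLocalRing_fibLocRing_of_eq A B hctr h2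

/-- a regular ring satisfies `(S_k)` -/
theorem hasSk_of_isRegularRing (R : Type u) [CommRing R] [IsRegularRing R] (k : ℕ) :
    LocCoh.HasSk k R R := by
  rw [hasSk_self_iff]
  intro p _
  have hreg : IsRegularLocalRing (Localization.AtPrime p) := (isRegularRing_iff.mp inferInstance) p
  refine le_trans (min_le_right _ _) ?_
  rw [← IsLocalization.AtPrime.ringKrullDim_eq_height p (Localization.AtPrime p)]
  exact ringKrullDim_le_depth_of_free (Localization.AtPrime p) (Localization.AtPrime p)

end fibres

section loc

variable (A B : Type u) [CommRing A] [CommRing B] [Algebra A B]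
  [IsNoetherianRing A] [IsNoetherianRing B] [IsLocalRing A] [IsLocalRing B]
  [IsLocalHom (algebraMap A B)] [Module.Flat A B] [Algebra.FormallySmooth A B]

/-- `(S_n)` is preserved and reflected by flat formally smooth local maps -/
theorem hasSk_iff (n : ℕ) : LocCoh.HasSk n B B ↔ LocCoh.HasSk n A A := by
  have : Module.FaithfullyFlat A B := Module.FaithfullyFlat.of_flat_of_isLocalHom
  constructor
  · exact hasSk_of_faithfullyFlat A B n
  · intro hA
    exact hasSk_of_flat_of_fibres A B n hA (fun p _ => by
      have := isRegularRing_fiber A B p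
      exact hasSk_of_isRegularRing _ n)

/-- `(R_n)` is preserved and reflected by flat formally smooth local maps -/
theorem hasRk_iff (n : ℕ) : LocCoh.HasRk n B ↔ LocCoh.HasRk n A := by
  constructor
  · exact hasRk_of_flat_of_isLocalHom A B n
  · intro hA Q hQ hQn
    have hloc := isLocalRing_fibLocRing A B Q
    have hht := height_eq_add_fibLocRing A B Q
    obtain ⟨m, hm⟩ := exists_ringKrullDim_eq_nat (EGA4.FibLocRing A B Q)
    rw [hm] at hht
    have hht' : Q.height = (Q.comap (algebraMap A B)).height + (m : ℕ∞) := by
      exact_mod_cast hht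
    have hP : (Q.comap (algebraMap A B)).height ≤ n := le_trans (hht' ▸ le_self_add) hQn
    exact isRegularLocalRing_of_fibLocRing A B Q (hA _ hP) (isRegularLocalRing_fibLocRing A B Q)

omit [IsNoetherianRing A] [Algebra A B] [IsLocalHom (algebraMap A B)] [Module.Flat A B]
  [Algebra.FormallySmooth A B] [CommRing A] [IsLocalRing A] in
theorem depth_atPrime_maximalIdeal :
    LocCoh.depth (Localization.AtPrime (maximalIdeal B)) (Localization.AtPrime (maximalIdeal B)) =
      LocCoh.depth B B := by
  have H : (maximalIdeal B).primeCompl ≤ IsUnit.submonoid B := by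
    intro x hx
    by_contra hnu
    exact hx ((mem_maximalIdeal x).mpr hnu)
  exact (depth_self_eq_of_ringEquiv
    (IsLocalization.atUnits B (maximalIdeal B).primeCompl
      (S := Localization.AtPrime (maximalIdeal B)) H).toRingEquiv).symm

/-- the codepth is preserved by flat formally smooth local maps -/
theorem codepth_eq :
    ringKrullDim B + ((LocCoh.depth A A : ℕ∞) : WithBot ℕ∞) =
      ringKrullDim A + ((LocCoh.depth B B : ℕ∞) : WithBot ℕ∞) := by
  obtain ⟨d, h1, h2⟩ := exists_dim_depth_add A B (fun p _ => isCohenMacaulayRing_fiber A B p)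
    (maximalIdeal B)
  have hc : (maximalIdeal B).comap (algebraMap A B) = maximalIdeal A :=
    ((IsLocalRing.local_hom_TFAE (algebraMap A B)).out 0 4).mp ‹IsLocalHom (algebraMap A B)›
  rw [depth_atPrime_of_eq hc, depth_atPrime_maximalIdeal, depth_atPrime_maximalIdeal] at h2
  rw [hc, IsLocalRing.maximalIdeal_height_eq_ringKrullDim,
    IsLocalRing.maximalIdeal_height_eq_ringKrullDim] at h1
  rw [h1, h2]
  push_cast
  abel

end loc

end Groth.Agent.Lib.Helper9.SmoothSerre
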