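import Mathlib

/-!
# Goldman-type lemma: a Noetherian domain in which a nonzero element lies in every nonzero prime
has dimension at most one (helper9)
-/

set_option autoImplicit false

namespace Groth.Agent.Lib.Helper9.ClosedPt

theorem false_of_mem_all {A : Type*} [CommRing A] [IsDomain A] [IsNoetherianRing A] (g : A)
    (hg : g ≠ 0) (hall : ∀ P : Ideal A, P.IsPrime → P ≠ ⊥ → g ∈ P) (P Q : Ideal A) [P.IsPrime]
    [Q.IsPrime] (hP : P ≠ ⊥) (hPQ : P < Q) : False := by
  classical
  have hfin := Ideal.finite_minimalPrimes_of_isNoetherianRing A (Ideal.span {g})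
  have hgP : g ∈ P := hall P inferInstance hP
  -- `Q` is not contained in any minimal prime over `(g)`
  have hnot : ¬ ∃ M ∈ (Ideal.span {g}).minimalPrimes, Q ≤ M := by
    rintro ⟨M, hM, hQM⟩
    have hPM : P ≤ M := hPQ.le.trans hQM
    have hle : M ≤ P := hM.2 ⟨inferInstance, (Ideal.span_singleton_le_iff_mem _).mpr hgP⟩ hPM
    exact hPQ.not_ge (hQM.trans hle)
  have hnot' : ¬ ((Q : Set A) ⊆ ⋃ M ∈ (Ideal.span {g}).minimalPrimes, (id M : Ideal A)) := by
    intro hsub
    exact hnot ((Ideal.subset_union_prime_finite hfin (f := id) ⊥ ⊥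
      (fun M hM _ _ => hM.1.1)).mp hsub)
  rw [Set.not_subset] at hnot'
  replace hnot := hnot'
  obtain ⟨h, hhQ, hhM⟩ := hnot
  simp only [Set.mem_iUnion, not_exists, id, SetLike.mem_coe] at hhM
  -- at least one minimal prime exists
  obtain ⟨M₀, hM₀, -⟩ := Ideal.exists_minimalPrimes_le
    (show Ideal.span {g} ≤ P from (Ideal.span_singleton_le_iff_mem _).mpr hgP)
  have hh0 : h ≠ 0 := by
    rintro rfl
    exact hhM M₀ hM₀ (M₀.zero_mem)
  obtain ⟨P', hP', hP'Q⟩ := Ideal.exists_minimalPrimes_le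
    (show Ideal.span {h} ≤ Q from (Ideal.span_singleton_le_iff_mem _).mpr hhQ)
  have hP'prime : P'.IsPrime := hP'.1.1
  have hhP' : h ∈ P' := (Ideal.span_singleton_le_iff_mem _).mp hP'.1.2
  have hP'bot : P' ≠ ⊥ := by
    rintro rfl
    exact hh0 (by simpa using hhP')
  have hgP' : g ∈ P' := hall P' hP'prime hP'bot
  obtain ⟨M, hM, hMP'⟩ := Ideal.exists_minimalPrimes_le
    (show Ideal.span {g} ≤ P' from (Ideal.span_singleton_le_iff_mem _).mpr hgP')
  have hMprime : M.IsPrime := hM.1.1
  have hgM : g ∈ M := (Ideal.span_singleton_le_iff_mem _).mp hM.1.2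
  have hMbot : M ≠ ⊥ := by
    rintro rfl
    exact hg (by simpa using hgM)
  have hht : P'.height ≤ 1 :=
    Ideal.height_le_one_of_isPrincipal_of_mem_minimalPrimes (Ideal.span {h}) P' hP'
  have hMeq : M = P' := by
    by_contra hne
    have hlt : M < P' := lt_of_le_of_ne hMP' hne
    have h1 := (Ideal.height_le_iff (n := 1)).mp (by exact_mod_cast hht) M hMprime hlt
    have h2 : M.height = 0 := by
      have : M.height < 1 := by exact_mod_cast h1
      exact Order.lt_one_iff.mp this
    exact hMbot (Ideal.height_eq_zero_iff_eq_bot.mp h2)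
  exact hhM M hM (hMeq ▸ hhP')

/-- In a Noetherian ring, if `P₀ < P₁ < P₂` are primes and `g ∉ P₀`, then some prime strictly
containing `P₀` does not contain `g`. -/
theorem exists_prime_gt_notMem {B : Type*} [CommRing B] [IsNoetherianRing B]
    (P₀ P₁ P₂ : Ideal B) [P₀.IsPrime] [P₁.IsPrime] [P₂.IsPrime] (h01 : P₀ < P₁) (h12 : P₁ < P₂)
    (g : B) (hg : g ∉ P₀) : ∃ Q : Ideal B, Q.IsPrime ∧ P₀ < Q ∧ g ∉ Q := by
  by_contra hcon
  push Not at hcon
  let π := Ideal.Quotient.mk P₀
  have hπ : Function.Surjective π := Ideal.Quotient.mk_surjective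
  have hker : RingHom.ker π = P₀ := Ideal.mk_ker
  have hcm : ∀ I : Ideal B, P₀ ≤ I → (I.map π).comap π = I := by
    intro I hI
    rw [Ideal.comap_map_of_surjective π hπ, ← RingHom.ker_eq_comap_bot, hker, sup_eq_left.mpr hI]
  have hprime1 : (P₁.map π).IsPrime :=
    Ideal.map_isPrime_of_surjective hπ (hker.le.trans h01.le)
  have hprime2 : (P₂.map π).IsPrime :=
    Ideal.map_isPrime_of_surjective hπ (hker.le.trans (h01.le.trans h12.le))
  have hbot : P₁.map π ≠ ⊥ := by
    intro h
    have := hcm P₁ h01.le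
    rw [h, ← RingHom.ker_eq_comap_bot, hker] at this
    exact h01.ne this
  have hlt : P₁.map π < P₂.map π := by
    refine lt_of_le_of_ne (Ideal.map_mono h12.le) ?_
    intro h
    have h1 := hcm P₁ h01.le
    have h2 := hcm P₂ (h01.le.trans h12.le)
    rw [h, h2] at h1
    exact h12.ne h1.symm
  refine false_of_mem_all (A := B ⧸ P₀) (π g) ?_ ?_ (P₁.map π) (P₂.map π) hbot hlt
  · intro h
    exact hg (Ideal.Quotient.eq_zero_iff_mem.mp h)
  · intro Pb hPb hPb0
    have hQprime : (Pb.comap π).IsPrime := Ideal.comap_isPrime π Pb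
    have hle : P₀ ≤ Pb.comap π := by
      refine hker.ge.trans ?_
      rw [RingHom.ker_eq_comap_bot]
      exact Ideal.comap_mono bot_le
    have hne : P₀ ≠ Pb.comap π := by
      intro h
      apply hPb0
      rw [← Ideal.map_comap_of_surjective π hπ Pb, ← h]
      exact (Ideal.map_eq_bot_iff_le_ker π).mpr hker.ge
    exact hcon (Pb.comap π) hQprime (lt_of_le_of_ne hle hne)

end Groth.Agent.Lib.Helper9.ClosedPt
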