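import Mathlib
import Groth.Agent.Lib.Helper9.ClosedPt1

/-!
# Every point of a locally Noetherian scheme specializes to a closed point (helper9)
-/

set_option autoImplicit false
set_option linter.style.haveILetI false
universe u
open CategoryTheory AlgebraicGeometry TopologicalSpace

namespace Groth.Agent.Lib.Helper9.ClosedPt

section Chart

variable {X : Scheme.{u}} {U : X.Opens} (hU : IsAffineOpen U)

include hU in
theorem primeIdealOf_injective : Function.Injective hU.primeIdealOf := by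
  intro x y h
  have h1 := hU.fromSpec_primeIdealOf x
  have h2 := hU.fromSpec_primeIdealOf y
  rw [h] at h1
  exact Subtype.ext (h1.symm.trans h2)

include hU in
theorem primeIdealOf_surjective : Function.Surjective hU.primeIdealOf := by
  intro q
  refine ⟨hU.isoSpec.inv q, ?_⟩
  change hU.isoSpec.hom (hU.isoSpec.inv q) = q
  rw [← Scheme.Hom.comp_apply, Iso.inv_hom_id]
  rfl

include hU in
theorem specializes_iff_primeIdealOf_le (y z : U) :
    (y : X) ⤳ (z : X) ↔ (hU.primeIdealOf y).asIdeal ≤ (hU.primeIdealOf z).asIdeal := by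
  rw [← subtype_specializes_iff]
  have hind : Topology.IsInducing (fun w : U => hU.isoSpec.hom w) :=
    hU.isoSpec.hom.homeomorph.isInducing
  have h1 : y ⤳ z ↔ hU.isoSpec.hom y ⤳ hU.isoSpec.hom z :=
    (hind.specializes_iff).symm
  rw [show (y ⤳ z) ↔ (hU.isoSpec.hom y ⤳ hU.isoSpec.hom z) from h1]
  exact (PrimeSpectrum.le_iff_specializes _ _).symm

include hU in
theorem mem_basicOpen_iff_notMem_primeIdealOf (a : Γ(X, U)) (x : U) :
    (x : X) ∈ X.basicOpen a ↔ a ∉ (hU.primeIdealOf x).asIdeal := by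
  rw [Scheme.mem_basicOpen X a x.1 x.2]
  letI := X.presheaf.algebra_section_stalk x
  haveI := hU.isLocalization_stalk x
  exact IsLocalization.AtPrime.isUnit_to_map_iff (X.presheaf.stalk x.1)
    (hU.primeIdealOf x).asIdeal a

end Chart

variable {X : Scheme.{u}} [IsLocallyNoetherian X]

omit [IsLocallyNoetherian X] in
/-- a point of an affine open specializes to a point closed in that open -/
theorem exists_closed_in_affine {U : X.Opens} (hU : IsAffineOpen U) (x : X) (hx : x ∈ U) :
    ∃ u : X, u ∈ U ∧ x ⤳ u ∧ ∀ q : X, q ∈ U → u ⤳ q → q = u := by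
  have hne : (hU.primeIdealOf ⟨x, hx⟩).asIdeal ≠ ⊤ := (hU.primeIdealOf ⟨x, hx⟩).2.ne_top
  obtain ⟨m, hm, hle⟩ := Ideal.exists_le_maximal _ hne
  obtain ⟨u, hu⟩ := primeIdealOf_surjective hU ⟨m, hm.isPrime⟩
  refine ⟨u.1, u.2, ?_, ?_⟩
  · rw [specializes_iff_primeIdealOf_le hU ⟨x, hx⟩ u, hu]
    exact hle
  · intro q hq huq
    have h1 := (specializes_iff_primeIdealOf_le hU u ⟨q, hq⟩).mp huq
    rw [hu] at h1
    have h2 : m = (hU.primeIdealOf ⟨q, hq⟩).asIdeal :=
      hm.eq_of_le (hU.primeIdealOf ⟨q, hq⟩).2.ne_top h1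
    have h3 : hU.primeIdealOf ⟨q, hq⟩ = hU.primeIdealOf u := by
      rw [hu]
      exact PrimeSpectrum.ext h2.symm
    exact congrArg Subtype.val (primeIdealOf_injective hU h3)

/-- every point of a locally Noetherian scheme specializes to a closed point -/
theorem exists_isClosed_specializes (x : X) : ∃ z : X, IsClosed ({z} : Set X) ∧ x ⤳ z := by
  obtain ⟨_, ⟨U, hU : IsAffineOpen U, rfl⟩, hxU, -⟩ :=
    X.isBasis_affineOpens.exists_subset_of_mem_open (Set.mem_univ x) isOpen_univ
  obtain ⟨u, huU, hxu, hmax⟩ := exists_closed_in_affine hU x hxU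
  by_cases hcl : IsClosed ({u} : Set X)
  · exact ⟨u, hcl, hxu⟩
  · -- a proper specialization `y` of `u`
    have hex : ∃ y : X, u ⤳ y ∧ y ≠ u := by
      by_contra hcon
      push Not at hcon
      apply hcl
      rw [← closure_subset_iff_isClosed]
      intro y hy
      exact hcon y (specializes_iff_mem_closure.mpr hy)
    obtain ⟨y, huy, hyu⟩ := hex
    refine ⟨y, ?_, hxu.trans huy⟩
    rw [← closure_subset_iff_isClosed]
    intro w hw
    have hyw : y ⤳ w := specializes_iff_mem_closure.mpr hw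
    by_contra hwy
    have hwy' : w ≠ y := hwy
    -- affine open around `w`
    obtain ⟨_, ⟨W, hW : IsAffineOpen W, rfl⟩, hwW, -⟩ :=
      X.isBasis_affineOpens.exists_subset_of_mem_open (Set.mem_univ w) isOpen_univ
    have hyW : y ∈ W := hyw.mem_open W.2 hwW
    have huW : u ∈ W := huy.mem_open W.2 hyW
    haveI : IsNoetherianRing Γ(X, W) := IsLocallyNoetherian.component_noetherian ⟨W, hW⟩
    have hyU : y ∉ U := fun h => hyu (hmax y h huy)
    obtain ⟨g, hgle, hug⟩ := hW.exists_basicOpen_le (V := U ⊓ W) ⟨u, ⟨huU, huW⟩⟩ huW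
    have hg0 : g ∉ (hW.primeIdealOf ⟨u, huW⟩).asIdeal :=
      (mem_basicOpen_iff_notMem_primeIdealOf hW g ⟨u, huW⟩).mp hug
    have h01 : (hW.primeIdealOf ⟨u, huW⟩).asIdeal < (hW.primeIdealOf ⟨y, hyW⟩).asIdeal := by
      refine lt_of_le_of_ne ((specializes_iff_primeIdealOf_le hW ⟨u, huW⟩ ⟨y, hyW⟩).mp huy) ?_
      intro h
      have := primeIdealOf_injective hW (PrimeSpectrum.ext h)
      exact hyu (congrArg Subtype.val this).symm
    have h12 : (hW.primeIdealOf ⟨y, hyW⟩).asIdeal < (hW.primeIdealOf ⟨w, hwW⟩).asIdeal := by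
      refine lt_of_le_of_ne ((specializes_iff_primeIdealOf_le hW ⟨y, hyW⟩ ⟨w, hwW⟩).mp hyw) ?_
      intro h
      have := primeIdealOf_injective hW (PrimeSpectrum.ext h)
      exact hwy' (congrArg Subtype.val this).symm
    obtain ⟨Q, hQ, hlt, hgQ⟩ := exists_prime_gt_notMem _ _ _ h01 h12 g hg0
    obtain ⟨q, hq⟩ := primeIdealOf_surjective hW ⟨Q, hQ⟩
    have huq : u ⤳ (q : X) := by
      rw [specializes_iff_primeIdealOf_le hW ⟨u, huW⟩ q, hq]
      exact hlt.le
    have hqg : (q : X) ∈ X.basicOpen g := by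
      rw [mem_basicOpen_iff_notMem_primeIdealOf hW g q, hq]
      exact hgQ
    have hqU : (q : X) ∈ U := (hgle hqg).1
    have hqu : (q : X) = u := hmax q hqU huq
    have : hW.primeIdealOf q = hW.primeIdealOf ⟨u, huW⟩ := by
      congr 1
      exact Subtype.ext hqu
    rw [hq] at this
    have h' : Q = (hW.primeIdealOf ⟨u, huW⟩).asIdeal := congrArg PrimeSpectrum.asIdeal this
    exact hlt.ne h'.symm

end Groth.Agent.Lib.Helper9.ClosedPt
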