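import Mathlib
import Groth.Agent.Lib.Helper29.RegDim1
import Groth.Agent.Lib.Helper9.AssFlat3
import Groth.Agent.Lib.Helper9.RefStalk1

/-!
# Flatness over a regular one-dimensional base in terms of associated points (helper9)
-/

set_option autoImplicit false
universe u
open CategoryTheory CategoryTheory.Limits AlgebraicGeometry TopologicalSpace Opposite IsLocalRing

namespace Groth.Agent.Lib.Helper9.AssGen

open Groth.Agent.Lib.Helper29.QCoh Groth.Agent.Lib.Helper9.AssFlat

variable {X Y : Scheme.{u}}

/-- a point of an integral scheme whose local ring has zero maximal ideal is the generic point -/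
theorem eq_genericPoint_of_maximalIdeal_eq_bot [IsIntegral Y] (y : Y)
    (h : maximalIdeal (Y.presheaf.stalk y) = ⊥) : y = genericPoint Y := by
  have hη : genericPoint Y ⤳ y := genericPoint_specializes y
  have hmem : genericPoint Y ∈ Set.range (Y.fromSpecStalk y) := by
    rw [Scheme.range_fromSpecStalk]; exact hη
  obtain ⟨P, hP⟩ := hmem
  have hPbot : P = closedPoint (Y.presheaf.stalk y) := by
    apply PrimeSpectrum.ext
    change P.asIdeal = maximalIdeal _
    rw [h]
    exact le_bot_iff.mp (h ▸ IsLocalRing.le_maximalIdeal P.isPrime.ne_top)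
  rw [← hP, hPbot, Scheme.fromSpecStalk_closedPoint]

/-- in the function field everything nonzero is a unit -/
theorem isUnit_of_eq_genericPoint [IsIntegral Y] (z : Y) (hz : z = genericPoint Y)
    (c : Y.presheaf.stalk z) (hc : c ≠ 0) : IsUnit c := by
  subst hz
  exact (isUnit_iff_ne_zero (G₀ := Y.functionField)).mpr hc

/-- specialisation maps of an integral scheme are injective -/
theorem stalkSpecializes_injective [IsIntegral Y] {y z : Y} (h : z ⤳ y) :
    Function.Injective (Y.presheaf.stalkSpecializes h) := by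
  have hη : genericPoint Y ⤳ z := genericPoint_specializes z
  have hcomp : Y.presheaf.stalkSpecializes h ≫ Y.presheaf.stalkSpecializes hη =
      Y.presheaf.stalkSpecializes (hη.trans h) := Y.presheaf.stalkSpecializes_comp _ _
  have hinj : Function.Injective (Y.presheaf.stalkSpecializes (hη.trans h)) :=
    IsFractionRing.injective (Y.presheaf.stalk y) Y.functionField
  rw [← hcomp] at hinj
  exact Function.Injective.of_comp hinj

theorem generic_of_flat (f : X ⟶ Y) [IsIntegral Y] [IsLocallyNoetherian X] [Flat f] (x : X)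
    (hx : Curv2.IsAssPoint (Coh.structureModule X) x) : f.base x = genericPoint Y := by
  by_contra hne
  have hm : maximalIdeal (Y.presheaf.stalk (f.base x)) ≠ ⊥ :=
    fun h => hne (eq_genericPoint_of_maximalIdeal_eq_bot _ h)
  obtain ⟨t, ht, ht0⟩ := Submodule.exists_mem_ne_zero_of_ne_bot hm
  letI : Algebra (Y.presheaf.stalk (f.base x)) (X.presheaf.stalk x) := (f.stalkMap x).hom.toAlgebra
  have hfl : Module.Flat (Y.presheaf.stalk (f.base x)) (X.presheaf.stalk x) := Flat.stalkMap f x
  have hreg : IsSMulRegular (X.presheaf.stalk x) t :=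
    Module.Flat.isSMulRegular_of_nonZeroDivisors (mem_nonZeroDivisors_of_ne_zero ht0)
  have hmem : (f.stalkMap x).hom t ∈ maximalIdeal (X.presheaf.stalk x) := by
    have hloc : IsLocalHom (f.stalkMap x).hom := inferInstance
    rw [mem_maximalIdeal, mem_nonunits_iff] at ht ⊢
    intro hu
    exact ht (hloc.map_nonunit t hu)
  have hass : IsAssociatedPrime (maximalIdeal (X.presheaf.stalk x)) (X.presheaf.stalk x) :=
    (LinearEquiv.isAssociatedPrime_iff (Groth.Agent.Lib.Helper9.RefStalk.oEquiv x)).mpr hx
  obtain ⟨-, z, hz⟩ := (isAssociatedPrime_iff).mp hass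
  have hz0 : z ≠ 0 := by
    rintro rfl
    apply (maximalIdeal.isMaximal (X.presheaf.stalk x)).ne_top
    rw [hz]
    simp
  rw [hz, Submodule.mem_colon_singleton, Submodule.mem_bot] at hmem
  apply hz0
  apply hreg
  change t • z = t • 0
  rw [smul_zero]
  exact hmem

theorem flat_of_generic (f : X ⟶ Y) [IsIntegral Y]
    (hreg : ∀ y : Y, IsRegularLocalRing (Y.presheaf.stalk y)) (hY : topologicalKrullDim Y ≤ 1)
    [IsLocallyNoetherian X]
    (H : ∀ x : X, Curv2.IsAssPoint (Coh.structureModule X) x → f.base x = genericPoint Y) :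
    Flat f := by
  refine Flat.of_stalkMap f fun x => ?_
  haveI := hreg (f.base x)
  have hd : ringKrullDim (Y.presheaf.stalk (f.base x)) ≤ 1 :=
    (ringKrullDim_stalk_le_topologicalKrullDim Y (f.base x)).trans hY
  haveI : IsPrincipalIdealRing (Y.presheaf.stalk (f.base x)) :=
    isPrincipalIdealRing_of_isRegularLocalRing_of_dim_le_one _ hd
  letI : Algebra (Y.presheaf.stalk (f.base x)) (X.presheaf.stalk x) := (f.stalkMap x).hom.toAlgebra
  change Module.Flat (Y.presheaf.stalk (f.base x)) (X.presheaf.stalk x)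
  rw [Module.Flat.flat_iff_torsion_eq_bot_of_isBezout, Submodule.eq_bot_iff]
  intro b hb
  rw [Submodule.mem_torsion_iff] at hb
  obtain ⟨a, hab⟩ := hb
  have hab' : (f.stalkMap x).hom (a : Y.presheaf.stalk (f.base x)) * b = 0 := hab
  by_contra hb0
  -- spread out `b` to a section over an affine open
  obtain ⟨V, hxV, s, hs⟩ := TopCat.Presheaf.exists_germ_eq X.presheaf b
  obtain ⟨_, ⟨U, hU : IsAffineOpen U, rfl⟩, hxU, hUV⟩ :=
    X.isBasis_affineOpens.exists_subset_of_mem_open hxV V.2
  have hUV' : U ≤ V := hUV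
  let β : Γ(X, U) := X.presheaf.map (homOfLE hUV').op s
  have hβ : X.presheaf.germ U x hxU β = b := by
    rw [TopCat.Presheaf.germ_res_apply]; exact hs
  have : IsNoetherianRing Γ(X, U) := IsLocallyNoetherian.component_noetherian ⟨U, hU⟩
  -- the annihilator of `β` lies in the prime of `x`
  have hle : (⊥ : Submodule Γ(X, U) Γ(X, U)).colon {β} ≤ (hU.primeIdealOf ⟨x, hxU⟩).asIdeal := by
    intro r hr
    by_contra hrx
    rw [← mem_basicOpen_iff_notMem_primeIdealOf hU x hxU r, Scheme.mem_basicOpen _ _ _ hxU] at hrx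
    rw [Submodule.mem_colon_singleton, Submodule.mem_bot, smul_eq_mul] at hr
    have := congrArg (X.presheaf.germ U x hxU) hr
    rw [map_mul, map_zero, hβ] at this
    exact hb0 (hrx.mul_right_eq_zero.mp this)
  obtain ⟨q, hq, hqp⟩ := Ideal.exists_minimalPrimes_le hle
  have hqq : q.IsPrime := hq.1.1
  obtain ⟨m', hm'⟩ := Submodule.exists_eq_colon_of_mem_minimalPrimes hq
  have hqass : q ∈ associatedPrimes Γ(X, U) Γ(X, U) := by
    rw [AssociatedPrimes.mem_iff, isAssociatedPrime_iff]
    exact ⟨hqq, m', hm'⟩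
  obtain ⟨x', hx', hx'q⟩ := exists_point_of_prime' hU ⟨q, hqq⟩
  have hspec : x' ⤳ x := specializes_of_primeIdealOf_le hU x x' hxU hx' (by rw [hx'q]; exact hqp)
  have hx'ass : Curv2.IsAssPoint (Coh.structureModule X) x' :=
    isAssPoint_of_mem_associatedPrimes hU x' hx' (by rw [hx'q]; exact hqass)
  have hη := H x' hx'ass
  -- the germ of `β` at `x'` is nonzero
  have hβ' : X.presheaf.germ U x' hx' β ≠ 0 := by
    intro h0
    letI : Algebra Γ(X, U) (X.presheaf.stalk x') :=
      TopCat.Presheaf.algebra_section_stalk X.presheaf ⟨x', hx'⟩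
    have hloc := hU.isLocalization_stalk ⟨x', hx'⟩
    have h0' : algebraMap Γ(X, U) (X.presheaf.stalk x') β = 0 := h0
    rw [IsLocalization.map_eq_zero_iff (hU.primeIdealOf ⟨x', hx'⟩).asIdeal.primeCompl] at h0'
    obtain ⟨r, hr⟩ := h0'
    have hrq : (r : Γ(X, U)) ∈ q := by
      apply hq.1.2
      rw [Submodule.mem_colon_singleton, Submodule.mem_bot, smul_eq_mul]
      exact hr
    have hq' : (hU.primeIdealOf ⟨x', hx'⟩).asIdeal = q := congrArg PrimeSpectrum.asIdeal hx'q
    have hrq' : (r : Γ(X, U)) ∈ (hU.primeIdealOf ⟨x', hx'⟩).asIdeal := hq'.symm ▸ hrq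
    exact r.2 hrq'
  -- transport the relation to `x'`
  have h1 : f.stalkMap x' (Y.presheaf.stalkSpecializes (f.base.hom.map_specializes hspec)
      (a : Y.presheaf.stalk (f.base x))) =
      X.presheaf.stalkSpecializes hspec (f.stalkMap x (a : Y.presheaf.stalk (f.base x))) :=
    Scheme.Hom.stalkSpecializes_stalkMap_apply f x' x hspec _
  have h2 : X.presheaf.stalkSpecializes hspec b = X.presheaf.germ U x' hx' β := by
    rw [← hβ]
    exact TopCat.Presheaf.germ_stalkSpecializes_apply X.presheaf hxU hspec β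
  have hane : Y.presheaf.stalkSpecializes (f.base.hom.map_specializes hspec)
      (a : Y.presheaf.stalk (f.base x)) ≠ 0 := by
    intro h0
    apply nonZeroDivisors.coe_ne_zero a
    apply stalkSpecializes_injective (f.base.hom.map_specializes hspec)
    rw [h0, map_zero]
  have hunit := isUnit_of_eq_genericPoint _ hη _ hane
  have hunit' := hunit.map (f.stalkMap x').hom
  have h3 : (f.stalkMap x').hom (Y.presheaf.stalkSpecializes (f.base.hom.map_specializes hspec)
      (a : Y.presheaf.stalk (f.base x))) * X.presheaf.germ U x' hx' β = 0 := by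
    have := congrArg (X.presheaf.stalkSpecializes hspec) hab'
    rw [map_mul, map_zero, h2] at this
    rw [← this]
    congr 1
  exact hβ' (hunit'.mul_right_eq_zero.mp h3)

theorem main (f : X ⟶ Y)
    [IsIntegral Y] (hreg : ∀ y : Y, IsRegularLocalRing (Y.presheaf.stalk y))
    (hY : topologicalKrullDim ↥Y = 1) [IsNoetherian X] :
    Flat f ↔ ∀ x : X, Curv2.IsAssPoint (Coh.structureModule X) x → f.base x = genericPoint ↥Y :=
  ⟨fun _ x hx => generic_of_flat f x hx, fun H => flat_of_generic f hreg hY.le H⟩

end Groth.Agent.Lib.Helper9.AssGen
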