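import Mathlib
import Groth.Agent.Lib.Helper9.AssGen
import Groth.Agent.Lib.Helper21.RegularLocal
import Groth.Agent.Lib.Helper29.ProjF1
import Groth.Agent.Lib.Helper26.FinLocFreeMor

/-!
# Flatness over a base with regular local rings of dimension at most one (helper9)
-/

set_option autoImplicit false
universe u
open CategoryTheory CategoryTheory.Limits AlgebraicGeometry TopologicalSpace Opposite IsLocalRing

namespace Groth.Agent.Lib.Helper9.AssGen

open Groth.Agent.Lib.Helper29.QCoh Groth.Agent.Lib.Helper9.AssFlat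
open Groth.Agent.Lib.Helper9.ClosedPt

variable {X Y : Scheme.{u}}

/-- specialisation maps out of a local ring which is a domain are injective -/
theorem stalkSpecializes_injective_of_isDomain {y z : Y} (h : z ⤳ y)
    [IsDomain (Y.presheaf.stalk y)] : Function.Injective (Y.presheaf.stalkSpecializes h) := by
  rw [injective_iff_map_eq_zero]
  intro c hc
  obtain ⟨V₀, hyV₀, s₀, hs₀⟩ := TopCat.Presheaf.exists_germ_eq Y.presheaf c
  obtain ⟨_, ⟨V, hV : IsAffineOpen V, rfl⟩, hyV, hVV₀⟩ :=
    Y.isBasis_affineOpens.exists_subset_of_mem_open hyV₀ V₀.2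
  have hVV₀' : V ≤ V₀ := hVV₀
  let s : Γ(Y, V) := Y.presheaf.map (homOfLE hVV₀').op s₀
  have hs : Y.presheaf.germ V y hyV s = c := by
    rw [TopCat.Presheaf.germ_res_apply]; exact hs₀
  have hzV : z ∈ V := h.mem_open V.2 hyV
  have hsz : Y.presheaf.germ V z hzV s = 0 := by
    rw [← hc, ← hs]
    exact (TopCat.Presheaf.germ_stalkSpecializes_apply Y.presheaf hyV h s).symm
  -- a section `t` outside the prime of `z` killing `s`
  obtain ⟨t, ht⟩ : ∃ t : (hV.primeIdealOf ⟨z, hzV⟩).asIdeal.primeCompl, (t : Γ(Y, V)) * s = 0 := by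
    letI : Algebra Γ(Y, V) (Y.presheaf.stalk z) :=
      TopCat.Presheaf.algebra_section_stalk Y.presheaf ⟨z, hzV⟩
    have hloc := hV.isLocalization_stalk ⟨z, hzV⟩
    have h0' : algebraMap Γ(Y, V) (Y.presheaf.stalk z) s = 0 := hsz
    rw [IsLocalization.map_eq_zero_iff (hV.primeIdealOf ⟨z, hzV⟩).asIdeal.primeCompl] at h0'
    exact h0'
  have hprod : Y.presheaf.germ V y hyV (t : Γ(Y, V)) * c = 0 := by
    rw [← hs, ← map_mul, ht, map_zero]
  rcases mul_eq_zero.mp hprod with h1 | h1
  · exfalso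
    obtain ⟨u, hu⟩ : ∃ u : (hV.primeIdealOf ⟨y, hyV⟩).asIdeal.primeCompl,
        (u : Γ(Y, V)) * (t : Γ(Y, V)) = 0 := by
      letI : Algebra Γ(Y, V) (Y.presheaf.stalk y) :=
        TopCat.Presheaf.algebra_section_stalk Y.presheaf ⟨y, hyV⟩
      have hloc := hV.isLocalization_stalk ⟨y, hyV⟩
      have h0' : algebraMap Γ(Y, V) (Y.presheaf.stalk y) (t : Γ(Y, V)) = 0 := h1
      rw [IsLocalization.map_eq_zero_iff (hV.primeIdealOf ⟨y, hyV⟩).asIdeal.primeCompl] at h0'
      exact h0'
    have hle : (hV.primeIdealOf ⟨z, hzV⟩).asIdeal ≤ (hV.primeIdealOf ⟨y, hyV⟩).asIdeal :=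
      (specializes_iff_primeIdealOf_le hV ⟨z, hzV⟩ ⟨y, hyV⟩).mp h
    have hmem : (u : Γ(Y, V)) * (t : Γ(Y, V)) ∈ (hV.primeIdealOf ⟨z, hzV⟩).asIdeal := by
      rw [hu]; exact Ideal.zero_mem _
    rcases (hV.primeIdealOf ⟨z, hzV⟩).isPrime.mem_or_mem hmem with h2 | h2
    · exact u.2 (hle h2)
    · exact t.2 h2
  · exact h1

/-- in a local domain of dimension zero every nonzero element is a unit -/
theorem isUnit_of_ringKrullDim_eq_zero {R : Type u} [CommRing R] [IsDomain R]
    (h : ringKrullDim R = 0) (c : R) (hc : c ≠ 0) : IsUnit c := by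
  have : Ring.KrullDimLE 0 R := Ring.krullDimLE_iff.mpr (by rw [h]; rfl)
  have hf : IsField R := Ring.KrullDimLE.isField_of_isDomain
  obtain ⟨b, hb⟩ := hf.mul_inv_cancel hc
  exact IsUnit.of_mul_eq_one b hb

theorem flat_of_ass_dim_zero (f : X ⟶ Y)
    (hreg : ∀ y : Y, IsRegularLocalRing (Y.presheaf.stalk y))
    (hdim : ∀ y : Y, ringKrullDim (Y.presheaf.stalk y) ≤ 1)
    [IsLocallyNoetherian X]
    (H : ∀ x : X, Curv2.IsAssPoint (Coh.structureModule X) x →
      ringKrullDim (Y.presheaf.stalk (f.base x)) = 0) :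
    Flat f := by
  refine Flat.of_stalkMap f fun x => ?_
  haveI := hreg (f.base x)
  have hd : ringKrullDim (Y.presheaf.stalk (f.base x)) ≤ 1 := hdim (f.base x)
  have hdomx : IsDomain (Y.presheaf.stalk (f.base x)) :=
    Groth.Agent.Lib.Helper21.isDomain_of_isRegularLocalRing _
  haveI : IsPrincipalIdealRing (Y.presheaf.stalk (f.base x)) :=
    isPrincipalIdealRing_of_isRegularLocalRing_of_dim_le_one _ hd
  letI : Algebra (Y.presheaf.stalk (f.base x)) (X.presheaf.stalk x) := (f.stalkMap x).hom.toAlgebra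
  change Module.Flat (Y.presheaf.stalk (f.base x)) (X.presheaf.stalk x)
  rw [Module.Flat.flat_iff_torsion_eq_bot_of_isBezout, Submodule.eq_bot_iff]
  intro b hb
  rw [Submodule.mem_torsion_iff] at hb
  obtain ⟨a, hab⟩ := hb
  have hab' : (f.stalkMap x).hom (a : Y.presheaf.stalk (f.base x)) * b = 0 := hab
  by_contra hb0
  -- spread out `b` to a section over an affine open
  obtain ⟨V, hxV, s, hs⟩ := TopCat.Presheaf.exists_germ_eq X.presheaf b
  obtain ⟨_, ⟨U, hU : IsAffineOpen U, rfl⟩, hxU, hUV⟩ :=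
    X.isBasis_affineOpens.exists_subset_of_mem_open hxV V.2
  have hUV' : U ≤ V := hUV
  let β : Γ(X, U) := X.presheaf.map (homOfLE hUV').op s
  have hβ : X.presheaf.germ U x hxU β = b := by
    rw [TopCat.Presheaf.germ_res_apply]; exact hs
  have : IsNoetherianRing Γ(X, U) := IsLocallyNoetherian.component_noetherian ⟨U, hU⟩
  -- the annihilator of `β` lies in the prime of `x`
  have hle : (⊥ : Submodule Γ(X, U) Γ(X, U)).colon {β} ≤ (hU.primeIdealOf ⟨x, hxU⟩).asIdeal := by
    intro r hr
    by_contra hrx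
    rw [← mem_basicOpen_iff_notMem_primeIdealOf hU x hxU r, Scheme.mem_basicOpen _ _ _ hxU] at hrx
    rw [Submodule.mem_colon_singleton, Submodule.mem_bot, smul_eq_mul] at hr
    have := congrArg (X.presheaf.germ U x hxU) hr
    rw [map_mul, map_zero, hβ] at this
    exact hb0 (hrx.mul_right_eq_zero.mp this)
  obtain ⟨q, hq, hqp⟩ := Ideal.exists_minimalPrimes_le hle
  have hqq : q.IsPrime := hq.1.1
  obtain ⟨m', hm'⟩ := Submodule.exists_eq_colon_of_mem_minimalPrimes hq
  have hqass : q ∈ associatedPrimes Γ(X, U) Γ(X, U) := by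
    rw [AssociatedPrimes.mem_iff, isAssociatedPrime_iff]
    exact ⟨hqq, m', hm'⟩
  obtain ⟨x', hx', hx'q⟩ := exists_point_of_prime' hU ⟨q, hqq⟩
  have hspec : x' ⤳ x := specializes_of_primeIdealOf_le hU x x' hxU hx' (by rw [hx'q]; exact hqp)
  have hx'ass : Curv2.IsAssPoint (Coh.structureModule X) x' :=
    isAssPoint_of_mem_associatedPrimes hU x' hx' (by rw [hx'q]; exact hqass)
  have hη := H x' hx'ass
  -- the germ of `β` at `x'` is nonzero
  have hβ' : X.presheaf.germ U x' hx' β ≠ 0 := by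
    intro h0
    letI : Algebra Γ(X, U) (X.presheaf.stalk x') :=
      TopCat.Presheaf.algebra_section_stalk X.presheaf ⟨x', hx'⟩
    have hloc := hU.isLocalization_stalk ⟨x', hx'⟩
    have h0' : algebraMap Γ(X, U) (X.presheaf.stalk x') β = 0 := h0
    rw [IsLocalization.map_eq_zero_iff (hU.primeIdealOf ⟨x', hx'⟩).asIdeal.primeCompl] at h0'
    obtain ⟨r, hr⟩ := h0'
    have hrq : (r : Γ(X, U)) ∈ q := by
      apply hq.1.2
      rw [Submodule.mem_colon_singleton, Submodule.mem_bot, smul_eq_mul]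
      exact hr
    have hq' : (hU.primeIdealOf ⟨x', hx'⟩).asIdeal = q := congrArg PrimeSpectrum.asIdeal hx'q
    have hrq' : (r : Γ(X, U)) ∈ (hU.primeIdealOf ⟨x', hx'⟩).asIdeal := hq'.symm ▸ hrq
    exact r.2 hrq'
  -- transport the relation to `x'`
  have h1 : f.stalkMap x' (Y.presheaf.stalkSpecializes (f.base.hom.map_specializes hspec)
      (a : Y.presheaf.stalk (f.base x))) =
      X.presheaf.stalkSpecializes hspec (f.stalkMap x (a : Y.presheaf.stalk (f.base x))) :=
    Scheme.Hom.stalkSpecializes_stalkMap_apply f x' x hspec _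
  have h2 : X.presheaf.stalkSpecializes hspec b = X.presheaf.germ U x' hx' β := by
    rw [← hβ]
    exact TopCat.Presheaf.germ_stalkSpecializes_apply X.presheaf hxU hspec β
  have hane : Y.presheaf.stalkSpecializes (f.base.hom.map_specializes hspec)
      (a : Y.presheaf.stalk (f.base x)) ≠ 0 := by
    intro h0
    apply nonZeroDivisors.coe_ne_zero a
    apply stalkSpecializes_injective_of_isDomain (f.base.hom.map_specializes hspec)
    rw [h0, map_zero]
  have hdomx' : IsDomain (Y.presheaf.stalk (f.base x')) := by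
    have := hreg (f.base x')
    exact Groth.Agent.Lib.Helper21.isDomain_of_isRegularLocalRing _
  have hunit := isUnit_of_ringKrullDim_eq_zero hη _ hane
  have hunit' := hunit.map (f.stalkMap x').hom
  have h3 : (f.stalkMap x').hom (Y.presheaf.stalkSpecializes (f.base.hom.map_specializes hspec)
      (a : Y.presheaf.stalk (f.base x))) * X.presheaf.germ U x' hx' β = 0 := by
    have := congrArg (X.presheaf.stalkSpecializes hspec) hab'
    rw [map_mul, map_zero, h2] at this
    rw [← this]
    congr 1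
  exact hβ' (hunit'.mul_right_eq_zero.mp h3)


theorem isFinLocFree_push (C C' : Scheme.{u}) (f : C ⟶ C') [IsFinite f] [IsLocallyNoetherian C']
    (hreg : ∀ y : C', IsRegularLocalRing (C'.presheaf.stalk y))
    (hdim : ∀ y : C', ringKrullDim (C'.presheaf.stalk y) ≤ 1)
    (hass : ∀ x : C, Curv2.IsAssPoint (Coh.structureModule C) x →
      ringKrullDim (C'.presheaf.stalk (f.base x)) = 0) :
    FlatMod.IsFinLocFree ((Coh.push f).obj (Coh.structureModule C)) := by
  have : IsLocallyNoetherian C := LocallyOfFiniteType.isLocallyNoetherian f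
  have : Flat f := flat_of_ass_dim_zero f hreg hdim hass
  have : LocallyOfFinitePresentation f := inferInstance
  exact (Groth.Agent.Lib.Helper26.FinLocFreeMor.backward f ⟨inferInstance, ‹Flat f›, this⟩).2

end Groth.Agent.Lib.Helper9.AssGen
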