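import Groth.Agent.Lib.Helper14.FibCrit
import Groth.Agent.Lib.Helper16.RegularGorenstein
import Groth.Agent.Lib.Helper11.ReesGor
import Groth.Agent.Lib.Helper16.GorQuot
import Groth.Agent.Lib.Helper2.Gor.GK1
import Groth.Prelude.Def_Models

set_option autoImplicit false
universe u

namespace Groth.Agent.Lib.Helper9.SpFibGor

open AlgebraicGeometry CategoryTheory IsLocalRing CategoryTheory.Limits

section iso

variable (R : Type u) [CommRing R] [IsLocalRing R]

/-- the closed point of `Spec R` -/
noncomputable abbrev cp : (Spec (CommRingCat.of R) : Scheme.{u}) := IsLocalRing.closedPoint R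

/-- `Spec k → Spec R` factors as an isomorphism followed by `fromSpecResidueField` -/
theorem exists_iso_fromSpecResidueField :
    ∃ θ : Spec (CommRingCat.of (ResidueField R)) ≅
        Spec ((Spec (CommRingCat.of R)).residueField (cp R)),
      θ.hom ≫ (Spec (CommRingCat.of R)).fromSpecResidueField (cp R) =
        Spec.map (CommRingCat.ofHom (algebraMap R (ResidueField R))) := by
  let m := maximalIdeal R
  have hbij : Function.Bijective (algebraMap (R ⧸ m) m.ResidueField) :=
    Ideal.bijective_algebraMap_quotient_residueField m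
  let ε : ResidueField R ≃+* (cp R).asIdeal.ResidueField := RingEquiv.ofBijective _ hbij
  let E : CommRingCat.of (ResidueField R) ≅ CommRingCat.of (cp R).asIdeal.ResidueField :=
    ε.toCommRingCatIso
  let ρ := Scheme.Spec.residueFieldIso (CommRingCat.of R) (cp R)
  let θ : Spec (CommRingCat.of (ResidueField R)) ≅
      Spec ((Spec (CommRingCat.of R)).residueField (cp R)) :=
    Scheme.Spec.mapIso E.symm.op ≪≫ Scheme.Spec.mapIso ρ.op
  refine ⟨θ, ?_⟩
  have h1 : θ.hom = Spec.map E.inv ≫ Spec.map ρ.hom := rfl
  rw [h1, ← Scheme.Spec.map_residueFieldIso_inv_eq_fromSpecResidueField, Category.assoc,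
    ← Spec.map_comp_assoc ρ.inv ρ.hom, Iso.inv_hom_id, Spec.map_id, Category.id_comp,
    ← Spec.map_comp]
  congr 1
  ext r
  change ε.symm (algebraMap R m.ResidueField r) = algebraMap R (R ⧸ m) r
  have h2 : ε (algebraMap R (R ⧸ m) r) = algebraMap R m.ResidueField r :=
    (IsScalarTower.algebraMap_apply R (R ⧸ m) m.ResidueField r).symm
  rw [← h2]
  exact ε.symm_apply_apply _

end iso

section ring

/-- quotient of a regular local ring by the image of a principal maximal ideal under a flat local
map is Gorenstein -/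
theorem gor_quot_of_regular_flat {T O : Type u} [CommRing T] [CommRing O] [IsLocalRing T]
    [IsRegularLocalRing O] (φ : T →+* O) [IsLocalHom φ] (hφ : φ.Flat) (ϖ : T)
    (hϖ : ϖ ∈ nonZeroDivisors T) (hm : maximalIdeal T = Ideal.span {ϖ}) :
    LocCoh.IsGorensteinLocalRing (O ⧸ (maximalIdeal T).map φ) := by
  have hmap : (maximalIdeal T).map φ = Ideal.span {φ ϖ} := by
    rw [hm, Ideal.map_span, Set.image_singleton]
  have hϖm : ϖ ∈ maximalIdeal T := by
    rw [hm]; exact Ideal.mem_span_singleton_self ϖ
  have hfm : φ ϖ ∈ maximalIdeal O := by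
    rw [mem_maximalIdeal, mem_nonunits_iff] at hϖm ⊢
    exact fun h => hϖm (isUnit_of_map_unit φ ϖ h)
  have hreg : IsSMulRegular O (φ ϖ) := by
    let _ : Algebra T O := φ.toAlgebra
    have : Module.Flat T O := hφ
    have h1 : IsSMulRegular O ϖ := Module.Flat.isSMulRegular_of_nonZeroDivisors hϖ
    intro a b hab
    apply h1
    change ϖ • a = ϖ • b
    rw [Algebra.smul_def, Algebra.smul_def]
    exact hab
  have hG : LocCoh.IsGorensteinLocalRing O :=
    Groth.Agent.Lib.Helper16.RegGor.isGorensteinLocalRing_of_isRegularLocalRing O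
  have hQ := (Groth.Agent.Lib.Helper11.Rees.gorenstein_iff_quotient hfm hreg).1 hG
  rw [hmap]
  exact hQ

end ring

section main

variable (R : Type u) [CommRing R] [IsDomain R] [IsDiscreteValuationRing R] (X : Scheme.{u})
  (p : X ⟶ Spec (CommRingCat.of R))

theorem stalk_aux (j : Spec (CommRingCat.of (ResidueField R)) ⟶ Spec (CommRingCat.of R))
    (θ : Spec (CommRingCat.of (ResidueField R)) ≅
      Spec ((Spec (CommRingCat.of R)).residueField (cp R)))
    (hθ : θ.hom ≫ (Spec (CommRingCat.of R)).fromSpecResidueField (cp R) = j)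
    (t : ↥(pullback p j)) :
    Function.Surjective ((pullback.fst p j).stalkMap t).hom ∧
    RingHom.ker ((pullback.fst p j).stalkMap t).hom =
      Ideal.map (p.stalkMap ((pullback.fst p j) t)).hom
        (maximalIdeal ((Spec (CommRingCat.of R)).presheaf.stalk (p ((pullback.fst p j) t)))) ∧
    p ((pullback.fst p j) t) = cp R := by
  have sq0 : IsPullback (pullback.fst p j) (pullback.snd p j) p j := IsPullback.of_hasPullback p j
  have sq : IsPullback (pullback.fst p j) (pullback.snd p j ≫ θ.hom) p
      ((Spec (CommRingCat.of R)).fromSpecResidueField (cp R)) :=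
    IsPullback.of_iso sq0 (Iso.refl _) (Iso.refl _) θ (Iso.refl _) (by simp) (by simp) (by simp)
      (by simp [hθ])
  obtain ⟨h1, h2⟩ := Groth.Agent.Lib.Helper14.AS.stalkMap_fibre_surjective_ker p (cp R)
    (pullback.fst p j) (pullback.snd p j ≫ θ.hom) sq t
  refine ⟨h1, h2, ?_⟩
  have h3 : p ((pullback.fst p j) t) =
      ((Spec (CommRingCat.of R)).fromSpecResidueField (cp R)) ((pullback.snd p j ≫ θ.hom) t) := by
    rw [← Scheme.Hom.comp_apply, ← Scheme.Hom.comp_apply, sq.w]
  rw [h3, Scheme.fromSpecResidueField_apply]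

theorem main (hflat : Flat p) (hreg : Models.IsRegularScheme X)
    (x : ↥(Models.specialFibre R X p)) :
    LocCoh.IsGorensteinLocalRing ((Models.specialFibre R X p).presheaf.stalk x) := by
  obtain ⟨θ, hθ⟩ := exists_iso_fromSpecResidueField R
  obtain ⟨hs, hk, hy⟩ := stalk_aux R X p _ θ hθ x
  let i := pullback.fst p (Spec.map (CommRingCat.ofHom (algebraMap R (ResidueField R))))
  let x' : X := i x
  let y : PrimeSpectrum R := p x'
  have hregO : IsRegularLocalRing (X.presheaf.stalk x') := hreg x'
  let _ : Algebra R ((Spec (CommRingCat.of R)).presheaf.stalk y) :=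
    StructureSheaf.stalkAlgebra (R := R) y
  have : y.asIdeal.IsPrime := y.isPrime
  have : IsLocalization.AtPrime ((Spec (CommRingCat.of R)).presheaf.stalk y) y.asIdeal :=
    StructureSheaf.IsLocalization.to_stalk (R := R) y
  have hyI : y.asIdeal = maximalIdeal R := congrArg PrimeSpectrum.asIdeal hy
  obtain ⟨π, hπ⟩ := IsDiscreteValuationRing.exists_irreducible R
  have hmR : maximalIdeal R = Ideal.span {π} := hπ.maximalIdeal_eq
  have hmT : maximalIdeal ((Spec (CommRingCat.of R)).presheaf.stalk y) =
      Ideal.span {algebraMap R ((Spec (CommRingCat.of R)).presheaf.stalk y) π} := by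
    rw [← IsLocalization.AtPrime.map_eq_maximalIdeal y.asIdeal
      ((Spec (CommRingCat.of R)).presheaf.stalk y), hyI, hmR, Ideal.map_span, Set.image_singleton]
  have hdom : IsDomain ((Spec (CommRingCat.of R)).presheaf.stalk y) :=
    IsLocalization.isDomain_of_atPrime _ y.asIdeal
  have hne : algebraMap R ((Spec (CommRingCat.of R)).presheaf.stalk y) π ≠ 0 := by
    intro h
    apply hπ.ne_zero
    exact (IsLocalization.injective ((Spec (CommRingCat.of R)).presheaf.stalk y)
      (y.asIdeal.primeCompl_le_nonZeroDivisors)) (h.trans (map_zero _).symm)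
  have hnzd : algebraMap R ((Spec (CommRingCat.of R)).presheaf.stalk y) π ∈
      nonZeroDivisors ((Spec (CommRingCat.of R)).presheaf.stalk y) :=
    mem_nonZeroDivisors_of_ne_zero hne
  have hflat' : (p.stalkMap x').hom.Flat := Flat.stalkMap p x'
  have hG := gor_quot_of_regular_flat (p.stalkMap x').hom hflat' _ hnzd hmT
  have e : (X.presheaf.stalk x' ⧸ Ideal.map (p.stalkMap x').hom
      (maximalIdeal ((Spec (CommRingCat.of R)).presheaf.stalk y))) ≃+*
      (Models.specialFibre R X p).presheaf.stalk x :=
    (Ideal.quotEquivOfEq hk.symm).trans (RingHom.quotientKerEquivOfSurjective hs)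
  exact Groth.Agent.Lib.Helper2.GK.gor_of_ringEquiv e hG

end main

end Groth.Agent.Lib.Helper9.SpFibGor
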