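import Mathlib
import Groth.Agent.Lib.Helper7.WeakAss

/-!
# Weakly associated primes under finite (flat) ring maps (helper9)

* `comap_mem_weakAss`: for a finite ring map `A → B` and a `B`-module `N`, the contraction of a prime weakly
  associated to `N` over `B` is weakly associated to `N` over `A` (Stacks 10.66.13, hard direction).
* `mem_weakAss_baseChange`: for `A → B` flat and integral, `p ∈ WeakAss_A M` implies every prime over `p` is in
  `WeakAss_B (B ⊗ M)`.
* `mem_weakAss_of_mem_weakAss_tensor`: for `B` finite flat over `A`, `WeakAss_A (B ⊗_A M) ⊆ WeakAss_A M`.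
-/

set_option autoImplicit false
universe u v

namespace Groth.Agent.Lib.Helper9.WeakAssFinite

open FlatCA Groth.Agent.Lib.Helper7.WeakAss TensorProduct

section Crit
variable {R : Type u} [CommRing R] {M : Type v} [AddCommGroup M] [Module R M]

/-- Elementwise criterion for `p` to be minimal over `Ann m`. -/
lemma minimalPrimes_ann_iff (p : Ideal R) [hp : p.IsPrime] (m : M) :
    p ∈ ((R ∙ m).annihilator).minimalPrimes ↔
      (R ∙ m).annihilator ≤ p ∧ ∀ f ∈ p, ∃ s, s ∉ p ∧ ∃ n : ℕ, (s * f ^ n) • m = 0 := by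
  constructor
  · intro h
    refine ⟨h.1.2, fun f hf => ?_⟩
    obtain ⟨g, hg, n, hn⟩ := exists_mul_pow_mem_of_mem_minimalPrimes h hf
    exact ⟨g, hg, n, mem_ann.1 hn⟩
  · rintro ⟨h1, h2⟩
    refine ⟨⟨hp, h1⟩, ?_⟩
    rintro q ⟨hq, hIq⟩ hqp f hf
    obtain ⟨s, hs, n, hn⟩ := h2 f hf
    have : s * f ^ n ∈ q := hIq (mem_ann.2 hn)
    rcases hq.mem_or_mem this with h | h
    · exact absurd (hqp h) hs
    · exact hq.mem_of_pow_mem n h

end Crit

section Finite

variable {A B : Type u} [CommRing A] [CommRing B] [Algebra A B] [Module.Finite A B]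
  {N : Type v} [AddCommGroup N] [Module B N] [Module A N] [IsScalarTower A B N]

/-- Stacks 10.66.13 (hard direction): for a finite ring map `A → B` and a `B`-module `N`, a weakly
associated prime of `N` over `B` contracts to a weakly associated prime of `N` over `A`. -/
theorem comap_mem_weakAss (p : Ideal A) [p.IsPrime] (t : Ideal B) [ht : t.IsPrime] [t.LiesOver p]
    (h : t ∈ weakAss B N) : p ∈ weakAss A N := by
  classical
  obtain ⟨x, hx⟩ := h
  have hpt : t.comap (algebraMap A B) = p := (Ideal.LiesOver.over (P := t) (p := p)).symm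
  -- the finitely many other primes over `p`
  have hfin : (p.primesOver B).Finite := Algebra.QuasiFinite.finite_primesOver p
  set Q : Finset (Ideal B) := hfin.toFinset.erase t with hQ
  have hQmem : ∀ q, q ∈ Q ↔ q ≠ t ∧ q.IsPrime ∧ q.LiesOver p := by
    intro q
    rw [hQ, Finset.mem_erase, Set.Finite.mem_toFinset]
    rfl
  -- prime avoidance
  obtain ⟨x₀, hx₀t, hx₀⟩ : ∃ x₀ ∈ t, ∀ q ∈ Q, x₀ ∉ q := by
    by_contra hcon
    push Not at hcon
    have hsub : (t : Set B) ⊆ ⋃ q ∈ (Q : Set (Ideal B)), (id q : Ideal B) := by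
      intro y hy
      obtain ⟨q, hq, hyq⟩ := hcon y hy
      exact Set.mem_biUnion hq hyq
    obtain ⟨q, hq, htq⟩ := (Ideal.subset_union_prime (f := id) t t
      (fun i hi _ _ => ((hQmem i).1 hi).2.1)).1 hsub
    obtain ⟨hne, hqp, hqo⟩ := (hQmem q).1 hq
    have hlt : t < q := lt_of_le_of_ne htq (Ne.symm hne)
    have := Ideal.IsIntegral.comap_lt_comap (R := A) hlt
    rw [hpt, ← Ideal.under_def, ← hqo.over] at this
    exact lt_irrefl _ this
  obtain ⟨y, hy, n, hn⟩ := exists_mul_pow_mem_of_mem_minimalPrimes hx hx₀t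
  -- the new element
  set z : N := y • x with hz
  have hannz : (B ∙ z).annihilator ≤ t := by
    intro s hs
    rw [mem_ann, hz, ← mul_smul] at hs
    have : s * y ∈ t := hx.1.2 (mem_ann.2 hs)
    exact (ht.mem_or_mem this).resolve_right hy
  have hx₀z : x₀ ^ n ∈ (B ∙ z).annihilator := by
    rw [mem_ann, hz, ← mul_smul, mul_comm]
    exact mem_ann.1 hn
  refine ⟨z, (minimalPrimes_ann_iff p z).2 ⟨?_, ?_⟩⟩
  · intro a ha
    rw [mem_ann] at ha
    have : algebraMap A B a ∈ (B ∙ z).annihilator := by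
      rw [mem_ann, algebraMap_smul]; exact ha
    have := hannz this
    rw [← hpt]; exact this
  · intro f hf
    have hft : algebraMap A B f ∈ t := by
      have : f ∈ t.comap (algebraMap A B) := by rw [hpt]; exact hf
      exact this
    obtain ⟨s', hs', n', hn'⟩ := exists_mul_pow_mem_of_mem_minimalPrimes hx hft
    set I : Ideal B := (B ∙ ((algebraMap A B f) ^ n' • z)).annihilator with hI
    have hs'I : s' ∈ I := by
      rw [hI, mem_ann, hz, ← mul_smul, ← mul_smul]
      have := mem_ann.1 hn'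
      rw [show s' * algebraMap A B f ^ n' * y = y * (s' * algebraMap A B f ^ n') by ring,
        mul_smul, this, smul_zero]
    have hzI : (B ∙ z).annihilator ≤ I := by
      intro b hb
      rw [mem_ann] at hb
      rw [hI, mem_ann, smul_comm, hb, smul_zero]
    have hnot : ¬ I.comap (algebraMap A B) ≤ p := by
      intro hle
      obtain ⟨q, hIq, hq, hqp⟩ := Ideal.exists_ideal_over_prime_of_isIntegral p I hle
      by_cases hqt : q = t
      · exact hs' (hqt ▸ hIq hs'I)
      · have : q ∈ Q := (hQmem q).2 ⟨hqt, hq, ⟨hqp.symm⟩⟩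
        exact hx₀ q this (hq.mem_of_pow_mem n (hIq (hzI hx₀z)))
    obtain ⟨a, haI, hap⟩ := Set.not_subset.1 hnot
    refine ⟨a, hap, n', ?_⟩
    have : algebraMap A B a ∈ I := haI
    rw [hI, mem_ann, algebraMap_smul] at this
    rw [mul_smul]
    rw [← this]
    congr 1
    rw [← map_pow, algebraMap_smul]

end Finite

section Flat

variable {A B : Type u} [CommRing A] [CommRing B] [Algebra A B] [Module.Flat A B]
  {M : Type v} [AddCommGroup M] [Module A M]

/-- For flat `A → B`: `Ann_B(1 ⊗ m) ≤ Ann_A(m) B`. -/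
lemma ann_one_tmul_le (m : M) :
    (B ∙ ((1 : B) ⊗ₜ[A] m)).annihilator ≤ ((A ∙ m).annihilator).map (algebraMap A B) := by
  intro b hb
  rw [mem_ann, TensorProduct.smul_tmul', smul_eq_mul, mul_one] at hb
  set f : A →ₗ[A] M := LinearMap.toSpanSingleton A M m with hf
  have hker : LinearMap.ker f = (A ∙ m).annihilator := by
    ext a
    rw [LinearMap.mem_ker, mem_ann, hf, LinearMap.toSpanSingleton_apply]
  set I : Ideal A := (A ∙ m).annihilator with hI
  let ι : (A ⧸ I) →ₗ[A] M := Submodule.liftQ I f hker.ge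
  have hι : Function.Injective ι :=
    LinearMap.ker_eq_bot.1 (Submodule.ker_liftQ_eq_bot _ _ _ hker.le)
  have hinj := Module.Flat.lTensor_preserves_injective_linearMap (M := B) ι hι
  have h0 : b ⊗ₜ[A] (Ideal.Quotient.mk I 1) = (0 : B ⊗[A] (A ⧸ I)) := by
    apply hinj
    rw [LinearMap.lTensor_tmul, map_zero]
    have : ι (Ideal.Quotient.mk I 1) = m := by
      show Submodule.liftQ I f hker.ge (Submodule.Quotient.mk 1) = m
      rw [Submodule.liftQ_apply, hf, LinearMap.toSpanSingleton_apply, one_smul]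
    rw [this, hb]
  have h1 := congrArg (tensorQuotEquivQuotSMul B I) h0
  rw [tensorQuotEquivQuotSMul_tmul_mk, map_zero, one_smul, Submodule.Quotient.mk_eq_zero,
    Ideal.smul_top_eq_map] at h1
  exact h1

variable [Algebra.IsIntegral A B]

theorem mem_weakAss_baseChange (p : Ideal A) [p.IsPrime] (t : Ideal B) [ht : t.IsPrime]
    [t.LiesOver p] (h : p ∈ weakAss A M) : t ∈ weakAss B (B ⊗[A] M) := by
  obtain ⟨m, hm⟩ := h
  have hpt : t.comap (algebraMap A B) = p := (Ideal.LiesOver.over (P := t) (p := p)).symm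
  refine ⟨(1 : B) ⊗ₜ[A] m, ⟨ht, ?_⟩, ?_⟩
  · refine (ann_one_tmul_le m).trans ?_
    rw [Ideal.map_le_iff_le_comap, hpt]
    exact hm.1.2
  · rintro t' ⟨ht', hle⟩ ht't
    have h1 : (A ∙ m).annihilator ≤ t'.comap (algebraMap A B) := by
      intro a ha
      rw [mem_ann] at ha
      apply hle
      rw [mem_ann, algebraMap_smul, ← TensorProduct.tmul_smul, ha, TensorProduct.tmul_zero]
    have h2 : t'.comap (algebraMap A B) ≤ p := by
      rw [← hpt]; exact Ideal.comap_mono ht't
    have h3 : p ≤ t'.comap (algebraMap A B) := hm.2 ⟨inferInstance, h1⟩ h2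
    by_contra hnot
    have hlt : t' < t := lt_of_le_of_ne ht't (fun h => hnot h.ge)
    have := Ideal.IsIntegral.comap_lt_comap (R := A) hlt
    rw [hpt] at this
    exact absurd (lt_of_lt_of_le this h3) (lt_irrefl _)

end Flat

section Finsupp

variable {R : Type u} [CommRing R] {X : Type v} [AddCommGroup X] [Module R X] {ι : Type*}

lemma isAssociatedPrime_of_finsupp (𝔪 : Ideal R) [h𝔪 : 𝔪.IsMaximal]
    (h : IsAssociatedPrime 𝔪 (ι →₀ X)) : IsAssociatedPrime 𝔪 X := by
  obtain ⟨hp, w, hw⟩ := h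
  have hw0 : w ≠ 0 := by
    rintro rfl
    apply hp.ne_top
    rw [hw]
    simp
  obtain ⟨i, hi⟩ : ∃ i, w i ≠ 0 := by
    by_contra hcon
    push Not at hcon
    exact hw0 (Finsupp.ext hcon)
  refine ⟨hp, w i, ?_⟩
  have hle : 𝔪 ≤ ((⊥ : Submodule R X).colon {w i}).radical := by
    rw [hw]
    apply Ideal.radical_mono
    intro r hr
    rw [Submodule.mem_colon_singleton, Submodule.mem_bot] at hr ⊢
    rw [← Finsupp.smul_apply, hr, Finsupp.zero_apply]
  refine (h𝔪.eq_of_le ?_ hle)
  intro htop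
  rw [Ideal.radical_eq_top] at htop
  have : (1 : R) ∈ (⊥ : Submodule R X).colon {w i} := by rw [htop]; trivial
  rw [Submodule.mem_colon_singleton, Submodule.mem_bot, one_smul] at this
  exact hi this

end Finsupp

section FiniteFlat

variable {A B : Type u} [CommRing A] [CommRing B] [Algebra A B] [Module.Finite A B]
  [Module.Flat A B] (M : Type u) [AddCommGroup M] [Module A M]

theorem mem_weakAss_of_mem_weakAss_tensor (p : Ideal A) [p.IsPrime]
    (h : p ∈ weakAss A (B ⊗[A] M)) : p ∈ weakAss A M := by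
  rw [mem_weakAss_iff_isAssociatedPrime_maximalIdeal] at h ⊢
  set S := p.primeCompl
  set Ap := Localization.AtPrime p
  let F := Ap ⊗[A] B
  let X := Ap ⊗[A] M
  have : Module.Free Ap F := Module.free_of_flat_of_isLocalRing
  let b := Module.Free.chooseBasis Ap F
  let e1 : LocalizedModule S (B ⊗[A] M) ≃ₗ[Ap] Ap ⊗[A] (B ⊗[A] M) :=
    (IsLocalizedModule.isBaseChange S Ap (LocalizedModule.mkLinearMap S (B ⊗[A] M))).equiv.symm
  let e2 : Ap ⊗[A] (B ⊗[A] M) ≃ₗ[Ap] F ⊗[A] M := (AlgebraTensorModule.assoc A A Ap Ap B M).symm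
  let e3 : F ⊗[A] M ≃ₗ[Ap] F ⊗[Ap] X := (AlgebraTensorModule.cancelBaseChange A Ap Ap F M).symm
  let e4 : F ⊗[Ap] X ≃ₗ[Ap] _ →₀ X := TensorProduct.equivFinsuppOfBasisLeft b
  let e5 : X ≃ₗ[Ap] LocalizedModule S M :=
    (IsLocalizedModule.isBaseChange S Ap (LocalizedModule.mkLinearMap S M)).equiv
  rw [(e1.trans (e2.trans (e3.trans e4))).isAssociatedPrime_iff] at h
  rw [← e5.isAssociatedPrime_iff]
  exact isAssociatedPrime_of_finsupp _ h

end FiniteFlat

end Groth.Agent.Lib.Helper9.WeakAssFinite
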