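import Mathlib
import Groth.Agent.Lib.Helper9.WeakAssFinite

/-!
# Weakly associated primes under étale ring maps (helper9)

`mem_weakAss_baseChange'` (flat + quasi-finite: `p ∈ WeakAss M ⇒ q ∈ WeakAss (B ⊗ M)` for `q` over `p`) and
`comap_mem_weakAss_of_etale` (étale: the converse, via the standard-étale local structure and the finite flat case).
-/

set_option autoImplicit false
universe u v

namespace Groth.Agent.Lib.Helper9.WeakAssEtale

open FlatCA Groth.Agent.Lib.Helper7.WeakAss Groth.Agent.Lib.Helper9.WeakAssFinite TensorProduct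

section QF

variable {A B : Type u} [CommRing A] [CommRing B] [Algebra A B] [Module.Flat A B]
  [Algebra.QuasiFinite A B] {M : Type v} [AddCommGroup M] [Module A M]

theorem mem_weakAss_baseChange' (p : Ideal A) [p.IsPrime] (t : Ideal B) [ht : t.IsPrime]
    [t.LiesOver p] (h : p ∈ weakAss A M) : t ∈ weakAss B (B ⊗[A] M) := by
  obtain ⟨m, hm⟩ := h
  have hpt : t.comap (algebraMap A B) = p := (Ideal.LiesOver.over (P := t) (p := p)).symm
  refine ⟨(1 : B) ⊗ₜ[A] m, ⟨ht, ?_⟩, ?_⟩
  · refine (ann_one_tmul_le m).trans ?_
    rw [Ideal.map_le_iff_le_comap, hpt]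
    exact hm.1.2
  · rintro t' ⟨ht', hle⟩ ht't
    have h1 : (A ∙ m).annihilator ≤ t'.comap (algebraMap A B) := by
      intro a ha
      rw [mem_ann] at ha
      apply hle
      rw [mem_ann, algebraMap_smul, ← TensorProduct.tmul_smul, ha, TensorProduct.tmul_zero]
    have h2 : t'.comap (algebraMap A B) ≤ p := by
      rw [← hpt]; exact Ideal.comap_mono ht't
    have h3 : p ≤ t'.comap (algebraMap A B) := hm.2 ⟨inferInstance, h1⟩ h2
    have h4 : t'.under A = t.under A := by
      rw [Ideal.under_def, Ideal.under_def, hpt]
      exact le_antisymm h2 h3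
    exact (Algebra.QuasiFinite.eq_of_le_of_under_eq (R := A) t' t ht't h4).ge

end QF

section Loc

variable {A B : Type u} [CommRing A] [CommRing B] [Algebra A B]
  (M : Type u) [AddCommGroup M] [Module A M]

/-- Weakly associated primes of `B ⊗ M` and localization of `B`. -/
theorem mem_weakAss_tensor_iff_map (T : Submonoid B) (q : Ideal B) [q.IsPrime]
    (hT : Disjoint (T : Set B) (q : Set B)) :
    q ∈ weakAss B (B ⊗[A] M) ↔
      q.map (algebraMap B (Localization T)) ∈ weakAss (Localization T) (Localization T ⊗[A] M) := by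
  rw [mem_weakAss_iff_map_mem T q hT]
  let e : LocalizedModule T (B ⊗[A] M) ≃ₗ[Localization T] Localization T ⊗[A] M :=
    (IsLocalizedModule.isBaseChange T (Localization T)
      (LocalizedModule.mkLinearMap T (B ⊗[A] M))).equiv.symm ≪≫ₗ
      AlgebraTensorModule.cancelBaseChange A B (Localization T) (Localization T) M
  rw [weakAss_congr e]

end Loc

section Transport

variable {R R' : Type u} [CommRing R] [CommRing R'] (e : R ≃+* R')
  {N N' : Type v} [AddCommGroup N] [Module R N] [AddCommGroup N'] [Module R' N']

theorem mem_weakAss_of_ringEquiv (φ : N ≃+ N') (hφ : ∀ (r : R) (x : N), φ (r • x) = e r • φ x)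
    (q : Ideal R) (h : q ∈ weakAss R N) : q.comap (e.symm : R' →+* R) ∈ weakAss R' N' := by
  obtain ⟨x, hx⟩ := h
  refine ⟨φ x, ?_⟩
  have hann : (R' ∙ φ x).annihilator = ((R ∙ x).annihilator).comap (e.symm : R' →+* R) := by
    ext c
    rw [Ideal.mem_comap, mem_ann, mem_ann]
    have : c • φ x = φ ((e.symm c) • x) := by
      rw [hφ, RingEquiv.apply_symm_apply]
    rw [this]
    rw [RingEquiv.coe_toRingHom]
    exact ⟨fun h => φ.injective (by rw [h, map_zero]), fun h => by rw [h, map_zero]⟩
  rw [hann]
  exact Ideal.minimalPrimes_comap_of_surjective (f := (e.symm : R' →+* R)) e.symm.surjective hx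

end Transport

section Etale

variable {A B : Type u} [CommRing A] [CommRing B] [Algebra A B] [Algebra.Etale A B]
  (M : Type u) [AddCommGroup M] [Module A M]

theorem comap_mem_weakAss_of_etale (p : Ideal A) [p.IsPrime] (q : Ideal B) [hq : q.IsPrime]
    [q.LiesOver p] (h : q ∈ weakAss B (B ⊗[A] M)) : p ∈ weakAss A M := by
  obtain ⟨f, hfq, hstd⟩ := Algebra.IsEtaleAt.exists_isStandardEtale (R := A) q
  set T := Submonoid.powers f with hTdef
  have hT : Disjoint (T : Set B) (q : Set B) :=
    (Ideal.disjoint_powers_iff_notMem_of_isPrime _).mpr hfq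
  have h1 := (mem_weakAss_tensor_iff_map M T q hT).1 h
  obtain ⟨P⟩ := hstd.nonempty_standardEtalePresentation
  let C := AdjoinRoot P.f
  let g : C := AdjoinRoot.mk P.f P.g
  let E : Localization T ≃ₐ[A] Localization.Away g := P.equivRing.trans P.P.equivAwayAdjoinRoot
  let φ : (Localization T) ⊗[A] M ≃ₗ[A] (Localization.Away g) ⊗[A] M :=
    TensorProduct.congr E.toLinearEquiv (LinearEquiv.refl A M)
  have hφ : ∀ (r : Localization T) (x : (Localization T) ⊗[A] M),
      φ.toAddEquiv (r • x) = E.toRingEquiv r • φ.toAddEquiv x := by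
    intro r x
    induction x using TensorProduct.induction_on with
    | zero => simp
    | tmul b m =>
      simp [φ, TensorProduct.smul_tmul']
    | add x y hx hy =>
      rw [smul_add, map_add, hx, hy, map_add, smul_add]
  have h2 := mem_weakAss_of_ringEquiv E.toRingEquiv φ.toAddEquiv hφ _ h1
  set q1 : Ideal (Localization T) := q.map (algebraMap B (Localization T)) with hq1
  set q2 : Ideal (Localization.Away g) := q1.comap (E.toRingEquiv.symm : _ →+* _) with hq2
  have hq2p : q2.IsPrime := isPrime_of_mem_weakAss h2
  set q3 : Ideal C := q2.comap (algebraMap C (Localization.Away g)) with hq3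
  have hq3p : q3.IsPrime := Ideal.comap_isPrime _ _
  have hdisj : Disjoint ((Submonoid.powers g : Submonoid C) : Set C) (q3 : Set C) := by
    rw [Ideal.disjoint_powers_iff_notMem_of_isPrime]
    intro hg
    have : algebraMap C (Localization.Away g) g ∈ q2 := hg
    exact hq2p.ne_top (Ideal.eq_top_of_isUnit_mem _ this
      (IsLocalization.Away.algebraMap_isUnit g))
  have h3 : q3 ∈ weakAss C (C ⊗[A] M) := by
    rw [mem_weakAss_tensor_iff_map M (Submonoid.powers g) q3 hdisj, hq3,
      IsLocalization.map_under (Submonoid.powers g)]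
    exact h2
  have hover : q3.LiesOver p := by
    constructor
    ext a
    have hqp : q.under A = p := (Ideal.LiesOver.over (P := q) (p := p)).symm
    rw [← hqp]
    rw [Ideal.under_def, Ideal.under_def, Ideal.mem_comap, Ideal.mem_comap, hq3, Ideal.mem_comap,
      hq2, Ideal.mem_comap, ← IsScalarTower.algebraMap_apply A C (Localization.Away g)]
    have : (E.toRingEquiv.symm : _ →+* _) (algebraMap A (Localization.Away g) a) =
        algebraMap B (Localization T) (algebraMap A B a) := by
      rw [← IsScalarTower.algebraMap_apply A B (Localization T)]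
      exact E.symm.commutes a
    have hcm : (q.map (algebraMap B (Localization T))).comap (algebraMap B (Localization T)) = q :=
      IsLocalization.under_map_of_isPrime_disjoint T _ hq hT
    rw [this, hq1, ← Ideal.mem_comap (f := algebraMap B (Localization T)), hcm]
  have : Module.Finite A C := P.monic_f.finite_adjoinRoot
  have : Module.Free A C := P.monic_f.free_adjoinRoot
  exact mem_weakAss_of_mem_weakAss_tensor M p (comap_mem_weakAss p q3 h3)

end Etale

end Groth.Agent.Lib.Helper9.WeakAssEtale
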