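import Mathlib
import Groth.Prelude.Def_CAlg
import Groth.Prelude.Def_Disc
import Groth.Agent.Lib.Helper11.GorDim2

set_option autoImplicit false
universe u

namespace Groth.Agent.Lib.Helper9.FrobGor

open CategoryTheory CategoryTheory.Abelian

variable {κ : Type u} {C : Type u} [Field κ] [CommRing C] [Algebra κ C]

/-- A generator `λ` of the dual makes `C` self-injective (Baer criterion). -/
theorem baer_of_equiv (e : C ≃ₗ[C] Disc.Omega κ C) : Module.Baer C C := by
  intro I g
  -- the functional `λ ∘ g` on `I`, extended to `C`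
  let lam : Disc.Omega κ C := e 1
  have he : ∀ c : C, e c = c • lam := fun c => by
    rw [show c = c • (1 : C) by simp, map_smul]; simp [lam]
  let g₀ : (I.restrictScalars κ) →ₗ[κ] κ :=
    lam.toLinearMap ∘ₗ ((g.restrictScalars κ) : I →ₗ[κ] C)
  obtain ⟨μ, hμ⟩ := LinearMap.exists_extend g₀
  obtain ⟨c, hc⟩ := e.surjective ⟨μ⟩
  refine ⟨LinearMap.toSpanSingleton C C c, fun x hx => ?_⟩
  apply e.injective
  rw [he, he]
  apply Disc.Omega.ext
  apply LinearMap.ext
  intro y
  rw [Disc.Omega.smul_toLinearMap_apply, Disc.Omega.smul_toLinearMap_apply]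
  -- λ (c x y) = μ (x y) = λ (g (x y)) = λ (g x * y)
  have h1 : lam.toLinearMap (c * (x * y)) = μ (x * y) := by
    have := congrArg (fun t => t.toLinearMap (x * y)) hc
    simp only [he, Disc.Omega.smul_toLinearMap_apply] at this
    exact this
  have hxy : x * y ∈ I := I.mul_mem_right y hx
  have h2 : μ (x * y) = lam.toLinearMap (g ⟨x * y, hxy⟩) := by
    have := LinearMap.congr_fun hμ ⟨x * y, hxy⟩
    exact this
  have h3 : g ⟨x * y, hxy⟩ = y * g ⟨x, hx⟩ := by
    have : (⟨x * y, hxy⟩ : I) = y • ⟨x, hx⟩ := by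
      ext; simp [mul_comm]
    rw [this, map_smul, smul_eq_mul]
  rw [LinearMap.toSpanSingleton_apply, smul_eq_mul, mul_comm x c, mul_assoc, h1, h2, h3, mul_comm]

/-- If `Hom_κ(C, κ) ≅ C` as `C`-modules then `C` is Gorenstein. -/
theorem gor_of_equiv [IsNoetherianRing C] (e : C ≃ₗ[C] Disc.Omega κ C) :
    LocCoh.IsGorensteinRing C := by
  have hinj : Module.Injective C C := (baer_of_equiv e).injective
  have : Injective (ModuleCat.of C C) := Module.injective_object_of_injective_module C C
  exact (Groth.Agent.Lib.Helper11.GorCM.finite_injdim_iff.mp ⟨1, inferInstance⟩).1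

end Groth.Agent.Lib.Helper9.FrobGor
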