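import Mathlib
import Groth.Prelude.Def_CAlg
import Groth.Agent.Lib.Helper11.GorDim2

set_option autoImplicit false
universe u

namespace Groth.Agent.Lib.Helper9.GorRefl

open CategoryTheory CategoryTheory.Abelian CategoryTheory.Limits

variable {A : Type u} [CommRing A]

/-- A Gorenstein ring of Krull dimension `≤ d` has injective dimension `≤ d`. -/
theorem hasInjectiveDimensionLT_of_dim_le [LocCoh.IsGorensteinRing A] (d : ℕ)
    (hdim : ringKrullDim A ≤ d) :
    HasInjectiveDimensionLT (ModuleCat.of A A) (d + 1) := by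
  have hG : LocCoh.IsGorensteinRing A := inferInstance
  show HasInjectiveDimensionLE (ModuleCat.of A A) d
  rw [ModuleCat.hasInjectiveDimensionLE_iff_forall_primeSpectrum]
  intro p
  show HasInjectiveDimensionLT _ (d + 1)
  rw [Groth.Agent.Lib.Helper11.GorCM.hasInjectiveDimensionLT_localization_iff]
  have hGp := hG.isGorensteinLocalRing_localization p.asIdeal
  have hCM := Groth.Agent.Lib.Helper11.GorCM.isCohenMacaulayLocalRing_of_gorenstein
    (Localization.AtPrime p.asIdeal)
  have h1 := hCM.supportDim_eq_depth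
  rw [Module.supportDim_self_eq_ringKrullDim,
    IsLocalization.AtPrime.ringKrullDim_eq_height p.asIdeal] at h1
  have h2 : (p.asIdeal.height : WithBot ℕ∞) ≤ d :=
    le_trans Ideal.height_le_ringKrullDim_of_isPrime hdim
  rw [h1] at h2
  have h3 : LocCoh.depth (Localization.AtPrime p.asIdeal) (Localization.AtPrime p.asIdeal) ≤
      (d : ℕ∞) := by exact_mod_cast h2
  have hne : LocCoh.depth (Localization.AtPrime p.asIdeal)
      (Localization.AtPrime p.asIdeal) ≠ ⊤ := fun h => by
    rw [h] at h3
    exact absurd h3 (by simp)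
  obtain ⟨t, ht⟩ := ENat.ne_top_iff_exists.mp hne
  have htd : t ≤ d := by
    rw [← ht] at h3
    exact_mod_cast h3
  have := Groth.Agent.Lib.Helper11.GorCM.hasInjectiveDimensionLT_of_depth t
    (Localization.AtPrime p.asIdeal) ht.symm
  exact hasInjectiveDimensionLT_of_ge _ (t + 1) (d + 1) (by lia)

/-- A subobject of a projective has vanishing `Ext^1` into a module of injective dimension `≤ 1`. -/
theorem subsingleton_ext_one_of_mono_projective {Z G Y : ModuleCat.{u} A} (ι : Z ⟶ G) [Mono ι]
    [Projective G] [HasInjectiveDimensionLT Y 2] : Subsingleton (Ext Z Y 1) := by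
  let S : ShortComplex (ModuleCat.{u} A) := ShortComplex.mk ι (cokernel.π ι) (cokernel.condition ι)
  have hS : S.ShortExact :=
    { exact := ShortComplex.exact_cokernel ι
      mono_f := inferInstanceAs (Mono ι)
      epi_g := inferInstanceAs (Epi (cokernel.π ι)) }
  refine ⟨fun x y => ?_⟩
  have key : ∀ z : Ext Z Y 1, z = 0 := by
    intro z
    have h2 : Subsingleton (Ext S.X₃ Y 2) := HasInjectiveDimensionLT.subsingleton Y 2 2 le_rfl _
    obtain ⟨w, hw⟩ := Ext.contravariant_sequence_exact₁ hS Y z (n₁ := 2) rfl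
      (Subsingleton.elim _ _)
    have hw0 : w = 0 := Ext.eq_zero_of_projective (P := G) w
    rw [← hw, hw0, Ext.comp_zero]
  rw [key x, key y]

/-- Extension of maps along a mono whose cokernel has vanishing `Ext^1`. -/
theorem exists_extension {S : ShortComplex (ModuleCat.{u} A)} (hS : S.ShortExact)
    (Y : ModuleCat.{u} A) [Subsingleton (Ext S.X₃ Y 1)] (f : S.X₁ ⟶ Y) :
    ∃ g : S.X₂ ⟶ Y, S.f ≫ g = f := by
  obtain ⟨φ, hφ⟩ := Ext.contravariant_sequence_exact₁ hS Y (Ext.mk₀ f) (zero_add 1)
    (Subsingleton.elim _ _)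
  obtain ⟨φ, rfl⟩ := Ext.homEquiv₀.symm.surjective φ
  exact ⟨φ, Ext.homEquiv₀.symm.injective (by simpa using hφ)⟩

end Groth.Agent.Lib.Helper9.GorRefl
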