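import Mathlib
import Groth.Prelude.Def_CAlg
import Groth.Prelude.Def_Disc
import Groth.Agent.Lib.Helper9.GorRefl1

set_option autoImplicit false
universe u

namespace Groth.Agent.Lib.Helper9.FrobGor

open CategoryTheory CategoryTheory.Abelian

section Ring

variable {C : Type u} [CommRing C]

/-- A zero-dimensional Gorenstein ring is self-injective. -/
theorem injective_self_of_gor [LocCoh.IsGorensteinRing C] (hdim : ringKrullDim C ≤ 0) :
    Module.Injective C C := by
  have h := Groth.Agent.Lib.Helper9.GorRefl.hasInjectiveDimensionLT_of_dim_le (A := C) 0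
    (by simpa using hdim)
  rw [zero_add] at h
  have : Injective (ModuleCat.of C C) := injective_iff_hasInjectiveDimensionLT_one.mpr h
  exact Module.injective_module_of_injective_object C C

/-- In a self-injective ring the `q`-socle is generated by any of its nonzero elements. -/
theorem exists_mul_eq (hinj : Module.Injective C C) (q : Ideal C) [hq : q.IsMaximal] {x x' : C}
    (hx0 : x ≠ 0) (hx : ∀ r ∈ q, r * x = 0) (hx' : ∀ r ∈ q, r * x' = 0) :
    ∃ a, x' = a * x := by
  have hle : q ≤ LinearMap.ker (LinearMap.toSpanSingleton C C x) := fun r hr => by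
    rw [LinearMap.mem_ker, LinearMap.toSpanSingleton_apply, smul_eq_mul]; exact hx r hr
  have hle' : q ≤ LinearMap.ker (LinearMap.toSpanSingleton C C x') := fun r hr => by
    rw [LinearMap.mem_ker, LinearMap.toSpanSingleton_apply, smul_eq_mul]; exact hx' r hr
  have hker : LinearMap.ker (LinearMap.toSpanSingleton C C x) = q := by
    refine (hq.eq_of_le ?_ hle).symm
    intro h
    have : (1 : C) ∈ LinearMap.ker (LinearMap.toSpanSingleton C C x) := h ▸ Submodule.mem_top
    rw [LinearMap.mem_ker, LinearMap.toSpanSingleton_apply, one_smul] at this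
    exact hx0 this
  let f : (C ⧸ q) →ₗ[C] C := Submodule.liftQ q (LinearMap.toSpanSingleton C C x) hle
  let g : (C ⧸ q) →ₗ[C] C := Submodule.liftQ q (LinearMap.toSpanSingleton C C x') hle'
  have hf : Function.Injective f := by
    rw [← LinearMap.ker_eq_bot, Submodule.ker_liftQ_eq_bot _ _ _ hker.le]
  obtain ⟨h, hh⟩ := hinj.out f hf g
  refine ⟨h 1, ?_⟩
  have h1 := hh (Submodule.Quotient.mk 1)
  have hf1 : f (Submodule.Quotient.mk 1) = x := by
    change Submodule.liftQ q (LinearMap.toSpanSingleton C C x) hle (Submodule.Quotient.mk 1) = x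
    rw [Submodule.liftQ_apply, LinearMap.toSpanSingleton_apply, one_smul]
  have hg1 : g (Submodule.Quotient.mk 1) = x' := by
    change Submodule.liftQ q (LinearMap.toSpanSingleton C C x') hle' (Submodule.Quotient.mk 1) = x'
    rw [Submodule.liftQ_apply, LinearMap.toSpanSingleton_apply, one_smul]
  rw [hf1, hg1] at h1
  rw [← h1, show x = x • (1 : C) by simp, map_smul, smul_eq_mul, smul_eq_mul, mul_one, mul_comm]

/-- Every nonzero principal ideal of a Noetherian ring of dimension zero contains a nonzero
element whose annihilator is a maximal ideal. -/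
theorem exists_ann_maximal [IsNoetherianRing C] [Ring.KrullDimLE 0 C] {c : C} (hc : c ≠ 0) :
    ∃ (z : C) (q : Ideal C), c * z ≠ 0 ∧ q.IsMaximal ∧ ∀ r, r ∈ q ↔ r * (c * z) = 0 := by
  let M : Submodule C C := Ideal.span {c}
  have hcM : c ∈ M := Ideal.subset_span rfl
  have hne : (⟨c, hcM⟩ : M) ≠ 0 := fun h => hc (congrArg Subtype.val h)
  obtain ⟨P, hP, -⟩ := exists_le_isAssociatedPrime_of_isNoetherianRing (R := C) (M := M) _ hne
  rw [isAssociatedPrime_iff] at hP
  obtain ⟨hPp, y, hy⟩ := hP
  obtain ⟨z, hz⟩ := Ideal.mem_span_singleton'.mp y.2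
  have hmem : ∀ r, r ∈ P ↔ r * (c * z) = 0 := by
    intro r
    rw [hy, Submodule.mem_colon_singleton, Submodule.mem_bot]
    constructor
    · intro h
      have := congrArg Subtype.val h
      simpa [← hz, mul_comm z c] using this
    · intro h
      apply Subtype.ext
      simpa [← hz, mul_comm z c] using h
  refine ⟨z, P, ?_, Ideal.IsPrime.isMaximal' (R := C) hPp, hmem⟩
  intro h0
  apply hPp.ne_top
  rw [Ideal.eq_top_iff_one, hmem, one_mul, h0]

end Ring

end Groth.Agent.Lib.Helper9.FrobGor
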