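import Mathlib
import Groth.Prelude.Def_CAlg
import Groth.Prelude.Def_Disc
import Groth.Agent.Lib.Helper9.FrobGor2

set_option autoImplicit false
universe u

namespace Groth.Agent.Lib.Helper9.FrobGor

variable {κ : Type u} {C : Type u} [Field κ] [CommRing C] [Algebra κ C]

/-- Nonzero elements killed by pairwise distinct maximal ideals are linearly independent over a
subfield. -/
theorem linearIndependent_socle {ι : Type*} (m : ι → Ideal C) (hm : ∀ i, (m i).IsMaximal)
    (hinj : Function.Injective m) (s : ι → C) (hs0 : ∀ i, s i ≠ 0)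
    (hs : ∀ i, ∀ r ∈ m i, r * s i = 0) : LinearIndependent κ s := by
  classical
  rw [linearIndependent_iff']
  intro t g hsum i₀ hi₀
  have hann : ∀ i r, r * s i = 0 → r ∈ m i := by
    intro i r hr
    by_contra hrm
    obtain ⟨c, a, ha, hab⟩ := (hm i).exists_inv hrm
    apply hs0 i
    calc s i = (c * r + a) * s i := by rw [hab, one_mul]
      _ = 0 := by rw [add_mul, hs i a ha, mul_assoc, hr, mul_zero, add_zero]
  have hex : ∀ j, j ≠ i₀ → ∃ e, e ∈ m j ∧ e ∉ m i₀ := by
    intro j hj
    by_contra hcon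
    push Not at hcon
    have hle : m j ≤ m i₀ := fun e he => hcon e he
    exact hj (hinj ((hm j).eq_of_le (hm i₀).ne_top hle))
  let e : ι → C := fun j => if h : j ≠ i₀ then (hex j h).choose else 1
  have he1 : ∀ j, j ≠ i₀ → e j ∈ m j := fun j hj => by
    simp only [e, dif_pos hj]; exact (hex j hj).choose_spec.1
  have he2 : ∀ j, j ≠ i₀ → e j ∉ m i₀ := fun j hj => by
    simp only [e, dif_pos hj]; exact (hex j hj).choose_spec.2
  let E : C := ∏ j ∈ t.erase i₀, e j
  have hE : E ∉ m i₀ := by
    intro h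
    obtain ⟨j, hj, hje⟩ := ((hm i₀).isPrime.prod_mem_iff).mp h
    exact he2 j (Finset.ne_of_mem_erase hj) hje
  have hEs : ∀ j ∈ t, j ≠ i₀ → E * s j = 0 := by
    intro j hj hne
    have hj' : j ∈ t.erase i₀ := Finset.mem_erase.mpr ⟨hne, hj⟩
    have : E = e j * ∏ k ∈ (t.erase i₀).erase j, e k := (Finset.mul_prod_erase _ _ hj').symm
    rw [this, mul_comm (e j), mul_assoc, hs j _ (he1 j hne), mul_zero]
  have h2 : ∑ i ∈ t, g i • (E * s i) = 0 := by
    have := congrArg (fun x => E * x) hsum
    simp only [Finset.mul_sum, mul_zero, mul_smul_comm] at this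
    exact this
  rw [Finset.sum_eq_single_of_mem i₀ hi₀ (fun j hj hne => by rw [hEs j hj hne, smul_zero])] at h2
  rcases smul_eq_zero.mp h2 with h | h
  · exact h
  · exact absurd (hann i₀ E h) hE

/-- A zero-dimensional Gorenstein algebra of finite dimension over a field is a Frobenius algebra:
`Hom_κ(C, κ) ≅ C` as `C`-modules. -/
theorem equiv_of_gor [FiniteDimensional κ C] [LocCoh.IsGorensteinRing C] :
    Nonempty (C ≃ₗ[C] Disc.Omega κ C) := by
  classical
  have hart : IsArtinianRing C := IsArtinianRing.of_finite κ C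
  have hnoe : IsNoetherianRing C := inferInstance
  have hdim : ringKrullDim C ≤ 0 := by
    have : Ring.KrullDimLE 0 C := inferInstance
    exact (Ring.krullDimLE_iff (n := 0) (R := C)).mp this
  have hinj := injective_self_of_gor (C := C) hdim
  -- the maximal ideals with nonzero socle
  let Q : Type u := {m : MaximalSpectrum C // ∃ x : C, x ≠ 0 ∧ ∀ r ∈ m.asIdeal, r * x = 0}
  let s : Q → C := fun m => m.2.choose
  have hs0 : ∀ m : Q, s m ≠ 0 := fun m => m.2.choose_spec.1
  have hs : ∀ m : Q, ∀ r ∈ m.1.asIdeal, r * s m = 0 := fun m => m.2.choose_spec.2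
  have hli : LinearIndependent κ s := by
    refine linearIndependent_socle (fun m : Q => m.1.asIdeal) (fun m => m.1.isMaximal) ?_ s hs0 hs
    intro m m' h
    exact Subtype.ext (MaximalSpectrum.ext h)
  -- a functional equal to one on each `s m`
  obtain ⟨G, hG⟩ := LinearMap.exists_leftInverse_of_injective (Finsupp.linearCombination κ s)
    (LinearMap.ker_eq_bot.mpr hli)
  let lam : C →ₗ[κ] κ := (Finsupp.linearCombination κ (fun _ : Q => (1 : κ))) ∘ₗ G
  have hlam : ∀ m : Q, lam (s m) = 1 := by
    intro m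
    have h1 : G (s m) = Finsupp.single m 1 := by
      have := LinearMap.congr_fun hG (Finsupp.single m 1)
      simpa using this
    change Finsupp.linearCombination κ (fun _ : Q => (1 : κ)) (G (s m)) = 1
    rw [h1]; simp
  -- the map `c ↦ λ (c ·)`
  let L : C →ₗ[κ] Module.Dual κ C := (LinearMap.mul κ C).compr₂ lam
  have hL : ∀ c y, L c y = lam (c * y) := fun c y => rfl
  have hLinj : Function.Injective L := by
    rw [← LinearMap.ker_eq_bot, LinearMap.ker_eq_bot']
    intro c hc
    by_contra hc0
    obtain ⟨z, q, hne, hq, hmem⟩ := exists_ann_maximal (C := C) hc0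
    let m : Q := ⟨⟨q, hq⟩, c * z, hne, fun r hr => (hmem r).mp hr⟩
    obtain ⟨a, ha⟩ := exists_mul_eq hinj q hne (fun r hr => (hmem r).mp hr) (hs m)
    have h1 : lam (s m) = 0 := by
      rw [ha, show a * (c * z) = c * (a * z) by ring, ← hL, hc, LinearMap.zero_apply]
    rw [hlam m] at h1
    exact one_ne_zero h1
  have hLsurj : Function.Surjective L :=
    (LinearMap.injective_iff_surjective_of_finrank_eq_finrank
      (Subspace.dual_finrank_eq (K := κ) (V := C)).symm).mp hLinj
  let F : C →ₗ[C] Disc.Omega κ C := LinearMap.toSpanSingleton C (Disc.Omega κ C) ⟨lam⟩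
  have hF : ∀ c, (F c).toLinearMap = L c := by
    intro c
    apply LinearMap.ext
    intro y
    change (c • (⟨lam⟩ : Disc.Omega κ C)).toLinearMap y = _
    rw [Disc.Omega.smul_toLinearMap_apply, hL]
  refine ⟨LinearEquiv.ofBijective F ⟨?_, ?_⟩⟩
  · intro c c' h
    apply hLinj
    rw [← hF, ← hF, h]
  · intro φ
    obtain ⟨c, hc⟩ := hLsurj φ.toLinearMap
    refine ⟨c, ?_⟩
    apply Disc.Omega.ext
    rw [hF, hc]

end Groth.Agent.Lib.Helper9.FrobGor
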