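import Mathlib
import Groth.Prelude.Def_Disc

set_option autoImplicit false
universe u v w

namespace Groth.Agent.Lib.Helper9.FrobGor

variable {A : Type u} {B : Type v} [CommRing A] [CommRing B] [Algebra A B]

/-- `L_l : B → Hom_A(B, A)`, `x ↦ (y ↦ l (x y))`. -/
noncomputable def Lmap (l : Module.Dual A B) : B →ₗ[A] Module.Dual A B :=
  (LinearMap.mul A B).compr₂ l

@[simp] theorem Lmap_apply (l : Module.Dual A B) (x y : B) : Lmap l x y = l (x * y) := rfl

variable {ι : Type w} [Fintype ι] [DecidableEq ι] (b : Module.Basis ι A B)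

/-- The Gram determinant of the form `(x, y) ↦ l (x y)` in the basis `b`. -/
noncomputable def gramDet (l : Module.Dual A B) : A :=
  (LinearMap.toMatrix b b.dualBasis (Lmap l)).det

theorem toMatrix_Lmap (l : Module.Dual A B) (i j : ι) :
    LinearMap.toMatrix b b.dualBasis (Lmap l) i j = l (b j * b i) := by
  rw [LinearMap.toMatrix_apply, Module.Basis.dualBasis_repr, Lmap_apply]

/-- the adjugate trick -/
theorem exists_adj (l : Module.Dual A B) :
    ∃ ψ : Module.Dual A B →ₗ[A] B, (∀ μ, Lmap l (ψ μ) = gramDet b l • μ) ∧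
      (∀ c, ψ (Lmap l c) = gramDet b l • c) := by
  set M := LinearMap.toMatrix b b.dualBasis (Lmap l) with hM
  have hML : Lmap l = Matrix.toLin b b.dualBasis M := by
    rw [hM, Matrix.toLin_toMatrix]
  refine ⟨Matrix.toLin b.dualBasis b M.adjugate, fun μ => ?_, fun c => ?_⟩
  · have h1 : Lmap l ∘ₗ Matrix.toLin b.dualBasis b M.adjugate = M.det • LinearMap.id := by
      rw [hML, ← Matrix.toLin_mul, Matrix.mul_adjugate, map_smul, Matrix.toLin_one]
    exact LinearMap.congr_fun h1 μ
  · have h1 : Matrix.toLin b.dualBasis b M.adjugate ∘ₗ Lmap l = M.det • LinearMap.id := by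
      rw [hML, ← Matrix.toLin_mul, Matrix.adjugate_mul, map_smul, Matrix.toLin_one]
    exact LinearMap.congr_fun h1 c

theorem algebraMap_smul_omega (a : A) (φ : Disc.Omega A B) :
    (algebraMap A B a • φ).toLinearMap = a • φ.toLinearMap := by
  ext x
  rw [Disc.Omega.smul_toLinearMap_apply, ← Algebra.smul_def, map_smul, LinearMap.smul_apply]

theorem smul_omega_toLinearMap (c : B) (l : Module.Dual A B) :
    (c • (⟨l⟩ : Disc.Omega A B)).toLinearMap = Lmap l c := by
  ext x
  rw [Disc.Omega.smul_toLinearMap_apply, Lmap_apply]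

/-- After inverting the Gram determinant of `l`, the module `ω` is free of rank one on `l`. -/
theorem nonempty_locEquiv (l : Module.Dual A B) :
    Nonempty (LocalizedModule.Away (algebraMap A B (gramDet b l)) (Disc.Omega A B)
      ≃ₗ[Localization.Away (algebraMap A B (gramDet b l))]
        Localization.Away (algebraMap A B (gramDet b l))) := by
  obtain ⟨ψ, hψ1, hψ2⟩ := exists_adj b l
  set d := gramDet b l with hd
  set f := algebraMap A B d with hf
  let S := Submonoid.powers f
  let F : Localization.Away f →ₗ[Localization.Away f] LocalizedModule.Away f (Disc.Omega A B) :=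
    LinearMap.toSpanSingleton _ _ (LocalizedModule.mk (⟨l⟩ : Disc.Omega A B) (1 : S))
  have hF : ∀ (c : B) (s : S), F (Localization.mk c s) =
      LocalizedModule.mk (c • (⟨l⟩ : Disc.Omega A B)) s := by
    intro c s
    change Localization.mk c s • LocalizedModule.mk (⟨l⟩ : Disc.Omega A B) (1 : S) = _
    rw [LocalizedModule.mk_smul_mk, mul_one]
  have hfS : f ∈ S := Submonoid.mem_powers f
  refine ⟨(LinearEquiv.ofBijective F ⟨?_, ?_⟩).symm⟩
  · rw [← LinearMap.ker_eq_bot, LinearMap.ker_eq_bot']
    intro x hx
    induction x using Localization.induction_on with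
    | H y =>
      obtain ⟨c, s⟩ := y
      rw [hF, ← LocalizedModule.zero_mk (1 : S), LocalizedModule.mk_eq] at hx
      obtain ⟨u, hu⟩ := hx
      rw [smul_zero, smul_zero, one_smul] at hu
      -- `u • c • ⟨l⟩ = 0`
      have h1 : Lmap l ((u : B) * c) = 0 := by
        rw [← smul_omega_toLinearMap, mul_smul]
        have := congrArg Disc.Omega.toLinearMap hu
        exact this
      have h2 : d • ((u : B) * c) = 0 := by
        rw [← hψ2, h1, map_zero]
      rw [Localization.mk_eq_mk'_apply, IsLocalization.mk'_eq_zero_iff]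
      refine ⟨⟨f, hfS⟩ * u, ?_⟩
      rw [Submonoid.coe_mul, mul_assoc]
      change f * ((u : B) * c) = 0
      rw [hf, ← Algebra.smul_def]
      exact h2
  · intro y
    induction y using LocalizedModule.induction_on with
    | h μ s =>
      refine ⟨Localization.mk (ψ μ.toLinearMap) (⟨f, hfS⟩ * s), ?_⟩
      rw [hF]
      have h1 : ψ μ.toLinearMap • (⟨l⟩ : Disc.Omega A B) = (⟨f, hfS⟩ : S) • μ := by
        apply Disc.Omega.ext
        rw [smul_omega_toLinearMap, hψ1]
        change _ = (f • μ).toLinearMap
        rw [hf, algebraMap_smul_omega]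
      rw [h1, LocalizedModule.mk_cancel_common_left]

end Groth.Agent.Lib.Helper9.FrobGor
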