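import Mathlib
import Groth.Prelude.Def_Disc
import Groth.Agent.Lib.Helper9.FrobGor4

set_option autoImplicit false
universe u w

namespace Groth.Agent.Lib.Helper9.FrobGor

open TensorProduct

variable {A : Type u} {B : Type u} [CommRing A] [CommRing B] [Algebra A B]
variable (K : Type u) [Field K] [Algebra A K]

/-- Base change of a functional `B → A` to `K ⊗ B → K`. -/
noncomputable def bcDual (l : Module.Dual A B) : Module.Dual K (K ⊗[A] B) :=
  Module.Dual.baseChange K l

theorem bcDual_tmul (l : Module.Dual A B) (k : K) (x : B) :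
    bcDual K l (k ⊗ₜ x) = l x • k := rfl

variable {ι : Type w} [Fintype ι] [DecidableEq ι] (b : Module.Basis ι A B)

theorem gramDet_bcDual (l : Module.Dual A B) :
    gramDet (Algebra.TensorProduct.basis K b) (bcDual K l) = algebraMap A K (gramDet b l) := by
  unfold gramDet
  rw [RingHom.map_det]
  congr 1
  ext i j
  rw [toMatrix_Lmap, RingHom.mapMatrix_apply, Matrix.map_apply, toMatrix_Lmap,
    Algebra.TensorProduct.basis_apply, Algebra.TensorProduct.basis_apply,
    Algebra.TensorProduct.tmul_mul_tmul, one_mul, bcDual_tmul, Algebra.smul_def, mul_one]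

omit [Fintype ι] in
theorem bcDual_coord (i : ι) :
    bcDual K (b.coord i) = (Algebra.TensorProduct.basis K b).coord i := by
  apply (Algebra.TensorProduct.basis K b).ext
  intro j
  rw [Algebra.TensorProduct.basis_apply, bcDual_tmul, ← Algebra.TensorProduct.basis_apply,
    Module.Basis.coord_apply, Module.Basis.coord_apply, Module.Basis.repr_self,
    Module.Basis.repr_self, Finsupp.single_apply, Finsupp.single_apply]
  split_ifs <;> simp

theorem Lmap_smul (k : K) (l : Module.Dual K (K ⊗[A] B)) : Lmap (k • l) = k • Lmap l := by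
  ext x y
  simp

theorem gramDet_smul (k : K) (l : Module.Dual K (K ⊗[A] B)) :
    gramDet (Algebra.TensorProduct.basis K b) (k • l) =
      k ^ Fintype.card ι * gramDet (Algebra.TensorProduct.basis K b) l := by
  unfold gramDet
  rw [Lmap_smul, map_smul, Matrix.det_smul]

/-- A `C`-linear equivalence `C ≃ Hom_K(C, K)` gives a functional with nonzero Gram determinant. -/
theorem gramDet_ne_zero_of_equiv (e : (K ⊗[A] B) ≃ₗ[K ⊗[A] B] Disc.Omega K (K ⊗[A] B)) :
    gramDet (Algebra.TensorProduct.basis K b) (e 1).toLinearMap ≠ 0 := by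
  set l₀ := (e 1).toLinearMap with hl₀
  have he : ∀ c, (e c).toLinearMap = Lmap l₀ c := by
    intro c
    rw [show c = c • (1 : K ⊗[A] B) by simp, map_smul, ← smul_omega_toLinearMap]
    simp [hl₀]
  have hbij : Function.Bijective (Lmap l₀) := by
    constructor
    · intro c c' h
      apply e.injective
      apply Disc.Omega.ext
      rw [he, he, h]
    · intro φ
      obtain ⟨c, hc⟩ := e.surjective ⟨φ⟩
      refine ⟨c, ?_⟩
      rw [← he, hc]
  have := LinearEquiv.isUnit_det (LinearEquiv.ofBijective (Lmap l₀) hbij)
    (Algebra.TensorProduct.basis K b) (Algebra.TensorProduct.basis K b).dualBasis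
  exact this.ne_zero

end Groth.Agent.Lib.Helper9.FrobGor
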