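import Mathlib
import Groth.Prelude.Def_Disc
import Groth.Agent.Lib.Helper9.FrobGor5

set_option autoImplicit false
universe u w

namespace Groth.Agent.Lib.Helper9.FrobGor

open TensorProduct

variable {A : Type u} {B : Type u} [CommRing A] [CommRing B] [Algebra A B]

/-- Elements of the residue field at `p` are fractions. -/
theorem exists_frac (p : Ideal A) [p.IsPrime] (k : p.ResidueField) :
    ∃ s, s ∉ p ∧ ∃ a, algebraMap A p.ResidueField s * k = algebraMap A p.ResidueField a := by
  obtain ⟨x, rfl⟩ := IsLocalRing.residue_surjective k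
  obtain ⟨a, s, rfl⟩ := IsLocalization.exists_mk'_eq p.primeCompl x
  refine ⟨s.1, s.2, a, ?_⟩
  rw [IsScalarTower.algebraMap_apply A (Localization.AtPrime p) p.ResidueField,
    IsScalarTower.algebraMap_apply A (Localization.AtPrime p) p.ResidueField,
    IsLocalRing.ResidueField.algebraMap_eq, ← map_mul, mul_comm, IsLocalization.mk'_spec]

/-- Common denominators in the residue field at `p`. -/
theorem exists_common_frac (p : Ideal A) [p.IsPrime] {ι : Type w} [Fintype ι] [DecidableEq ι]
    (f : ι → p.ResidueField) :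
    ∃ s, s ∉ p ∧ ∃ a : ι → A,
      ∀ i, algebraMap A p.ResidueField s * f i = algebraMap A p.ResidueField (a i) := by
  choose s hs a ha using fun i => exists_frac p (f i)
  refine ⟨∏ i, s i, ?_, fun i => a i * ∏ j ∈ Finset.univ.erase i, s j, fun i => ?_⟩
  · intro h
    obtain ⟨i, -, hi⟩ := (Ideal.IsPrime.prod_mem_iff (hp := ‹p.IsPrime›)).mp h
    exact hs i hi
  · rw [← Finset.mul_prod_erase Finset.univ s (Finset.mem_univ i), map_mul, map_mul, ← ha i]
    ring

variable {ι : Type w} [Fintype ι] [DecidableEq ι] (b : Module.Basis ι A B)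

/-- If the fibre at `p` is Frobenius, some functional on `B` has Gram determinant outside `p`. -/
theorem exists_gramDet_notMem (p : Ideal A) [p.IsPrime]
    (e : (p.Fiber B) ≃ₗ[p.Fiber B] Disc.Omega p.ResidueField (p.Fiber B)) :
    ∃ l : Module.Dual A B, gramDet b l ∉ p := by
  set K := p.ResidueField with hK
  set bC := Algebra.TensorProduct.basis K b with hbC
  set l₀ := (e 1).toLinearMap with hl₀
  have h0 : gramDet bC l₀ ≠ 0 := gramDet_ne_zero_of_equiv K b e
  obtain ⟨s, hs, a, ha⟩ := exists_common_frac p (fun i => l₀ (bC i))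
  let l : Module.Dual A B := ∑ i, a i • b.coord i
  have hl : ∀ j, l (b j) = a j := by
    intro j
    simp only [l, LinearMap.sum_apply, LinearMap.smul_apply, Module.Basis.coord_apply,
      Module.Basis.repr_self, smul_eq_mul]
    rw [Finset.sum_eq_single j]
    · simp
    · intro i _ hij
      rw [Finsupp.single_apply, if_neg (Ne.symm hij), mul_zero]
    · intro h; exact absurd (Finset.mem_univ j) h
  have hbc : bcDual K l = algebraMap A K s • l₀ := by
    apply bC.ext
    intro j
    rw [LinearMap.smul_apply, smul_eq_mul, ha j, hbC, Algebra.TensorProduct.basis_apply,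
      bcDual_tmul, hl, Algebra.smul_def, mul_one]
  refine ⟨l, fun hmem => ?_⟩
  have h1 : algebraMap A K (gramDet b l) = 0 :=
    (Ideal.algebraMap_residueField_eq_zero).mpr hmem
  rw [← gramDet_bcDual K b l, hbc, gramDet_smul] at h1
  rcases mul_eq_zero.mp h1 with h | h
  · exact hs ((Ideal.algebraMap_residueField_eq_zero).mp (eq_zero_of_pow_eq_zero h))
  · exact h0 h

end Groth.Agent.Lib.Helper9.FrobGor
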