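import Mathlib
import Groth.Prelude.Def_Disc
import Groth.Agent.Lib.Helper9.FrobGor5

set_option autoImplicit false
universe u w

namespace Groth.Agent.Lib.Helper9.FrobGor

open TensorProduct

variable {A : Type u} {B : Type u} [CommRing A] [CommRing B] [Algebra A B]
variable (K : Type u) [Field K] [Algebra A K]
variable {ι : Type w} [Fintype ι] [DecidableEq ι]

local notation "C" => K ⊗[A] B

attribute [local instance] Algebra.TensorProduct.rightAlgebra

/-- If `ω_{B/A}` is invertible then every fibre `K ⊗ B` is a Frobenius `K`-algebra. -/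
theorem nonempty_equiv_of_invertible (b : Module.Basis ι A B)
    [Module.Invertible B (Disc.Omega A B)] :
    Nonempty ((K ⊗[A] B) ≃ₗ[K ⊗[A] B] Disc.Omega K (K ⊗[A] B)) := by
  classical
  set bC := Algebra.TensorProduct.basis K b with hbC
  have hfin : Module.Finite K C := Module.Finite.of_basis bC
  have hart : IsArtinianRing C := IsArtinianRing.of_finite K C
  -- `T = C ⊗_B ω` is free of rank one
  have hfree : Module.Free C (C ⊗[B] Disc.Omega A B) := inferInstance
  obtain ⟨eT⟩ := Module.Invertible.free_iff_linearEquiv.mp hfree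
  -- the comparison map to `Hom_K(C, K)`
  let _ : Module B (Disc.Omega K C) := Module.compHom _ (algebraMap B C)
  have : IsScalarTower B C (Disc.Omega K C) :=
    IsScalarTower.of_algebraMap_smul fun r x => rfl
  let Ψ : Disc.Omega A B →ₗ[B] Disc.Omega K C :=
    { toFun := fun μ => ⟨bcDual K μ.toLinearMap⟩
      map_add' := fun μ ν => by
        apply Disc.Omega.ext
        change bcDual K (μ.toLinearMap + ν.toLinearMap) = bcDual K μ.toLinearMap + bcDual K ν.toLinearMap
        unfold bcDual; rw [map_add]
      map_smul' := fun c μ => by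
        apply Disc.Omega.ext
        apply TensorProduct.AlgebraTensorModule.ext
        intro k x
        change bcDual K (c • μ).toLinearMap (k ⊗ₜ x) =
          bcDual K μ.toLinearMap ((algebraMap B C c) * (k ⊗ₜ x))
        rw [Algebra.TensorProduct.right_algebraMap_apply, Algebra.TensorProduct.tmul_mul_tmul,
          bcDual_tmul, bcDual_tmul, one_mul, Disc.Omega.smul_toLinearMap_apply] }
  let Φ : C ⊗[B] Disc.Omega A B →ₗ[C] Disc.Omega K C := Ψ.liftBaseChange C
  have hΦ : Function.Surjective Φ := by
    intro φ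
    -- expand `φ` in the dual basis
    have h1 := Module.Basis.sum_dual_apply_smul_coord bC φ.toLinearMap
    refine ⟨∑ i, (φ.toLinearMap (bC i) ⊗ₜ[A] (1 : B)) ⊗ₜ[B] (⟨b.coord i⟩ : Disc.Omega A B), ?_⟩
    rw [map_sum]
    apply Disc.Omega.ext
    have hsum : ∀ (t : Finset ι) (g : ι → Disc.Omega K C),
        (∑ i ∈ t, g i).toLinearMap = ∑ i ∈ t, (g i).toLinearMap := by
      intro t g
      induction t using Finset.induction_on with
      | empty => simp
      | insert a t hat ih => rw [Finset.sum_insert hat, Finset.sum_insert hat,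
          Disc.Omega.add_toLinearMap, ih]
    rw [hsum]
    refine Eq.trans (Finset.sum_congr rfl fun i _ => ?_) h1
    rw [LinearMap.liftBaseChange_tmul]
    apply TensorProduct.AlgebraTensorModule.ext
    intro k x
    change bcDual K (b.coord i) ((φ.toLinearMap (bC i) ⊗ₜ[A] (1 : B)) * (k ⊗ₜ x)) = _
    rw [Algebra.TensorProduct.tmul_mul_tmul, one_mul, bcDual_tmul, LinearMap.smul_apply,
      ← bcDual_coord K b i, bcDual_tmul, smul_eq_mul, Algebra.smul_def, Algebra.smul_def]
    ring
  -- the generator
  set lam : Disc.Omega K C := Φ (eT.symm 1) with hlam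
  have hgen : ∀ φ : Disc.Omega K C, ∃ c : C, φ = c • lam := by
    intro φ
    obtain ⟨t, rfl⟩ := hΦ φ
    refine ⟨eT t, ?_⟩
    rw [hlam, ← map_smul, ← map_smul, smul_eq_mul, mul_one, LinearEquiv.symm_apply_apply]
  have hLsurj : Function.Surjective (Lmap lam.toLinearMap) := by
    intro ψ
    obtain ⟨c, hc⟩ := hgen ⟨ψ⟩
    refine ⟨c, ?_⟩
    rw [← smul_omega_toLinearMap, ← hc]
  have hLinj : Function.Injective (Lmap lam.toLinearMap) :=
    (LinearMap.injective_iff_surjective_of_finrank_eq_finrank
      (Subspace.dual_finrank_eq (K := K) (V := C)).symm).mpr hLsurj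
  let F : C →ₗ[C] Disc.Omega K C := LinearMap.toSpanSingleton C (Disc.Omega K C) lam
  have hF : ∀ c, (F c).toLinearMap = Lmap lam.toLinearMap c := by
    intro c
    change (c • lam).toLinearMap = _
    rw [← smul_omega_toLinearMap]
  refine ⟨LinearEquiv.ofBijective F ⟨?_, ?_⟩⟩
  · intro c c' h
    apply hLinj
    rw [← hF, ← hF, h]
  · intro φ
    obtain ⟨c, hc⟩ := hgen φ
    exact ⟨c, hc.symm⟩

end Groth.Agent.Lib.Helper9.FrobGor
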