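import Mathlib
import Groth.Prelude.Def_CAlg
import Groth.Prelude.Def_Disc
import Groth.Agent.Lib.Helper9.FrobGor1
import Groth.Agent.Lib.Helper9.FrobGor3
import Groth.Agent.Lib.Helper9.FrobGor6
import Groth.Agent.Lib.Helper9.FrobGor7
import Groth.Agent.Lib.Helper21.InvertibleLocal

set_option autoImplicit false
universe u

namespace Groth.Agent.Lib.Helper9.FrobGor

open TensorProduct

theorem main {A B : Type u} [CommRing A] [CommRing B]
    [Algebra A B] [IsNoetherianRing A] [Module.Finite A B] [Module.Free A B] :
    (∀ (p : Ideal A) [p.IsPrime], LocCoh.IsGorensteinRing (p.Fiber B)) ↔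
      Module.Invertible B (Disc.Omega A B) := by
  classical
  let b := Module.Free.chooseBasis A B
  constructor
  · intro hG
    have hex : ∀ (p : Ideal A) [p.IsPrime], ∃ l : Module.Dual A B, gramDet b l ∉ p := by
      intro p _
      have := hG p
      obtain ⟨e⟩ := equiv_of_gor (κ := p.ResidueField) (C := p.Fiber B)
      exact exists_gramDet_notMem b p e
    let s : Set B := {f | ∃ l : Module.Dual A B, f = algebraMap A B (gramDet b l)}
    have hs : Ideal.span s = ⊤ := by
      by_contra hne
      obtain ⟨P, hP, hle⟩ := Ideal.exists_le_maximal _ hne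
      have hPp : P.IsPrime := hP.isPrime
      obtain ⟨l, hl⟩ := hex (P.comap (algebraMap A B))
      apply hl
      rw [Ideal.mem_comap]
      exact hle (Ideal.subset_span ⟨l, rfl⟩)
    refine Groth.Agent.Lib.Helper21.invertible_of_localizationSpan s hs ?_
    rintro f ⟨l, rfl⟩
    exact nonempty_locEquiv b l
  · intro hinv p _
    obtain ⟨e⟩ := nonempty_equiv_of_invertible p.ResidueField b
    have hart : IsArtinianRing (p.Fiber B) := IsArtinianRing.of_finite p.ResidueField (p.Fiber B)
    exact gor_of_equiv e

end Groth.Agent.Lib.Helper9.FrobGor
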