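import Mathlib
import Groth.Prelude.Def_CAlg
import Groth.Agent.Lib.Helper16.GorFlat
import Groth.Agent.Lib.Helper16.GorQuot
import Groth.Agent.Lib.Helper16.GorArt

set_option autoImplicit false
universe u

namespace Groth.Agent.Lib.Helper9.MultiCross

open IsLocalRing

/-- In a one-dimensional-like Gorenstein local ring `B` with a regular parameter `x` such that
`m² ⊆ (x)`, the socle of `B/(x)` is simple: any socle element is a multiple of a nonzero one. -/
theorem exists_mul_sub_mem (B : Type u) [CommRing B] [hG : LocCoh.IsGorensteinLocalRing B]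
    (x : B) (hxm : x ∈ maximalIdeal B) (hreg : IsSMulRegular B x)
    (hsq : ∀ b ∈ maximalIdeal B, ∀ b' ∈ maximalIdeal B, b * b' ∈ Ideal.span {x})
    (u1 u2 : B) (h1 : ∀ b ∈ maximalIdeal B, b * u1 ∈ Ideal.span {x})
    (h2 : ∀ b ∈ maximalIdeal B, b * u2 ∈ Ideal.span {x}) (hu1 : u1 ∉ Ideal.span {x}) :
    ∃ a : B, a * u1 - u2 ∈ Ideal.span {x} := by
  set J : Ideal B := Ideal.span {x} with hJ
  have hGq : LocCoh.IsGorensteinLocalRing (B ⧸ J) :=
    (Groth.Agent.Lib.Helper16.GorFlat.gor_iff_quot J x rfl hxm hreg).1 hG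
  have : IsLocalRing (B ⧸ J) := hGq.toIsLocalRing
  have : IsNoetherianRing (B ⧸ J) := inferInstance
  have hmk : ∀ r : B, Ideal.Quotient.mk J r ∈ maximalIdeal (B ⧸ J) ↔ r ∈ maximalIdeal B :=
    fun r => Groth.Agent.Lib.Helper16.GorQuot.mk_mem_maximalIdeal_iff J r
  have hK : Ring.KrullDimLE 0 (B ⧸ J) := by
    rw [Ring.krullDimLE_zero_iff]
    intro P hP
    have hle : maximalIdeal (B ⧸ J) ≤ P := by
      intro y hy
      obtain ⟨b, rfl⟩ := Ideal.Quotient.mk_surjective y
      have hb := (hmk b).1 hy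
      have h0 : Ideal.Quotient.mk J b * Ideal.Quotient.mk J b = 0 := by
        rw [← map_mul, Ideal.Quotient.eq_zero_iff_mem]
        exact hsq b hb b hb
      have : Ideal.Quotient.mk J b * Ideal.Quotient.mk J b ∈ P := by rw [h0]; exact zero_mem _
      rcases hP.mem_or_mem this with h | h <;> exact h
    have : P = maximalIdeal (B ⧸ J) :=
      ((maximalIdeal.isMaximal (B ⧸ J)).eq_of_le hP.ne_top hle).symm
    rw [this]
    exact maximalIdeal.isMaximal _
  have hdim : ringKrullDim (B ⧸ J) = 0 := ringKrullDimZero_iff_ringKrullDim_eq_zero.1 hK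
  have hlen := Groth.Agent.Lib.Helper16.GorArt.length_socle_eq_one_of_isGorenstein (B ⧸ J) hGq hdim
  have hsimple : IsSimpleModule (B ⧸ J) (LocCoh.torsionBy (maximalIdeal (B ⧸ J)) (B ⧸ J)) :=
    Module.length_eq_one_iff.1 hlen
  have hsoc : ∀ u : B, (∀ b ∈ maximalIdeal B, b * u ∈ J) →
      Ideal.Quotient.mk J u ∈ LocCoh.torsionBy (maximalIdeal (B ⧸ J)) (B ⧸ J) := by
    intro u hu
    rw [Submodule.mem_torsionBySet_iff]
    rintro ⟨y, hy⟩
    obtain ⟨b, rfl⟩ := Ideal.Quotient.mk_surjective y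
    have hb := (hmk b).1 hy
    show Ideal.Quotient.mk J b • Ideal.Quotient.mk J u = 0
    rw [smul_eq_mul, ← map_mul, Ideal.Quotient.eq_zero_iff_mem]
    exact hu b hb
  let v1 : LocCoh.torsionBy (maximalIdeal (B ⧸ J)) (B ⧸ J) := ⟨_, hsoc u1 h1⟩
  let v2 : LocCoh.torsionBy (maximalIdeal (B ⧸ J)) (B ⧸ J) := ⟨_, hsoc u2 h2⟩
  have hv1 : v1 ≠ 0 := by
    intro h
    apply hu1
    have := congrArg Subtype.val h
    exact Ideal.Quotient.eq_zero_iff_mem.1 this
  have hspan : Submodule.span (B ⧸ J) {v1} = ⊤ := by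
    rcases eq_bot_or_eq_top (Submodule.span (B ⧸ J) {v1}) with h | h
    · exfalso
      apply hv1
      have : v1 ∈ Submodule.span (B ⧸ J) {v1} := Submodule.mem_span_singleton_self v1
      rw [h] at this
      exact (Submodule.mem_bot _).1 this
    · exact h
  have hv2 : v2 ∈ Submodule.span (B ⧸ J) {v1} := by rw [hspan]; trivial
  obtain ⟨abar, ha⟩ := Submodule.mem_span_singleton.1 hv2
  obtain ⟨a, rfl⟩ := Ideal.Quotient.mk_surjective abar
  refine ⟨a, ?_⟩
  have := congrArg Subtype.val ha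
  have h3 : Ideal.Quotient.mk J a * Ideal.Quotient.mk J u1 = Ideal.Quotient.mk J u2 := this
  rw [← Ideal.Quotient.eq_zero_iff_mem, map_sub, map_mul, h3, sub_self]

end Groth.Agent.Lib.Helper9.MultiCross
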