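import Mathlib
import Groth.Agent.Lib.Helper9.MultiCross1
import Groth.Agent.Lib.Helper18.AnUnram3

set_option autoImplicit false
universe u

namespace Groth.Agent.Lib.Helper9.MultiCross

open IsLocalRing CategoryTheory

/-- A field is a Gorenstein local ring. -/
theorem gor_of_field (L : Type u) [Field L] : LocCoh.IsGorensteinLocalRing L := by
  have hinj : Module.Injective L L := Module.injective_of_isSemisimpleRing L L
  have : Injective (ModuleCat.of L L) := Module.injective_object_of_injective_module L L
  exact { exists_hasInjectiveDimensionLT := ⟨1, inferInstance⟩ }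

/-- The completion of a Gorenstein local ring is Gorenstein. -/
theorem gor_completion (A : Type u) [CommRing A] [hG : LocCoh.IsGorensteinLocalRing A] :
    LocCoh.IsGorensteinLocalRing (AdicCompletion (maximalIdeal A) A) := by
  have : IsNoetherianRing (AdicCompletion (maximalIdeal A) A) :=
    Groth.Agent.Lib.Helper18.Nag.isNoetherianRing_cpl A
  rw [Groth.Agent.Lib.Helper16.GorFlat.isGorenstein_iff_of_flat A (AdicCompletion (maximalIdeal A) A)]
  refine ⟨hG, ?_⟩
  rw [← AdicCompletion.maximalIdeal_eq_map]
  let _ : Field (AdicCompletion (maximalIdeal A) A ⧸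
      maximalIdeal (AdicCompletion (maximalIdeal A) A)) := Ideal.Quotient.field _
  exact gor_of_field _

end Groth.Agent.Lib.Helper9.MultiCross
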