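import Mathlib
import Groth.Prelude.Def_CAlg
import Groth.Prelude.Def_Disc
import Groth.Agent.Lib.Helper9.FrobGor3
import Groth.Agent.Lib.Helper9.MultiCross2
import Groth.Agent.Lib.Helper16.GorLCI2
import Groth.Agent.Lib.Helper18.CM4
import Groth.Agent.Lib.Helper7.DimFT
import Groth.Agent.Lib.Helper11.GorCM

set_option autoImplicit false
universe u

namespace Groth.Agent.Lib.Helper9.CIFrob

open IsLocalRing

/-- A field is a Gorenstein ring. -/
theorem gorRing_of_field (k : Type u) [Field k] : LocCoh.IsGorensteinRing k := by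
  refine { isGorensteinLocalRing_localization := fun p _ => ?_ }
  have hinj : Module.Injective k k := Module.injective_of_isSemisimpleRing k k
  have hfin : (∃ n : ℕ, CategoryTheory.HasInjectiveDimensionLT (ModuleCat.of k k) n) := by
    have : CategoryTheory.Injective (ModuleCat.of k k) :=
      Module.injective_object_of_injective_module k k
    exact ⟨1, inferInstance⟩
  exact (Groth.Agent.Lib.Helper11.GorCM.finite_injdim_iff.mp hfin).1.isGorensteinLocalRing_localization p

variable (k : Type u) [Field k] (n : ℕ) (f : Fin n → MvPolynomial (Fin n) k)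

local notation "P" => MvPolynomial (Fin n) k
local notation "I" => Ideal.span (Set.range f)

/-- A zero-dimensional global complete intersection over a field is Gorenstein. -/
theorem gorRing_ci (h0 : ringKrullDim (P ⧸ I) = 0) : LocCoh.IsGorensteinRing (P ⧸ I) := by
  have hP : LocCoh.IsGorensteinRing P :=
    Groth.Agent.Lib.Helper16.GorLCI.gorRing_mvPolynomial k (gorRing_of_field k) n
  have hnoeB : IsNoetherianRing (P ⧸ I) := inferInstance
  have hKD : Ring.KrullDimLE 0 (P ⧸ I) := (Ring.krullDimLE_iff (n := 0)).mpr (by simp [h0])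
  refine { isGorensteinLocalRing_localization := ?_ }
  intro q _
  set p : Ideal P := q.comap (Ideal.Quotient.mk I) with hp
  have hqmax : q.IsMaximal := Ideal.IsPrime.isMaximal' (R := P ⧸ I) inferInstance
  have hpmax : p.IsMaximal := Ideal.comap_isMaximal_of_surjective _ Ideal.Quotient.mk_surjective
  have hIp : I ≤ p := by
    intro x hx
    rw [hp, Ideal.mem_comap, Ideal.Quotient.eq_zero_iff_mem.mpr hx]
    exact zero_mem _
  set T := Localization.AtPrime p with hT
  have hGT : LocCoh.IsGorensteinLocalRing T := hP.isGorensteinLocalRing_localization p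
  have hCM : LocCoh.IsCohenMacaulayLocalRing T :=
    Groth.Agent.Lib.Helper11.GorCM.isCohenMacaulayLocalRing_of_gorenstein T
  have hdimT : ringKrullDim T = n := by
    rw [IsLocalization.AtPrime.ringKrullDim_eq_height p T,
      Groth.Agent.Lib.Helper7.DimFT.height_eq_of_isMaximal_mvPolynomial k n p hpmax]
    rfl
  set lam : Fin n → T := fun j => algebraMap P T (f j) with hlam
  have hmem : ∀ j, lam j ∈ maximalIdeal T := by
    intro j
    rw [← Localization.AtPrime.map_eq_maximalIdeal]
    exact Ideal.mem_map_of_mem _ (hIp (Ideal.subset_span ⟨j, rfl⟩))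
  have hofList : Ideal.ofList (List.ofFn lam) = Ideal.span (Set.range lam) := by
    rw [Ideal.ofList]
    congr 1
    ext b
    simp [List.mem_ofFn]
  have hspan : Ideal.ofList (List.ofFn lam) = Ideal.map (algebraMap P T) I := by
    rw [hofList, Ideal.map_span, ← Set.range_comp]
    rfl
  have hIT : Ideal.map (algebraMap P T) I ≤ maximalIdeal T := by
    rw [← hspan, hofList, Ideal.span_le]
    rintro _ ⟨j, rfl⟩
    exact hmem j
  -- dimension of the quotient
  have hdimQ : ringKrullDim (T ⧸ Ideal.map (algebraMap P T) I) = 0 := by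
    have hart : IsArtinianRing (P ⧸ I) :=
      isArtinianRing_iff_isNoetherianRing_krullDimLE_zero.mpr ⟨hnoeB, hKD⟩
    have hloc : IsLocalization (Algebra.algebraMapSubmonoid (P ⧸ I) p.primeCompl)
        (T ⧸ Ideal.map (algebraMap P T) I) := inferInstance
    have hsurj := IsArtinianRing.localization_surjective
      (Algebra.algebraMapSubmonoid (P ⧸ I) p.primeCompl) (T ⧸ Ideal.map (algebraMap P T) I)
    have hle := ringKrullDim_le_of_surjective _ hsurj
    rw [h0] at hle
    have hnt : Nontrivial (T ⧸ Ideal.map (algebraMap P T) I) :=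
      Ideal.Quotient.nontrivial_iff.mpr
        (fun h => (IsLocalRing.maximalIdeal.isMaximal T).ne_top (top_le_iff.mp (h ▸ hIT)))
    exact le_antisymm hle ringKrullDim_nonneg_of_nontrivial
  have hmemL : ∀ x ∈ List.ofFn lam, x ∈ maximalIdeal T := by
    intro x hx
    obtain ⟨j, rfl⟩ := (List.mem_ofFn' lam x).mp hx
    exact hmem j
  have hreg : RingTheory.Sequence.IsWeaklyRegular T (List.ofFn lam) := by
    have key := (Groth.Agent.Lib.Helper18.CM.isWeaklyRegular_iff_supportDim_and_isCohenMacaulayModule
      (List.ofFn lam) hmemL T hCM.supportDim_eq_depth).1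
    rw [key]
    have h1 : (Ideal.ofList (List.ofFn lam) • ⊤ : Submodule T T) = Ideal.map (algebraMap P T) I := by
      rw [smul_eq_mul, Ideal.mul_top, hspan]
    rw [h1, Module.supportDim_quotient_eq_ringKrullDim, hdimQ,
      Module.supportDim_self_eq_ringKrullDim, hdimT, List.length_ofFn]
    simp
  have hG1 := Groth.Agent.Lib.Helper16.GorQuot.gor_quot_ofList hGT (List.ofFn lam) hmemL hreg
  have hG2 := Groth.Agent.Lib.Helper16.GorQuot.gor_congr_ideal hspan hG1
  exact Groth.Agent.Lib.Helper16.GorLCI.gor_localization_quot I q p hp hG2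

/-- `ω_{B/k} ≅ B` for a zero-dimensional global complete intersection over a field. -/
theorem main (h0 : ringKrullDim (P ⧸ I) = 0) :
    Nonempty (Disc.Omega k (P ⧸ I) ≃ₗ[P ⧸ I] (P ⧸ I)) := by
  have hG := gorRing_ci k n f h0
  have hKD : Ring.KrullDimLE 0 (P ⧸ I) := (Ring.krullDimLE_iff (n := 0)).mpr (by simp [h0])
  have hfin : Module.Finite k (P ⧸ I) := (Module.finite_iff_krullDimLE_zero k (P ⧸ I)).mpr hKD
  obtain ⟨e⟩ := Groth.Agent.Lib.Helper9.FrobGor.equiv_of_gor (κ := k) (C := P ⧸ I)
  exact ⟨e.symm⟩

end Groth.Agent.Lib.Helper9.CIFrob
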