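import Groth.Agent.Lib.Helper26.AssOmega
import Groth.Agent.Lib.Helper25.MatlisFlat
import Groth.Prelude.Def_QFDual

set_option autoImplicit false
universe u

namespace Groth.Agent.Lib.Helper9.AssQF

open TensorProduct Groth.Agent.Lib.Helper25

section Flat

variable {R S : Type u} [CommRing R] [CommRing S] [Algebra R S] [Module.Flat R S]
  [IsNoetherianRing R] [IsNoetherianRing S] {N : Type u} [AddCommGroup N] [Module R N]

/-- for flat `R → S`, associated primes of `S ⊗ N` contract to associated primes of `N` -/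
theorem comap_mem_ass (q : Ideal S) (hq : q ∈ associatedPrimes S (S ⊗[R] N)) :
    q.comap (algebraMap R S) ∈ associatedPrimes R N := by
  have hq' : IsAssociatedPrime q (S ⊗[R] N) := hq
  rw [isAssociatedPrime_iff] at hq'
  obtain ⟨hqp, z, hz⟩ := hq'
  have hmem : ∀ s : S, s ∈ q ↔ s • z = 0 := by
    intro s
    rw [hz, Submodule.mem_colon_singleton, Submodule.mem_bot]
  set q' := q.comap (algebraMap R S) with hq'def
  have hq'p : q'.IsPrime := inferInstance
  change IsAssociatedPrime q' N
  by_contra hcon
  -- every element of `N[q']` is killed by something outside `q'`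
  have hT : ∀ t ∈ LocCoh.torsionBy q' N, ∃ d : R, d ∉ q' ∧ d • t = 0 := by
    intro t ht
    by_contra hno
    push Not at hno
    apply hcon
    rw [isAssociatedPrime_iff]
    refine ⟨hq'p, t, ?_⟩
    ext d
    rw [Submodule.mem_colon_singleton, Submodule.mem_bot]
    constructor
    · intro hd
      exact (Submodule.mem_torsionBySet_iff _ _).1 ht ⟨d, hd⟩
    · intro hd
      by_contra hd'
      exact hno d hd' hd
  have hz1 : z ∈ LocCoh.torsionBy (q'.map (algebraMap R S)) (S ⊗[R] N) := by
    rw [mem_torsionBy_map_iff]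
    intro a ha
    rw [← algebraMap_smul S a z]
    exact (hmem _).1 ha
  rw [← range_lTensor_torsionBy _ (IsNoetherian.noetherian _)] at hz1
  obtain ⟨w, hw⟩ := hz1
  have hW : ∀ w : S ⊗[R] (LocCoh.torsionBy q' N), ∃ d : R, d ∉ q' ∧ d • w = 0 := by
    intro w
    induction w using TensorProduct.induction_on with
    | zero => exact ⟨1, fun h => hq'p.ne_top ((Ideal.eq_top_iff_one _).2 h), smul_zero _⟩
    | tmul s t =>
      obtain ⟨d, hd, hdt⟩ := hT t.1 t.2
      refine ⟨d, hd, ?_⟩
      have : d • t = 0 := Subtype.ext hdt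
      rw [← TensorProduct.tmul_smul, this, tmul_zero]
    | add w₁ w₂ h₁ h₂ =>
      obtain ⟨d₁, hd₁, h₁⟩ := h₁
      obtain ⟨d₂, hd₂, h₂⟩ := h₂
      refine ⟨d₁ * d₂, fun h => ?_, ?_⟩
      · rcases hq'p.mem_or_mem h with h | h
        · exact hd₁ h
        · exact hd₂ h
      · rw [smul_add, mul_smul d₁ d₂ w₂, h₂, smul_zero, mul_comm d₁ d₂, mul_smul d₂ d₁ w₁, h₁,
          smul_zero, add_zero]
  obtain ⟨d, hd, hdw⟩ := hW w
  apply hd
  rw [hq'def, Ideal.mem_comap, hmem, ← hw, ← map_smul, algebraMap_smul, hdw, map_zero]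

/-- for flat `R → S` injective on spectra, primes over associated primes are associated -/
theorem mem_ass_of_comap
    (hinj : ∀ q₁ q₂ : Ideal S, q₁.IsPrime → q₂.IsPrime →
      q₁.comap (algebraMap R S) = q₂.comap (algebraMap R S) → q₁ = q₂)
    (q : Ideal S) [hqp : q.IsPrime]
    (hq : q.comap (algebraMap R S) ∈ associatedPrimes R N) :
    q ∈ associatedPrimes S (S ⊗[R] N) := by
  set q' := q.comap (algebraMap R S) with hq'def
  have hq' : IsAssociatedPrime q' N := hq
  rw [isAssociatedPrime_iff_exists_injective_linearMap] at hq'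
  obtain ⟨hq'p, f, hf⟩ := hq'
  let g : (S ⧸ q'.map (algebraMap R S)) →ₗ[S] S ⊗[R] N :=
    (AlgebraTensorModule.lTensor S S f) ∘ₗ
      (Algebra.TensorProduct.quotIdealMapEquivTensorQuot S q').toLinearEquiv.toLinearMap
  have hg : Function.Injective g := by
    have h1 : Function.Injective (AlgebraTensorModule.lTensor S S f) :=
      Module.Flat.lTensor_preserves_injective_linearMap _ hf
    exact h1.comp (Algebra.TensorProduct.quotIdealMapEquivTensorQuot S q').injective
  apply associatedPrimes.subset_of_injective hg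
  apply Module.associatedPrimes.minimalPrimes_annihilator_subset_associatedPrimes
  rw [Ideal.annihilator_quotient]
  refine ⟨⟨hqp, Ideal.map_comap_le⟩, ?_⟩
  rintro q₁ ⟨hq₁p, hq₁⟩ hle
  have h1 : q₁.comap (algebraMap R S) = q' := by
    apply le_antisymm
    · exact Ideal.comap_mono hle
    · rw [← Ideal.map_le_iff_le_comap]
      exact hq₁
  exact (hinj q₁ q hq₁p hqp h1).ge

end Flat

section Main

open AlgebraicGeometry CategoryTheory

variable (A B' B : Type u) [CommRing A] [CommRing B'] [CommRing B] [IsNoetherianRing A]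
  [IsNoetherianRing B] [Algebra A B'] [Algebra B' B] [Algebra A B] [IsScalarTower A B' B]

omit [IsNoetherianRing B] in
theorem flat_of_isOpenImmersion
    (h : IsOpenImmersion (Spec.map (CommRingCat.ofHom (algebraMap B' B)))) : Module.Flat B' B := by
  have h1 : Flat (Spec.map (CommRingCat.ofHom (algebraMap B' B))) := inferInstance
  rw [HasRingHomProperty.Spec_iff (P := @Flat)] at h1
  exact RingHom.flat_algebraMap_iff.mp h1

omit [IsNoetherianRing B] in
theorem comap_injective_of_isOpenImmersion
    (h : IsOpenImmersion (Spec.map (CommRingCat.ofHom (algebraMap B' B))))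
    (q₁ q₂ : Ideal B) (h₁ : q₁.IsPrime) (h₂ : q₂.IsPrime)
    (h12 : q₁.comap (algebraMap B' B) = q₂.comap (algebraMap B' B)) : q₁ = q₂ := by
  have hinj : Function.Injective (Spec.map (CommRingCat.ofHom (algebraMap B' B))).base :=
    (Spec.map (CommRingCat.ofHom (algebraMap B' B))).isOpenEmbedding.injective
  have h3 : (Spec.map (CommRingCat.ofHom (algebraMap B' B))).base ⟨q₁, h₁⟩ =
      (Spec.map (CommRingCat.ofHom (algebraMap B' B))).base ⟨q₂, h₂⟩ := by
    apply PrimeSpectrum.ext
    exact h12
  exact congrArg PrimeSpectrum.asIdeal (hinj h3)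

theorem main (hf : QFDual.IsQFFactor A B' B) :
    associatedPrimes B (QFDual.omega A B' B) =
      {q : Ideal B | q.IsPrime ∧ q.comap (algebraMap A B) ∈ associatedPrimes A A} := by
  have := hf.finite
  have hN : IsNoetherianRing B' := IsNoetherianRing.of_finite A B'
  have := flat_of_isOpenImmersion B' B hf.isOpenImmersion
  have hcomap : ∀ q : Ideal B, q.comap (algebraMap A B) =
      (q.comap (algebraMap B' B)).comap (algebraMap A B') := by
    intro q
    rw [Ideal.comap_comap, ← IsScalarTower.algebraMap_eq]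
  ext q
  constructor
  · intro hq
    have hqp : q.IsPrime := IsAssociatedPrime.isPrime hq
    refine ⟨hqp, ?_⟩
    have h1 := comap_mem_ass q hq
    rw [hcomap]
    exact (Groth.Agent.Lib.Helper26.AssOmega.subset_part _ h1).2
  · rintro ⟨hqp, hq⟩
    rw [hcomap] at hq
    have h1 := Groth.Agent.Lib.Helper26.AssOmega.supset_part (q.comap (algebraMap B' B)) hq
    exact mem_ass_of_comap (comap_injective_of_isOpenImmersion B' B hf.isOpenImmersion) q h1

end Main

end Groth.Agent.Lib.Helper9.AssQF
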