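import Mathlib
import Groth.Prelude.Def_CAlg
import Groth.Agent.Lib.Helper18.MCMFree
import Groth.Agent.Lib.Helper18.CM1
import Groth.Agent.S0321

/-!
# Kernels of maps from free modules over regular local rings of dimension ≤ 2 (helper9)
-/

set_option autoImplicit false
universe u
open RingTheory.Sequence IsLocalRing
open Groth.Agent.Lib.Helper16.Depth Groth.Agent.Lib.Helper18.CM Groth.Agent.Lib.Helper21

namespace Groth.Agent.Lib.Helper9.KerLF

/-- Over a regular local ring of dimension at most two, the kernel of a surjection from a finite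
free module onto a module of positive depth (when the dimension is two) is free. -/
theorem free_of_exact (R : Type u) [CommRing R] [IsRegularLocalRing R] (hdim : ringKrullDim R ≤ 2)
    (K M N : Type u) [AddCommGroup K] [Module R K] [Module.Finite R K]
    [AddCommGroup M] [Module R M] [Module.Finite R M] [Module.Free R M]
    [AddCommGroup N] [Module R N] [Module.Finite R N]
    (f : K →ₗ[R] M) (g : M →ₗ[R] N) (hf : Function.Injective f) (hg : Function.Surjective g)
    (hfg : Function.Exact f g) (hN : ringKrullDim R = 2 → 1 ≤ LocCoh.depth R N) :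
    Module.Free R K := by
  obtain ⟨n, hn⟩ := exists_nat_eq_ringKrullDim (R := R)
  have hn2 : n ≤ 2 := by
    rw [hn] at hdim
    exact_mod_cast hdim
  obtain ⟨rs, hlen, hreg, hmem⟩ := exists_isRegular_of_isRegularLocalRing R n hn
  have hwM : IsWeaklyRegular M rs :=
    ((TensorProduct.rid R M).isWeaklyRegular_congr rs).mp
      (hreg.toIsWeaklyRegular.isWeaklyRegular_lTensor (M₂ := M))
  have hdM : (n : ℕ∞) ≤ LocCoh.depth R M :=
    (le_idealDepth_iff (I := maximalIdeal R) (M := M) n).mpr (Or.inr ⟨rs, hlen, hwM, hmem⟩)
  have hdK : min (LocCoh.depth R M) (LocCoh.depth R N + 1) ≤ LocCoh.depth R K :=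
    (Groth.Agent.S0321.result R (maximalIdeal R) K M N f g hf hg hfg).2.2
  have hnN : (n : ℕ∞) ≤ LocCoh.depth R N + 1 := by
    by_cases h2 : n = 2
    · subst h2
      have h1 := hN hn
      calc ((2 : ℕ) : ℕ∞) = 1 + 1 := by norm_num
        _ ≤ LocCoh.depth R N + 1 := add_le_add_left h1 1
    · have h1 : n ≤ 1 := by omega
      calc (n : ℕ∞) ≤ ((1 : ℕ) : ℕ∞) := by exact_mod_cast h1
        _ = 1 := by norm_num
        _ ≤ LocCoh.depth R N + 1 := le_add_self
  apply free_of_le_depth R K
  rw [hn]
  have : (n : ℕ∞) ≤ LocCoh.depth R K := le_trans (le_min hdM hnN) hdK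
  exact_mod_cast this

/-- A nontrivial torsion-free module over a local domain which is not a field has positive
depth. -/
theorem one_le_depth_of_isTorsionFree (R : Type u) [CommRing R] [IsLocalRing R] [IsNoetherianRing R]
    [IsDomain R] (hR : ¬ IsField R) (N : Type u) [AddCommGroup N] [Module R N] [Module.Finite R N]
    [Module.IsTorsionFree R N] : 1 ≤ LocCoh.depth R N := by
  cases subsingleton_or_nontrivial N
  · rw [depth_eq_top_of_subsingleton]
    exact le_top
  · rw [one_le_depth_iff]
    obtain ⟨x, hx, hx0⟩ : ∃ x ∈ maximalIdeal R, x ≠ 0 := by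
      by_contra hcon
      push_neg at hcon
      apply hR
      rw [IsLocalRing.isField_iff_maximalIdeal_eq]
      exact (Submodule.eq_bot_iff _).mpr hcon
    refine ⟨x, hx, ?_⟩
    intro a b hab
    have : x • (a - b) = 0 := by
      rw [smul_sub]
      exact sub_eq_zero.mpr hab
    rcases smul_eq_zero.mp this with h | h
    · exact (hx0 h).elim
    · exact sub_eq_zero.mp h

end Groth.Agent.Lib.Helper9.KerLF
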