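import Mathlib
import Groth.Agent.Lib.Helper9.KerLF1
import Groth.Agent.Lib.Helper9.RefStalk2
import Groth.Agent.Lib.Helper29.QCohLocFree
import Groth.Agent.Lib.Helper29.QCohCrit
import Groth.Agent.Lib.Helper29.QCohAss2
import Groth.Agent.Lib.Helper29.RegDim1
import Groth.Agent.Lib.Helper25.CurveEtale
import Groth.Agent.Lib.Helper11.IntMultA
import Groth.Prelude.Def_TorSh

/-!
# Kernels of epimorphisms from locally free modules on regular schemes of dimension ≤ 2 (helper9)
-/

set_option autoImplicit false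
universe u
open CategoryTheory CategoryTheory.Limits AlgebraicGeometry TopologicalSpace Opposite

namespace Groth.Agent.Lib.Helper9.KerLF

open Groth.Agent.Lib.Helper29.QCoh

variable {X : Scheme.{u}}

theorem isFinLocFree_kernel [IsLocallyNoetherian X]
    (hreg : ∀ x : X, IsRegularLocalRing (X.presheaf.stalk x))
    (hdim : ∀ x : X, ringKrullDim (X.presheaf.stalk x) ≤ 2)
    (M N : X.Modules) (hM : FlatMod.IsFinLocFree M) (hN : Coh.IsCoh N) (φ : M ⟶ N) [Epi φ]
    (hdepth : ∀ x : X, ringKrullDim (X.presheaf.stalk x) = 2 →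
      1 ≤ LocCoh.depth (X.presheaf.stalk x) (N.presheaf.stalk x)) :
    FlatMod.IsFinLocFree (kernel φ) := by
  have hMfp : M.IsFinitePresentation := isFinitePresentation_of_isFinLocFree hM
  have hMq : M.IsQuasicoherent := inferInstance
  have hMft : M.IsFiniteType := inferInstance
  have hNq : N.IsQuasicoherent := hN.1
  have hNft : N.IsFiniteType := hN.2
  have hKq : (kernel φ).IsQuasicoherent := isQuasicoherent_kernel φ
  have hKft : (kernel φ).IsFiniteType := isFiniteType_kernel φ
  have hKcoh : Coh.IsCoh (kernel φ) := ⟨hKq, hKft⟩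
  rw [isFinLocFree_iff_free_stalks]
  refine ⟨isFinitePresentation_of_isCoh _ hKcoh, fun x => ?_⟩
  have := hreg x
  have : Module.Free (X.presheaf.stalk x) (M.presheaf.stalk x) := free_stalk_of_isFinLocFree hM x
  have : Module.Finite (X.presheaf.stalk x) (M.presheaf.stalk x) :=
    Groth.Agent.Lib.Helper9.RefStalk.finite_stalk_of_isCoh M ⟨hMq, hMft⟩ x
  have : Module.Finite (X.presheaf.stalk x) (N.presheaf.stalk x) :=
    Groth.Agent.Lib.Helper9.RefStalk.finite_stalk_of_isCoh N hN x
  have : Module.Finite (X.presheaf.stalk x) ((kernel φ).presheaf.stalk x) :=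
    Groth.Agent.Lib.Helper9.RefStalk.finite_stalk_of_isCoh _ hKcoh x
  have hex := (exact_iff_stalk_function_exact
    (ShortComplex.mk (kernel.ι φ) φ (kernel.condition φ))).mp (ShortComplex.exact_kernel φ) x
  have hinj := (mono_iff_stalkMap_injective (kernel.ι φ)).mp inferInstance x
  have hsurj := (epi_iff_stalkMap_surjective φ).mp inferInstance x
  exact free_of_exact (X.presheaf.stalk x) (hdim x) _ _ _
    (stalkMapₗ (kernel.ι φ) x) (stalkMapₗ φ x) hinj hsurj hex (hdepth x)

theorem main15070 (k : Type u) [Field k]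
    (X : Scheme.{u}) [X.Over (Spec (CommRingCat.of k))] [IsIntegral X]
    [Smooth (X ↘ Spec (CommRingCat.of k))] (hdim : topologicalKrullDim X = 2)
    (N : X.Modules) (hN : Coh.IsCoh N) (hNtf : TorSh.IsTorsionFree N)
    (M : X.Modules) (hM : FlatMod.IsFinLocFree M) (φ : M ⟶ N) [Epi φ] :
    FlatMod.IsFinLocFree (kernel φ) := by
  have : LocallyOfFiniteType (X ↘ Spec (CommRingCat.of k)) := inferInstance
  have : IsLocallyNoetherian X :=
    LocallyOfFiniteType.isLocallyNoetherian (X ↘ Spec (CommRingCat.of k))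
  have hreg : ∀ x : X, IsRegularLocalRing (X.presheaf.stalk x) := fun x =>
    Groth.Agent.Lib.Helper25.CurveEtale.isRegularLocalRing_stalk_of_smooth
      (X ↘ Spec (CommRingCat.of k)) x
  have hd : ∀ x : X, ringKrullDim (X.presheaf.stalk x) ≤ 2 := by
    intro x
    obtain ⟨a, b, hb, -, hab⟩ := Groth.Agent.Lib.Helper11.IntMultA.stalk_add_closure k X 2
      (by exact_mod_cast hdim) x
    rw [hb]
    have : b ≤ 2 := by omega
    exact_mod_cast this
  refine isFinLocFree_kernel hreg hd M N hM hN φ fun x hx2 => ?_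
  have := hreg x
  have := hNtf x
  have : Module.Finite (X.presheaf.stalk x) (N.presheaf.stalk x) :=
    Groth.Agent.Lib.Helper9.RefStalk.finite_stalk_of_isCoh N hN x
  refine one_le_depth_of_isTorsionFree (X.presheaf.stalk x) ?_ (N.presheaf.stalk x)
  intro hfield
  have h0 : ringKrullDim (X.presheaf.stalk x) = 0 := by
    let _ : Field (X.presheaf.stalk x) := hfield.toField
    exact ringKrullDim_eq_zero_of_field _
  rw [h0] at hx2
  norm_num at hx2

end Groth.Agent.Lib.Helper9.KerLF
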