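import Mathlib
import Groth.Agent.Lib.Helper9.KerLF2
import Groth.Agent.Lib.Helper29.QCohPush

/-!
# Elementary transformations along a curve on a smooth surface are locally free (helper9)
-/

set_option autoImplicit false
universe u
open CategoryTheory CategoryTheory.Limits AlgebraicGeometry TopologicalSpace Opposite

namespace Groth.Agent.Lib.Helper9.KerLF

open Groth.Agent.Lib.Helper29.QCoh Groth.Agent.Lib.Helper18.CM

/-- A point of an integral scheme whose local ring is a field is the generic point. -/
theorem eq_genericPoint_of_isField {C : Scheme.{u}} [IsIntegral C] (c : C)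
    (hc : IsField (C.presheaf.stalk c)) : c = genericPoint C := by
  have hspec : genericPoint C ⤳ c := (genericPoint_spec C).specializes trivial
  have hmem : genericPoint C ∈ Set.range (C.fromSpecStalk c) := by
    rw [Scheme.range_fromSpecStalk]
    exact hspec
  obtain ⟨P, hP⟩ := hmem
  let _ : Field (C.presheaf.stalk c) := hc.toField
  have hP' : P = IsLocalRing.closedPoint (C.presheaf.stalk c) := by
    apply PrimeSpectrum.ext
    have h1 : P.asIdeal = ⊥ := (Ideal.eq_bot_or_top P.asIdeal).resolve_right P.2.ne_top
    have h2 : (IsLocalRing.closedPoint (C.presheaf.stalk c)).asIdeal = ⊥ :=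
      (Ideal.eq_bot_or_top _).resolve_right (IsLocalRing.closedPoint (C.presheaf.stalk c)).2.ne_top
    rw [h1, h2]
  rw [hP', Scheme.fromSpecStalk_closedPoint] at hP
  exact hP

theorem pow_eq_zero_iff_of_pos' {R : Type*} [CommRing R] [IsDomain R] {r : R} {n : ℕ}
    (h : r ^ n = 0) : r = 0 := pow_eq_zero_iff (by
      rintro rfl
      rw [pow_zero] at h
      exact one_ne_zero h) |>.mp h

theorem main15848 (k : Type u) [Field k]
    (S : Scheme.{u}) [S.Over (Spec (CommRingCat.of k))] [IsIntegral S]
    [Smooth (S ↘ Spec (CommRingCat.of k))] (hdim : topologicalKrullDim S = 2)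
    (C : Scheme.{u}) (j : C ⟶ S) [IsClosedImmersion j] [IsIntegral C]
    (hC : topologicalKrullDim C = 1)
    (M : C.Modules) (hM : Coh.IsCoh M) (hMtf : TorSh.IsTorsionFree M)
    (F : S.Modules) (hF : FlatMod.IsFinLocFree F)
    (f : F ⟶ (Coh.push j).obj M) [Epi f] :
    FlatMod.IsFinLocFree (kernel f) := by
  have : LocallyOfFiniteType (S ↘ Spec (CommRingCat.of k)) := inferInstance
  have : IsLocallyNoetherian S :=
    LocallyOfFiniteType.isLocallyNoetherian (S ↘ Spec (CommRingCat.of k))
  have hreg : ∀ x : S, IsRegularLocalRing (S.presheaf.stalk x) := fun x =>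
    Groth.Agent.Lib.Helper25.CurveEtale.isRegularLocalRing_stalk_of_smooth
      (S ↘ Spec (CommRingCat.of k)) x
  have hd : ∀ x : S, ringKrullDim (S.presheaf.stalk x) ≤ 2 := by
    intro x
    obtain ⟨a, b, hb, -, hab⟩ := Groth.Agent.Lib.Helper11.IntMultA.stalk_add_closure k S 2
      (by exact_mod_cast hdim) x
    rw [hb]
    have : b ≤ 2 := by omega
    exact_mod_cast this
  have hMq : M.IsQuasicoherent := hM.1
  have hMft : M.IsFiniteType := hM.2
  have hNq : ((Scheme.Modules.pushforward j).obj M).IsQuasicoherent :=
    isQuasicoherent_pushforward_of_isAffineHom j M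
  have hNft : ((Scheme.Modules.pushforward j).obj M).IsFiniteType :=
    isFiniteType_pushforward_of_isFinite j M
  have hN : Coh.IsCoh ((Coh.push j).obj M) := ⟨hNq, hNft⟩
  refine isFinLocFree_kernel hreg hd F _ hF hN f fun x hx2 => ?_
  have := hreg x
  have : Module.Finite (S.presheaf.stalk x) (((Coh.push j).obj M).presheaf.stalk x) :=
    Groth.Agent.Lib.Helper9.RefStalk.finite_stalk_of_isCoh _ hN x
  rw [Order.one_le_iff_ne_zero]
  intro h0
  rw [depth_eq_zero_iff] at h0
  have hass : Curv2.IsAssPoint ((Scheme.Modules.pushforward j).obj M) x := h0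
  rw [isAssPoint_iff_isWeakAssPoint] at hass
  obtain ⟨c, hcx, hc⟩ := exists_isWeakAssPoint_of_pushforward j M x hass
  rw [← isAssPoint_iff_isWeakAssPoint] at hc
  -- the local ring at `c` is a field
  have hdom : IsDomain (C.presheaf.stalk c) := inferInstance
  have hfield : IsField (C.presheaf.stalk c) := by
    have hc' : IsAssociatedPrime (IsLocalRing.maximalIdeal (C.presheaf.stalk c))
      (M.presheaf.stalk c) := hc
    obtain ⟨hprime, t, ht⟩ := hc'
    have htf := hMtf c
    rw [IsLocalRing.isField_iff_maximalIdeal_eq]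
    rw [ht]
    have ht0 : t ≠ 0 := by
      rintro rfl
      apply hprime.ne_top
      rw [ht]
      rw [Ideal.radical_eq_top]
      ext r
      simp [Submodule.mem_colon_singleton]
    rw [eq_bot_iff]
    intro r hr
    obtain ⟨n, hn⟩ := hr
    rw [Submodule.mem_colon_singleton, Submodule.mem_bot] at hn
    rcases smul_eq_zero.mp hn with h | h
    · exact Ideal.mem_bot.mpr (pow_eq_zero_iff_of_pos' h)
    · exact (ht0 h).elim
  have hcη : c = genericPoint C := eq_genericPoint_of_isField c hfield
  -- dimension count
  obtain ⟨a, b, hb, ha, hab⟩ := Groth.Agent.Lib.Helper11.IntMultA.stalk_add_closure k S 2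
    (by exact_mod_cast hdim) x
  rw [hb] at hx2
  have hb2 : b = 2 := by exact_mod_cast hx2
  have ha0 : a = 0 := by omega
  rw [ha0] at ha
  have hmaps : ∀ c' : C, j c' ∈ closure ({x} : Set S) := by
    intro c'
    have h1 : genericPoint C ⤳ c' := (genericPoint_spec C).specializes trivial
    have h2 : j (genericPoint C) ⤳ j c' := h1.map j.continuous
    rw [← hcη, hcx] at h2
    exact h2.mem_closure
  let g : C → closure ({x} : Set S) := fun c' => ⟨j c', hmaps c'⟩
  have hg : Topology.IsInducing g := by
    have h1 : Topology.IsInducing (Subtype.val ∘ g) := j.isEmbedding.isInducing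
    exact Topology.IsInducing.of_comp (Continuous.subtype_mk j.continuous _)
      continuous_subtype_val h1
  have hle := hg.topologicalKrullDim_le
  rw [hC, ha] at hle
  norm_num at hle

end Groth.Agent.Lib.Helper9.KerLF
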