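import Mathlib
import Groth.Prelude.Def_Dual3
import Groth.Agent.Lib.Helper12.ModLim5

/-!
# Sections of `I · F` (`Dual3.idealMul`) over affine opens (helper9)
-/

set_option autoImplicit false
universe u
open CategoryTheory CategoryTheory.Limits AlgebraicGeometry TopologicalSpace Opposite TensorProduct

namespace Groth.Agent.Lib.Helper9.IdMul

open Groth.Agent.Lib.Helper29.QCoh

section ring

variable {A B : Type u} [CommRing A] [CommRing B] (φ : A →+* B) (hφ : Function.Surjective φ)
  (M : Type u) [AddCommGroup M] [Module A M]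

include hφ in
theorem one_tmul_eq_zero_iff (n : M) :
    letI := φ.toAlgebra
    (1 : B) ⊗ₜ[A] n = 0 ↔ n ∈ (RingHom.ker φ) • (⊤ : Submodule A M) := by
  let _ := φ.toAlgebra
  let J := RingHom.ker φ
  let e : (A ⧸ J) ≃ₐ[A] B :=
    Ideal.quotientKerAlgEquivOfSurjective (f := Algebra.ofId A B) hφ
  let E : (A ⧸ J) ⊗[A] M ≃ₗ[A] B ⊗[A] M :=
    TensorProduct.congr e.toLinearEquiv (LinearEquiv.refl A M)
  have h1 : E ((1 : A ⧸ J) ⊗ₜ[A] n) = (1 : B) ⊗ₜ[A] n := by
    change (e (1 : A ⧸ J)) ⊗ₜ[A] n = _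
    rw [map_one]
  rw [← h1, LinearEquiv.map_eq_zero_iff,
    ← LinearEquiv.map_eq_zero_iff (TensorProduct.quotTensorEquivQuotSMul M J)]
  have h2 : TensorProduct.quotTensorEquivQuotSMul M J ((1 : A ⧸ J) ⊗ₜ[A] n) =
      Submodule.Quotient.mk n := by
    have := TensorProduct.quotTensorEquivQuotSMul_mk_tmul (M := M) J 1 n
    rwa [map_one, one_smul] at this
  rw [h2, Submodule.Quotient.mk_eq_zero]

end ring

section dict

variable {X : Scheme.{u}} (I : X.IdealSheafData)

/-- The unit `F ⟶ i_* i^* F` of the closed subscheme cut out by `I`. -/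
noncomputable abbrev unitI (G : X.Modules) :
    G ⟶ (Scheme.Modules.pushforward I.subschemeι).obj
      ((Scheme.Modules.pullback I.subschemeι).obj G) :=
  (Scheme.Modules.pullbackPushforwardAdjunction I.subschemeι).unit.app G

theorem unit_app_eq_zero_iff (F : X.Modules) [F.IsQuasicoherent] (U : X.affineOpens)
    (n : Γ(F, U.1)) :
    (unitI I F).app U.1 n = 0 ↔
      n ∈ (I.ideal U) • (⊤ : Submodule Γ(X, U.1) Γ(F, U.1)) := by
  have hW : IsAffineOpen (I.subschemeι ⁻¹ᵁ U.1) := U.2.preimage I.subschemeι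
  have h1 := Groth.Agent.Lib.Helper12.H12ModLim.pullSect_eq_zero_iff I.subschemeι F U.2 hW n
  have hsurj : Function.Surjective (I.subschemeι.appLE U.1 (I.subschemeι ⁻¹ᵁ U.1) le_rfl).hom := by
    rw [← Scheme.Hom.app_eq_appLE]
    exact I.subschemeι_app_surjective U
  have hker : RingHom.ker (I.subschemeι.appLE U.1 (I.subschemeι ⁻¹ᵁ U.1) le_rfl).hom =
      I.ideal U := by
    rw [← Scheme.Hom.app_eq_appLE]
    exact I.ker_subschemeι_app U
  have h2 := one_tmul_eq_zero_iff _ hsurj Γ(F, U.1) n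
  rw [hker] at h2
  exact h1.trans h2

theorem idealMulι_app_injective (G : X.Modules) (V : X.Opens) :
    Function.Injective ((Dual3.idealMulι I G).app V) :=
  Groth.Agent.Lib.Helper12.H12ModLim.app_injective_of_mono (Dual3.idealMulι I G) V

/-- Sections of `I · G` over any open: the kernel of the unit. -/
theorem mem_range_idealMulι_app_iff_unit (G : X.Modules) (V : X.Opens) (n : Γ(G, V)) :
    (∃ z : Γ((Dual3.idealMul I).obj G, V), (Dual3.idealMulι I G).app V z = n) ↔
      (unitI I G).app V n = 0 := by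
  have hex := app_exact_of_exact_of_mono
    (ShortComplex.mk (kernel.ι (unitI I G)) (unitI I G) (kernel.condition _))
    (ShortComplex.exact_kernel (unitI I G)) V
  exact (hex n).symm

/-- Sections of `I · F` over an affine open `U`: the image in `Γ(F,U)` is `I(U) · Γ(F,U)`. -/
theorem mem_range_idealMulι_app_iff (F : X.Modules) [F.IsQuasicoherent] (U : X.affineOpens)
    (n : Γ(F, U.1)) :
    (∃ z : Γ((Dual3.idealMul I).obj F, U.1), (Dual3.idealMulι I F).app U.1 z = n) ↔
      n ∈ (I.ideal U) • (⊤ : Submodule Γ(X, U.1) Γ(F, U.1)) :=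
  (mem_range_idealMulι_app_iff_unit I F U.1 n).trans (unit_app_eq_zero_iff I F U n)

theorem idealMulι_app_mem (F : X.Modules) [F.IsQuasicoherent] (U : X.affineOpens)
    (z : Γ((Dual3.idealMul I).obj F, U.1)) :
    (Dual3.idealMulι I F).app U.1 z ∈ (I.ideal U) • (⊤ : Submodule Γ(X, U.1) Γ(F, U.1)) :=
  (mem_range_idealMulι_app_iff I F U _).mp ⟨z, rfl⟩

/-- Sections of `I · F` over an arbitrary open `V`: those sections of `F` whose restrictions
to all affine opens `U ≤ V` lie in `I(U) · Γ(F, U)`. -/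
theorem mem_range_idealMulι_app_iff_forall (F : X.Modules) [F.IsQuasicoherent] (V : X.Opens)
    (s : Γ(F, V)) :
    (∃ z : Γ((Dual3.idealMul I).obj F, V), (Dual3.idealMulι I F).app V z = s) ↔
      ∀ (U : X.affineOpens) (h : U.1 ≤ V),
        res F h s ∈ (I.ideal U) • (⊤ : Submodule Γ(X, U.1) Γ(F, U.1)) := by
  constructor
  · rintro ⟨z, rfl⟩ U h
    rw [← app_res]
    exact idealMulι_app_mem I F U _
  · intro H
    rw [mem_range_idealMulι_app_iff_unit]
    refine eq_zero_of_germ_eq_zero _ _ fun x hx => ?_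
    obtain ⟨W, hW, hxW, hWV⟩ := (Opens.isBasis_iff_nbhd.mp X.isBasis_affineOpens) hx
    have h1 := (unit_app_eq_zero_iff I F ⟨W, hW⟩ (res F hWV s)).mpr (H ⟨W, hW⟩ hWV)
    rw [app_res] at h1
    rw [← germ_res _ hWV x hxW, h1, map_zero]

end dict

end Groth.Agent.Lib.Helper9.IdMul
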