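import Mathlib
import Groth.Prelude.Def_Dual3
import Groth.Agent.Lib.Helper9.IdMul1
import Groth.Agent.Lib.Helper29.QCohPush
import Groth.Agent.Lib.Helper29.QCohPullback
import Groth.Agent.Lib.Helper29.QCohCrit

/-!
# `I·G`: quasi-coherence, inclusions `I·G ⊆ J·G`, and morphisms `IⁿG → F` vanishing off `V(I)`
(helper9)
-/

set_option autoImplicit false
universe u
open CategoryTheory CategoryTheory.Limits AlgebraicGeometry TopologicalSpace Opposite TensorProduct

namespace Groth.Agent.Lib.Helper9.IdMul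

open Groth.Agent.Lib.Helper29.QCoh

variable {X : Scheme.{u}} (I : X.IdealSheafData)

instance isQuasicoherent_pushPull (G : X.Modules) [G.IsQuasicoherent] :
    ((Scheme.Modules.pushforward I.subschemeι).obj
      ((Scheme.Modules.pullback I.subschemeι).obj G)).IsQuasicoherent :=
  isQuasicoherent_pushforward_of_isAffineHom _ _

instance isQuasicoherent_idealMul (G : X.Modules) [G.IsQuasicoherent] :
    ((Dual3.idealMul I).obj G).IsQuasicoherent := by
  change (kernel (unitI I G)).IsQuasicoherent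
  infer_instance

theorem isFiniteType_idealMul [IsLocallyNoetherian X] (G : X.Modules) [G.IsQuasicoherent]
    [G.IsFiniteType] : ((Dual3.idealMul I).obj G).IsFiniteType := by
  change (kernel (unitI I G)).IsFiniteType
  exact isFiniteType_kernel _

variable {I} in
theorem idealMulι_comp_unit_eq_zero_of_le {J : X.IdealSheafData} (hIJ : I ≤ J)
    (G : X.Modules) [G.IsQuasicoherent] :
    Dual3.idealMulι I G ≫ unitI J G = 0 := by
  refine Groth.Agent.Lib.Helper12.H12ModLim.hom_ext_of_affine_cover _ _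
    (fun U : X.affineOpens => (U : X.Opens)) (fun U => U.2) ?_ (fun _ => Set.univ)
    (fun _ => Submodule.span_univ) ?_
  · intro x
    obtain ⟨U, hU, hxU, -⟩ := Opens.isBasis_iff_nbhd.mp X.isBasis_affineOpens (Opens.mem_top x)
    exact ⟨⟨U, hU⟩, hxU⟩
  · intro U z _
    have h1 := idealMulι_app_mem I G U z
    have h2 : (Dual3.idealMulι I G).app U.1 z ∈
        (J.ideal U) • (⊤ : Submodule Γ(X, U.1) Γ(G, U.1)) :=
      Submodule.smul_mono_left (hIJ U) h1
    have h3 := (unit_app_eq_zero_iff J G U _).mpr h2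
    change (unitI J G).app U.1 ((Dual3.idealMulι I G).app U.1 z) =
      Scheme.Modules.Hom.app (0 : (Dual3.idealMul I).obj G ⟶ _) U.1 z
    rw [h3]
    rfl

variable {I} in
/-- The inclusion `I·G ⟶ J·G` for `I ≤ J`. -/
noncomputable def idealMulLE {J : X.IdealSheafData} (hIJ : I ≤ J) (G : X.Modules)
    [G.IsQuasicoherent] : (Dual3.idealMul I).obj G ⟶ (Dual3.idealMul J).obj G :=
  kernel.lift (unitI J G) (Dual3.idealMulι I G) (idealMulι_comp_unit_eq_zero_of_le hIJ G)

variable {I} in
@[reassoc (attr := simp)]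
theorem idealMulLE_ι {J : X.IdealSheafData} (hIJ : I ≤ J) (G : X.Modules)
    [G.IsQuasicoherent] : idealMulLE hIJ G ≫ Dual3.idealMulι J G = Dual3.idealMulι I G :=
  kernel.lift_ι _ _ _

theorem pow_le_pow_of_le {n N : ℕ} (h : n ≤ N) : I ^ N ≤ I ^ n := by
  intro U
  rw [Scheme.IdealSheafData.ideal_pow, Scheme.IdealSheafData.ideal_pow]
  exact Ideal.pow_le_pow_right h

/-- A morphism whose restriction to an open `U` is zero vanishes on sections over opens
contained in `U`. -/
theorem app_eq_zero_of_restrict_eq_zero {P F : X.Modules} (ψ : P ⟶ F) (U : X.Opens)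
    (hψ : (Scheme.Modules.restrictFunctor U.ι).map ψ = 0) (V : X.Opens) (hV : V ≤ U)
    (z : Γ(P, V)) : ψ.app V z = 0 := by
  have e : U.ι ''ᵁ (U.ι ⁻¹ᵁ V) = V := by
    rw [Scheme.Hom.image_preimage_eq_opensRange_inf, Scheme.Opens.opensRange_ι]
    exact inf_eq_right.mpr hV
  have h1 : ψ.app (U.ι ''ᵁ (U.ι ⁻¹ᵁ V)) (res P e.le z) = 0 := by
    have := congrArg (fun φ => Scheme.Modules.Hom.app φ (U.ι ⁻¹ᵁ V)) hψ
    exact congrArg (fun k => k.hom (res P e.le z)) this
  have h2 := app_res ψ e.ge (res P e.le z)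
  rw [res_res, res_self, h1, map_zero] at h2
  exact h2

theorem basicOpen_le_of_mem_ideal (U : X.Opens) (hU : (U : Set X) = (I.support : Set X)ᶜ)
    (W : X.affineOpens) (a : Γ(X, W.1)) (ha : a ∈ I.ideal W) : X.basicOpen a ≤ U := by
  intro x hx
  change x ∈ (U : Set X)
  rw [hU]
  intro hxs
  have hxW : x ∈ W.1 := X.basicOpen_le a hx
  have h0 : x ∈ X.zeroLocus (U := W.1) (I.ideal W) :=
    (Scheme.IdealSheafData.mem_supportSet_iff_of_mem (U := W) hxW).mp hxs
  exact (Scheme.mem_zeroLocus_iff _ _ _).mp h0 a ha hx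

/-- A morphism `P → F` (with `P` coherent) vanishing off `V(I)` is killed by a power of `I` on
every affine open. -/
theorem exists_pow_smul_app_eq_zero [IsLocallyNoetherian X] {P F : X.Modules}
    [P.IsQuasicoherent] [P.IsFiniteType] [F.IsQuasicoherent] (ψ : P ⟶ F) (U : X.Opens)
    (hU : (U : Set X) = (I.support : Set X)ᶜ)
    (hψ : (Scheme.Modules.restrictFunctor U.ι).map ψ = 0) (W : X.affineOpens) :
    ∃ k : ℕ, ∀ b ∈ (I.ideal W) ^ k, ∀ p : Γ(P, W.1), b • ψ.app W.1 p = 0 := by
  have : IsNoetherianRing Γ(X, W.1) := IsLocallyNoetherian.component_noetherian W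
  have : Module.Finite Γ(X, W.1) Γ(P, W.1) := module_finite_of_isFiniteType P W.2
  let N : Submodule Γ(X, W.1) Γ(F, W.1) := LinearMap.range (appₗ ψ W.1)
  have hNfg : N.FG := by
    have : Module.Finite Γ(X, W.1) N := Module.Finite.range _
    exact Module.Finite.iff_fg.mp this
  obtain ⟨S, hS⟩ := hNfg
  have hrad : I.ideal W ≤ N.annihilator.radical := by
    intro a ha
    have hle := basicOpen_le_of_mem_ideal I U hU W a ha
    have h1 : ∀ n : Γ(F, W.1), n ∈ S → ∃ e : ℕ, a ^ e • n = 0 := by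
      intro n hn
      have hnN : n ∈ N := by rw [← hS]; exact Submodule.subset_span hn
      obtain ⟨p, rfl⟩ := hnN
      refine exists_pow_smul_eq_zero F W.2 a _ ?_
      rw [appₗ_apply, ← app_res]
      exact app_eq_zero_of_restrict_eq_zero ψ U hψ _ hle _
    choose! e he using h1
    refine ⟨S.sup e, ?_⟩
    rw [← hS, Submodule.mem_annihilator_span]
    rintro ⟨n, hn⟩
    have hle' : e n ≤ S.sup e := Finset.le_sup (f := e) hn
    obtain ⟨d, hd⟩ := Nat.exists_eq_add_of_le hle'
    change a ^ (S.sup e) • n = 0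
    rw [hd, add_comm, pow_add, mul_smul, he n hn, smul_zero]
  obtain ⟨k, hk⟩ := Ideal.exists_pow_le_of_le_radical_of_fg hrad
    (IsNoetherian.noetherian (I.ideal W))
  refine ⟨k, fun b hb p => ?_⟩
  exact (Submodule.mem_annihilator.mp (hk hb)) _ ⟨p, rfl⟩

end Groth.Agent.Lib.Helper9.IdMul
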