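import Mathlib
import Groth.Prelude.Def_TorSh
import Groth.Agent.Lib.Helper29.QCohAss
import Groth.Agent.Lib.Helper29.QCohExact

/-!
# Sections of torsion-free modules on reduced locally Noetherian schemes are determined at the
generic points (helper9)
-/

set_option autoImplicit false
universe u
open CategoryTheory CategoryTheory.Limits AlgebraicGeometry TopologicalSpace Opposite

namespace Groth.Agent.Lib.Helper9.TFGen

open Groth.Agent.Lib.Helper29.QCoh

variable {X : Scheme.{u}}

theorem isField_stalk_of_mem_minimalPrimes [IsReduced X] {W : X.Opens} (hW : IsAffineOpen W)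
    (x : X) (hxW : x ∈ W)
    (h : (hW.primeIdealOf ⟨x, hxW⟩).asIdeal ∈ minimalPrimes Γ(X, W)) :
    IsField (X.presheaf.stalk x) := by
  let _ : Algebra Γ(X, W) (X.presheaf.stalk x) :=
    TopCat.Presheaf.algebra_section_stalk X.presheaf ⟨x, hxW⟩
  have := hW.isLocalization_stalk ⟨x, hxW⟩
  have : Ring.KrullDimLE 0 (X.presheaf.stalk x) :=
    .of_isLocalization (hW.primeIdealOf ⟨x, hxW⟩).asIdeal h _
  exact Ring.KrullDimLE.isField_of_isReduced

/-- In a reduced ring, an element outside all minimal primes is a non-zero-divisor. -/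
theorem mem_nonZeroDivisors_of_forall_notMem {A : Type*} [CommRing A] [_root_.IsReduced A] (a : A)
    (h : ∀ q ∈ minimalPrimes A, a ∉ q) : a ∈ nonZeroDivisors A := by
  rw [mem_nonZeroDivisors_iff_right]
  intro b hb
  have h1 : b ∈ sInf (minimalPrimes A) := by
    rw [Submodule.mem_sInf]
    intro q hq
    have : b * a ∈ q := by rw [hb]; exact q.zero_mem
    exact (hq.1.1.mem_or_mem this).resolve_right (h q hq)
  have h2 : sInf (minimalPrimes A) = nilradical A := by
    unfold minimalPrimes nilradical
    exact Ideal.sInf_minimalPrimes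
  rw [h2, nilradical_eq_zero, Ideal.zero_eq_bot, Ideal.mem_bot] at h1
  exact h1

/-- A section over an affine open whose germs at the generic points vanish is killed by a
non-zero-divisor. -/
theorem exists_nonZeroDivisor_smul_eq_zero [IsReduced X] [IsLocallyNoetherian X]
    (F : X.Modules) [F.IsQuasicoherent] {W : X.Opens} (hW : IsAffineOpen W) (m : Γ(F, W))
    (h : ∀ (y : X) (hy : y ∈ W), IsField (X.presheaf.stalk y) → F.presheaf.germ W y hy m = 0) :
    ∃ a : Γ(X, W), a ∈ nonZeroDivisors Γ(X, W) ∧ a • m = 0 := by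
  have : IsNoetherianRing Γ(X, W) := IsLocallyNoetherian.component_noetherian ⟨W, hW⟩
  have : _root_.IsReduced Γ(X, W) := inferInstance
  have hfin : (minimalPrimes Γ(X, W)).Finite := minimalPrimes.finite_of_isNoetherianRing _
  have hnot : ∀ q ∈ minimalPrimes Γ(X, W), ¬ annSection F m ≤ q := by
    intro q hq hle
    obtain ⟨y, hy, hyq⟩ := exists_point_of_prime' hW ⟨q, hq.1.1⟩
    have hfield : IsField (X.presheaf.stalk y) :=
      isField_stalk_of_mem_minimalPrimes hW y hy (by rw [hyq]; exact hq)
    exact germ_ne_zero_of_annSection_le F hW m y hy (by rw [hyq]; exact hle) (h y hy hfield)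
  have hnsub : ¬ ((annSection F m : Set Γ(X, W)) ⊆
      ⋃ q ∈ (↑hfin.toFinset : Set (Ideal Γ(X, W))), (q : Set Γ(X, W))) := by
    intro hsub
    obtain ⟨q, hq, hle⟩ := (Ideal.subset_union_prime (s := hfin.toFinset) (f := fun q => q) ⊥ ⊥
      (fun q hq _ _ => (hfin.mem_toFinset.mp hq).1.1)).mp hsub
    exact hnot q (hfin.mem_toFinset.mp hq) hle
  rw [Set.not_subset] at hnsub
  obtain ⟨a, ha, hau⟩ := hnsub
  refine ⟨a, mem_nonZeroDivisors_of_forall_notMem a fun q hq haq => hau ?_,
    (mem_annSection F m a).mp ha⟩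
  exact Set.mem_biUnion (show q ∈ (↑hfin.toFinset : Set (Ideal Γ(X, W))) from
    Finset.mem_coe.mpr (hfin.mem_toFinset.mpr hq)) haq

/-- **Key lemma**: on a reduced locally Noetherian scheme, a section of a torsion-free
quasi-coherent module whose germs at all generic points (points with a field as local ring)
vanish is zero. -/
theorem eq_zero_of_germ_generic_eq_zero [IsReduced X] [IsLocallyNoetherian X]
    (F : X.Modules) [F.IsQuasicoherent] (htF : TorSh.IsTorsionFree F) (V : X.Opens) (s : Γ(F, V))
    (h : ∀ (y : X) (hy : y ∈ V), IsField (X.presheaf.stalk y) → F.presheaf.germ V y hy s = 0) :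
    s = 0 := by
  refine eq_zero_of_germ_eq_zero F s fun x hx => ?_
  obtain ⟨W, hW, hxW, hWV⟩ := Opens.isBasis_iff_nbhd.mp X.isBasis_affineOpens hx
  obtain ⟨a, ha, ham⟩ := exists_nonZeroDivisor_smul_eq_zero F hW (res F hWV s) (by
    intro y hy hfield
    rw [germ_res]
    exact h y (hWV hy) hfield)
  let _ : Algebra Γ(X, W) (X.presheaf.stalk x) :=
    TopCat.Presheaf.algebra_section_stalk X.presheaf ⟨x, hxW⟩
  have := hW.isLocalization_stalk ⟨x, hxW⟩
  have hreg : X.presheaf.germ W x hxW a ∈ nonZeroDivisors (X.presheaf.stalk x) :=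
    IsLocalization.map_nonZeroDivisors_le (hW.primeIdealOf ⟨x, hxW⟩).asIdeal.primeCompl
      (X.presheaf.stalk x) ⟨a, ha, rfl⟩
  have h1 := congrArg (F.presheaf.germ W x hxW) ham
  rw [germ_smul, map_zero, germ_res] at h1
  have h2 := (htF x).isSMulRegular (isRegular_iff_mem_nonZeroDivisors.mpr hreg)
  exact h2 (h1.trans (smul_zero _).symm)

end Groth.Agent.Lib.Helper9.TFGen
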