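import Mathlib
import Groth.Prelude.Def_TorSh
import Groth.Prelude.Def_Coh
import Groth.Agent.Lib.Helper9.TFGen1
import Groth.Agent.Lib.Helper29.QCohFinite
import Groth.Agent.Lib.Helper9.IdMul3

/-!
# Torsion-free modules on reduced curves: injectivity of germs, quotients agreeing on a dense open
(helper9)
-/

set_option autoImplicit false
universe u
open CategoryTheory CategoryTheory.Limits AlgebraicGeometry TopologicalSpace Opposite

namespace Groth.Agent.Lib.Helper9.TFGen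

open Groth.Agent.Lib.Helper29.QCoh

variable {X : Scheme.{u}}

theorem germ_injective_of_generic_specialize [IsReduced X] [IsLocallyNoetherian X]
    (F : X.Modules) [F.IsQuasicoherent] (htF : TorSh.IsTorsionFree F)
    (x : X) (U : X.Opens) (hxU : x ∈ U)
    (hU : ∀ y : X, y ∈ U → IsField (X.presheaf.stalk y) → x ∈ closure ({y} : Set X)) :
    Function.Injective (F.presheaf.germ U x hxU) := by
  rw [injective_iff_map_eq_zero]
  intro s hs
  obtain ⟨V', hV'U, hxV', hsV'⟩ := exists_res_eq_zero_of_germ_eq_zero F x hxU s hs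
  refine eq_zero_of_germ_generic_eq_zero F htF U s fun y hy hfield => ?_
  have hyV' : y ∈ V' := by
    obtain ⟨z, hz1, hz2⟩ := mem_closure_iff.mp (hU y hy hfield) V' V'.isOpen hxV'
    rw [Set.mem_singleton_iff] at hz2
    rw [← hz2]
    exact hz1
  rw [← germ_res F hV'U y hyV', hsV', map_zero]

/-- A point whose local ring is a field lies in every dense open subset. -/
theorem mem_of_dense_of_isField [IsLocallyNoetherian X] (U : X.Opens) (hU : Dense (U : Set X))
    (y : X) (hy : IsField (X.presheaf.stalk y)) : y ∈ U := by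
  obtain ⟨W, hW, hyW, -⟩ := Opens.isBasis_iff_nbhd.mp X.isBasis_affineOpens (Opens.mem_top y)
  have : IsNoetherianRing Γ(X, W) := IsLocallyNoetherian.component_noetherian ⟨W, hW⟩
  set q := (hW.primeIdealOf ⟨y, hyW⟩).asIdeal with hq
  have hqprime : q.IsPrime := (hW.primeIdealOf ⟨y, hyW⟩).isPrime
  have hqmin : q ∈ minimalPrimes Γ(X, W) := by
    let _ : Algebra Γ(X, W) (X.presheaf.stalk y) :=
      TopCat.Presheaf.algebra_section_stalk X.presheaf ⟨y, hyW⟩
    have := hW.isLocalization_stalk ⟨y, hyW⟩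
    rw [← Ideal.height_eq_zero_iff]
    have h1 := IsLocalization.AtPrime.ringKrullDim_eq_height q (X.presheaf.stalk y)
    rw [ringKrullDim_eq_zero_of_isField hy] at h1
    exact_mod_cast h1.symm
  have hfin : (minimalPrimes Γ(X, W)).Finite := minimalPrimes.finite_of_isNoetherianRing _
  classical
  let S : Finset (Ideal Γ(X, W)) := hfin.toFinset.erase q
  have hb : ¬ S.inf (fun p => p) ≤ q := by
    intro hle
    obtain ⟨p, hp, hpq⟩ := (Ideal.IsPrime.inf_le' hqprime).mp hle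
    have hp' := Finset.mem_erase.mp hp
    have hpmin : p ∈ minimalPrimes Γ(X, W) := hfin.mem_toFinset.mp hp'.2
    exact hp'.1 (le_antisymm hpq (hqmin.2 ⟨hpmin.1.1, bot_le⟩ hpq))
  obtain ⟨b, hbS, hbq⟩ := Set.not_subset.mp hb
  have hyb : y ∈ X.basicOpen b := (mem_basicOpen_iff_notMem_primeIdealOf hW y hyW b).mpr hbq
  obtain ⟨z, hzb, hzU⟩ := hU.inter_open_nonempty _ (X.basicOpen b).isOpen ⟨y, hyb⟩
  have hzW : z ∈ W := X.basicOpen_le b hzb
  have hbz : b ∉ (hW.primeIdealOf ⟨z, hzW⟩).asIdeal :=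
    (mem_basicOpen_iff_notMem_primeIdealOf hW z hzW b).mp hzb
  obtain ⟨p, hpmin, hpz⟩ := Ideal.exists_minimalPrimes_le
    (show (⊥ : Ideal Γ(X, W)) ≤ (hW.primeIdealOf ⟨z, hzW⟩).asIdeal from bot_le)
  have hpq : p = q := by
    by_contra hne
    have hpS : p ∈ S := Finset.mem_erase.mpr ⟨hne, hfin.mem_toFinset.mpr hpmin⟩
    have : b ∈ p := (Finset.inf_le hpS : S.inf (fun p => p) ≤ p) hbS
    exact hbz (hpz this)
  rw [hpq] at hpz
  have hspec : y ⤳ z := specializes_of_primeIdealOf_le hW z y hzW hyW hpz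
  exact hspec.mem_open U.isOpen hzU

/-- A morphism into a torsion-free module which vanishes over a dense open vanishes. -/
theorem eq_zero_of_restrict_eq_zero [IsReduced X] [IsLocallyNoetherian X]
    {K F : X.Modules} [F.IsQuasicoherent] (htF : TorSh.IsTorsionFree F) (k : K ⟶ F)
    (U : X.Opens) (hU : Dense (U : Set X))
    (hk : (Scheme.Modules.restrictFunctor U.ι).map k = 0) : k = 0 := by
  apply Scheme.Modules.hom_ext
  intro V
  ext z
  change k.app V z = 0
  refine eq_zero_of_germ_generic_eq_zero F htF V _ fun y hy hfield => ?_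
  have hyU : y ∈ U := mem_of_dense_of_isField U hU y hfield
  have h1 : res F (inf_le_left : V ⊓ U ≤ V) (k.app V z) = 0 := by
    rw [← app_res]
    exact Groth.Agent.Lib.Helper9.IdMul.app_eq_zero_of_restrict_eq_zero k U hk _ inf_le_right _
  rw [← germ_res F (inf_le_left : V ⊓ U ≤ V) y ⟨hy, hyU⟩, h1, map_zero]

theorem main18914 [IsReduced X] [IsLocallyNoetherian X]
    (E F₁ F₂ : X.Modules) [F₁.IsQuasicoherent] [F₂.IsQuasicoherent]
    (ht₁ : TorSh.IsTorsionFree F₁) (ht₂ : TorSh.IsTorsionFree F₂)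
    (q₁ : E ⟶ F₁) (q₂ : E ⟶ F₂) [Epi q₁] [Epi q₂]
    (U : X.Opens) (hU : Dense (U : Set X))
    (φ : F₁.restrict U.ι ≅ F₂.restrict U.ι)
    (hφ : (Scheme.Modules.restrictFunctor U.ι).map q₁ ≫ φ.hom =
      (Scheme.Modules.restrictFunctor U.ι).map q₂) :
    ∃ ψ : F₁ ≅ F₂, q₁ ≫ ψ.hom = q₂ ∧ (Scheme.Modules.restrictFunctor U.ι).map ψ.hom = φ.hom := by
  let R := Scheme.Modules.restrictFunctor U.ι
  have hφ' : R.map q₂ ≫ φ.inv = R.map q₁ := by
    rw [← hφ, Category.assoc, Iso.hom_inv_id, Category.comp_id]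
  have h12 : kernel.ι q₁ ≫ q₂ = 0 := by
    refine eq_zero_of_restrict_eq_zero ht₂ _ U hU ?_
    change R.map (kernel.ι q₁ ≫ q₂) = 0
    rw [R.map_comp, ← hφ, ← Category.assoc, ← R.map_comp, kernel.condition, R.map_zero, zero_comp]
  have h21 : kernel.ι q₂ ≫ q₁ = 0 := by
    refine eq_zero_of_restrict_eq_zero ht₁ _ U hU ?_
    change R.map (kernel.ι q₂ ≫ q₁) = 0
    rw [R.map_comp, ← hφ', ← Category.assoc, ← R.map_comp, kernel.condition, R.map_zero,
      zero_comp]
  let ψ : F₁ ⟶ F₂ := Abelian.epiDesc q₁ q₂ h12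
  let ψ' : F₂ ⟶ F₁ := Abelian.epiDesc q₂ q₁ h21
  have hψ : q₁ ≫ ψ = q₂ := Abelian.comp_epiDesc _ _ _
  have hψ' : q₂ ≫ ψ' = q₁ := Abelian.comp_epiDesc _ _ _
  have h1 : ψ ≫ ψ' = 𝟙 F₁ := by
    rw [← cancel_epi q₁, ← Category.assoc, hψ, hψ', Category.comp_id]
  have h2 : ψ' ≫ ψ = 𝟙 F₂ := by
    rw [← cancel_epi q₂, ← Category.assoc, hψ', hψ, Category.comp_id]
  refine ⟨⟨ψ, ψ', h1, h2⟩, hψ, ?_⟩
  have : Epi (R.map q₁) := inferInstance
  rw [← cancel_epi (R.map q₁)]
  change R.map q₁ ≫ R.map ψ = _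
  rw [← R.map_comp, hψ, hφ]

end Groth.Agent.Lib.Helper9.TFGen
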