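import Groth.Agent.Lib.Helper9.FlatInj
import Mathlib.RingTheory.Artinian.Ring
import Mathlib.RingTheory.Flat.Localization
import Mathlib.LinearAlgebra.TensorProduct.Quotient
import Mathlib.LinearAlgebra.TensorProduct.Basis

/-!
# Descent of flatness along injective maps out of Artinian rings (helper9 library)
-/

set_option autoImplicit false

namespace Groth.Agent.Lib.Helper9

open TensorProduct Function

universe u

section Nakayama

variable {R M : Type*} [CommRing R] [AddCommGroup M] [Module R M]

/-- Nilpotent Nakayama. -/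
theorem eq_top_of_sup_smul_top_eq_top (I : Ideal R) (hI : IsNilpotent I) (N : Submodule R M)
    (h : N ⊔ I • ⊤ = ⊤) : N = ⊤ := by
  obtain ⟨n, hn⟩ := hI
  have key : ∀ k : ℕ, N ⊔ (I ^ k) • (⊤ : Submodule R M) = ⊤ := by
    intro k
    induction k with
    | zero => simp
    | succ k ih =>
      rw [eq_top_iff]
      calc (⊤ : Submodule R M) = N ⊔ (I ^ k) • (⊤ : Submodule R M) := ih.symm
        _ = N ⊔ (I ^ k) • (N ⊔ I • ⊤) := by rw [h]
        _ = N ⊔ ((I ^ k) • N ⊔ (I ^ k) • (I • ⊤)) := by rw [Submodule.smul_sup]
        _ ≤ N ⊔ (I ^ (k + 1)) • ⊤ := by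
          rw [← Submodule.mul_smul, ← pow_succ]
          refine sup_le le_sup_left (sup_le ?_ le_sup_right)
          exact le_sup_of_le_left Submodule.smul_le_right
  have := key n
  rw [hn] at this
  simpa using this

/-- If `(R ⧸ I) ⊗ M = 0` with `I` nilpotent then `M = 0`. -/
theorem subsingleton_of_subsingleton_quotient_tensor (I : Ideal R) (hI : IsNilpotent I)
    [Subsingleton ((R ⧸ I) ⊗[R] M)] : Subsingleton M := by
  have h1 : Subsingleton (M ⧸ (I • ⊤ : Submodule R M)) :=
    (TensorProduct.quotTensorEquivQuotSMul M I).symm.toEquiv.subsingleton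
  have h2 : (I • ⊤ : Submodule R M) = ⊤ := Submodule.Quotient.subsingleton_iff.mp h1
  have h3 : (⊥ : Submodule R M) = ⊤ :=
    eq_top_of_sup_smul_top_eq_top I hI ⊥ (by rw [bot_sup_eq, h2])
  exact (Submodule.subsingleton_iff R).mp (subsingleton_of_bot_eq_top h3)

end Nakayama

section Local

/-- If `N` is flat and `φ : P → N` is surjective then `X ⊗ ker φ → X ⊗ P` is injective for every
cyclic module `X = S ⧸ I`. -/
theorem lTensor_ker_subtype_injective_of_flat {S : Type*} [CommRing S] {P N : Type*}
    [AddCommGroup P] [Module S P] [AddCommGroup N] [Module S N] [Module.Flat S N]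
    (φS : P →ₗ[S] N) (hs : Surjective φS) (I' : Ideal S) :
    Injective ((LinearMap.ker φS).subtype.lTensor (S ⧸ I')) := by
  have e1 : Function.Exact I'.subtype I'.mkQ := LinearMap.exact_subtype_mkQ I'
  have e2 : Function.Exact (LinearMap.ker φS).subtype φS := LinearMap.exact_subtype_ker_map φS
  have i1 : Injective (I'.subtype.rTensor N) :=
    Module.Flat.rTensor_preserves_injective_linearMap I'.subtype I'.injective_subtype
  have i2 : Injective ((LinearMap.ker φS).subtype.lTensor S) :=
    Module.Flat.lTensor_preserves_injective_linearMap _ (LinearMap.ker φS).injective_subtype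
  exact lTensor_injective_of_exact_of_exact_of_rTensor_injective e1 (Submodule.mkQ_surjective I')
      e2 hs i1 i2

variable {R : Type u} [CommRing R] [IsLocalRing R] {S : Type*} [CommRing S] [Algebra R S]
  {M : Type*} [AddCommGroup M] [Module R M]

/-- Stacks 051F (local case): over a local ring with nilpotent maximal ideal, if `R → S` is
injective and `S ⊗ M` is flat over `S` then `M` is free. -/
theorem free_of_flat_baseChange_of_injective
    (hnil : IsNilpotent (IsLocalRing.maximalIdeal R))
    (hinj : Injective (algebraMap R S)) [Module.Flat S (S ⊗[R] M)] : Module.Free R M := by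
  classical
  let 𝔪 := IsLocalRing.maximalIdeal R
  let k := IsLocalRing.ResidueField R
  let ι := Module.Free.ChooseBasisIndex k (k ⊗[R] M)
  let w : Module.Basis ι k (k ⊗[R] M) := Module.Free.chooseBasis k (k ⊗[R] M)
  have ⟨v, hv⟩ := (TensorProduct.mk_surjective R M k Ideal.Quotient.mk_surjective).comp_left w
  have hv' : ∀ i, (1 : k) ⊗ₜ[R] v i = w i := fun i => congrFun hv i
  let F := ι →₀ R
  let φ : F →ₗ[R] M := Finsupp.linearCombination R v
  have hφs : Surjective φ := by
    rw [← LinearMap.range_eq_top, Finsupp.range_linearCombination]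
    refine eq_top_of_sup_smul_top_eq_top _ hnil _ ?_
    have h1 : (Submodule.span R (Set.range v)).map (TensorProduct.mk R k M 1) = ⊤ := by
      rw [Submodule.map_span, ← Submodule.restrictScalars_span R k Ideal.Quotient.mk_surjective,
        Submodule.restrictScalars_eq_top_iff, ← w.span_eq, ← Set.range_comp, ← hv]
    have h2 := Submodule.comap_map_eq (TensorProduct.mk R k M 1) (Submodule.span R (Set.range v))
    rw [h1, Submodule.comap_top] at h2
    have h3 : LinearMap.ker (TensorProduct.mk R k M 1) = IsLocalRing.maximalIdeal R • ⊤ :=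
      LinearMap.ker_tensorProductMk (Q := M) (I := IsLocalRing.maximalIdeal R)
    rw [h3] at h2
    exact h2.symm
  have hφk : Injective (φ.lTensor k) := by
    let b : Module.Basis ι k (k ⊗[R] F) := (Finsupp.basisSingleOne).baseChange k
    have h1 : φ.baseChange k = (b.equiv w (Equiv.refl ι)).toLinearMap := by
      refine b.ext fun i => ?_
      have h2 : b i = (1 : k) ⊗ₜ[R] Finsupp.single i (1 : R) := by
        simp [b]
      rw [LinearEquiv.coe_coe, Module.Basis.equiv_apply, h2, LinearMap.baseChange_tmul,
        Equiv.refl_apply, ← hv' i]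
      congr 1
      exact (Finsupp.linearCombination_single R 1 i).trans (one_smul _ _)
    change Injective (φ.baseChange k)
    rw [h1]
    exact (b.equiv w (Equiv.refl ι)).injective
  let φS : S ⊗[R] F →ₗ[S] S ⊗[R] M := φ.baseChange S
  have hφSs : Surjective φS := LinearMap.lTensor_surjective S hφs
  let K' : Submodule S (S ⊗[R] F) := LinearMap.ker φS
  let I' : Ideal S := 𝔪.map (algebraMap R S)
  have hI'nil : IsNilpotent I' := by
    obtain ⟨n, hn⟩ := hnil
    exact ⟨n, by rw [← Ideal.map_pow, hn, Ideal.zero_eq_bot, Ideal.map_bot]; rfl⟩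
  let X := S ⧸ I'
  have h3a : Injective (K'.subtype.lTensor X) :=
    lTensor_ker_subtype_injective_of_flat φS hφSs I'
  have hX : Module.IsTorsionBySet R X 𝔪 := by
    rintro x ⟨r, hr⟩
    obtain ⟨s, rfl⟩ := Ideal.Quotient.mk_surjective x
    change Ideal.Quotient.mk I' (r • s) = 0
    rw [Ideal.Quotient.eq_zero_iff_mem, Algebra.smul_def]
    exact Ideal.mul_mem_right _ _ (Ideal.mem_map_of_mem _ hr)
  have h3b : Injective (φS.lTensor X) := by
    have h1 : Injective (φ.lTensor X) :=
      lTensor_injective_of_isTorsionBySet_maximalIdeal φ hφk hX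
    have h3 := TensorProduct.AlgebraTensorModule.lTensor_comp_cancelBaseChange
      (R := R) (A := S) (B := S) (M := X) φ
    have h4 := fun z => congrArg (fun ψ => ψ z) h3
    simp only [LinearMap.coe_comp, Function.comp_apply, LinearEquiv.coe_coe] at h4
    intro a b hab
    apply (TensorProduct.AlgebraTensorModule.cancelBaseChange R S S X F).injective
    apply h1
    refine (h4 a).trans (Eq.trans ?_ (h4 b).symm)
    exact congrArg _ hab
  have h3c : Subsingleton (X ⊗[S] K') := by
    refine ⟨fun y z => h3a (h3b ?_)⟩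
    have h0 : φS ∘ₗ K'.subtype = 0 := by
      ext ⟨a, ha⟩
      exact ha
    rw [← LinearMap.lTensor_comp_apply, ← LinearMap.lTensor_comp_apply, h0]
    simp
  have h3d : Subsingleton K' := subsingleton_of_subsingleton_quotient_tensor I' hI'nil
  have hφi : Injective φ := by
    rw [injective_iff_map_eq_zero]
    intro x hx
    have h1 : (1 : S) ⊗ₜ[R] x ∈ K' := by
      change φS ((1 : S) ⊗ₜ[R] x) = 0
      rw [LinearMap.baseChange_tmul, hx, TensorProduct.tmul_zero]
    have h2 : (⟨(1 : S) ⊗ₜ[R] x, h1⟩ : K') = 0 := Subsingleton.elim _ _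
    have h3 : (1 : S) ⊗ₜ[R] x = 0 := congrArg Subtype.val h2
    have _ : FaithfulSMul R S := (faithfulSMul_iff_algebraMap_injective R S).mpr hinj
    have h4 := Module.Flat.tensorProduct_mk_injective (R := R) (S := S) (M := F)
    exact h4 (by simpa using h3)
  exact Module.Free.of_equiv (LinearEquiv.ofBijective φ ⟨hφi, hφs⟩)

end Local

section Global

/-- Stacks 051F: for an injective ring map `R → S` with `R` Artinian and an `R`-module `M`, if
`S ⊗ M` is flat over `S` then `M` is flat over `R`. -/
theorem flat_of_flat_baseChange_of_injective_of_isArtinianRing {R S M : Type*} [CommRing R]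
    [CommRing S] [IsArtinianRing R] [Algebra R S] (hinj : Injective (algebraMap R S))
    [AddCommGroup M] [Module R M] [Module.Flat S (S ⊗[R] M)] : Module.Flat R M := by
  refine Module.flat_of_localized_maximal M ?_
  intro P hP
  let RP := Localization.AtPrime P
  let SP := Localization (Algebra.algebraMapSubmonoid S P.primeCompl)
  let MP := LocalizedModule P.primeCompl M
  have hnil : IsNilpotent (IsLocalRing.maximalIdeal RP) := by
    have := IsArtinianRing.isNilpotent_jacobson_bot (R := RP)
    rwa [IsLocalRing.jacobson_eq_maximalIdeal ⊥ bot_ne_top] at this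
  have hinjP : Injective (algebraMap RP SP) := localizationAlgebra_injective RP SP hinj
  have hflat : Module.Flat SP (SP ⊗[RP] MP) := by
    let e1 : MP ≃ₗ[RP] RP ⊗[R] M := LocalizedModule.equivTensorProduct P.primeCompl M
    let e2 : SP ⊗[RP] MP ≃ₗ[SP] SP ⊗[RP] (RP ⊗[R] M) :=
      TensorProduct.AlgebraTensorModule.congr (LinearEquiv.refl SP SP) e1
    let e3 : SP ⊗[RP] (RP ⊗[R] M) ≃ₗ[SP] SP ⊗[R] M :=
      TensorProduct.AlgebraTensorModule.cancelBaseChange R RP SP SP M
    let e4 : SP ⊗[S] (S ⊗[R] M) ≃ₗ[SP] SP ⊗[R] M :=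
      TensorProduct.AlgebraTensorModule.cancelBaseChange R S SP SP M
    exact Module.Flat.of_linearEquiv (e2.trans (e3.trans e4.symm))
  have hfree : Module.Free RP MP := free_of_flat_baseChange_of_injective (S := SP) hnil hinjP
  have hflat' : Module.Flat RP MP := inferInstance
  exact Module.Flat.trans R RP MP

end Global

end Groth.Agent.Lib.Helper9
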