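import Mathlib
import Groth.Prelude.Def_W4bk4goldsch23FF

/-!
# Basic lemmas on function fields of one variable (helper9)

* `essFiniteType_of_finite_adjoin`: `K` finite over `k(x₁)` ⇒ `K/k` essentially of finite type.
* `isAlgebraic_adjoin_of_transcendental`: if `K` is finite over `k(x₁)` with `x₁` transcendental,
  then `K` is algebraic over `k(x)` for every transcendental `x`.
* `finite_adjoin_of_transcendental`: ... and in fact finite.
* `mem_range_of_isGeometric`: a geometric extension `K/k` has `k` algebraically closed in `K`.
-/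

set_option autoImplicit false
universe u v

namespace Groth.Agent.Lib.Helper9.FunFld

open IntermediateField

theorem essFiniteType_of_finite_adjoin {k : Type u} {K : Type v} [Field k] [Field K]
    [Algebra k K] {x₁ : K}
    (hfin₁ : FiniteDimensional (IntermediateField.adjoin k ({x₁} : Set K)) K) :
    Algebra.EssFiniteType k K := by
  have hess₁ : Algebra.EssFiniteType k (IntermediateField.adjoin k ({x₁} : Set K)) :=
    IntermediateField.essFiniteType_iff.mpr ⟨{x₁}, by simp⟩
  have hess₂ : Algebra.EssFiniteType (IntermediateField.adjoin k ({x₁} : Set K)) K :=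
    inferInstance
  exact Algebra.EssFiniteType.comp k (IntermediateField.adjoin k ({x₁} : Set K)) K

open scoped IntermediateField.algebraAdjoinAdjoin in
/-- A transcendental element of a field of finite degree over `k(x₁)` (with `x₁` transcendental)
generates a subfield over which the big field is algebraic. -/
theorem isAlgebraic_adjoin_of_transcendental {k : Type u} {K : Type v} [Field k] [Field K]
    [Algebra k K] {x₁ x : K} (hx₁ : Transcendental k x₁)
    (hfin₁ : FiniteDimensional (IntermediateField.adjoin k ({x₁} : Set K)) K)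
    (hx : Transcendental k x) :
    Algebra.IsAlgebraic (IntermediateField.adjoin k ({x} : Set K)) K := by
  have hind₁ : AlgebraicIndependent k (fun _ : PUnit.{v+1} => x₁) :=
    (algebraicIndependent_unique_type_iff).mpr hx₁
  have hr₁ : Set.range (fun _ : PUnit.{v+1} => x₁) = {x₁} := Set.range_const
  have halg₁ : Algebra.IsAlgebraic
      (Algebra.adjoin k (Set.range (fun _ : PUnit.{v+1} => x₁))) K := by
    rw [hr₁]
    have : Algebra.IsAlgebraic (IntermediateField.adjoin k ({x₁} : Set K)) K :=
      Algebra.IsAlgebraic.of_finite _ _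
    exact (IsFractionRing.comap_isAlgebraic_iff
      (K := IntermediateField.adjoin k ({x₁} : Set K))).mpr this
  have hB₁ : IsTranscendenceBasis k (fun _ : PUnit.{v+1} => x₁) :=
    hind₁.isTranscendenceBasis_iff_isAlgebraic.mpr halg₁
  have htr : Algebra.trdeg k K = 1 := by
    rw [← hB₁.cardinalMk_eq_trdeg]; simp
  have hind : AlgebraicIndependent k (fun _ : PUnit.{v+1} => x) :=
    (algebraicIndependent_unique_type_iff).mpr hx
  have hB : IsTranscendenceBasis k (fun _ : PUnit.{v+1} => x) :=
    hind.isTranscendenceBasis_of_trdeg_le_of_finite (by simp [htr])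
  have halg := hB.isAlgebraic_field
  have hr : Set.range (fun _ : PUnit.{v+1} => x) = {x} := Set.range_const
  rwa [hr] at halg

/-- In a function field of one variable, `K` is finite over `k(x)` for every transcendental `x`. -/
theorem finite_adjoin_of_transcendental {k : Type u} {K : Type v} [Field k] [Field K]
    [Algebra k K] {x₁ x : K} (hx₁ : Transcendental k x₁)
    (hfin₁ : FiniteDimensional (IntermediateField.adjoin k ({x₁} : Set K)) K)
    (hx : Transcendental k x) :
    FiniteDimensional (IntermediateField.adjoin k ({x} : Set K)) K := by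
  have := isAlgebraic_adjoin_of_transcendental hx₁ hfin₁ hx
  have := essFiniteType_of_finite_adjoin hfin₁
  have : Algebra.EssFiniteType (IntermediateField.adjoin k ({x} : Set K)) K :=
    Algebra.EssFiniteType.of_comp k _ K
  exact Algebra.finite_of_essFiniteType_of_isAlgebraic

open TensorProduct in
/-- If `K/k` is geometric, then `k` is algebraically closed in `K`. -/
theorem mem_range_of_isGeometric {k : Type u} {K : Type v} [Field k] [Field K] [Algebra k K]
    (hg : _root_.FunFld.IsGeometric k K) (y : K) (hy : IsAlgebraic k y) :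
    y ∈ Set.range (algebraMap k K) := by
  have hyi : IsIntegral k y := hy.isIntegral
  set p := minpoly k y with hp
  have hirr : Irreducible p := minpoly.irreducible hyi
  have : Fact (Irreducible p) := ⟨hirr⟩
  have hp0 : p ≠ 0 := minpoly.ne_zero hyi
  have hfd : FiniteDimensional k (AdjoinRoot p) := (AdjoinRoot.powerBasis hp0).finite
  have hT : IsField (TensorProduct k (AdjoinRoot p) K) := hg (AdjoinRoot p) hfd
  let j : AdjoinRoot p →ₐ[k] K :=
    AdjoinRoot.liftAlgHom p (Algebra.ofId k K) y (by
      have := minpoly.aeval k y
      simpa [Polynomial.aeval_def] using this)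
  let μ : TensorProduct k (AdjoinRoot p) K →ₐ[k] K :=
    Algebra.TensorProduct.productMap j (AlgHom.id k K)
  have hμ : Function.Injective μ := by
    let _ := hT.toField
    exact RingHom.injective μ.toRingHom
  have heq : (AdjoinRoot.root p) ⊗ₜ[k] (1 : K) = (1 : AdjoinRoot p) ⊗ₜ[k] y :=
    hμ (by simp [μ, j])
  by_contra hne
  have hdeg : 2 ≤ p.natDegree := by
    have h1 : 0 < p.natDegree := minpoly.natDegree_pos hyi
    have h2 : p.natDegree ≠ 1 := by
      intro h
      apply hne
      have := (minpoly.natDegree_eq_one_iff (A := k) (x := y)).mp h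
      simpa using this
    omega
  let pb := AdjoinRoot.powerBasis hp0
  have hdim : pb.dim = p.natDegree := rfl
  let ℓ : AdjoinRoot p →ₗ[k] k := pb.basis.coord ⟨1, by omega⟩
  have hb1 : pb.basis ⟨1, by omega⟩ = AdjoinRoot.root p := by
    rw [PowerBasis.coe_basis]; simp [pb]
  have hb0 : pb.basis ⟨0, by omega⟩ = 1 := by
    rw [PowerBasis.coe_basis]; simp
  have h1 : ℓ (AdjoinRoot.root p) = 1 := by
    rw [← hb1]
    change pb.basis.coord ⟨1, _⟩ (pb.basis ⟨1, _⟩) = 1
    rw [Module.Basis.coord_apply, Module.Basis.repr_self]; simp
  have h0 : ℓ 1 = 0 := by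
    rw [← hb0]
    change pb.basis.coord ⟨1, _⟩ (pb.basis ⟨0, _⟩) = 0
    rw [Module.Basis.coord_apply, Module.Basis.repr_self]; simp
  have := congrArg ((TensorProduct.lid k K).toLinearMap ∘ₗ ℓ.rTensor K) heq
  simp [h1, h0] at this

end Groth.Agent.Lib.Helper9.FunFld
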