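import Mathlib
import Groth.Agent.Lib.Helper9.FunFld

/-!
# Separability of geometric function fields (helper9)

* `linearIndepOn_pow_of_isGeometric`: MacLane's condition for a geometric extension.
* `trdeg_eq_one`
* `exists_separating_variable`
* `finrank_kaehler_eq_one_of_separating`
-/

set_option autoImplicit false
universe u v

namespace Groth.Agent.Lib.Helper9.FunFld

open IntermediateField TensorProduct

theorem linearIndepOn_pow_aux {k : Type u} {K : Type v} [Field k] [Field K]
    [Algebra k K] (p : ℕ) [hp : Fact p.Prime] [CharP K p] (k' : Type u) [Field k'] [Algebra k k']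
    (hT : IsField (k' ⊗[k] K)) (s : Finset K)
    (hs : ∀ f : K → k, ∑ i ∈ s, f i • _root_.id i = 0 → ∀ i ∈ s, f i = 0)
    (c : K → k) (hc : ∑ i ∈ s, c i • i ^ p = 0) (d' : K → k')
    (hd' : ∀ j ∈ s, d' j ^ p = algebraMap k k' (c j)) : ∀ i ∈ s, c i = 0 := by
  classical
  intro i hi
  have hpk : CharP k p := (algebraMap k K).charP (algebraMap k K).injective p
  have hdom : IsDomain (k' ⊗[k] K) := hT.isDomain
  have hTp : CharP (k' ⊗[k] K) p :=
    charP_of_injective_algebraMap (R := k) (RingHom.injective _) p
  have hTe : ExpChar (k' ⊗[k] K) p := ExpChar.prime hp.out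
  let z : k' ⊗[k] K := ∑ j ∈ s, d' j ⊗ₜ[k] j
  have hz : z ^ p = 0 := by
    simp only [z]
    rw [sum_pow_char p]
    have : ∀ j ∈ s, (d' j ⊗ₜ[k] j) ^ p = (1 : k') ⊗ₜ[k] (c j • j ^ p) := by
      intro j hj
      rw [Algebra.TensorProduct.tmul_pow, hd' j hj, Algebra.algebraMap_eq_smul_one,
        TensorProduct.smul_tmul]
    rw [Finset.sum_congr rfl this, ← TensorProduct.tmul_sum]
    rw [hc, TensorProduct.tmul_zero]
  have hz0 : z = 0 := (pow_eq_zero_iff (M₀ := k' ⊗[k] K) hp.out.ne_zero).mp hz
  have hd0 : d' i = 0 := by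
    rw [← Module.forall_dual_apply_eq_zero_iff k]
    intro φ
    have h1 := congrArg ((TensorProduct.lid k K).toLinearMap ∘ₗ φ.rTensor K) hz0
    simp only [z, map_sum, LinearMap.coe_comp, LinearEquiv.coe_coe, Function.comp_apply,
      LinearMap.rTensor_tmul, TensorProduct.lid_tmul, map_zero] at h1
    exact hs (fun j => φ (d' j)) h1 i hi
  have h2 : algebraMap k k' (c i) = 0 := by
    rw [← hd' i hi, hd0, zero_pow hp.out.ne_zero]
  exact (map_eq_zero _).mp h2

/-- MacLane's condition holds in a geometric extension: `p`-th powers of `k`-linearly independent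
elements stay `k`-linearly independent. -/
theorem linearIndepOn_pow_of_isGeometric {k : Type u} {K : Type v} [Field k] [Field K]
    [Algebra k K] (p : ℕ) [hp : Fact p.Prime] [CharP K p] (hg : _root_.FunFld.IsGeometric k K)
    (s : Finset K) (hs : LinearIndepOn k _root_.id (s : Set K)) :
    LinearIndepOn k (· ^ p) (s : Set K) := by
  classical
  rw [linearIndepOn_finset_iff] at hs ⊢
  intro c hc
  choose d hd using fun j : K =>
    IsAlgClosed.exists_pow_nat_eq (algebraMap k (AlgebraicClosure k) (c j)) hp.out.pos
  obtain ⟨k', hk'⟩ : ∃ k' : IntermediateField k (AlgebraicClosure k), k' =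
    IntermediateField.adjoin k
      ((s.image d : Finset (AlgebraicClosure k)) : Set (AlgebraicClosure k)) := ⟨_, rfl⟩
  have hfd : FiniteDimensional k k' := by
    rw [hk']
    exact IntermediateField.finiteDimensional_adjoin (fun x _ => Algebra.IsIntegral.isIntegral x)
  let d' : K → k' := fun j =>
    if h : j ∈ s then ⟨d j, hk' ▸ IntermediateField.subset_adjoin _ _
      (Finset.mem_coe.mpr (Finset.mem_image_of_mem d h))⟩ else 0
  have hd' : ∀ j ∈ s, (d' j) ^ p = algebraMap k k' (c j) := by
    intro j hj
    apply Subtype.ext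
    simp only [d', dif_pos hj]
    exact hd j
  exact linearIndepOn_pow_aux p k' (hg k' hfd) s hs c hc d' hd'

open scoped IntermediateField.algebraAdjoinAdjoin in
theorem trdeg_eq_one {k : Type u} {K : Type v} [Field k] [Field K]
    [Algebra k K] {x₁ : K} (hx₁ : Transcendental k x₁)
    (hfin₁ : FiniteDimensional (IntermediateField.adjoin k ({x₁} : Set K)) K) :
    Algebra.trdeg k K = 1 := by
  have hind₁ : AlgebraicIndependent k (fun _ : PUnit.{v+1} => x₁) :=
    (algebraicIndependent_unique_type_iff).mpr hx₁
  have hr₁ : Set.range (fun _ : PUnit.{v+1} => x₁) = {x₁} := Set.range_const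
  have halg₁ : Algebra.IsAlgebraic
      (Algebra.adjoin k (Set.range (fun _ : PUnit.{v+1} => x₁))) K := by
    rw [hr₁]
    have : Algebra.IsAlgebraic (IntermediateField.adjoin k ({x₁} : Set K)) K :=
      Algebra.IsAlgebraic.of_finite _ _
    exact (IsFractionRing.comap_isAlgebraic_iff
      (K := IntermediateField.adjoin k ({x₁} : Set K))).mpr this
  have hB₁ : IsTranscendenceBasis k (fun _ : PUnit.{v+1} => x₁) :=
    hind₁.isTranscendenceBasis_iff_isAlgebraic.mpr halg₁
  rw [← hB₁.cardinalMk_eq_trdeg]; simp

/-- A geometric function field of one variable has a separating variable. -/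
theorem exists_separating_variable {k : Type u} {K : Type v} [Field k] [Field K]
    [Algebra k K] {x₁ : K} (hx₁ : Transcendental k x₁)
    (hfin₁ : FiniteDimensional (IntermediateField.adjoin k ({x₁} : Set K)) K)
    (hg : _root_.FunFld.IsGeometric k K) :
    ∃ t : K, Transcendental k t ∧
      Algebra.IsSeparable (IntermediateField.adjoin k ({t} : Set K)) K := by
  obtain h0 | ⟨p, hp, hpk⟩ := CharP.exists' k
  · refine ⟨x₁, hx₁, ?_⟩
    have : CharZero (IntermediateField.adjoin k ({x₁} : Set K)) :=
      charZero_of_injective_algebraMap (algebraMap k _).injective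
    have : Algebra.IsAlgebraic (IntermediateField.adjoin k ({x₁} : Set K)) K :=
      Algebra.IsAlgebraic.of_finite _ _
    infer_instance
  · have : ExpChar k p := ExpChar.prime hp.out
    have : CharP K p := charP_of_injective_algebraMap (algebraMap k K).injective p
    have hess : Algebra.EssFiniteType k K := essFiniteType_of_finite_adjoin hfin₁
    obtain ⟨s, hs, hsep⟩ :=
      exists_isTranscendenceBasis_and_isSeparable_of_linearIndepOn_pow_of_essFiniteType
        (k := k) (K := K) p hp.out (fun s hs => linearIndepOn_pow_of_isGeometric p hg s hs)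
    have hcard : Cardinal.mk (s : Set K) = 1 := by
      have := hs.cardinalMk_eq_trdeg
      rw [trdeg_eq_one hx₁ hfin₁] at this
      exact this
    have hcard' : s.card = 1 := by
      have h1 : Cardinal.mk (s : Set K) = (s.card : Cardinal) := by simp
      rw [h1] at hcard
      exact_mod_cast hcard
    obtain ⟨t, rfl⟩ := Finset.card_eq_one.mp hcard'
    refine ⟨t, ?_, ?_⟩
    · exact hs.1.transcendental ⟨t, by simp⟩
    · rw [Finset.coe_singleton] at hsep
      exact hsep

open Polynomial KaehlerDifferential in
/-- If `t` is a separating variable of `K/k`, then `Ω_{K/k}` is one-dimensional. -/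
theorem finrank_kaehler_eq_one_of_separating {k : Type u} {K : Type v} [Field k] [Field K]
    [Algebra k K] {t : K} (ht : Transcendental k t)
    (hsep : Algebra.IsSeparable (IntermediateField.adjoin k ({t} : Set K)) K) :
    Module.finrank K (Ω[K⁄k]) = 1 := by
  let e : RatFunc k ≃ₐ[k] k⟮t⟯ := RatFunc.algEquivOfTranscendental t ht
  let φ : RatFunc k →ₐ[k] K := (IntermediateField.val _).comp e.toAlgHom
  let _ : Algebra (RatFunc k) K := φ.toRingHom.toAlgebra
  have : IsScalarTower k (RatFunc k) K :=
    IsScalarTower.of_algebraMap_eq (fun c => (φ.commutes c).symm)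
  have : Algebra.IsSeparable (RatFunc k) K :=
    Algebra.IsSeparable.of_equiv_equiv e.symm.toRingEquiv (RingEquiv.refl K) (by
      ext y
      change φ (e.symm y) = (y : K)
      simp [φ])
  have : Algebra.FormallyEtale (RatFunc k) K := Algebra.FormallyEtale.of_isSeparable _ _
  have : Algebra.FormallyEtale k[X] (RatFunc k) :=
    Algebra.FormallyEtale.of_isLocalization (nonZeroDivisors k[X])
  have e1 := KaehlerDifferential.tensorKaehlerEquivOfFormallyEtale k (RatFunc k) K
  have e2 := KaehlerDifferential.tensorKaehlerEquivOfFormallyEtale k k[X] (RatFunc k)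
  have e3 := KaehlerDifferential.polynomialEquiv k
  have : Module.Free k[X] (Ω[k[X]⁄k]) := Module.Free.of_equiv e3.symm
  rw [← e1.finrank_eq, Module.finrank_baseChange, ← e2.finrank_eq, Module.finrank_baseChange,
    e3.finrank_eq, Module.finrank_self]

end Groth.Agent.Lib.Helper9.FunFld
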