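import Mathlib
import Groth.Agent.Lib.Helper9.FunFldSep

/-!
# Inseparability in geometric function fields (helper9)

`L = k K^p`.
* `D_ne_zero_of_separating`: `dt ≠ 0` for a separating variable `t`.
* `kerD`: the intermediate field of elements with `dx = 0`.
* `D_eq_zero_of_mem_adjoin_pow`: `d` kills `k K^p`.
-/

set_option autoImplicit false
universe u v

namespace Groth.Agent.Lib.Helper9.FunFld

open IntermediateField TensorProduct KaehlerDifferential

variable {k : Type u} {K : Type v} [Field k] [Field K] [Algebra k K]

open Polynomial in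
/-- If `t` is a separating variable of `K/k`, then `dt ≠ 0` in `Ω_{K/k}`. -/
theorem D_ne_zero_of_separating {t : K} (ht : Transcendental k t)
    (hsep : Algebra.IsSeparable (IntermediateField.adjoin k ({t} : Set K)) K) :
    D k K t ≠ 0 := by
  let e : RatFunc k ≃ₐ[k] k⟮t⟯ := RatFunc.algEquivOfTranscendental t ht
  let φ : RatFunc k →ₐ[k] K := (IntermediateField.val _).comp e.toAlgHom
  let _ : Algebra (RatFunc k) K := φ.toRingHom.toAlgebra
  have : IsScalarTower k (RatFunc k) K :=
    IsScalarTower.of_algebraMap_eq (fun c => (φ.commutes c).symm)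
  have : Algebra.IsSeparable (RatFunc k) K :=
    Algebra.IsSeparable.of_equiv_equiv e.symm.toRingEquiv (RingEquiv.refl K) (by
      ext y
      change φ (e.symm y) = (y : K)
      simp [φ])
  have : Algebra.FormallyEtale (RatFunc k) K := Algebra.FormallyEtale.of_isSeparable _ _
  have : Algebra.FormallyEtale k[X] (RatFunc k) :=
    Algebra.FormallyEtale.of_isLocalization (nonZeroDivisors k[X])
  have hφX : algebraMap (RatFunc k) K RatFunc.X = t := by
    change φ RatFunc.X = t
    simp [φ, e]
  intro h0
  have h1 : (1 : K) ⊗ₜ[RatFunc k] D k (RatFunc k) RatFunc.X = 0 := by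
    rw [← KaehlerDifferential.tensorKaehlerEquivOfFormallyEtale_symm_D_algebraMap, hφX, h0,
      map_zero]
  have h2 : D k (RatFunc k) RatFunc.X = 0 :=
    (Module.FaithfullyFlat.one_tmul_eq_zero_iff (RatFunc k) (Ω[RatFunc k⁄k]) (A := K) _).mp h1
  have h3 : (1 : RatFunc k) ⊗ₜ[k[X]] D k k[X] (X : k[X]) = 0 := by
    rw [← KaehlerDifferential.tensorKaehlerEquivOfFormallyEtale_symm_D_algebraMap,
      RatFunc.algebraMap_X, h2, map_zero]
  have h4 := congrArg ((TensorProduct.rid k[X] (RatFunc k)).toLinearMap ∘ₗ
    (KaehlerDifferential.polynomialEquiv k).toLinearMap.lTensor (RatFunc k)) h3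
  simp [KaehlerDifferential.polynomialEquiv_D] at h4

variable (k K) in
/-- The intermediate field of elements of `K` with vanishing differential. -/
def kerD : IntermediateField k K where
  carrier := {y | D k K y = 0}
  mul_mem' {a b} ha hb := by
    simp only [Set.mem_ofPred_eq] at ha hb ⊢
    rw [Derivation.leibniz, ha, hb, smul_zero, smul_zero, add_zero]
  add_mem' {a b} ha hb := by
    simp only [Set.mem_ofPred_eq] at ha hb ⊢
    rw [map_add, ha, hb, add_zero]
  algebraMap_mem' c := by
    simp only [Set.mem_ofPred_eq]
    exact (D k K).map_algebraMap c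
  inv_mem' a ha := by
    simp only [Set.mem_ofPred_eq] at ha ⊢
    rw [Derivation.leibniz_inv, ha, smul_zero]

theorem mem_kerD {y : K} : y ∈ kerD k K ↔ D k K y = 0 := Iff.rfl

/-- `d` kills `k K^p`. -/
theorem D_eq_zero_of_mem_adjoin_pow (p : ℕ) [CharP K p] {y : K}
    (hy : y ∈ IntermediateField.adjoin k (Set.range fun z : K => z ^ p)) : D k K y = 0 := by
  have hle : IntermediateField.adjoin k (Set.range fun z : K => z ^ p) ≤ kerD k K := by
    rw [IntermediateField.adjoin_le_iff]
    rintro _ ⟨z, rfl⟩
    change D k K (z ^ p) = 0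
    rw [Derivation.leibniz_pow, ← Nat.cast_smul_eq_nsmul K, CharP.cast_eq_zero, zero_smul]
  exact hle hy

/-- For a separating variable `t` in characteristic `p`, `K = (kK^p)(t)`. -/
theorem adjoin_pow_sup_separating_eq_top (p : ℕ) [hp : Fact p.Prime] [CharP K p] {t : K}
    (hsep : Algebra.IsSeparable (IntermediateField.adjoin k ({t} : Set K)) K) :
    IntermediateField.adjoin k ((Set.range fun z : K => z ^ p) ∪ {t}) = ⊤ := by
  have hpk : CharP k p := (algebraMap k K).charP (algebraMap k K).injective p
  have : ExpChar k p := ExpChar.prime hp.out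
  have : ExpChar (IntermediateField.adjoin k ({t} : Set K)) p :=
    expChar_of_injective_algebraMap (algebraMap k _).injective p
  have h1 := IntermediateField.adjoin_eq_adjoin_pow_expChar_of_isSeparable'
    (IntermediateField.adjoin k ({t} : Set K)) K (Set.univ : Set K) p
  rw [IntermediateField.adjoin_univ] at h1
  have h2 := congrArg (IntermediateField.restrictScalars k) h1
  rw [IntermediateField.restrictScalars_top, IntermediateField.adjoin_adjoin_left] at h2
  rw [Set.image_univ] at h2
  rw [Set.union_comm]
  exact h2.symm

open Polynomial in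
/-- For a separating variable `t` in characteristic `p`, `[K : kK^p] = p`. -/
theorem finrank_adjoin_pow_of_separating (p : ℕ) [hp : Fact p.Prime] [CharP K p] {t : K}
    (ht : Transcendental k t)
    (hsep : Algebra.IsSeparable (IntermediateField.adjoin k ({t} : Set K)) K) :
    Module.finrank (IntermediateField.adjoin k (Set.range fun z : K => z ^ p)) K = p := by
  obtain ⟨L, hL⟩ : ∃ L : IntermediateField k K,
    L = IntermediateField.adjoin k (Set.range fun z : K => z ^ p) := ⟨_, rfl⟩
  rw [← hL]
  have htop : L⟮t⟯ = (⊤ : IntermediateField L K) := by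
    apply IntermediateField.restrictScalars_injective k
    rw [hL, IntermediateField.adjoin_adjoin_left, IntermediateField.restrictScalars_top]
    exact adjoin_pow_sup_separating_eq_top p hsep
  have hta : t ^ p ∈ L := hL ▸ IntermediateField.subset_adjoin _ _ ⟨t, rfl⟩
  let a : L := ⟨t ^ p, hta⟩
  have hroot : ∀ b : L, b ^ p ≠ a := by
    intro b hb
    have h1 : ((b : K)) ^ p = t ^ p := congrArg Subtype.val hb
    have h2 : (b : K) = t := by
      have h3 : ((b : K) - t) ^ p = 0 := by rw [sub_pow_char, h1, sub_self]
      exact sub_eq_zero.mp ((pow_eq_zero_iff hp.out.ne_zero).mp h3)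
    have hbL : (b : K) ∈ IntermediateField.adjoin k (Set.range fun z : K => z ^ p) := hL ▸ b.2
    exact D_ne_zero_of_separating ht hsep (h2 ▸ D_eq_zero_of_mem_adjoin_pow p hbL)
  have hirr : Irreducible (X ^ p - C a : L[X]) := X_pow_sub_C_irreducible_of_prime hp.out hroot
  have hmonic : (X ^ p - C a : L[X]).Monic := monic_X_pow_sub_C a hp.out.ne_zero
  have haeval : aeval t (X ^ p - C a : L[X]) = 0 := by
    simp [a]
  have hmin : X ^ p - C a = minpoly L t := minpoly.eq_of_irreducible_of_monic hirr haeval hmonic
  have hint : IsIntegral L t := ⟨_, hmonic, haeval⟩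
  have h4 := IntermediateField.adjoin.finrank hint
  rw [htop, IntermediateField.finrank_top', ← hmin, natDegree_X_pow_sub_C] at h4
  exact h4

/-- In characteristic `p`, with a separating variable, `dy = 0` implies `y ∈ kK^p`. -/
theorem mem_adjoin_pow_of_D_eq_zero (p : ℕ) [hp : Fact p.Prime] [CharP K p] {t : K}
    (ht : Transcendental k t)
    (hsep : Algebra.IsSeparable (IntermediateField.adjoin k ({t} : Set K)) K) {y : K}
    (hy : D k K y = 0) :
    y ∈ IntermediateField.adjoin k (Set.range fun z : K => z ^ p) := by
  have hfr := finrank_adjoin_pow_of_separating p ht hsep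
  obtain ⟨L, hL⟩ : ∃ L : IntermediateField k K,
    L = IntermediateField.adjoin k (Set.range fun z : K => z ^ p) := ⟨_, rfl⟩
  rw [← hL] at hfr ⊢
  have hso : IsSimpleOrder (IntermediateField L K) :=
    IntermediateField.isSimpleOrder_of_finrank_prime L K (hfr.symm ▸ hp.out)
  have hle : L ≤ kerD k K := fun z hz =>
    D_eq_zero_of_mem_adjoin_pow p (hL ▸ hz)
  rcases eq_bot_or_eq_top (IntermediateField.extendScalars hle) with h | h
  · have : y ∈ IntermediateField.extendScalars hle := hy
    rw [h, IntermediateField.mem_bot] at this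
    obtain ⟨z, rfl⟩ := this
    exact z.2
  · exfalso
    have : t ∈ IntermediateField.extendScalars hle := h ▸ IntermediateField.mem_top
    exact D_ne_zero_of_separating ht hsep this

/-- If `Ω_{K/k}` is one-dimensional and `dx ≠ 0`, then `K/k(x)` is separable (for `K/k`
essentially of finite type). -/
theorem isSeparable_adjoin_simple_of_D_ne_zero [Algebra.EssFiniteType k K]
    (hfr : Module.finrank K (Ω[K⁄k]) = 1) {x : K} (hx : D k K x ≠ 0) :
    Algebra.IsSeparable (IntermediateField.adjoin k ({x} : Set K)) K := by
  have hspan := (finrank_eq_one_iff_of_nonzero' (D k K x) hx).mp hfr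
  have hsub : Subsingleton (Ω[K⁄(IntermediateField.adjoin k ({x} : Set K))]) := by
    refine ⟨fun a b => ?_⟩
    have hz : ∀ w : Ω[K⁄(IntermediateField.adjoin k ({x} : Set K))], w = 0 := by
      intro w
      obtain ⟨ω, rfl⟩ := KaehlerDifferential.map_surjective k
        (IntermediateField.adjoin k ({x} : Set K)) K w
      obtain ⟨c, rfl⟩ := hspan ω
      rw [map_smul, KaehlerDifferential.map_D]
      have : (algebraMap K K) x = algebraMap (IntermediateField.adjoin k ({x} : Set K)) K
          ⟨x, IntermediateField.mem_adjoin_simple_self k x⟩ := rfl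
      rw [this, Derivation.map_algebraMap, smul_zero]
    rw [hz a, hz b]
  have hunr : Algebra.FormallyUnramified (IntermediateField.adjoin k ({x} : Set K)) K := ⟨hsub⟩
  have : Algebra.EssFiniteType (IntermediateField.adjoin k ({x} : Set K)) K :=
    Algebra.EssFiniteType.of_comp k _ K
  exact (Algebra.FormallyUnramified.iff_isSeparable _ K).mp hunr

/-- Over an algebraically closed constant field every extension is geometric. -/
theorem isGeometric_of_isAlgClosed {k : Type u} {K : Type v} [Field k] [IsAlgClosed k] [Field K]
    [Algebra k K] : _root_.FunFld.IsGeometric k K := by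
  intro k' _ _ hfd
  have hbij : Function.Bijective (algebraMap k k') :=
    IsAlgClosed.algebraMap_bijective_of_isIntegral
  let e₀ : k ≃ₐ[k] k' := AlgEquiv.ofBijective (Algebra.ofId k k') hbij
  let e : TensorProduct k k' K ≃ₐ[k] K :=
    (Algebra.TensorProduct.congr e₀.symm AlgEquiv.refl).trans (Algebra.TensorProduct.lid k K)
  exact e.toMulEquiv.isField (Field.toIsField K)

/-- If `Ω_{K/k}` is nonzero and `W` generates `K` over `k` as a field, some element of `W`
has nonzero differential. -/
theorem exists_mem_D_ne_zero_of_adjoin_eq_top {W : Set K}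
    (hW : IntermediateField.adjoin k W = ⊤) {t : K} (ht : D k K t ≠ 0) :
    ∃ x ∈ W, D k K x ≠ 0 := by
  by_contra hcon
  push Not at hcon
  have hle : IntermediateField.adjoin k W ≤ kerD k K := by
    rw [IntermediateField.adjoin_le_iff]
    intro x hx
    exact hcon x hx
  rw [hW] at hle
  exact ht (hle IntermediateField.mem_top)

/-- In a geometric function field of one variable, an element `s` on which some `k`-derivation
`K → K` does not vanish is a separating variable. -/
theorem isSeparable_adjoin_simple_of_derivation_ne_zero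
    (hK : _root_.FunFld.IsFunctionField k K) (hg : _root_.FunFld.IsGeometric k K) {s : K}
    (δ : Derivation k K K) (hδ : δ s ≠ 0) :
    Algebra.IsSeparable (IntermediateField.adjoin k ({s} : Set K)) K := by
  obtain ⟨⟨x₁, hx₁, hfin₁⟩, -⟩ := hK
  obtain ⟨t, ht, hsep⟩ := exists_separating_variable hx₁ hfin₁ hg
  have hfr := finrank_kaehler_eq_one_of_separating ht hsep
  have hess : Algebra.EssFiniteType k K := essFiniteType_of_finite_adjoin hfin₁
  refine isSeparable_adjoin_simple_of_D_ne_zero hfr (fun h => hδ ?_)
  have := congrArg δ.liftKaehlerDifferential h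
  simpa using this

/-- Over an algebraically closed constant field: an element `s` of a function field of one
variable on which some `k`-derivation `K → K` does not vanish is a separating variable. -/
theorem isSeparable_adjoin_simple_of_derivation_ne_zero_of_isAlgClosed [IsAlgClosed k]
    (hK : _root_.FunFld.IsFunctionField k K) {s : K}
    (δ : Derivation k K K) (hδ : δ s ≠ 0) :
    Algebra.IsSeparable (IntermediateField.adjoin k ({s} : Set K)) K :=
  isSeparable_adjoin_simple_of_derivation_ne_zero hK isGeometric_of_isAlgClosed δ hδ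

end Groth.Agent.Lib.Helper9.FunFld
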