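import Mathlib
import Groth.Prelude.Def_RefHull
import Groth.Prelude.Def_FlatMod2
import Groth.Agent.Lib.Helper9.ReflNormal4
import Groth.Agent.Lib.Helper28.DCohRes27

/-!
# Finite type submodules of quasi-coherent modules are quasi-coherent (helper9)
-/

set_option autoImplicit false
universe u
open CategoryTheory CategoryTheory.Limits AlgebraicGeometry TopologicalSpace Opposite

namespace Groth.Agent.Lib.Helper9.FlatLocus

open Groth.Agent.Lib.Helper29.QCoh Groth.Agent.Lib.Helper28.DCohRes

variable {X : Scheme.{u}}

/-- the image of a morphism between quasi-coherent modules is quasi-coherent: version for an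
epi-mono factorization -/
theorem isQuasicoherent_of_epi_mono {P M A : X.Modules} [P.IsQuasicoherent] [A.IsQuasicoherent]
    (π : P ⟶ M) (m : M ⟶ A) [Epi π] [Mono m] : M.IsQuasicoherent := by
  have h1 : (Abelian.image (π ≫ m)).IsQuasicoherent :=
    inferInstanceAs (kernel (cokernel.π (π ≫ m))).IsQuasicoherent
  have : StrongEpi π := strongEpi_of_epi π
  let e : M ≅ Abelian.image (π ≫ m) :=
    image.isoStrongEpiMono π m rfl ≪≫ (Abelian.imageIsoImage (π ≫ m)).symm
  exact isQuasicoherent_of_iso e.symm

/-- a finite type submodule of a quasi-coherent module is quasi-coherent -/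
theorem isQuasicoherent_of_mono {F A : X.Modules} [A.IsQuasicoherent] [F.IsFiniteType]
    (ι : F ⟶ A) [Mono ι] : F.IsQuasicoherent := by
  refine isQuasicoherent_of_locally F fun x => ?_
  obtain ⟨V, hxV, P, π, hP, hπ⟩ := exists_epi_of_isFiniteType F x
  refine ⟨V, V.ι, inferInstance, ⟨⟨x, hxV⟩, rfl⟩, ?_⟩
  have : P.IsQuasicoherent := isQuasicoherent_of_isFinLocFree hP
  have : (A.restrict V.ι).IsQuasicoherent := inferInstance
  have : Mono ((Scheme.Modules.restrictFunctor V.ι).map ι) := inferInstance
  exact isQuasicoherent_of_epi_mono π ((Scheme.Modules.restrictFunctor V.ι).map ι)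

end Groth.Agent.Lib.Helper9.FlatLocus
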