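import Mathlib
import Groth.Prelude.Def_RefHull
import Groth.Prelude.Def_FlatMod2
import Groth.Prelude.Def_CohB1
import Groth.Agent.Lib.Helper9.ReflNormal4
import Groth.Agent.Lib.Helper9.FlatLocus1

/-!
# The bidual of a finite type submodule of a flat module on a normal Noetherian scheme (helper9)
-/

set_option autoImplicit false
universe u
open CategoryTheory CategoryTheory.Limits AlgebraicGeometry TopologicalSpace Opposite

namespace Groth.Agent.Lib.Helper9.FlatLocus

open Groth.Agent.Lib.Helper29.QCoh Groth.Agent.Lib.Helper28.DCohRes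
open Groth.Agent.Lib.Helper9.RefStalk Groth.Agent.Lib.Helper9.ReflNormal
open Groth.Agent.Lib.Helper10.Hartogs Groth.Agent.Lib.Helper17.ZClosLib

variable {X : Scheme.{u}} [IsLocallyNoetherian X]

/-- stalks of the bidual of a coherent module are reflexive (stalks of `X` domains) -/
theorem isReflexive_stalk_ddual (hX : ∀ x : X, IsDomain (X.presheaf.stalk x)) (F : X.Modules)
    (hF : Coh.IsCoh F) (x : X) :
    Module.IsReflexive (X.presheaf.stalk x) ((RefHull.ddual F).presheaf.stalk x) := by
  have := hX x
  have hD : Coh.IsCoh (RefHull.dual F) := isCoh_homSh F _ hF (isCoh_unit X)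
  have hfinD := finite_stalk_of_isCoh (RefHull.dual F) hD x
  have hfinO := finite_stalk_of_isCoh _ (isCoh_unit X) x
  have hr : Module.IsReflexive (X.presheaf.stalk x)
      ((Coh.structureModule X).presheaf.stalk x) := Module.equiv (oEquiv x)
  have h1 : Module.IsReflexive (X.presheaf.stalk x)
      ((RefHull.dual F).presheaf.stalk x →ₗ[X.presheaf.stalk x]
        (Coh.structureModule X).presheaf.stalk x) :=
    Groth.Agent.Lib.Helper9.LocRefl.isReflexive_linearMap _ _
  exact Module.equiv (evalEquiv (RefHull.dual F) _ (isFP_of_isCoh _ hD) x).symm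

/-- the bidual of a coherent module on a normal scheme extends uniquely across any closed subset
all of whose points have local rings of dimension at least two -/
theorem isIso_unit_ddual (hX : Pi1.IsNormalScheme X) (F : X.Modules) (hF : Coh.IsCoh F)
    (U : X.Opens)
    (hdim : ∀ x : X, x ∉ U → (2 : WithBot ℕ∞) ≤ ringKrullDim (X.presheaf.stalk x)) :
    IsIso ((Scheme.Modules.restrictAdjunction U.ι).unit.app (RefHull.ddual F)) := by
  have hD : Coh.IsCoh (RefHull.dual F) := isCoh_homSh F _ hF (isCoh_unit X)
  have hE : Coh.IsCoh (RefHull.ddual F) := isCoh_homSh _ _ hD (isCoh_unit X)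
  have := hE.1
  have := hE.2
  have hdepth : ∀ x : X, x ∉ U →
      2 ≤ LocCoh.depth (X.presheaf.stalk x) ((RefHull.ddual F).presheaf.stalk x) := by
    intro x hx
    have := (hX x).1
    have := (hX x).2
    have := isReflexive_stalk_ddual (fun x => (hX x).1) F hF x
    exact two_le_depth_of_isReflexive _ _ (hasRegSeq_two_of_normal _ (hdim x hx))
  have hb := fun V => res_bijective (RefHull.ddual F) U
    (locDepthTwo_of_stalk_depth (RefHull.ddual F) U hdepth) V
  exact (isIso_unit_iff_compact U (RefHull.ddual F)).mpr fun V _ => hb V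

/-- `F → F^**` is an isomorphism over an open on which the stalks of `F` are reflexive -/
theorem isIso_resPush_bidualMap (F : X.Modules) (hF : Coh.IsCoh F) (U : X.Opens)
    (hU : ∀ x : X, x ∈ U → RefHull.IsReflexiveAt F x) :
    IsIso ((Scheme.Modules.restrictFunctor U.ι ⋙ Scheme.Modules.pushforward U.ι).map
      (RefHull.bidualMap F)) := by
  have hD : Coh.IsCoh (RefHull.dual F) := isCoh_homSh F _ hF (isCoh_unit X)
  rw [isIso_iff_bijective_app]
  intro V
  let f : abSheaf F ⟶ abSheaf (RefHull.ddual F) := ⟨(RefHull.bidualMap F).mapPresheaf⟩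
  refine TopCat.Presheaf.app_bijective_of_stalkFunctor_map_bijective f (U.ι ''ᵁ U.ι ⁻¹ᵁ V)
    (fun x hx => ?_)
  have hxU : x ∈ U := by
    rw [← inf_eq_image] at hx
    exact hx.2
  exact (stalkMapₗ_bidualMap_bijective_iff F (isFP_of_isCoh F hF) (isFP_of_isCoh _ hD) x).mpr
    (hU x hxU)

omit [IsLocallyNoetherian X] in
/-- the abstract comparison: `F^** ≅ j_* j^* F` compatibly with the unit -/
theorem exists_iso_of_isIso (F : X.Modules) (U : X.Opens)
    (h1 : IsIso ((Scheme.Modules.restrictAdjunction U.ι).unit.app (RefHull.ddual F)))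
    (h2 : IsIso ((Scheme.Modules.restrictFunctor U.ι ⋙ Scheme.Modules.pushforward U.ι).map
      (RefHull.bidualMap F))) :
    ∃ e : RefHull.ddual F ≅ (Scheme.Modules.pushforward U.ι).obj (F.restrict U.ι),
      RefHull.bidualMap F ≫ e.hom = (Scheme.Modules.restrictAdjunction U.ι).unit.app F := by
  refine ⟨asIso ((Scheme.Modules.restrictAdjunction U.ι).unit.app (RefHull.ddual F)) ≪≫
    (asIso ((Scheme.Modules.restrictFunctor U.ι ⋙ Scheme.Modules.pushforward U.ι).map
      (RefHull.bidualMap F))).symm, ?_⟩
  have hn := (Scheme.Modules.restrictAdjunction U.ι).unit.naturality (RefHull.bidualMap F)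
  simp only [Functor.id_obj, Functor.id_map] at hn
  simp only [Iso.trans_hom, asIso_hom, Iso.symm_hom, asIso_inv]
  rw [← Category.assoc, hn, Category.assoc, IsIso.hom_inv_id, Category.comp_id]

end Groth.Agent.Lib.Helper9.FlatLocus
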