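import Mathlib
import Groth.Prelude.Def_RefHull
import Groth.Agent.Lib.Helper9.RefStalk2

/-!
# Functoriality of the dual and bidual (helper9)
-/

set_option autoImplicit false
universe u
open CategoryTheory CategoryTheory.Limits AlgebraicGeometry TopologicalSpace Opposite

namespace Groth.Agent.Lib.Helper9.RefGrp

open Groth.Agent.Lib.Helper29.QCoh Groth.Agent.Lib.Helper9.RefStalk

variable {X : Scheme.{u}}

/-- precomposition on sections of the sheaf Hom -/
noncomputable def homShPreFun {M N : X.Modules} (φ : M ⟶ N) (G : X.Modules) (U : X.Opens) :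
    Γ(RefHull.homSh N G, U) →+ Γ(RefHull.homSh M G, U) where
  toFun θ := ⟨fun x => (θ.1 x).comp (RefHull.stalkMapₗ φ x.1), fun V i m x => by
    obtain ⟨W, hW, j, n, w⟩ := RefHull.isLocSect_of_mem θ V i (φ.app V m) x
    refine ⟨W, hW, j, n, fun y => ?_⟩
    have e := w y
    rw [LinearMap.comp_apply, RefHull.stalkMapₗ_germ]
    exact e⟩
  map_zero' := Subtype.ext <| funext fun x => by
    apply LinearMap.ext
    intro v
    rfl
  map_add' s t := Subtype.ext <| funext fun x => by
    apply LinearMap.ext
    intro v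
    rfl

@[simp] theorem homShPreFun_apply {M N : X.Modules} (φ : M ⟶ N) (G : X.Modules) {U : X.Opens}
    (θ : Γ(RefHull.homSh N G, U)) (x : U) :
    (homShPreFun φ G U θ).1 x = (θ.1 x).comp (RefHull.stalkMapₗ φ x.1) := rfl

/-- precomposition `𝓗om(N, G) → 𝓗om(M, G)` with a morphism `M → N` -/
noncomputable def homShPre {M N : X.Modules} (φ : M ⟶ N) (G : X.Modules) :
    RefHull.homSh N G ⟶ RefHull.homSh M G :=
  ⟨PresheafOfModules.homMk
    { app := fun U => AddCommGrpCat.ofHom (homShPreFun φ G U.unop)
      naturality := fun {U V} i => by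
        ext s
        rfl }
    (fun U r s => Subtype.ext <| funext fun x => by
      apply LinearMap.ext
      intro v
      rfl)⟩

theorem homShPre_app_apply {M N : X.Modules} (φ : M ⟶ N) (G : X.Modules) {U : X.Opens}
    (θ : Γ(RefHull.homSh N G, U)) (x : U) :
    ((homShPre φ G).app U θ).1 x = (θ.1 x).comp (RefHull.stalkMapₗ φ x.1) := rfl

/-- the stalk of the precomposition map -/
theorem evalStalk_stalkMapₗ_homShPre {M N : X.Modules} (φ : M ⟶ N) (G : X.Modules) (x : X)
    (θ : (RefHull.homSh N G).presheaf.stalk x) :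
    RefHull.evalStalk M G x (RefHull.stalkMapₗ (homShPre φ G) x θ) =
      (RefHull.evalStalk N G x θ).comp (RefHull.stalkMapₗ φ x) := by
  obtain ⟨U, hx, s, rfl⟩ := TopCat.Presheaf.exists_germ_eq (RefHull.homSh N G).presheaf θ
  rw [RefHull.stalkMapₗ_germ, RefHull.evalStalk_germ, RefHull.evalStalk_germ]
  rfl

/-- precomposition with a stalkwise bijective map is stalkwise bijective (finitely presented
sources) -/
theorem stalkMapₗ_homShPre_bijective {M N : X.Modules} (φ : M ⟶ N) (G : X.Modules)
    (hM : CohB1.IsFP M) (hN : CohB1.IsFP N) (x : X)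
    (h : Function.Bijective (RefHull.stalkMapₗ φ x)) :
    Function.Bijective (RefHull.stalkMapₗ (homShPre φ G) x) := by
  let e := LinearEquiv.ofBijective (RefHull.stalkMapₗ φ x) h
  have h1 : ⇑(evalEquiv M G hM x) ∘ ⇑(RefHull.stalkMapₗ (homShPre φ G) x) =
      ⇑(LinearEquiv.arrowCongr e.symm (LinearEquiv.refl _ (G.presheaf.stalk x))) ∘
        ⇑(evalEquiv N G hN x) := by
    funext θ
    apply LinearMap.ext
    intro v
    change RefHull.evalStalk M G x (RefHull.stalkMapₗ (homShPre φ G) x θ) v = _
    rw [evalStalk_stalkMapₗ_homShPre]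
    rfl
  have h2 : Function.Bijective (⇑(evalEquiv M G hM x) ∘
      ⇑(RefHull.stalkMapₗ (homShPre φ G) x)) := by
    rw [h1]
    exact (LinearEquiv.bijective _).comp (LinearEquiv.bijective _)
  exact (Function.Bijective.of_comp_iff' (evalEquiv M G hM x).bijective _).mp h2

/-- the bidual of a morphism -/
noncomputable def ddualMap {M N : X.Modules} (φ : M ⟶ N) : RefHull.ddual M ⟶ RefHull.ddual N :=
  homShPre (homShPre φ (Coh.structureModule X)) (Coh.structureModule X)

variable [IsLocallyNoetherian X]

/-- the bidual of a stalkwise bijective morphism of coherent modules is stalkwise bijective -/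
theorem stalkMapₗ_ddualMap_bijective {M N : X.Modules} (φ : M ⟶ N) (hM : Coh.IsCoh M)
    (hN : Coh.IsCoh N) (x : X) (h : Function.Bijective (RefHull.stalkMapₗ φ x)) :
    Function.Bijective (RefHull.stalkMapₗ (ddualMap φ) x) := by
  have hDM : Coh.IsCoh (RefHull.dual M) := isCoh_homSh M _ hM (isCoh_unit X)
  have hDN : Coh.IsCoh (RefHull.dual N) := isCoh_homSh N _ hN (isCoh_unit X)
  exact stalkMapₗ_homShPre_bijective _ _ (isFP_of_isCoh _ hDN) (isFP_of_isCoh _ hDM) x
    (stalkMapₗ_homShPre_bijective φ _ (isFP_of_isCoh _ hM) (isFP_of_isCoh _ hN) x h)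

/-- an isomorphism of coherent modules induces an isomorphism of biduals -/
theorem nonempty_ddual_iso {M N : X.Modules} (e : M ≅ N) (hM : Coh.IsCoh M) (hN : Coh.IsCoh N) :
    Nonempty (RefHull.ddual M ≅ RefHull.ddual N) := by
  have : IsIso (ddualMap e.hom) := by
    rw [isIso_iff_stalkMap_bijective]
    intro x
    refine stalkMapₗ_ddualMap_bijective e.hom hM hN x ?_
    have h1 : IsIso e.hom := inferInstance
    rw [isIso_iff_stalkMap_bijective] at h1
    exact h1 x
  exact ⟨asIso (ddualMap e.hom)⟩

end Groth.Agent.Lib.Helper9.RefGrp
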