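import Mathlib
import Groth.Prelude.Def_RefHull
import Groth.Agent.Lib.Helper9.RefGrp1
import Groth.Agent.Lib.Helper9.FlatLocus2
import Groth.Agent.Lib.Helper9.FlatHartogs

/-!
# Morphisms of reflexive modules which are isomorphisms in codimension one (helper9)
-/

set_option autoImplicit false
universe u
open CategoryTheory CategoryTheory.Limits AlgebraicGeometry TopologicalSpace Opposite

namespace Groth.Agent.Lib.Helper9.RefGrp

open Groth.Agent.Lib.Helper29.QCoh Groth.Agent.Lib.Helper9.RefStalk
open Groth.Agent.Lib.Helper9.ReflNormal Groth.Agent.Lib.Helper9.FlatLocus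
open Groth.Agent.Lib.Helper10.Hartogs Groth.Agent.Lib.Helper17.ZClosLib
open Groth.Agent.Lib.Helper9.FlatHartogs

variable {X : Scheme.{u}} [IsLocallyNoetherian X]

/-- a coherent module with reflexive stalks on a normal scheme extends uniquely across closed
subsets of codimension at least two -/
theorem isIso_unit_of_isReflexive (hX : Pi1.IsNormalScheme X) (E : X.Modules) (hE : Coh.IsCoh E)
    (hR : ∀ x : X, Module.IsReflexive (X.presheaf.stalk x) (E.presheaf.stalk x))
    (U : X.Opens)
    (hdim : ∀ x : X, x ∉ U → (2 : WithBot ℕ∞) ≤ ringKrullDim (X.presheaf.stalk x)) :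
    IsIso ((Scheme.Modules.restrictAdjunction U.ι).unit.app E) := by
  have := hE.1
  have := hE.2
  have hdepth : ∀ x : X, x ∉ U →
      2 ≤ LocCoh.depth (X.presheaf.stalk x) (E.presheaf.stalk x) := by
    intro x hx
    have := (hX x).1
    have := (hX x).2
    have := hR x
    exact two_le_depth_of_isReflexive _ _ (hasRegSeq_two_of_normal _ (hdim x hx))
  have hb := fun V => res_bijective E U (locDepthTwo_of_stalk_depth E U hdepth) V
  exact (isIso_unit_iff_compact U E).mpr fun V _ => hb V

omit [IsLocallyNoetherian X] in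
/-- a morphism which is stalkwise bijective on `U` becomes an isomorphism after `j_* j^*` -/
theorem isIso_resPush_map {E E' : X.Modules} (χ : E ⟶ E') (U : X.Opens)
    (hU : ∀ x : X, x ∈ U → Function.Bijective (RefHull.stalkMapₗ χ x)) :
    IsIso ((Scheme.Modules.restrictFunctor U.ι ⋙ Scheme.Modules.pushforward U.ι).map χ) := by
  rw [isIso_iff_bijective_app]
  intro V
  let f : abSheaf E ⟶ abSheaf E' := ⟨χ.mapPresheaf⟩
  refine TopCat.Presheaf.app_bijective_of_stalkFunctor_map_bijective f (U.ι ''ᵁ U.ι ⁻¹ᵁ V)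
    (fun x hx => ?_)
  have hxU : x ∈ U := by
    rw [← inf_eq_image] at hx
    exact hx.2
  exact hU x hxU

/-- a morphism of coherent modules with reflexive stalks on a normal scheme which is stalkwise
bijective near every point of codimension at most one is an isomorphism -/
theorem isIso_of_codim_one (hX : Pi1.IsNormalScheme X) {E E' : X.Modules} (hE : Coh.IsCoh E)
    (hE' : Coh.IsCoh E')
    (hR : ∀ x : X, Module.IsReflexive (X.presheaf.stalk x) (E.presheaf.stalk x))
    (hR' : ∀ x : X, Module.IsReflexive (X.presheaf.stalk x) (E'.presheaf.stalk x))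
    (χ : E ⟶ E')
    (h : ∀ x : X, ringKrullDim (X.presheaf.stalk x) ≤ 1 → ∃ V : X.Opens, x ∈ V ∧
      ∀ y : X, y ∈ V → Function.Bijective (RefHull.stalkMapₗ χ y)) : IsIso χ := by
  let U : X.Opens := ⨆ V : {V : X.Opens // ∀ y : X, y ∈ V →
    Function.Bijective (RefHull.stalkMapₗ χ y)}, V.1
  have hU : ∀ x : X, x ∈ U → Function.Bijective (RefHull.stalkMapₗ χ x) := by
    intro x hx
    obtain ⟨V, hxV⟩ := Opens.mem_iSup.mp hx
    exact V.2 x hxV
  have hdim : ∀ x : X, x ∉ U → (2 : WithBot ℕ∞) ≤ ringKrullDim (X.presheaf.stalk x) := by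
    intro x hx
    apply two_le_of_not_le_one
    intro h1
    obtain ⟨V, hxV, hV⟩ := h x h1
    exact hx (Opens.mem_iSup.mpr ⟨⟨V, hV⟩, hxV⟩)
  have h1 := isIso_unit_of_isReflexive hX E hE hR U hdim
  have h2 := isIso_unit_of_isReflexive hX E' hE' hR' U hdim
  have h3 := isIso_resPush_map χ U hU
  have hn := (Scheme.Modules.restrictAdjunction U.ι).unit.naturality χ
  simp only [Functor.id_obj, Functor.id_map] at hn
  have h4 : IsIso (χ ≫ (Scheme.Modules.restrictAdjunction U.ι).unit.app E') := by
    rw [hn]
    infer_instance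
  exact IsIso.of_isIso_comp_right χ ((Scheme.Modules.restrictAdjunction U.ι).unit.app E')

end Groth.Agent.Lib.Helper9.RefGrp
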