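import Mathlib
import Groth.Prelude.Def_RefHull
import Groth.Agent.Lib.Helper9.RefGrp2
import Groth.Agent.Lib.Helper29.Dual3
import Groth.Agent.Lib.Helper29.TensorIso

/-!
# Trivialising sections, biduals and tensor products of morphisms (helper9)
-/

set_option autoImplicit false
universe u
open CategoryTheory CategoryTheory.Limits AlgebraicGeometry TopologicalSpace Opposite
open scoped TensorProduct

namespace Groth.Agent.Lib.Helper9.RefGrp

open Groth.Agent.Lib.Helper29.QCoh Groth.Agent.Lib.Helper29.QCoh.Dual
open Groth.Agent.Lib.Helper9.RefStalk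

variable {X : Scheme.{u}}

/-- a morphism carrying a trivialising section to a trivialising section is stalkwise
bijective -/
theorem stalkMapₗ_bijective_of_isTriv {M N : X.Modules} (χ : M ⟶ N) {V : X.Opens} {e : Γ(M, V)}
    (hT : IsTriv M V e) (hT' : IsTriv N V (χ.app V e)) (y : X) (hy : y ∈ V) :
    Function.Bijective (RefHull.stalkMapₗ χ y) := by
  have h1 : ⇑(RefHull.stalkMapₗ χ y) ∘ ⇑(coordEquiv hT y hy) = ⇑(coordEquiv hT' y hy) := by
    funext a
    rw [Function.comp_apply, coordEquiv_apply, coordEquiv_apply, map_smul,
      RefHull.stalkMapₗ_germ]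
  have h2 : Function.Bijective (⇑(RefHull.stalkMapₗ χ y) ∘ ⇑(coordEquiv hT y hy)) := by
    rw [h1]; exact (coordEquiv hT' y hy).bijective
  exact (Function.Bijective.of_comp_iff _ (coordEquiv hT y hy).bijective).mp h2

/-- evaluation of the biduality map -/
theorem ev_bidualMap (M : X.Modules) {V : X.Opens} (e : Γ(M, V))
    (θ : Γ(RefHull.dual M, V)) :
    ev ((RefHull.bidualMap M).app V e) θ = ev θ e := by
  apply ev_eq_of_germ
  intro x hx
  rw [RefHull.bidualMap_app_apply, RefHull.bidualAt_apply, RefHull.evalStalk_germ, germ_ev]

/-- the biduality map carries trivialising sections to trivialising sections -/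
theorem isTriv_bidualMap (M : X.Modules) {V : X.Opens} {e : Γ(M, V)} (hT : IsTriv M V e) :
    IsTriv (RefHull.ddual M) V ((RefHull.bidualMap M).app V e) := by
  have hT' := isTriv_dualGen hT
  have hT'' := isTriv_dualGen hT'
  have h1 := eq_smul_dualGen hT' le_rfl ((RefHull.bidualMap M).app V e)
  rw [res_self, res_self, ev_bidualMap, ev_dualGen hT, fromUnit_toUnit, one_smul] at h1
  rw [h1]
  exact hT''

/-- the tensor product of two morphisms -/
noncomputable def tensorMapHom {A A' B B' : X.Modules} (φ : A ⟶ A') (ψ : B ⟶ B') :
    CohB1.tensorMod A B ⟶ CohB1.tensorMod A' B' :=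
  tensorDesc
    { b := fun U m n => tmulSec A' B' (φ.app U m) (ψ.app U n)
      add_left := fun U m m' n => by
        change tensorSectionsMap A' B' U _ = tensorSectionsMap A' B' U _ +
          tensorSectionsMap A' B' U _
        rw [map_add, TensorProduct.add_tmul, map_add]
      add_right := fun U m n n' => by
        change tensorSectionsMap A' B' U _ = tensorSectionsMap A' B' U _ +
          tensorSectionsMap A' B' U _
        rw [map_add, TensorProduct.tmul_add, map_add]
      smul_left := fun U r m n => by
        change tensorSectionsMap A' B' U _ = r • tensorSectionsMap A' B' U _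
        rw [app_smul', ← TensorProduct.smul_tmul', map_smul]
      smul_right := fun U r m n => by
        change tensorSectionsMap A' B' U _ = r • tensorSectionsMap A' B' U _
        rw [app_smul', TensorProduct.tmul_smul, map_smul]
      res := fun {U V} h m n => by
        rw [res_tmulSec, app_res, app_res] }

theorem tensorMapHom_tmulSec {A A' B B' : X.Modules} (φ : A ⟶ A') (ψ : B ⟶ B') (U : X.Opens)
    (m : Γ(A, U)) (n : Γ(B, U)) :
    (tensorMapHom φ ψ).app U (tmulSec A B m n) = tmulSec A' B' (φ.app U m) (ψ.app U n) :=
  tensorDesc_tmulSec _ U m n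

end Groth.Agent.Lib.Helper9.RefGrp
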