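import Mathlib
import Groth.Prelude.Def_RefHull
import Groth.Agent.Lib.Helper9.RefGrp3

/-!
# Trivialising sections from stalkwise generation (helper9)
-/

set_option autoImplicit false
universe u
open CategoryTheory CategoryTheory.Limits AlgebraicGeometry TopologicalSpace Opposite

namespace Groth.Agent.Lib.Helper9.RefGrp

open Groth.Agent.Lib.Helper29.QCoh Groth.Agent.Lib.Helper29.QCoh.Dual

variable {X : Scheme.{u}}

/-- a section whose germs freely generate the stalks is trivialising -/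
theorem isTriv_of_stalk (M : X.Modules) {V : X.Opens} (e : Γ(M, V))
    (h : ∀ (y : X) (hy : y ∈ V), Function.Bijective
      (fun a : X.presheaf.stalk y => a • M.presheaf.germ V y hy e)) : IsTriv M V e := by
  intro W hW
  have hinj : ∀ (W : X.Opens) (hW : W ≤ V) (r r' : Γ(X, W)),
      r • res M hW e = r' • res M hW e → r = r' := by
    intro W hW r r' hrr'
    refine TopCat.Presheaf.section_ext X.sheaf W r r' fun y hy => ?_
    apply (h y (hW hy)).1
    have := congrArg (M.presheaf.germ W y hy) hrr'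
    rw [germ_smul, germ_smul, germ_res] at this
    exact this
  refine ⟨fun r r' hrr' => hinj W hW r r' hrr', fun m => ?_⟩
  -- local coefficients
  have hloc : ∀ y : W, ∃ (W' : X.Opens) (_ : y.1 ∈ W') (hW' : W' ≤ W) (r : Γ(X, W')),
      r • res M (hW'.trans hW) e = res M hW' m := by
    intro y
    obtain ⟨a, ha⟩ := (h y.1 (hW y.2)).2 (M.presheaf.germ W y.1 y.2 m)
    obtain ⟨Ua, hyUa, r, rfl⟩ := TopCat.Presheaf.exists_germ_eq X.presheaf a
    have hy' : y.1 ∈ Ua ⊓ W := ⟨hyUa, y.2⟩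
    have h1 : M.presheaf.germ (Ua ⊓ W) y.1 hy'
        (X.presheaf.map (homOfLE (inf_le_left : Ua ⊓ W ≤ Ua)).op r •
          res M ((inf_le_right : Ua ⊓ W ≤ W).trans hW) e) =
        M.presheaf.germ (Ua ⊓ W) y.1 hy' (res M (inf_le_right : Ua ⊓ W ≤ W) m) := by
      rw [germ_smul, germ_res, germ_res,
        TopCat.Presheaf.germ_res_apply X.presheaf (homOfLE (inf_le_left : Ua ⊓ W ≤ Ua)) y.1 hy' r]
      exact ha
    obtain ⟨W', hyW', iU, iV, hW'⟩ := TopCat.Presheaf.germ_eq M.presheaf y.1 hy' hy' _ _ h1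
    refine ⟨W', hyW', iU.le.trans inf_le_right,
      X.presheaf.map (iU ≫ homOfLE (inf_le_left : Ua ⊓ W ≤ Ua)).op r, ?_⟩
    have h2 : res M iU.le (X.presheaf.map (homOfLE (inf_le_left : Ua ⊓ W ≤ Ua)).op r •
          res M ((inf_le_right : Ua ⊓ W ≤ W).trans hW) e) =
        res M iV.le (res M (inf_le_right : Ua ⊓ W ≤ W) m) := hW'
    rw [res_smul, res_res, res_res] at h2
    rw [← h2]
    congr 1
    exact (map_map_apply X _ _ r).symm
  choose W' hyW' hW'W r hr using hloc
  obtain ⟨s, hs⟩ := exists_gluing (unitM X) W' W hW'W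
    (fun y hy => Opens.mem_iSup.mpr ⟨⟨y, hy⟩, hyW' ⟨y, hy⟩⟩) (fun y => toUnit (r y)) (by
      intro y z
      change X.presheaf.map (homOfLE (inf_le_left : W' y ⊓ W' z ≤ W' y)).op (r y) =
        X.presheaf.map (homOfLE (inf_le_right : W' y ⊓ W' z ≤ W' z)).op (r z)
      apply hinj (W' y ⊓ W' z) ((inf_le_left.trans (hW'W y)).trans hW)
      have h1 := congrArg (res M (inf_le_left : W' y ⊓ W' z ≤ W' y)) (hr y)
      have h2 := congrArg (res M (inf_le_right : W' y ⊓ W' z ≤ W' z)) (hr z)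
      rw [res_smul, res_res, res_res] at h1 h2
      rw [h1, h2])
  refine ⟨fromUnit s, ?_⟩
  change fromUnit s • res M hW e = m
  rw [← sub_eq_zero]
  refine eq_zero_of_res_cover_eq_zero M W' hW'W
    (fun y hy => Opens.mem_iSup.mpr ⟨⟨y, hy⟩, hyW' ⟨y, hy⟩⟩) _ fun y => ?_
  rw [map_sub, res_smul, res_res, sub_eq_zero, ← hr y]
  congr 1
  exact congrArg fromUnit (hs y)

end Groth.Agent.Lib.Helper9.RefGrp
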