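import Mathlib

/-!
# Reflexive modules of rank one over a UFD are free (helper9)
-/

set_option autoImplicit false

namespace Groth.Agent.Lib.Helper9.Ref1UFD

section ideal

variable {R : Type*} [CommRing R] [IsDomain R] [UniqueFactorizationMonoid R]

/-- For a nonzero finitely generated ideal `I` of a UFD there is `d ≠ 0` with `I ≤ (d)` such that
every linear form on `I` is "multiplication by `r/d`". -/
theorem exists_gcd_form (I : Ideal R) (hfg : I.FG) (hI : I ≠ ⊥) :
    ∃ d : R, d ≠ 0 ∧ I ≤ Ideal.span {d} ∧
      ∀ φ : I →ₗ[R] R, ∃ r : R, ∀ x : I, d * φ x = r * (x : R) := by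
  classical
  let _ : StrongNormalizationMonoid R := UniqueFactorizationMonoid.strongNormalizationMonoid
  let _ : StrongNormalizedGCDMonoid R := UniqueFactorizationMonoid.toStrongNormalizedGCDMonoid R
  obtain ⟨s, rfl⟩ := hfg
  have hs : s.Nonempty := by
    rw [Finset.nonempty_iff_ne_empty]
    rintro rfl
    exact hI (by simp)
  obtain ⟨g, hg, hg1⟩ := Finset.extract_gcd (id : R → R) hs
  set d := s.gcd id with hd
  have hd0 : d ≠ 0 := by
    intro h0
    apply hI
    rw [Finset.gcd_eq_zero_iff] at h0
    rw [Ideal.span_eq_bot]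
    intro x hx
    exact h0 x hx
  have hmem : ∀ a ∈ s, a ∈ Ideal.span (s : Set R) := fun a ha => Ideal.subset_span ha
  refine ⟨d, hd0, ?_, fun φ => ?_⟩
  · rw [Ideal.span_le]
    intro a ha
    rw [SetLike.mem_coe, Ideal.mem_span_singleton]
    exact Finset.gcd_dvd (f := id) ha
  · -- a nonzero generator
    obtain ⟨a₀, ha₀, ha₀0⟩ : ∃ a₀ ∈ s, a₀ ≠ 0 := by
      by_contra hcon
      push Not at hcon
      apply hI
      rw [Ideal.span_eq_bot]
      exact hcon
    have hb₀ : g a₀ ≠ 0 := by
      intro h0
      apply ha₀0
      have := hg a₀ ha₀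
      simp only [id] at this
      rw [this, h0, mul_zero]
    let c : R → R := fun a => if h : a ∈ s then φ ⟨a, hmem a h⟩ else 0
    have hc : ∀ a (h : a ∈ s), c a = φ ⟨a, hmem a h⟩ := fun a h => dif_pos h
    -- the cross relations
    have hcross : ∀ a ∈ s, ∀ a' ∈ s, g a * c a' = g a' * c a := by
      intro a ha a' ha'
      have h1 : a • (⟨a', hmem a' ha'⟩ : Ideal.span (s : Set R)) =
          a' • (⟨a, hmem a ha⟩ : Ideal.span (s : Set R)) := by
        apply Subtype.ext
        simp [mul_comm]
      have h2 := congrArg φ h1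
      rw [map_smul, map_smul, smul_eq_mul, smul_eq_mul, ← hc a ha, ← hc a' ha'] at h2
      have e1 : a = d * g a := hg a ha
      have e2 : a' = d * g a' := hg a' ha'
      rw [e1, e2] at h2
      have h3 : d * (g a * c (d * g a')) = d * (g a' * c (d * g a)) := by
        rw [← mul_assoc, ← mul_assoc]; exact h2
      have h4 := mul_left_cancel₀ hd0 h3
      rw [← e1, ← e2] at h4
      exact h4
    -- `g a₀ ∣ c a₀`
    have hdvd : g a₀ ∣ c a₀ := by
      have h1 : g a₀ ∣ s.gcd (fun a => g a * c a₀) := by
        apply Finset.dvd_gcd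
        intro a ha
        rw [hcross a ha a₀ ha₀]
        exact dvd_mul_right _ _
      have h2 := Finset.gcd_mul_right' s g (c a₀)
      rw [hg1, one_mul] at h2
      exact (h2.dvd_iff_dvd_right).mp h1
    obtain ⟨r, hr⟩ := hdvd
    have hall : ∀ a (ha : a ∈ s), d * c a = r * a := by
      intro a ha
      have h1 : g a₀ * c a = g a₀ * (r * g a) := by
        rw [← hcross a ha a₀ ha₀, hr]; ring
      have h2 := mul_left_cancel₀ hb₀ h1
      rw [h2]
      have e1 : a = d * g a := hg a ha
      conv_rhs => rw [e1]
      ring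
    refine ⟨r, ?_⟩
    rintro ⟨x, hx⟩
    induction hx using Submodule.span_induction with
    | mem a ha =>
      have := hall a ha
      rw [hc a ha] at this
      exact this
    | zero =>
      have : (⟨0, Submodule.zero_mem _⟩ : Ideal.span (s : Set R)) = 0 := rfl
      rw [this, map_zero, mul_zero]
      simp
    | add x y hx hy ihx ihy =>
      have : (⟨x + y, Submodule.add_mem _ hx hy⟩ : Ideal.span (s : Set R)) =
          ⟨x, hx⟩ + ⟨y, hy⟩ := rfl
      rw [this, map_add, mul_add, ihx, ihy]
      simp only [Submodule.coe_add]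
      ring
    | smul t x hx ihx =>
      have : (⟨t • x, Submodule.smul_mem _ t hx⟩ : Ideal.span (s : Set R)) =
          t • ⟨x, hx⟩ := rfl
      rw [this, map_smul, smul_eq_mul, mul_left_comm, ihx]
      simp only [Submodule.coe_smul, smul_eq_mul]
      ring

/-- a nonzero finitely generated ideal of a UFD which is reflexive as a module is principal -/
theorem exists_eq_span_singleton (I : Ideal R) (hfg : I.FG) (hI : I ≠ ⊥)
    [Module.IsReflexive R I] : ∃ d : R, d ≠ 0 ∧ I = Ideal.span {d} := by
  obtain ⟨d, hd0, hle, hform⟩ := exists_gcd_form I hfg hI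
  choose r hr using hform
  obtain ⟨x₁, hx₁⟩ : ∃ x : I, x ≠ 0 := by
    by_contra hcon
    push Not at hcon
    apply hI
    rw [eq_bot_iff]
    intro x hx
    have := hcon ⟨x, hx⟩
    exact congrArg Subtype.val this
  have hx₁' : (x₁ : R) ≠ 0 := fun h => hx₁ (Subtype.ext h)
  let Ξ : Module.Dual R (Module.Dual R I) :=
    { toFun := r
      map_add' := fun φ ψ => by
        apply mul_right_cancel₀ hx₁'
        rw [← hr, add_mul, ← hr, ← hr, LinearMap.add_apply, mul_add]
      map_smul' := fun t φ => by
        apply mul_right_cancel₀ hx₁'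
        rw [← hr, smul_eq_mul, mul_assoc, ← hr, LinearMap.smul_apply, smul_eq_mul]
        simp only [RingHom.id_apply]
        ring }
  obtain ⟨x₀, hx₀⟩ := (Module.bijective_dual_eval R I).2 Ξ
  have h1 : (I.subtype : Module.Dual R I) x₀ = r I.subtype := by
    have := LinearMap.congr_fun hx₀ I.subtype
    rw [Module.Dual.eval_apply] at this
    exact this
  have h2 : r I.subtype = d := by
    apply mul_right_cancel₀ hx₁'
    rw [← hr]
    rfl
  have hdI : d ∈ I := by
    have : (x₀ : R) = d := by
      rw [← h2, ← h1]; rfl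
    rw [← this]
    exact x₀.2
  exact ⟨d, hd0, le_antisymm hle ((Ideal.span_singleton_le_iff_mem _).mpr hdI)⟩

end ideal

section module

variable {R : Type*} [CommRing R] [IsDomain R] [UniqueFactorizationMonoid R]
variable (M : Type*) [AddCommGroup M] [Module R M] [Module.Finite R M] [Module.IsReflexive R M]

/-- a finite reflexive module of rank one over a UFD is free of rank one -/
theorem nonempty_linearEquiv_of_rank_le_one [Nontrivial M] (hrank : Module.rank R M ≤ 1) :
    Nonempty (M ≃ₗ[R] R) := by
  -- a nonzero linear form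
  obtain ⟨m₁, hm₁⟩ := exists_ne (0 : M)
  have hev : Module.Dual.eval R M m₁ ≠ 0 := by
    intro h
    exact hm₁ ((Module.bijective_dual_eval R M).1 (h.trans (map_zero _).symm))
  obtain ⟨φ, hφ⟩ : ∃ φ : Module.Dual R M, φ m₁ ≠ 0 := by
    by_contra hcon
    push Not at hcon
    apply hev
    apply LinearMap.ext
    intro φ
    exact hcon φ
  -- φ is injective
  have hinj : Function.Injective φ := by
    rw [injective_iff_map_eq_zero]
    intro m hm
    by_contra hm0
    have hdep : ¬ LinearIndependent R ![m, m₁] := by
      intro hli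
      have hfr : Module.finrank R M ≤ 1 := by
        have := Cardinal.toNat_le_toNat hrank Cardinal.one_lt_aleph0
        simpa [Module.finrank] using this
      have h2 := hli.fintype_card_le_finrank
      simp only [Fintype.card_fin] at h2
      omega
    rw [Fintype.not_linearIndependent_iff] at hdep
    obtain ⟨c, hsum, i, hi⟩ := hdep
    simp only [Fin.sum_univ_two, Matrix.cons_val_zero, Matrix.cons_val_one] at hsum
    have h1 := congrArg φ hsum
    rw [map_add, map_smul, map_smul, hm, smul_zero, zero_add, map_zero, smul_eq_mul] at h1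
    have hc1 : c 1 = 0 := by
      rcases mul_eq_zero.mp h1 with h | h
      · exact h
      · exact absurd h hφ
    rw [hc1, zero_smul, add_zero] at hsum
    have hc0 : c 0 ≠ 0 := by
      intro h0
      apply hi
      fin_cases i
      · exact h0
      · exact hc1
    have htf : Module.IsTorsionFree R M := inferInstance
    have := htf.isSMulRegular (IsRegular.of_ne_zero hc0)
    exact hm0 (this (by simpa using hsum))
  -- M ≃ range φ, an ideal
  let e : M ≃ₗ[R] LinearMap.range φ := LinearEquiv.ofInjective φ hinj
  let I : Ideal R := LinearMap.range φ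
  have hIfg : I.FG := by
    have : Module.Finite R I := Module.Finite.equiv e
    exact (Module.Finite.iff_fg).mp this
  have hI0 : I ≠ ⊥ := by
    intro h
    have : φ m₁ ∈ I := LinearMap.mem_range_self φ m₁
    rw [h, Submodule.mem_bot] at this
    exact hφ this
  have : Module.IsReflexive R I := Module.equiv e
  obtain ⟨d, hd0, hId⟩ := exists_eq_span_singleton I hIfg hI0
  exact ⟨e.trans ((LinearEquiv.ofEq _ _ hId).trans
    (LinearEquiv.toSpanNonzeroSingleton R R d hd0).symm)⟩

end module

end Groth.Agent.Lib.Helper9.Ref1UFD
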