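import Mathlib
import Groth.Prelude.Def_RefHull
import Groth.Agent.Lib.Helper9.RefStalk2
import Groth.Agent.Lib.Helper9.Ref1UFD
import Groth.Agent.Lib.Helper20.RegularUFD
import Groth.Agent.Lib.Helper29.PullSect

/-!
# Rank one reflexive sheaves on regular schemes are invertible (helper9)
-/

set_option autoImplicit false
universe u
open CategoryTheory CategoryTheory.Limits AlgebraicGeometry TopologicalSpace Opposite

namespace Groth.Agent.Lib.Helper9.RefStalk
open Groth.Agent.Lib.Helper29.QCoh Groth.Agent.Lib.Helper29.QCoh.Dual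

variable {X : Scheme.{u}}

/-- the rank of a stalk of a quasi-coherent module on an integral scheme equals the rank of the
module of sections over any affine open containing the point -/
theorem rank_stalk_eq [IsIntegral X] (F : X.Modules) [F.IsQuasicoherent] {V : X.Opens}
    (hV : IsAffineOpen V) (y : X) (hy : y ∈ V) :
    Module.rank (X.presheaf.stalk y) (F.presheaf.stalk y) = Module.rank Γ(X, V) Γ(F, V) := by
  have : Nonempty ↥V := ⟨⟨y, hy⟩⟩
  have hdom : IsDomain Γ(X, V) := @IsIntegral.component_integral _ _ V ⟨⟨y, hy⟩⟩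
  let _ := stalkModule F V y hy
  let _ : Algebra Γ(X, V) (X.presheaf.stalk y) :=
    TopCat.Presheaf.algebra_section_stalk X.presheaf ⟨y, hy⟩
  have hloc := hV.isLocalization_stalk ⟨y, hy⟩
  have : IsScalarTower Γ(X, V) (X.presheaf.stalk y) (F.presheaf.stalk y) :=
    IsScalarTower.of_algebraMap_smul fun a m => rfl
  have := isLocalizedModule_germ F hV y hy
  have hp : (hV.primeIdealOf ⟨y, hy⟩).asIdeal.primeCompl ≤ nonZeroDivisors Γ(X, V) := by
    intro r hr
    apply mem_nonZeroDivisors_of_ne_zero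
    rintro rfl
    exact hr (Ideal.zero_mem _)
  rw [IsLocalization.rank_eq (X.presheaf.stalk y) _ hp]
  exact IsLocalizedModule.rank_eq _ hp (germₗ F V y hy)

theorem rank_stalk_eq_one_of_isTriv (F : X.Modules) {W : X.Opens} {e : Γ(F, W)}
    (hT : IsTriv F W e) (y : X) (hy : y ∈ W) :
    Module.rank (X.presheaf.stalk y) (F.presheaf.stalk y) = 1 := by
  have : Nontrivial (X.presheaf.stalk y) := inferInstance
  rw [← (coordEquiv hT y hy).rank_eq, Module.rank_self]

variable [IsIntegral X] [IsLocallyNoetherian X]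

omit [IsLocallyNoetherian X] in
theorem rank_stalk_eq_one (F : X.Modules) (hF : Coh.IsCoh F) (hrk : RefHull.GenInvertible F)
    (x : X) : Module.rank (X.presheaf.stalk x) (F.presheaf.stalk x) = 1 := by
  have := hF.1
  obtain ⟨U, hUd, hUinv⟩ := hrk
  obtain ⟨_, ⟨V, hV : IsAffineOpen V, rfl⟩, hxV, -⟩ :=
    X.isBasis_affineOpens.exists_subset_of_mem_open (Set.mem_univ x) isOpen_univ
  obtain ⟨y, hyU, hyV⟩ : ∃ y, y ∈ U ∧ y ∈ V := by
    obtain ⟨y, hy⟩ := hUd.inter_open_nonempty V V.2 ⟨x, hxV⟩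
    exact ⟨y, hy.2, hy.1⟩
  obtain ⟨U', e, hyU', he⟩ := exists_isTriv hUinv (⟨y, hyU⟩ : U)
  have hT := he.of_restrict U.ι
  have hy' : y ∈ U.ι ''ᵁ U' := ⟨⟨y, hyU⟩, hyU', rfl⟩
  rw [rank_stalk_eq F hV x hxV, ← rank_stalk_eq F hV y hyV]
  exact rank_stalk_eq_one_of_isTriv F hT y hy'

theorem isInvertible_of_isReflexive
    (hreg : ∀ x : X, IsRegularLocalRing (X.presheaf.stalk x)) (F : X.Modules) (hF : Coh.IsCoh F)
    (hrefl : RefHull.IsReflexive F) (hrk : RefHull.GenInvertible F) : PicF.IsInvertible F := by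
  have := hF.1
  have := hF.2
  have hfp : F.IsFinitePresentation := isFP_of_isCoh F hF
  rw [isInvertible_iff_isFinLocFreeOfRank_one, isFinLocFreeOfRank_iff_exists_affine]
  intro x
  have hrank := rank_stalk_eq_one F hF hrk x
  have := hreg x
  obtain ⟨hdom, hufd⟩ := Groth.Agent.Lib.Helper20.RegularUFD.ufd_of_isRegularLocalRing (X.presheaf.stalk x)
  have hfin := finite_stalk_of_isCoh F hF x
  have hr : Module.IsReflexive (X.presheaf.stalk x) (F.presheaf.stalk x) :=
    (isReflexive_iff_of_isCoh F hF).mp hrefl x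
  have hnt : Nontrivial (F.presheaf.stalk x) := by
    by_contra hcon
    rw [not_nontrivial_iff_subsingleton] at hcon
    rw [rank_subsingleton'] at hrank
    exact zero_ne_one hrank
  obtain ⟨e⟩ := Groth.Agent.Lib.Helper9.Ref1UFD.nonempty_linearEquiv_of_rank_le_one
    (F.presheaf.stalk x) hrank.le
  have hfree : Module.Free (X.presheaf.stalk x) (F.presheaf.stalk x) := Module.Free.of_equiv e.symm
  obtain ⟨V, n, hV, hxV, ⟨ε⟩⟩ := exists_affine_linearEquiv_of_free_stalk F x
  have : Nonempty ↥V := ⟨⟨x, hxV⟩⟩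
  have h1 : Module.rank Γ(X, V) Γ(F, V) = 1 := by
    rw [← rank_stalk_eq F hV x hxV]; exact hrank
  have h2 : Module.rank Γ(X, V) Γ(F, V) = n := by
    rw [ε.rank_eq]
    simp
  have hn : n = 1 := by
    rw [h1] at h2
    exact_mod_cast h2.symm
  subst hn
  exact ⟨V, hV, hxV, ⟨ε⟩⟩

end Groth.Agent.Lib.Helper9.RefStalk
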