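import Mathlib
import Groth.Prelude.Def_RefHull
import Groth.Agent.Lib.Helper9.RefGrp4
import Groth.Agent.Lib.Helper9.RefStalk5

/-!
# Trivialising sections of rank one reflexive modules in codimension one (helper9)
-/

set_option autoImplicit false
universe u
open CategoryTheory CategoryTheory.Limits AlgebraicGeometry TopologicalSpace Opposite

namespace Groth.Agent.Lib.Helper9.RefGrp

open Groth.Agent.Lib.Helper29.QCoh Groth.Agent.Lib.Helper29.QCoh.Dual
open Groth.Agent.Lib.Helper9.RefStalk Groth.Agent.Lib.Helper9.ReflNormal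

variable {X : Scheme.{u}}

/-- a generator of the sections over an affine open generates the stalks freely -/
theorem isTriv_of_bijective_affine (M : X.Modules) [M.IsQuasicoherent] {V : X.Opens}
    (hV : IsAffineOpen V) (e : Γ(M, V))
    (hb : Function.Bijective (fun r : Γ(X, V) => r • e)) : IsTriv M V e := by
  apply isTriv_of_stalk
  intro y hy
  let _ : Algebra Γ(X, V) (X.presheaf.stalk y) :=
    TopCat.Presheaf.algebra_section_stalk X.presheaf ⟨y, hy⟩
  have hloc : IsLocalization.AtPrime (X.presheaf.stalk y) (hV.primeIdealOf ⟨y, hy⟩).asIdeal :=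
    hV.isLocalization_stalk ⟨y, hy⟩
  have hunit : ∀ s : Γ(X, V), y ∈ X.basicOpen s → IsUnit (X.presheaf.germ V y hy s) :=
    fun s hs => isUnit_germ_of_mem_basicOpen s y hy hs
  have hzero : ∀ a : X.presheaf.stalk y, a • M.presheaf.germ V y hy e = 0 → a = 0 := by
    intro a ha
    obtain ⟨⟨c, s⟩, hcs⟩ := IsLocalization.surj (hV.primeIdealOf ⟨y, hy⟩).asIdeal.primeCompl a
    change a * X.presheaf.germ V y hy s.1 = X.presheaf.germ V y hy c at hcs
    have hs : y ∈ X.basicOpen s.1 :=
      (mem_basicOpen_iff_notMem_primeIdealOf hV y hy s.1).mpr s.2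
    have h1 : M.presheaf.germ V y hy (c • e) = 0 := by
      rw [germ_smul, ← hcs, mul_comm, mul_smul, ha, smul_zero]
    obtain ⟨r, hr, hre⟩ := (germ_eq_zero_iff M hV y hy (c • e)).mp h1
    have h2 : r * c = 0 := by
      apply hb.1
      change (r * c) • e = (0 : Γ(X, V)) • e
      rw [mul_smul, hre, zero_smul]
    have h3 : X.presheaf.germ V y hy c = 0 := by
      have := congrArg (X.presheaf.germ V y hy) h2
      rw [map_mul, map_zero] at this
      exact (hunit r hr).mul_right_eq_zero.mp this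
    rw [h3] at hcs
    exact (hunit s.1 hs).mul_left_eq_zero.mp hcs
  constructor
  · intro a b hab
    have h0 : (a - b) • M.presheaf.germ V y hy e = 0 := by
      rw [sub_smul, sub_eq_zero]; exact hab
    exact sub_eq_zero.mp (hzero _ h0)
  · intro v
    obtain ⟨r, m, hr, hrm⟩ := exists_smul_germ_eq M hV y hy v
    obtain ⟨b, hbm⟩ := hb.2 m
    change b • e = m at hbm
    obtain ⟨u, hu⟩ := hunit r hr
    refine ⟨↑u⁻¹ * X.presheaf.germ V y hy b, ?_⟩
    change (↑u⁻¹ * X.presheaf.germ V y hy b) • M.presheaf.germ V y hy e = v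
    rw [mul_smul, ← germ_smul, hbm, ← hrm, ← hu, ← mul_smul, Units.inv_mul, one_smul]

variable [IsIntegral X]

/-- a coherent module whose stalk at `x` is free of rank one is trivialised near `x` -/
theorem exists_isTriv_of_rank_one [IsLocallyNoetherian X] (F : X.Modules) (hF : Coh.IsCoh F)
    (x : X) (hfree : Module.Free (X.presheaf.stalk x) (F.presheaf.stalk x))
    (hrank : Module.rank (X.presheaf.stalk x) (F.presheaf.stalk x) = 1) :
    ∃ (V : X.Opens) (e : Γ(F, V)), x ∈ V ∧ IsTriv F V e := by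
  have := hF.1
  have := hF.2
  have hfp : F.IsFinitePresentation := isFP_of_isCoh F hF
  obtain ⟨V, n, hV, hxV, ⟨ε⟩⟩ := exists_affine_linearEquiv_of_free_stalk F x
  have : Nonempty ↥V := ⟨⟨x, hxV⟩⟩
  have h1 : Module.rank Γ(X, V) Γ(F, V) = 1 := by
    rw [← rank_stalk_eq F hV x hxV]; exact hrank
  have h2 : Module.rank Γ(X, V) Γ(F, V) = n := by
    rw [ε.rank_eq]
    simp
  have hn : n = 1 := by
    rw [h1] at h2
    exact_mod_cast h2.symm
  subst hn
  let ε' : Γ(F, V) ≃ₗ[Γ(X, V)] Γ(X, V) :=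
    ε ≪≫ₗ Finsupp.uniqueLinearEquiv Γ(X, V) (M := Γ(X, V)) (0 : Fin 1)
  refine ⟨V, ε'.symm 1, hxV, isTriv_of_bijective_affine F hV _ ?_⟩
  have : (fun r : Γ(X, V) => r • ε'.symm 1) = ⇑ε'.symm := by
    funext r
    rw [← map_smul, smul_eq_mul, mul_one]
  rw [this]
  exact ε'.symm.bijective

/-- a rank one coherent reflexive module on a normal scheme is trivialised near every point of
codimension at most one -/
theorem exists_isTriv_of_isRef1 [IsLocallyNoetherian X] (hX : Pi1.IsNormalScheme X)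
    (F : X.Modules) (hF : RefHull.IsRef1 F) (x : X)
    (hx : ringKrullDim (X.presheaf.stalk x) ≤ 1) :
    ∃ (V : X.Opens) (e : Γ(F, V)), x ∈ V ∧ IsTriv F V e := by
  obtain ⟨hcoh, hrefl, hrk⟩ := hF
  have := (hX x).2
  have hfin := finite_stalk_of_isCoh F hcoh x
  have hr : Module.IsReflexive (X.presheaf.stalk x) (F.presheaf.stalk x) :=
    (isReflexive_iff_of_isCoh F hcoh).mp hrefl x
  have hnot : ¬ (2 : WithBot ℕ∞) ≤ ringKrullDim (X.presheaf.stalk x) := by
    intro h2
    have h3 : ((2 : ℕ∞) : WithBot ℕ∞) ≤ ((1 : ℕ∞) : WithBot ℕ∞) := h2.trans hx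
    rw [WithBot.coe_le_coe] at h3
    have h4 : ((2 : ℕ) : ℕ∞) ≤ ((1 : ℕ) : ℕ∞) := h3
    rw [Nat.cast_le] at h4
    omega
  have hfree := free_of_isTorsionFree_of_normal (X.presheaf.stalk x) hnot (F.presheaf.stalk x)
  exact exists_isTriv_of_rank_one F hcoh x hfree (rank_stalk_eq_one F hcoh hrk x)

end Groth.Agent.Lib.Helper9.RefGrp
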