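import Mathlib

/-!
# Reflexivity and localization (helper9)

For a finite module `M` over a Noetherian ring `R`, a submonoid `S`, the localization `M'` of `M` over
`Rₛ = S⁻¹R` is reflexive iff the kernel and cokernel of `ev : M → M**` are killed by localizing at `S`,
in elementwise form (`isReflexive_iff`).
-/

set_option autoImplicit false

open IsLocalizedModule

namespace Groth.Agent.Lib.Helper9.LocRefl

variable {R : Type*} [CommRing R] (S : Submonoid R)
variable (Rₛ : Type*) [CommRing Rₛ] [Algebra R Rₛ] [IsLocalization S Rₛ]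
variable {M M' : Type*} [AddCommGroup M] [Module R M] [AddCommGroup M'] [Module R M'] [Module Rₛ M']
  [IsScalarTower R Rₛ M'] (f : M →ₗ[R] M') [IsLocalizedModule S f]

/-- localization of the dual -/
noncomputable def D1 : Module.Dual R M →ₗ[R] Module.Dual Rₛ M' :=
  mapExtendScalars S f (Algebra.linearMap R Rₛ) Rₛ

theorem D1_apply (φ : Module.Dual R M) (m : M) : D1 S Rₛ f φ (f m) = algebraMap R Rₛ (φ m) := by
  unfold D1
  rw [mapExtendScalars_apply_apply, map_apply]
  rfl

instance [Module.FinitePresentation R M] : IsLocalizedModule S (D1 S Rₛ f) := by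
  unfold D1
  infer_instance

/-- localization of the double dual -/
noncomputable def D2 [Module.FinitePresentation R M] : Module.Dual R (Module.Dual R M) →ₗ[R] Module.Dual Rₛ (Module.Dual Rₛ M') :=
  mapExtendScalars S (D1 S Rₛ f) (Algebra.linearMap R Rₛ) Rₛ

theorem D2_apply [Module.FinitePresentation R M] (α : Module.Dual R (Module.Dual R M))
    (φ : Module.Dual R M) :
    D2 S Rₛ f α (D1 S Rₛ f φ) = algebraMap R Rₛ (α φ) := by
  unfold D2
  rw [mapExtendScalars_apply_apply, map_apply]
  rfl

instance [Module.FinitePresentation R M] [Module.FinitePresentation R (Module.Dual R M)] :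
    IsLocalizedModule S (D2 S Rₛ f) := by
  unfold D2
  infer_instance

/-- the key identity: the localization of `ev_M` is `ev_{M'}` -/
theorem D2_eval [Module.FinitePresentation R M] (m : M) :
    D2 S Rₛ f (Module.Dual.eval R M m) = Module.Dual.eval Rₛ M' (f m) := by
  apply LinearMap.restrictScalars_injective R
  apply IsLocalizedModule.linearMap_ext S (D1 S Rₛ f) (Algebra.linearMap R Rₛ)
  ext φ
  simp only [LinearMap.coe_comp, LinearMap.coe_restrictScalars, Function.comp_apply,
    Module.Dual.eval_apply]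
  rw [D2_apply, D1_apply, Module.Dual.eval_apply]

/-- the elementwise condition: kernel and cokernel of `ev_M` die after localizing at `S` -/
def C (R : Type*) [CommRing R] (S : Submonoid R) (M : Type*) [AddCommGroup M] [Module R M] : Prop :=
  (∀ m : M, Module.Dual.eval R M m = 0 → ∃ t ∈ S, t • m = 0) ∧
    (∀ α : Module.Dual R (Module.Dual R M), ∃ s ∈ S, ∃ m : M, s • α = Module.Dual.eval R M m)

theorem C_mono {S T : Submonoid R} (h : S ≤ T) (hS : C R S M) : C R T M :=
  ⟨fun m hm => by
    obtain ⟨t, ht, e⟩ := hS.1 m hm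
    exact ⟨t, h ht, e⟩,
   fun α => by
    obtain ⟨s, hs, m, e⟩ := hS.2 α
    exact ⟨s, h hs, m, e⟩⟩

theorem C_of_isReflexive [Module.IsReflexive R M] : C R S M :=
  ⟨fun m hm => ⟨1, S.one_mem, by
      rw [one_smul]
      exact (Module.bijective_dual_eval R M).1 (hm.trans (map_zero _).symm)⟩,
   fun α => by
    obtain ⟨m, hm⟩ := (Module.bijective_dual_eval R M).2 α
    exact ⟨1, S.one_mem, m, by rw [one_smul, hm]⟩⟩

include f in
theorem isReflexive_iff [Module.FinitePresentation R M]
    [Module.FinitePresentation R (Module.Dual R M)] :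
    Module.IsReflexive Rₛ M' ↔ C R S M := by
  constructor
  · intro h
    refine ⟨fun m hm => ?_, fun α => ?_⟩
    · have h1 : Module.Dual.eval Rₛ M' (f m) = 0 := by
        rw [← D2_eval S Rₛ f, hm, map_zero]
      have h2 : f m = 0 := (Module.bijective_dual_eval Rₛ M').1 (h1.trans (map_zero _).symm)
      obtain ⟨t, ht⟩ := (IsLocalizedModule.eq_zero_iff S f).mp h2
      exact ⟨t.1, t.2, ht⟩
    · obtain ⟨q, hq⟩ := (Module.bijective_dual_eval Rₛ M').2 (D2 S Rₛ f α)
      obtain ⟨⟨m, s⟩, hms⟩ := IsLocalizedModule.surj S f q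
      have h1 : D2 S Rₛ f (s.1 • α) = D2 S Rₛ f (Module.Dual.eval R M m) := by
        rw [map_smul, D2_eval, ← hms, ← hq]
        change s.1 • Module.Dual.eval Rₛ M' q = Module.Dual.eval Rₛ M' (s.1 • q)
        rw [← algebraMap_smul Rₛ s.1 q, map_smul, algebraMap_smul]
      obtain ⟨c, hc⟩ := (IsLocalizedModule.eq_iff_exists S (D2 S Rₛ f)).mp h1
      refine ⟨c.1 * s.1, S.mul_mem c.2 s.2, c.1 • m, ?_⟩
      rw [mul_smul, map_smul]
      exact hc
  · intro hC
    refine ⟨⟨?_, ?_⟩⟩
    · rw [injective_iff_map_eq_zero]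
      intro q hq
      obtain ⟨⟨m, s⟩, hms⟩ := IsLocalizedModule.surj S f q
      have h1 : D2 S Rₛ f (Module.Dual.eval R M m) = 0 := by
        rw [D2_eval, ← hms]
        change Module.Dual.eval Rₛ M' (s.1 • q) = 0
        rw [← algebraMap_smul Rₛ s.1 q, map_smul, hq, smul_zero]
      obtain ⟨c, hc⟩ := (IsLocalizedModule.eq_zero_iff S (D2 S Rₛ f)).mp h1
      have h2 : Module.Dual.eval R M (c.1 • m) = 0 := by rw [map_smul]; exact hc
      obtain ⟨t, ht, e⟩ := hC.1 _ h2
      have h3 : f m = 0 := by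
        rw [IsLocalizedModule.eq_zero_iff S f]
        exact ⟨⟨t * c.1, S.mul_mem ht c.2⟩, by rw [Submonoid.mk_smul, mul_smul]; exact e⟩
      have h4 : s.1 • q = 0 := hms.trans h3
      have hu := IsLocalizedModule.map_units f s
      apply ((Module.End.isUnit_iff _).mp hu).1
      rw [Module.algebraMap_end_apply, Module.algebraMap_end_apply, smul_zero]
      exact h4
    · intro β
      obtain ⟨⟨α, s⟩, hαs⟩ := IsLocalizedModule.surj S (D2 S Rₛ f) β
      obtain ⟨s', hs', m, e⟩ := hC.2 α
      have hunit : IsUnit (algebraMap R Rₛ (s' * s.1)) :=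
        IsLocalization.map_units Rₛ ⟨s' * s.1, S.mul_mem hs' s.2⟩
      obtain ⟨u, hu⟩ := hunit
      refine ⟨(↑u⁻¹ : Rₛ) • f m, ?_⟩
      rw [map_smul, ← D2_eval S Rₛ f, ← e, map_smul, ← hαs]
      change (↑u⁻¹ : Rₛ) • s' • s.1 • β = β
      rw [← algebraMap_smul Rₛ s.1 β, ← algebraMap_smul Rₛ s' (_ • β), smul_smul, smul_smul,
        mul_assoc, ← map_mul, ← hu, Units.inv_mul, one_smul]

end Groth.Agent.Lib.Helper9.LocRefl
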