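import Mathlib
import Groth.Agent.Lib.Helper9.LocRefl1

/-!
# Reflexivity and localization: consequences (helper9)
-/

set_option autoImplicit false

open IsLocalizedModule TensorProduct

namespace Groth.Agent.Lib.Helper9.LocRefl

section general

variable {R : Type*} [CommRing R] [IsNoetherianRing R]
variable {M : Type*} [AddCommGroup M] [Module R M] [Module.Finite R M]

instance : Module.FinitePresentation R M := Module.finitePresentation_of_finite R M

instance finite_dual : Module.Finite R (Module.Dual R M) := Module.IsNoetherian.finite R _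

/-- localization of a reflexive finite module over a Noetherian ring is reflexive -/
theorem isReflexive_of_isLocalizedModule (S : Submonoid R)
    (Rₛ : Type*) [CommRing Rₛ] [Algebra R Rₛ] [IsLocalization S Rₛ]
    {M' : Type*} [AddCommGroup M'] [Module R M'] [Module Rₛ M']
    [IsScalarTower R Rₛ M'] (f : M →ₗ[R] M') [IsLocalizedModule S f] [Module.IsReflexive R M] :
    Module.IsReflexive Rₛ M' :=
  (isReflexive_iff S Rₛ f).mpr (C_of_isReflexive S)

/-- reflexivity of localizations is stable under generization (enlarging the submonoid) -/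
theorem isReflexive_mono {S T : Submonoid R} (hST : S ≤ T)
    (Rₛ : Type*) [CommRing Rₛ] [Algebra R Rₛ] [IsLocalization S Rₛ]
    {M' : Type*} [AddCommGroup M'] [Module R M'] [Module Rₛ M']
    [IsScalarTower R Rₛ M'] (f : M →ₗ[R] M') [IsLocalizedModule S f]
    (Rₜ : Type*) [CommRing Rₜ] [Algebra R Rₜ] [IsLocalization T Rₜ]
    {M'' : Type*} [AddCommGroup M''] [Module R M''] [Module Rₜ M'']
    [IsScalarTower R Rₜ M''] (g : M →ₗ[R] M'') [IsLocalizedModule T g]
    (h : Module.IsReflexive Rₛ M') : Module.IsReflexive Rₜ M'' :=
  (isReflexive_iff T Rₜ g).mpr (C_mono hST ((isReflexive_iff S Rₛ f).mp h))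

end general

section domain

variable {R : Type*} [CommRing R] [IsDomain R] [IsNoetherianRing R]
variable (M : Type*) [AddCommGroup M] [Module R M] [Module.Finite R M]

theorem C_nonZeroDivisors : C R (nonZeroDivisors R) M := by
  have : Module.IsReflexive (FractionRing R) (LocalizedModule (nonZeroDivisors R) M) := inferInstance
  exact (isReflexive_iff (nonZeroDivisors R) (FractionRing R)
    (LocalizedModule.mkLinearMap (nonZeroDivisors R) M)).mp this

/-- a linear form on the double dual vanishing on the image of `M` is zero -/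
theorem eq_zero_of_comp_eval_eq_zero (ζ : Module.Dual R (Module.Dual R (Module.Dual R M)))
    (h : ∀ m : M, ζ (Module.Dual.eval R M m) = 0) : ζ = 0 := by
  apply LinearMap.ext
  intro α
  obtain ⟨s, hs, m, e⟩ := (C_nonZeroDivisors M).2 α
  have h1 : s * ζ α = 0 := by
    rw [← smul_eq_mul, ← map_smul, e, h]
  rcases mul_eq_zero.mp h1 with h2 | h2
  · exact absurd h2 (nonZeroDivisors.ne_zero hs)
  · rw [h2]; rfl

/-- the dual of a finite module over a Noetherian domain is reflexive -/
theorem isReflexive_dual : Module.IsReflexive R (Module.Dual R M) := by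
  refine ⟨⟨?_, ?_⟩⟩
  · rw [injective_iff_map_eq_zero]
    intro φ hφ
    apply LinearMap.ext
    intro m
    have := LinearMap.congr_fun hφ (Module.Dual.eval R M m)
    simpa using this
  · intro Ξ
    refine ⟨Ξ ∘ₗ Module.Dual.eval R M, ?_⟩
    have hz : Ξ - Module.Dual.eval R (Module.Dual R M) (Ξ ∘ₗ Module.Dual.eval R M) = 0 := by
      apply eq_zero_of_comp_eval_eq_zero M
      intro m
      simp
    exact (sub_eq_zero.mp hz).symm

variable (N : Type*) [AddCommGroup N] [Module R N] [Module.Finite R N]

/-- `Hom(M, N)` is reflexive when `N` is (over a Noetherian domain, `M`, `N` finite). -/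
theorem isReflexive_linearMap [Module.IsReflexive R N] : Module.IsReflexive R (M →ₗ[R] N) := by
  have h1 : Module.IsReflexive R (Module.Dual R (M ⊗[R] Module.Dual R N)) :=
    isReflexive_dual (M ⊗[R] Module.Dual R N)
  let e : (M →ₗ[R] N) ≃ₗ[R] Module.Dual R (M ⊗[R] Module.Dual R N) :=
    (LinearEquiv.congrRight (Module.evalEquiv R N)).trans
      (TensorProduct.lift.equiv (RingHom.id R) M (Module.Dual R N) R)
  exact Module.equiv e.symm

end domain

end Groth.Agent.Lib.Helper9.LocRefl
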