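import Mathlib
import Groth.Prelude.Def_CAlg
import Groth.Agent.Lib.Helper18.MCMFree

/-!
# Reflexive modules over regular local rings of dimension ≤ 2 are free (helper9)
-/

set_option autoImplicit false
universe u

open RingTheory.Sequence IsLocalRing

namespace Groth.Agent.Lib.Helper9.RegRefl

section dual

variable {R : Type u} [CommRing R] (N : Type u) [AddCommGroup N] [Module R N]

theorem isSMulRegular_dual {x : R} (hx : IsSMulRegular R x) :
    IsSMulRegular (Module.Dual R N) x := by
  intro φ ψ h
  apply LinearMap.ext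
  intro n
  apply hx
  have := LinearMap.congr_fun h n
  simpa using this

theorem isSMulRegular_quot_dual {x y : R} (hx : IsSMulRegular R x)
    (hy : IsSMulRegular (QuotSMulTop x R) y) :
    IsSMulRegular (QuotSMulTop x (Module.Dual R N)) y := by
  rw [isSMulRegular_iff_right_eq_zero_of_smul]
  intro φb hφb
  obtain ⟨φ, rfl⟩ := Submodule.Quotient.mk_surjective _ φb
  rw [← Submodule.Quotient.mk_smul, Submodule.Quotient.mk_eq_zero,
    Submodule.mem_smul_pointwise_iff_exists] at hφb
  obtain ⟨ψ, -, hψ⟩ := hφb
  have hdiv : ∀ n : N, ∃ c : R, x * c = φ n := by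
    intro n
    have h1 : y * φ n = x * ψ n := by
      have := LinearMap.congr_fun hψ n
      simpa using this.symm
    have h2 : y • (Submodule.Quotient.mk (φ n) : QuotSMulTop x R) = 0 := by
      rw [← Submodule.Quotient.mk_smul, Submodule.Quotient.mk_eq_zero, smul_eq_mul, h1]
      exact Submodule.smul_mem_pointwise_smul _ x ⊤ Submodule.mem_top
    have h3 := (isSMulRegular_iff_right_eq_zero_of_smul.mp hy) _ h2
    rw [Submodule.Quotient.mk_eq_zero, Submodule.mem_smul_pointwise_iff_exists] at h3
    obtain ⟨c, -, hc⟩ := h3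
    exact ⟨c, hc⟩
  choose c hc using hdiv
  let χ : Module.Dual R N :=
    { toFun := c
      map_add' := fun a b => by
        apply hx
        change x * c (a + b) = x * (c a + c b)
        rw [mul_add, hc, hc, hc, map_add]
      map_smul' := fun r a => by
        apply hx
        change x * c (r • a) = x * (r • c a)
        rw [hc, smul_eq_mul, mul_left_comm, hc, map_smul, smul_eq_mul] }
  rw [Submodule.Quotient.mk_eq_zero, Submodule.mem_smul_pointwise_iff_exists]
  refine ⟨χ, Submodule.mem_top, ?_⟩
  apply LinearMap.ext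
  intro n
  change x * c n = φ n
  exact hc n

theorem isWeaklyRegular_dual (rs : List R) (hlen : rs.length ≤ 2) (h : IsWeaklyRegular R rs) :
    IsWeaklyRegular (Module.Dual R N) rs := by
  match rs, hlen, h with
  | [], _, _ => exact IsWeaklyRegular.nil R _
  | [x], _, h =>
    rw [isWeaklyRegular_cons_iff] at h ⊢
    exact ⟨isSMulRegular_dual N h.1, IsWeaklyRegular.nil R _⟩
  | [x, y], _, h =>
    rw [isWeaklyRegular_cons_iff] at h ⊢
    obtain ⟨h1, h2⟩ := h
    rw [isWeaklyRegular_cons_iff] at h2 ⊢
    exact ⟨isSMulRegular_dual N h1, isSMulRegular_quot_dual N h1 h2.1, IsWeaklyRegular.nil R _⟩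
  | _ :: _ :: _ :: _, hlen, _ => simp at hlen

end dual

open Groth.Agent.Lib.Helper16.Depth Groth.Agent.Lib.Helper18.CM Groth.Agent.Lib.Helper21 in
/-- a finite reflexive module over a regular local ring of dimension at most two is free -/
theorem free_of_isReflexive (R : Type u) [CommRing R] [IsRegularLocalRing R]
    (hdim : ringKrullDim R ≤ 2) (M : Type u) [AddCommGroup M] [Module R M] [Module.Finite R M]
    [Module.IsReflexive R M] : Module.Free R M := by
  obtain ⟨n, hn⟩ := exists_nat_eq_ringKrullDim (R := R)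
  have hn2 : n ≤ 2 := by
    rw [hn] at hdim
    exact_mod_cast hdim
  obtain ⟨rs, hlen, hreg, hmem⟩ := exists_isRegular_of_isRegularLocalRing R n hn
  have hw : IsWeaklyRegular (Module.Dual R (Module.Dual R M)) rs :=
    isWeaklyRegular_dual (Module.Dual R M) rs (hlen ▸ hn2) hreg.toIsWeaklyRegular
  have hd : (n : ℕ∞) ≤ LocCoh.depth R (Module.Dual R (Module.Dual R M)) :=
    (le_idealDepth_iff (I := maximalIdeal R) (M := Module.Dual R (Module.Dual R M)) n).mpr
      (Or.inr ⟨rs, hlen, hw, hmem⟩)
  have hd' : (n : ℕ∞) ≤ LocCoh.depth R M := by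
    rw [depth_congr (Module.evalEquiv R M)]
    exact hd
  apply free_of_le_depth R M
  rw [hn]
  exact_mod_cast hd'

end Groth.Agent.Lib.Helper9.RegRefl
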