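import Mathlib
import Groth.Prelude.Def_RefHull
import Groth.Agent.Lib.Helper9.RefStalk2
import Groth.Agent.Lib.Helper9.RegRefl
import Groth.Agent.Lib.Helper9.LocRefl2

/-!
# Reflexive sheaves: Hom into a reflexive sheaf; singular set on regular schemes (helper9)
-/

set_option autoImplicit false
universe u
open CategoryTheory CategoryTheory.Limits AlgebraicGeometry TopologicalSpace Opposite

namespace Groth.Agent.Lib.Helper9.RefStalk

variable {X : Scheme.{u}} [IsLocallyNoetherian X]

/-- reflexive coherent sheaves on a regular scheme are free in codimension ≤ 2 -/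
theorem three_le_dim_of_not_free
    (hreg : ∀ x : X, IsRegularLocalRing (X.presheaf.stalk x)) (F : X.Modules) (hF : Coh.IsCoh F)
    (hrefl : RefHull.IsReflexive F) (x : X)
    (hx : ¬ Module.Free (X.presheaf.stalk x) (F.presheaf.stalk x)) :
    (3 : WithBot ℕ∞) ≤ ringKrullDim (X.presheaf.stalk x) := by
  by_contra hcon
  have := hreg x
  obtain ⟨n, hn⟩ := Groth.Agent.Lib.Helper21.exists_nat_eq_ringKrullDim (R := X.presheaf.stalk x)
  rw [hn] at hcon
  have hn2 : n ≤ 2 := by
    by_contra h3
    apply hcon
    have : 3 ≤ n := by omega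
    exact_mod_cast this
  have hdim : ringKrullDim (X.presheaf.stalk x) ≤ 2 := by
    rw [hn]
    exact_mod_cast hn2
  have hfin := finite_stalk_of_isCoh F hF x
  have hr : Module.IsReflexive (X.presheaf.stalk x) (F.presheaf.stalk x) :=
    (isReflexive_iff_of_isCoh F hF).mp hrefl x
  exact hx (Groth.Agent.Lib.Helper9.RegRefl.free_of_isReflexive _ hdim _)

/-- the sheaf Hom into a reflexive coherent sheaf is reflexive (integral locally Noetherian) -/
theorem isReflexive_homSh [IsIntegral X] (F G : X.Modules) (hF : Coh.IsCoh F) (hG : Coh.IsCoh G)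
    (hGr : RefHull.IsReflexive G) : RefHull.IsReflexive (RefHull.homSh F G) := by
  rw [isReflexive_iff_of_isCoh _ (isCoh_homSh F G hF hG)]
  intro x
  have hfinF := finite_stalk_of_isCoh F hF x
  have hfinG := finite_stalk_of_isCoh G hG x
  have hr : Module.IsReflexive (X.presheaf.stalk x) (G.presheaf.stalk x) :=
    (isReflexive_iff_of_isCoh G hG).mp hGr x
  have h1 : Module.IsReflexive (X.presheaf.stalk x)
      (F.presheaf.stalk x →ₗ[X.presheaf.stalk x] G.presheaf.stalk x) :=
    Groth.Agent.Lib.Helper9.LocRefl.isReflexive_linearMap _ _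
  exact Module.equiv (evalEquiv F G (isFP_of_isCoh F hF) x).symm

end Groth.Agent.Lib.Helper9.RefStalk
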