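import Mathlib
import Groth.Prelude.Def_RefHull
import Groth.Agent.Lib.Helper9.RefGrp5
import Groth.Agent.Lib.Helper29.Twist2
import Groth.Agent.Lib.Helper9.RefStalk3

/-!
# Rank one reflexive modules: closure properties and the basic isomorphisms (helper9)
-/

set_option autoImplicit false
universe u
open CategoryTheory CategoryTheory.Limits AlgebraicGeometry TopologicalSpace Opposite

namespace Groth.Agent.Lib.Helper9.RefGrp

open Groth.Agent.Lib.Helper29.QCoh Groth.Agent.Lib.Helper29.QCoh.Dual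
open Groth.Agent.Lib.Helper9.RefStalk Groth.Agent.Lib.Helper9.ReflNormal
open Groth.Agent.Lib.Helper9.FlatLocus

variable {X : Scheme.{u}} [IsIntegral X]

theorem genInvertible_of_isTriv (M : X.Modules) {V : X.Opens} {e : Γ(M, V)}
    (hV : (V : Set X).Nonempty) (hT : IsTriv M V e) : RefHull.GenInvertible M :=
  ⟨V, V.2.dense hV, isInvertible_restrict_of_isTriv V
    (fun x hx => ⟨V, e, hx, le_rfl, hT⟩)⟩

theorem exists_isTriv_of_genInvertible (M : X.Modules) (h : RefHull.GenInvertible M) :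
    ∃ (V : X.Opens) (e : Γ(M, V)), (V : Set X).Nonempty ∧ IsTriv M V e := by
  obtain ⟨U, hUd, hUinv⟩ := h
  obtain ⟨y, hyU⟩ : ∃ y, y ∈ U := by
    obtain ⟨y, hy⟩ := hUd.inter_open_nonempty Set.univ isOpen_univ ⟨genericPoint X, trivial⟩
    exact ⟨y, hy.2⟩
  obtain ⟨U', e, hyU', he⟩ := exists_isTriv hUinv (⟨y, hyU⟩ : U)
  exact ⟨U.ι ''ᵁ U', e, ⟨y, ⟨⟨y, hyU⟩, hyU', rfl⟩⟩, he.of_restrict U.ι⟩

variable [IsLocallyNoetherian X]

omit [IsIntegral X] in
theorem isReflexive_unit : RefHull.IsReflexive (Coh.structureModule X) := by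
  rw [isReflexive_iff_of_isCoh _ (isCoh_unit X)]
  intro x
  exact Module.equiv (oEquiv x)

omit [IsIntegral X] in
/-- the bidual of a coherent module is coherent and reflexive -/
theorem isCoh_ddual (M : X.Modules) (hM : Coh.IsCoh M) : Coh.IsCoh (RefHull.ddual M) :=
  isCoh_homSh _ _ (isCoh_homSh M _ hM (isCoh_unit X)) (isCoh_unit X)

theorem isReflexive_ddual (M : X.Modules) (hM : Coh.IsCoh M) :
    RefHull.IsReflexive (RefHull.ddual M) :=
  isReflexive_homSh _ _ (isCoh_homSh M _ hM (isCoh_unit X)) (isCoh_unit X) isReflexive_unit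

omit [IsIntegral X] [IsLocallyNoetherian X] in
theorem isCoh_tensorMod (F G : X.Modules) (hF : Coh.IsCoh F) (hG : Coh.IsCoh G) :
    Coh.IsCoh (CohB1.tensorMod F G) := by
  have := hF.1
  have := hF.2
  have := hG.1
  have := hG.2
  exact ⟨inferInstance, inferInstance⟩

theorem isRef1_unit : RefHull.IsRef1 (Coh.structureModule X) :=
  ⟨isCoh_unit X, isReflexive_unit,
    genInvertible_of_isTriv _ (V := ⊤) ⟨genericPoint X, trivial⟩ (isTriv_unit (⊤ : X.Opens))⟩

theorem isRef1_dual (F : X.Modules) (hF : RefHull.IsRef1 F) : RefHull.IsRef1 (RefHull.dual F) := by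
  obtain ⟨hcoh, hrefl, hrk⟩ := hF
  obtain ⟨V, e, hV, hT⟩ := exists_isTriv_of_genInvertible F hrk
  exact ⟨isCoh_homSh F _ hcoh (isCoh_unit X),
    isReflexive_homSh F _ hcoh (isCoh_unit X) isReflexive_unit,
    genInvertible_of_isTriv _ hV (isTriv_dualGen hT)⟩

theorem isRef1_ddual_tensor (F G : X.Modules) (hF : RefHull.IsRef1 F) (hG : RefHull.IsRef1 G) :
    RefHull.IsRef1 (RefHull.ddual (CohB1.tensorMod F G)) := by
  obtain ⟨hcF, -, hrkF⟩ := hF
  obtain ⟨hcG, -, hrkG⟩ := hG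
  have := hcF.1
  have := hcG.1
  have hc := isCoh_tensorMod F G hcF hcG
  obtain ⟨V, e, hV, hT⟩ := exists_isTriv_of_genInvertible F hrkF
  obtain ⟨V', e', hV', hT'⟩ := exists_isTriv_of_genInvertible G hrkG
  have hVV' : ((V ⊓ V' : X.Opens) : Set X).Nonempty :=
    nonempty_preirreducible_inter V.2 V'.2 hV hV'
  have h1 := (hT.restrict (inf_le_left : V ⊓ V' ≤ V)).tensor
    (hT'.restrict (inf_le_right : V ⊓ V' ≤ V'))
  exact ⟨isCoh_ddual _ hc, isReflexive_ddual _ hc,
    genInvertible_of_isTriv _ hVV' (isTriv_bidualMap _ h1)⟩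

end Groth.Agent.Lib.Helper9.RefGrp
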