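import Mathlib
import Groth.Prelude.Def_Tame

/-!
# Transport of the order of vanishing along ring isomorphisms; DVRs (helper9)
-/

set_option autoImplicit false
universe u v

namespace Groth.Agent.Lib.Helper9.DivCl

section transfer

variable {R R' : Type u} {K K' : Type v} [CommRing R] [CommRing R'] [Field K] [Field K']
  [Algebra R K] [Algebra R' K']

theorem ord_ringEquiv (e : R ≃+* R') (x : R) : Ring.ord R' (e x) = Ring.ord R x := by
  unfold Ring.ord
  rw [Module.length_quotient, Module.length_quotient]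
  have h : (Ideal.span {e x} : Ideal R') = e.idealComapOrderIso.symm (Ideal.span {x}) := by
    rw [RingEquiv.idealComapOrderIso_symm_apply, Ideal.map_span, Set.image_singleton]
  rw [h, Order.coheight_orderIso]

theorem ordMonoidWithZeroHom_ringEquiv [IsDomain R] [IsDomain R'] (e : R ≃+* R') (x : R) :
    Ring.ordMonoidWithZeroHom R' (e x) = Ring.ordMonoidWithZeroHom R x := by
  by_cases hx : x = 0
  · subst hx
    rw [map_zero, map_zero, map_zero]
  · have hx' : e x ≠ 0 := fun h => hx (e.injective (by rw [h, map_zero]))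
    rw [Ring.ordMonoidWithZeroHom_eq_ord (mem_nonZeroDivisors_of_ne_zero hx),
      Ring.ordMonoidWithZeroHom_eq_ord (mem_nonZeroDivisors_of_ne_zero hx'), ord_ringEquiv]

theorem isFractionRing_of_ringEquiv [IsFractionRing R K] (e : R ≃+* R') (eK : K ≃+* K')
    (h : ∀ r, eK (algebraMap R K r) = algebraMap R' K' (e r)) : IsFractionRing R' K' := by
  have hinj : Function.Injective (algebraMap R' K') := by
    intro a b hab
    obtain ⟨a, rfl⟩ := e.surjective a
    obtain ⟨b, rfl⟩ := e.surjective b
    rw [← h, ← h] at hab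
    exact congrArg e (IsFractionRing.injective R K (eK.injective hab))
  have : FaithfulSMul R' K' := (faithfulSMul_iff_algebraMap_injective R' K').mpr hinj
  refine IsFractionRing.of_field R' K' (fun z => ?_)
  obtain ⟨x, y, _, hz⟩ := IsFractionRing.div_surjective (A := R) (eK.symm z)
  refine ⟨e x, e y, ?_⟩
  rw [← h, ← h, ← map_div₀, hz, RingEquiv.apply_symm_apply]

theorem ordFrac_ringEquiv [IsDomain R] [IsDomain R'] [IsNoetherianRing R] [Ring.KrullDimLE 1 R]
    [IsFractionRing R K] [IsNoetherianRing R'] [Ring.KrullDimLE 1 R'] [IsFractionRing R' K']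
    (e : R ≃+* R') (eK : K ≃+* K')
    (h : ∀ r, eK (algebraMap R K r) = algebraMap R' K' (e r)) (f : K) :
    Ring.ordFrac R' (eK f) = Ring.ordFrac R f := by
  obtain ⟨a, b, hb, rfl⟩ := IsFractionRing.div_surjective (A := R) f
  have hb0 : b ≠ 0 := nonZeroDivisors.ne_zero hb
  have hb0' : e b ≠ 0 := fun h0 => hb0 (e.injective (by rw [h0, map_zero]))
  rw [map_div₀, h, h, map_div₀, map_div₀]
  by_cases ha : a = 0
  · subst ha
    simp
  have ha' : e a ≠ 0 := fun h0 => ha (e.injective (by rw [h0, map_zero]))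
  rw [Ring.ordFrac_eq_ord R ha, Ring.ordFrac_eq_ord R hb0, Ring.ordFrac_eq_ord R' ha',
    Ring.ordFrac_eq_ord R' hb0', ordMonoidWithZeroHom_ringEquiv, ordMonoidWithZeroHom_ringEquiv]

theorem recZeroCoe_eq_unzeroD (w : WithZero (Multiplicative ℤ)) :
    WithZero.recZeroCoe (motive := fun _ => ℤ) 0 (fun z => Multiplicative.toAdd z) w =
      Multiplicative.toAdd (w.unzeroD 1) := by
  induction w using WithZero.recZeroCoe with
  | zero => rfl
  | coe z => rfl

/-- the prelude's `CycAlg.ordFrac` through an isomorphic presentation -/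
theorem cycOrdFrac_ringEquiv [IsDomain R] [IsDomain R'] [IsNoetherianRing R]
    [Ring.KrullDimLE 1 R]
    [IsFractionRing R K] [IsNoetherianRing R'] [Ring.KrullDimLE 1 R'] [IsFractionRing R' K']
    (e : R ≃+* R') (eK : K ≃+* K')
    (h : ∀ r, eK (algebraMap R K r) = algebraMap R' K' (e r)) (f : K) :
    CycAlg.ordFrac R' K' (eK f) = Multiplicative.toAdd ((Ring.ordFrac R f).unzeroD 1) := by
  unfold CycAlg.ordFrac
  rw [dif_pos ⟨inferInstance, inferInstance, inferInstance, inferInstance⟩,
    ordFrac_ringEquiv e eK h, recZeroCoe_eq_unzeroD]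

end transfer

section dvr

variable (S : Type u) [CommRing S] [IsLocalRing S] [IsNoetherianRing S] [IsDomain S]
  [IsIntegrallyClosed S]

theorem isDiscreteValuationRing_of_normal (h : ringKrullDim S = 1) :
    IsDiscreteValuationRing S := by
  have hK : Ring.KrullDimLE 1 S := Ring.krullDimLE_iff.mpr h.le
  have hnf : ¬ IsField S := fun hf => by
    rw [ringKrullDim_eq_zero_of_isField hf] at h
    exact zero_ne_one h
  have hDim : Ring.DimensionLEOne S := ⟨fun hp hpp => hpp.isMaximal_of_ne_bot hp⟩
  have hDR : IsDedekindRing S := { }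
  have hD : IsDedekindDomain S := { }
  exact ((IsDiscreteValuationRing.TFAE S hnf).out 0 2).mpr hD

/-- an element of the fraction field of order zero comes from a unit -/
theorem exists_isUnit_of_ordFrac_eq_one {K : Type v} [Field K] [Algebra S K] [IsFractionRing S K]
    (h : ringKrullDim S = 1) [Ring.KrullDimLE 1 S] (μ : K) (hμ : Ring.ordFrac S μ = 1) :
    ∃ u : S, IsUnit u ∧ algebraMap S K u = μ := by
  have := isDiscreteValuationRing_of_normal S h
  have h1 : μ ∈ MonoidHom.mker (Ring.ordFrac S (K := K)) := hμ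
  rw [Ring.mker_ordFrac_eq_isUnitSubmonoid] at h1
  obtain ⟨u, hu, rfl⟩ := h1
  exact ⟨u, hu, rfl⟩

end dvr

end Groth.Agent.Lib.Helper9.DivCl
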