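import Mathlib
import Groth.Prelude.Def_CAlg
import Groth.Agent.Lib.Helper16.Depth

/-!
# Generation in codimension one propagates across depth-two points (helper9)

`R` a Noetherian domain, `N` a finite torsion-free `R`-module, `s ∈ N` nonzero, `P` a prime with
`depth R_P ≥ 2`.  If `s` generates `N_q` for all primes `q < P` then `s` generates `N_P`.
-/

set_option autoImplicit false

open IsLocalRing RingTheory.Sequence Pointwise

namespace Groth.Agent.Lib.Helper9.GenAtPrime

open Groth.Agent.Lib.Helper16.Depth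

theorem generates_at_prime
    {R : Type*} [CommRing R] [IsDomain R] [IsNoetherianRing R] (P : Ideal R) [P.IsPrime]
    {A : Type*} [CommRing A] [Algebra R A] [IsLocalization.AtPrime A P] [IsLocalRing A]
    {N : Type*} [AddCommGroup N] [Module R N] [Module.Finite R N] [Module.IsTorsionFree R N]
    (s : N) (hs : s ≠ 0)
    (hreg : HasRegSeq (maximalIdeal A) A 2)
    (hq : ∀ (q : Ideal R) [q.IsPrime], q < P → ∀ n : N, ∃ t ∉ q, ∃ r : R, t • n = r • s)
    (n : N) : ∃ t ∉ P, ∃ r : R, t • n = r • s := by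
  have : IsDomain A :=
    IsLocalization.isDomain_of_le_nonZeroDivisors A (Ideal.primeCompl_le_nonZeroDivisors P)
  by_contra hcon
  push Not at hcon
  have hmemRs : ∀ m : N, m ∈ Submodule.span R {s} ↔ ∃ r : R, m = r • s := by
    intro m
    rw [Submodule.mem_span_singleton]
    exact ⟨fun ⟨r, hr⟩ => ⟨r, hr.symm⟩, fun ⟨r, hr⟩ => ⟨r, hr.symm⟩⟩
  have hnt : Nontrivial (LocalizedModule P.primeCompl (N ⧸ Submodule.span R {s})) := by
    refine ⟨⟨LocalizedModule.mkLinearMap P.primeCompl (N ⧸ Submodule.span R {s})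
      (Submodule.Quotient.mk n), 0, ?_⟩⟩
    intro h0
    obtain ⟨t, ht⟩ := (IsLocalizedModule.eq_zero_iff P.primeCompl
      (LocalizedModule.mkLinearMap P.primeCompl (N ⧸ Submodule.span R {s}))).mp h0
    rw [Submonoid.smul_def, ← Submodule.Quotient.mk_smul, Submodule.Quotient.mk_eq_zero,
      hmemRs] at ht
    obtain ⟨r, hr⟩ := ht
    exact hcon t.1 t.2 r hr
  obtain ⟨Q, hQ⟩ := associatedPrimes.nonempty (Localization.AtPrime P)
    (LocalizedModule P.primeCompl (N ⧸ Submodule.span R {s}))
  have hQ' : Q.comap (algebraMap R (Localization.AtPrime P)) ∈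
      associatedPrimes R (N ⧸ Submodule.span R {s}) := by
    have := Module.associatedPrimes.preimage_comap_associatedPrimes_eq_associatedPrimes_of_isLocalizedModule
      P.primeCompl (Localization.AtPrime P)
      (LocalizedModule.mkLinearMap P.primeCompl (N ⧸ Submodule.span R {s}))
    rw [← this] at hQ
    exact hQ
  have hQprime : Q.IsPrime := IsAssociatedPrime.isPrime hQ
  obtain ⟨hqp, cbar, hc⟩ := isAssociatedPrime_iff.mp hQ'
  obtain ⟨c, rfl⟩ := Submodule.Quotient.mk_surjective _ cbar
  have hmem : ∀ a : R, a ∈ Q.comap (algebraMap R (Localization.AtPrime P)) ↔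
      ∃ r : R, a • c = r • s := by
    intro a
    rw [hc, Submodule.mem_colon_singleton, Submodule.mem_bot, ← Submodule.Quotient.mk_smul,
      Submodule.Quotient.mk_eq_zero, hmemRs]
  have hqP : Q.comap (algebraMap R (Localization.AtPrime P)) ≤ P := by
    intro t ht
    by_contra htP
    apply hQprime.ne_top
    exact Ideal.eq_top_of_isUnit_mem _ ht
      (IsLocalization.map_units (Localization.AtPrime P) (⟨t, htP⟩ : P.primeCompl))
  have hqeq : Q.comap (algebraMap R (Localization.AtPrime P)) = P := by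
    by_contra hne
    obtain ⟨t, ht, r, hr⟩ := hq _ (lt_of_le_of_ne hqP hne) c
    exact ht ((hmem t).mpr ⟨r, hr⟩)
  rw [hqeq] at hmem
  -- the regular sequence
  obtain ⟨rs, hlen, hreg', hmemrs⟩ := hreg
  obtain ⟨x, y, rfl⟩ := List.length_eq_two.mp hlen
  rw [isWeaklyRegular_cons_iff, isWeaklyRegular_cons_iff] at hreg'
  obtain ⟨hx, hy, -⟩ := hreg'
  have hx0 : x ≠ 0 := by
    rintro rfl
    exact one_ne_zero (hx (by simp : (0 : A) • (1 : A) = (0 : A) • 0))
  have hinj : Function.Injective (algebraMap R A) :=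
    IsLocalization.injective A (Ideal.primeCompl_le_nonZeroDivisors P)
  obtain ⟨⟨x₀, u⟩, hxu⟩ := IsLocalization.mk'_surjective P.primeCompl x
  change IsLocalization.mk' A x₀ u = x at hxu
  obtain ⟨⟨y₀, v⟩, hyv⟩ := IsLocalization.mk'_surjective P.primeCompl y
  change IsLocalization.mk' A y₀ v = y at hyv
  have hx₀P : x₀ ∈ P := by
    have := hmemrs x (by simp)
    rw [← hxu] at this
    exact (IsLocalization.AtPrime.mk'_mem_maximal_iff A P x₀ u).mp this
  have hy₀P : y₀ ∈ P := by
    have := hmemrs y (by simp)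
    rw [← hyv] at this
    exact (IsLocalization.AtPrime.mk'_mem_maximal_iff A P y₀ v).mp this
  have hxu' : x * algebraMap R A u.1 = algebraMap R A x₀ := by
    rw [← hxu]; exact IsLocalization.mk'_spec A x₀ u
  have hyv' : y * algebraMap R A v.1 = algebraMap R A y₀ := by
    rw [← hyv]; exact IsLocalization.mk'_spec A y₀ v
  have hx₀0 : x₀ ≠ 0 := by
    rintro rfl
    rw [map_zero] at hxu'
    rcases mul_eq_zero.mp hxu' with h | h
    · exact hx0 h
    · exact (IsLocalization.map_units A u).ne_zero h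
  obtain ⟨a, ha⟩ := (hmem x₀).mp hx₀P
  obtain ⟨b, hb⟩ := (hmem y₀).mp hy₀P
  have hab : y₀ * a = x₀ * b := by
    have h1 : (y₀ * a - x₀ * b) • s = 0 := by
      rw [sub_smul, mul_smul, mul_smul, ← ha, ← hb, smul_comm, sub_self]
    rcases smul_eq_zero.mp h1 with h | h
    · exact sub_eq_zero.mp h
    · exact absurd h hs
  have habA : y * (algebraMap R A v.1 * algebraMap R A a) =
      x * (algebraMap R A u.1 * algebraMap R A b) := by
    rw [← mul_assoc, hyv', ← mul_assoc, hxu', ← map_mul, ← map_mul, hab]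
  have hmemx : algebraMap R A v.1 * algebraMap R A a ∈ x • (⊤ : Submodule A A) := by
    have h0 : y • (Submodule.Quotient.mk (algebraMap R A v.1 * algebraMap R A a) :
        QuotSMulTop x A) = y • 0 := by
      rw [smul_zero, ← Submodule.Quotient.mk_smul, Submodule.Quotient.mk_eq_zero, smul_eq_mul,
        habA]
      exact Submodule.smul_mem_pointwise_smul _ _ _ Submodule.mem_top
    have := hy h0
    rwa [Submodule.Quotient.mk_eq_zero] at this
  obtain ⟨a', -, ha'⟩ := (Submodule.mem_smul_pointwise_iff_exists _ _ _).mp hmemx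
  rw [smul_eq_mul] at ha'
  obtain ⟨⟨a'', w⟩, haw⟩ := IsLocalization.mk'_surjective P.primeCompl a'
  change IsLocalization.mk' A a'' w = a' at haw
  have haw' : a' * algebraMap R A w.1 = algebraMap R A a'' := by
    rw [← haw]; exact IsLocalization.mk'_spec A a'' w
  have hkey : v.1 * a * w.1 * u.1 = x₀ * a'' := by
    apply hinj
    rw [map_mul, map_mul, map_mul, map_mul, ← ha', ← hxu', ← haw']
    ring
  have hfin : (v.1 * w.1 * u.1) • c = a'' • s := by
    have h1 : x₀ • ((v.1 * w.1 * u.1) • c - a'' • s) = 0 := by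
      rw [smul_sub, smul_comm, ha, smul_smul, smul_smul, ← hkey, sub_eq_zero]
      congr 1
      ring
    rcases smul_eq_zero.mp h1 with h | h
    · exact absurd h hx₀0
    · exact sub_eq_zero.mp h
  have : v.1 * w.1 * u.1 ∈ P := (hmem _).mpr ⟨a'', hfin⟩
  exact (P.primeCompl.mul_mem (P.primeCompl.mul_mem v.2 w.2) u.2) this

end Groth.Agent.Lib.Helper9.GenAtPrime
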