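import Groth.Agent.Lib.Helper9.ReflNormal4
import Groth.Agent.Lib.Helper9.GenAtPrime
import Groth.Agent.Lib.Helper9.RefStalk5

/-!
# The zero locus of a section of a rank one reflexive sheaf has pure codimension one (helper9)
-/

set_option autoImplicit false
universe u
open CategoryTheory CategoryTheory.Limits AlgebraicGeometry TopologicalSpace Opposite IsLocalRing

namespace Groth.Agent.Lib.Helper9.RefDiv

open Groth.Agent.Lib.Helper29.QCoh Groth.Agent.Lib.Helper10.Hartogs
open Groth.Agent.Lib.Helper9.RefStalk Groth.Agent.Lib.Helper9.ReflNormal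

variable {X : Scheme.{u}} [IsIntegral X]

/-- on an integral scheme a nonzero global section of a torsion-free quasi-coherent module has
nonzero germs everywhere -/
theorem germ_ne_zero (F : X.Modules) [F.IsQuasicoherent] (hF : TorSh.IsTorsionFree F)
    (s : Γ(F, ⊤)) (hs : s ≠ 0) (y : X) : F.presheaf.germ ⊤ y trivial s ≠ 0 := by
  intro h0
  apply hs
  have hη : F.presheaf.germ ⊤ (genericPoint X) trivial s = 0 := by
    have hsp : genericPoint X ⤳ y := (genericPoint_spec X).specializes (Set.mem_univ y)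
    have := F.presheaf.germ_stalkSpecializes_apply (U := ⊤) (hy := (trivial : y ∈ (⊤ : X.Opens))) hsp s
    rw [← this, h0, map_zero]
  choose W hW hxW using fun x : X => exists_isAffineOpen_mem_and_subset (x := x) (U := ⊤) trivial
  refine eq_zero_of_res_cover_eq_zero F (fun x : X => W x) (fun x => le_top) ?_ s ?_
  · intro x _
    exact Opens.mem_iSup.mpr ⟨x, (hxW x).1⟩
  · intro x
    have : Nonempty (W x) := ⟨⟨x, (hxW x).1⟩⟩
    have hηW : genericPoint X ∈ W x :=
      ((genericPoint_spec X).specializes (Set.mem_univ x)).mem_open (W x).2 (hxW x).1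
    have h1 : F.presheaf.germ (W x) (genericPoint X) hηW (res F le_top s) = 0 := by
      rw [germ_res]; exact hη
    obtain ⟨r, hr, hrs⟩ := (germ_eq_zero_iff F (hW x) _ hηW _).mp h1
    have hr0 : r ≠ 0 := by
      rintro rfl
      rw [Scheme.basicOpen_zero] at hr
      exact hr
    have := isTorsionFree_sections F hF (hW x)
    exact (smul_eq_zero.mp hrs).resolve_left hr0

theorem le_zero_of_le_one_of_ne_one (d : WithBot ℕ∞) (h1 : d ≤ 1) (hne : d ≠ 1) : d ≤ 0 := by
  induction d using WithBot.recBotCoe with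
  | bot => exact bot_le
  | coe n =>
    induction n using ENat.recTopCoe with
    | top =>
      have h' : ((⊤ : ℕ∞) : WithBot ℕ∞) ≤ ((1 : ℕ∞) : WithBot ℕ∞) := h1
      rw [WithBot.coe_le_coe] at h'
      simp at h'
    | coe n =>
      have h' : ((n : ℕ∞) : WithBot ℕ∞) ≤ ((1 : ℕ∞) : WithBot ℕ∞) := h1
      rw [WithBot.coe_le_coe] at h'
      have hn1 : n ≤ 1 := by exact_mod_cast h'
      have hn : n ≠ 1 := by
        rintro rfl
        exact hne rfl
      have : n = 0 := by omega
      subst this
      exact le_rfl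

variable [IsLocallyNoetherian X]

/-- the locus where a nonzero section of a rank one reflexive module fails to generate has pure
codimension one (normal integral locally Noetherian schemes) -/
theorem dim_eq_one (hX : Pi1.IsNormalScheme X) (F : X.Modules) (hF : RefHull.IsRef1 F)
    (s : Γ(F, ⊤)) (hs : s ≠ 0) (z : X)
    (hz : ¬ Function.Bijective fun a : X.presheaf.stalk z => a • F.presheaf.germ ⊤ z trivial s)
    (hmax : ∀ y : X, ¬ Function.Bijective
      (fun a : X.presheaf.stalk y => a • F.presheaf.germ ⊤ y trivial s) → y ⤳ z → y = z) :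
    ringKrullDim (X.presheaf.stalk z) = 1 := by
  obtain ⟨hcoh, hrefl, hrk⟩ := hF
  have := hcoh.1
  have := hcoh.2
  have hR := (isReflexive_iff_of_isCoh F hcoh).mp hrefl
  have htf : TorSh.IsTorsionFree F := fun x => by
    have : Module.IsReflexive (X.presheaf.stalk x) (F.presheaf.stalk x) := hR x
    infer_instance
  have hgerm := germ_ne_zero F htf s hs
  have hinj : ∀ y : X, Function.Injective
      fun a : X.presheaf.stalk y => a • F.presheaf.germ ⊤ y trivial s := by
    intro y a b hab
    have := htf y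
    have h1 : (a - b) • F.presheaf.germ ⊤ y trivial s = 0 := by
      rw [sub_smul, sub_eq_zero]; exact hab
    rcases smul_eq_zero.mp h1 with h | h
    · exact sub_eq_zero.mp h
    · exact absurd h (hgerm y)
  by_contra hne
  apply hz
  refine ⟨hinj z, ?_⟩
  by_cases h2 : (2 : WithBot ℕ∞) ≤ ringKrullDim (X.presheaf.stalk z)
  · obtain ⟨_, ⟨W, hW : IsAffineOpen W, rfl⟩, hzW, -⟩ :=
      X.isBasis_affineOpens.exists_subset_of_mem_open (Set.mem_univ z) isOpen_univ
    have : Nonempty W := ⟨⟨z, hzW⟩⟩
    have : IsNoetherianRing Γ(X, W) := IsLocallyNoetherian.component_noetherian ⟨W, hW⟩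
    have : Module.Finite Γ(X, W) Γ(F, W) := module_finite_of_isFiniteType F hW
    have : Module.IsTorsionFree Γ(X, W) Γ(F, W) := isTorsionFree_sections F htf hW
    let _ : Algebra Γ(X, W) (X.presheaf.stalk z) :=
      TopCat.Presheaf.algebra_section_stalk X.presheaf ⟨z, hzW⟩
    have hloc : IsLocalization.AtPrime (X.presheaf.stalk z)
      (hW.primeIdealOf ⟨z, hzW⟩).asIdeal := hW.isLocalization_stalk ⟨z, hzW⟩
    have := (hX z).2
    have hreg := hasRegSeq_two_of_normal (X.presheaf.stalk z) h2
    have hsW0 : res F (le_top : W ≤ ⊤) s ≠ 0 := by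
      intro h0
      apply hgerm z
      rw [← germ_res F (le_top : W ≤ ⊤) z hzW s, h0, map_zero]
    have key := Groth.Agent.Lib.Helper9.GenAtPrime.generates_at_prime
      (hW.primeIdealOf ⟨z, hzW⟩).asIdeal (A := X.presheaf.stalk z)
      (res F (le_top : W ≤ ⊤) s) hsW0 hreg (by
        intro q hqprime hqlt n
        obtain ⟨y, hyW, hyq⟩ := exists_point_primeIdealOf_eq hW q
        have hyz : y ⤳ z :=
          (Groth.Agent.Lib.Helper9.ClosedPt.specializes_iff_primeIdealOf_le hW
            ⟨y, hyW⟩ ⟨z, hzW⟩).mpr (hyq ▸ hqlt.le)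
        have hne' : y ≠ z := by
          rintro rfl
          exact hqlt.ne hyq.symm
        have hby : Function.Bijective
            fun a : X.presheaf.stalk y => a • F.presheaf.germ ⊤ y trivial s := by
          by_contra hnb
          exact hne' (hmax y hnb hyz)
        obtain ⟨a, ha⟩ := hby.2 (F.presheaf.germ W y hyW n)
        change a • F.presheaf.germ ⊤ y trivial s = F.presheaf.germ W y hyW n at ha
        let _ : Algebra Γ(X, W) (X.presheaf.stalk y) :=
          TopCat.Presheaf.algebra_section_stalk X.presheaf ⟨y, hyW⟩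
        have hlocy : IsLocalization.AtPrime (X.presheaf.stalk y)
          (hW.primeIdealOf ⟨y, hyW⟩).asIdeal := hW.isLocalization_stalk ⟨y, hyW⟩
        obtain ⟨⟨r, t⟩, hrt⟩ := IsLocalization.surj (hW.primeIdealOf ⟨y, hyW⟩).asIdeal.primeCompl a
        have hrt' : a * X.presheaf.germ W y hyW t.1 = X.presheaf.germ W y hyW r := hrt
        have h1 : F.presheaf.germ W y hyW (t.1 • n - r • res F (le_top : W ≤ ⊤) s) = 0 := by
          rw [map_sub, germ_smul, germ_smul, ← ha, germ_res, smul_smul, mul_comm, hrt', sub_self]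
        obtain ⟨t', ht', ht'0⟩ := (germ_eq_zero_iff F hW y hyW _).mp h1
        refine ⟨t' * t.1, ?_, t' * r, ?_⟩
        · rw [← hyq]
          exact (hW.primeIdealOf ⟨y, hyW⟩).asIdeal.primeCompl.mul_mem
            ((mem_basicOpen_iff_notMem_primeIdealOf hW y hyW t').mp ht') t.2
        · rw [smul_sub, sub_eq_zero] at ht'0
          rw [mul_smul, mul_smul]
          exact ht'0)
    intro m
    obtain ⟨r, n, hr, hrn⟩ := exists_smul_germ_eq F hW z hzW m
    obtain ⟨t, ht, r', hr'⟩ := key n
    have hru : IsUnit (X.presheaf.germ W z hzW r) := isUnit_germ_of_mem_basicOpen r z hzW hr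
    have htu : IsUnit (X.presheaf.germ W z hzW t) := isUnit_germ_of_mem_basicOpen t z hzW
      ((mem_basicOpen_iff_notMem_primeIdealOf hW z hzW t).mpr ht)
    obtain ⟨ur, hur⟩ := hru
    obtain ⟨ut, hut⟩ := htu
    have h3 : X.presheaf.germ W z hzW t • X.presheaf.germ W z hzW r • m =
        X.presheaf.germ W z hzW r' • F.presheaf.germ ⊤ z trivial s := by
      rw [hrn, ← germ_smul, hr', germ_smul, germ_res]
    refine ⟨(↑ur⁻¹ : X.presheaf.stalk z) * ↑ut⁻¹ * X.presheaf.germ W z hzW r', ?_⟩
    change ((↑ur⁻¹ : X.presheaf.stalk z) * ↑ut⁻¹ * X.presheaf.germ W z hzW r') •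
      F.presheaf.germ ⊤ z trivial s = m
    rw [mul_smul, ← h3, ← hur, ← hut, smul_smul, smul_smul]
    have hu : (↑ur⁻¹ : X.presheaf.stalk z) * ↑ut⁻¹ * ↑ut * ↑ur = 1 := by
      rw [mul_assoc (↑ur⁻¹ : X.presheaf.stalk z) (↑ut⁻¹ : X.presheaf.stalk z)
        (↑ut : X.presheaf.stalk z), Units.inv_mul, mul_one, Units.inv_mul]
    rw [hu, one_smul]
  · have h1 := dim_le_one_of_not_two_le _ h2
    have h0 : ringKrullDim (X.presheaf.stalk z) ≤ 0 := le_zero_of_le_one_of_ne_one _ h1 hne
    have : Ring.KrullDimLE 0 (X.presheaf.stalk z) := (Ring.krullDimLE_iff).mpr h0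
    have hf : IsField (X.presheaf.stalk z) := Ring.KrullDimLE.isField_of_isDomain
    let _ := hf.toField
    have hrank := rank_stalk_eq_one F hcoh hrk z
    have hfr : Module.finrank (X.presheaf.stalk z) (F.presheaf.stalk z) = 1 :=
      Module.finrank_eq_of_rank_eq (by rw [hrank]; rfl)
    intro m
    exact (finrank_eq_one_iff_of_nonzero' _ (hgerm z)).mp hfr m

end Groth.Agent.Lib.Helper9.RefDiv
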