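import Mathlib
import Groth.Prelude.Def_RefHull
import Groth.Prelude.Def_Pi1
import Groth.Agent.Lib.Helper9.ReflNormal4
import Groth.Agent.Lib.Helper9.RefDiv1

/-!
# Sections of reflexive modules on normal schemes from generic data (helper9)
-/

set_option autoImplicit false
universe u
open CategoryTheory CategoryTheory.Limits AlgebraicGeometry TopologicalSpace Opposite

namespace Groth.Agent.Lib.Helper9.ExtGen

open Groth.Agent.Lib.Helper29.QCoh Groth.Agent.Lib.Helper10.Hartogs
open Groth.Agent.Lib.Helper9.RefStalk Groth.Agent.Lib.Helper9.ReflNormal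
open Groth.Agent.Lib.Helper9.RefDiv

variable {X : Scheme.{u}}

section sp

/-- specialization maps of stalks of a module are semilinear -/
theorem sp_smul (F : X.Modules) {y x : X} (h : y ⤳ x) (a : X.presheaf.stalk x)
    (v : F.presheaf.stalk x) :
    (F.presheaf.stalkSpecializes h).hom (a • v) =
      (X.presheaf.stalkSpecializes h).hom a • (F.presheaf.stalkSpecializes h).hom v := by
  obtain ⟨Ua, ha, r, rfl⟩ := TopCat.Presheaf.exists_germ_eq X.presheaf a
  obtain ⟨Uv, hv, m, rfl⟩ := TopCat.Presheaf.exists_germ_eq F.presheaf v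
  have hxW : x ∈ Ua ⊓ Uv := ⟨ha, hv⟩
  rw [← TopCat.Presheaf.germ_res_apply X.presheaf (homOfLE (inf_le_left : Ua ⊓ Uv ≤ Ua)) x hxW,
    ← TopCat.Presheaf.germ_res_apply F.presheaf (homOfLE (inf_le_right : Ua ⊓ Uv ≤ Uv)) x hxW,
    ← germ_smul]
  erw [F.presheaf.germ_stalkSpecializes_apply (hy := hxW) h,
    F.presheaf.germ_stalkSpecializes_apply (hy := hxW) h,
    X.presheaf.germ_stalkSpecializes_apply (hy := hxW) h]
  rw [germ_smul]

/-- specialization maps commute with the stalk maps of a morphism -/
theorem sp_stalkMapₗ {F G : X.Modules} (φ : F ⟶ G) {y x : X} (h : y ⤳ x)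
    (v : F.presheaf.stalk x) :
    (G.presheaf.stalkSpecializes h).hom (RefHull.stalkMapₗ φ x v) =
      RefHull.stalkMapₗ φ y ((F.presheaf.stalkSpecializes h).hom v) := by
  obtain ⟨Uv, hv, m, rfl⟩ := TopCat.Presheaf.exists_germ_eq F.presheaf v
  rw [RefHull.stalkMapₗ_germ]
  erw [F.presheaf.germ_stalkSpecializes_apply (hy := hv) h,
    G.presheaf.germ_stalkSpecializes_apply (hy := hv) h]
  rw [RefHull.stalkMapₗ_germ]

/-- sections of the sheaf Hom are compatible with specialization -/
theorem sp_homSh {G E : X.Modules} {V : X.Opens} (θ : Γ(RefHull.homSh G E, V)) {y x : X}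
    (h : y ⤳ x) (hx : x ∈ V) (g : G.presheaf.stalk x) :
    θ.1 ⟨y, h.mem_open V.2 hx⟩ ((G.presheaf.stalkSpecializes h).hom g) =
      (E.presheaf.stalkSpecializes h).hom (θ.1 ⟨x, hx⟩ g) := by
  obtain ⟨V', hV'V, hxV', m, rfl⟩ := G.presheaf.exists_le_germ_eq g hx
  obtain ⟨W, hxW, j, n, hW⟩ := RefHull.isLocSect_of_mem θ V' (homOfLE hV'V) m ⟨x, hxV'⟩
  have hyW : y ∈ W := h.mem_open W.2 hxW
  have e1 := hW ⟨x, hxW⟩
  have e2 := hW ⟨y, hyW⟩
  dsimp only at e1 e2
  erw [G.presheaf.germ_stalkSpecializes_apply (hy := hxV') h]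
  rw [e2, e1]
  erw [E.presheaf.germ_stalkSpecializes_apply (hy := hxW) h]

end sp

variable [IsIntegral X]

theorem genericPoint_mem {V : X.Opens} {x : X} (hx : x ∈ V) : genericPoint X ∈ V :=
  ((genericPoint_spec X).specializes (Set.mem_univ x)).mem_open V.2 hx

/-- a point of an integral scheme whose local ring is a field is the generic point -/
theorem eq_genericPoint_of_isField (x : X) (hx : IsField (X.presheaf.stalk x)) :
    x = genericPoint X := by
  by_contra hne
  have hsp : genericPoint X ⤳ x := (genericPoint_spec X).specializes (Set.mem_univ x)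
  have hnsp : ¬ x ⤳ genericPoint X := fun h => hne (h.antisymm hsp).eq
  obtain ⟨S, hS, hηS, hxS⟩ := not_specializes_iff_exists_open.mp hnsp
  obtain ⟨W, hW, hxW, -⟩ := exists_isAffineOpen_mem_and_subset (x := x) (U := ⊤) trivial
  have hηW : genericPoint X ∈ W := genericPoint_mem hxW
  obtain ⟨c, hcT, hηc⟩ := hW.exists_basicOpen_le (V := W ⊓ ⟨S, hS⟩) ⟨genericPoint X, ⟨hηW, hηS⟩⟩ hηW
  have hxc : x ∉ X.basicOpen c := fun h => hxS (hcT h).2
  rw [X.mem_basicOpen c x hxW] at hxc
  have h0 : X.presheaf.germ W x hxW c = 0 := by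
    by_contra hc0
    obtain ⟨b, hb⟩ := hx.mul_inv_cancel hc0
    exact hxc (IsUnit.of_mul_eq_one b hb)
  have hc : c = 0 := by
    apply germ_injective_of_isIntegral X x hxW
    rw [h0, map_zero]
  rw [hc, Scheme.basicOpen_zero] at hηc
  exact hηc

/-- sections of a stalkwise torsion-free quasi-coherent module inject into the generic stalk -/
theorem eq_zero_of_germ_genericPoint (F : X.Modules) [F.IsQuasicoherent]
    (hF : TorSh.IsTorsionFree F) {V : X.Opens} (hη : genericPoint X ∈ V) (s : Γ(F, V))
    (h0 : F.presheaf.germ V (genericPoint X) hη s = 0) : s = 0 := by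
  choose W hW hxW using fun x : V => exists_isAffineOpen_mem_and_subset (x := x.1) (U := V) x.2
  refine eq_zero_of_res_cover_eq_zero F (fun x : V => W x) (fun x => (hxW x).2) ?_ s ?_
  · intro x hx
    exact Opens.mem_iSup.mpr ⟨⟨x, hx⟩, (hxW ⟨x, hx⟩).1⟩
  · intro x
    have : Nonempty (W x) := ⟨⟨x.1, (hxW x).1⟩⟩
    have hηW : genericPoint X ∈ W x := genericPoint_mem (hxW x).1
    have h1 : F.presheaf.germ (W x) (genericPoint X) hηW (res F (hxW x).2 s) = 0 := by
      rw [germ_res]; exact h0
    obtain ⟨r, hr, hrs⟩ := (germ_eq_zero_iff F (hW x) _ hηW _).mp h1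
    have hr0 : r ≠ 0 := by
      rintro rfl
      rw [Scheme.basicOpen_zero] at hr
      exact hr
    have := isTorsionFree_sections F hF (hW x)
    exact (smul_eq_zero.mp hrs).resolve_left hr0

/-- for a torsion-free quasi-coherent module the specialization map to the generic stalk is
injective -/
theorem sp_injective (F : X.Modules) [F.IsQuasicoherent] (hF : TorSh.IsTorsionFree F) (x : X) :
    Function.Injective (F.presheaf.stalkSpecializes
      ((genericPoint_spec X).specializes (Set.mem_univ x))).hom := by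
  rw [injective_iff_map_eq_zero]
  intro v hv
  obtain ⟨V, hxV, m, rfl⟩ := TopCat.Presheaf.exists_germ_eq F.presheaf v
  erw [F.presheaf.germ_stalkSpecializes_apply (hy := hxV)
    ((genericPoint_spec X).specializes (Set.mem_univ x))] at hv
  rw [eq_zero_of_germ_genericPoint F hF _ m hv, map_zero]

variable [IsLocallyNoetherian X]

/-- **Sections from generic data**: on a normal integral locally Noetherian scheme, an element
of the generic stalk of a coherent module with reflexive stalks which comes from the stalk at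
every point of codimension one is the germ of a global section. -/
theorem exists_global_of_codim_one (hX : Pi1.IsNormalScheme X) (H : X.Modules)
    (hH : Coh.IsCoh H)
    (hR : ∀ x : X, Module.IsReflexive (X.presheaf.stalk x) (H.presheaf.stalk x))
    (h : H.presheaf.stalk (genericPoint X))
    (hcod : ∀ x : X, ringKrullDim (X.presheaf.stalk x) = 1 →
      h ∈ Set.range (H.presheaf.stalkSpecializes
        ((genericPoint_spec X).specializes (Set.mem_univ x))).hom) :
    ∃ s : Γ(H, ⊤), H.presheaf.germ ⊤ (genericPoint X) trivial s = h := by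
  have := hH.1
  have := hH.2
  have htf : TorSh.IsTorsionFree H := fun x => by
    have := hR x
    infer_instance
  -- the index set of local sections with generic germ `h`
  let I := {V : X.Opens // ∃ (hη : genericPoint X ∈ V) (s : Γ(H, V)),
    H.presheaf.germ V (genericPoint X) hη s = h}
  have hI : ∀ i : I, ∃ (hη : genericPoint X ∈ i.1) (s : Γ(H, i.1)),
    H.presheaf.germ i.1 (genericPoint X) hη s = h := fun i => i.2
  choose hηI sf hsf using hI
  let Vmax : X.Opens := ⨆ i : I, i.1
  obtain ⟨V0, hηV0, s0, hs0⟩ := TopCat.Presheaf.exists_germ_eq H.presheaf h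
  let i0 : I := ⟨V0, hηV0, s0, hs0⟩
  have hηmax : genericPoint X ∈ Vmax := Opens.mem_iSup.mpr ⟨i0, hηV0⟩
  obtain ⟨smax, hsmax⟩ := exists_gluing H (fun i : I => i.1) Vmax (fun i => le_iSup (fun i : I => i.1) i)
    le_rfl sf (by
      intro i j
      have hη : genericPoint X ∈ i.1 ⊓ j.1 := ⟨hηI i, hηI j⟩
      rw [← sub_eq_zero]
      apply eq_zero_of_germ_genericPoint H htf hη
      rw [map_sub, germ_res, germ_res, hsf i, hsf j, sub_self])
  have hgmax : H.presheaf.germ Vmax (genericPoint X) hηmax smax = h := by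
    rw [← germ_res H (le_iSup (fun i : I => i.1) i0) (genericPoint X) hηV0, hsmax i0]
    exact hsf i0
  -- the complement of `Vmax` has codimension at least two
  have hdim : ∀ x : X, x ∉ Vmax → (2 : WithBot ℕ∞) ≤ ringKrullDim (X.presheaf.stalk x) := by
    intro x hx
    by_contra h2
    have h1 := dim_le_one_of_not_two_le _ h2
    apply hx
    by_cases hd1 : ringKrullDim (X.presheaf.stalk x) = 1
    · obtain ⟨v, hv⟩ := hcod x hd1
      obtain ⟨V1, hxV1, t, rfl⟩ := TopCat.Presheaf.exists_germ_eq H.presheaf v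
      erw [H.presheaf.germ_stalkSpecializes_apply (hy := hxV1)
        ((genericPoint_spec X).specializes (Set.mem_univ x))] at hv
      exact Opens.mem_iSup.mpr ⟨⟨V1, genericPoint_mem hxV1, t, hv⟩, hxV1⟩
    · have h0 := le_zero_of_le_one_of_ne_one _ h1 hd1
      have := (hX x).1
      have : Ring.KrullDimLE 0 (X.presheaf.stalk x) := (Ring.krullDimLE_iff).mpr h0
      have hfield : IsField (X.presheaf.stalk x) := Ring.KrullDimLE.isField_of_isDomain
      rw [eq_genericPoint_of_isField x hfield]
      exact hηmax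
  have hb := Groth.Agent.Lib.Helper9.HartogsRel.map_bijective_of_depth H (le_top : Vmax ≤ ⊤)
    (fun x _ hx => by
      have := (hX x).1
      have := (hX x).2
      have := hR x
      exact two_le_depth_of_isReflexive _ _ (hasRegSeq_two_of_normal _ (hdim x hx)))
  obtain ⟨s, hs⟩ := hb.2 smax
  refine ⟨s, ?_⟩
  rw [← hgmax, ← hs]
  exact (H.presheaf.germ_res_apply (homOfLE (le_top : Vmax ≤ ⊤)) (genericPoint X) hηmax s).symm

end Groth.Agent.Lib.Helper9.ExtGen
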