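import Mathlib
import Groth.Prelude.Def_Tame

/-!
# Elementary properties of `CycAlg.ordFrac` (helper9)
-/

set_option autoImplicit false
universe u v

namespace Groth.Agent.Lib.Helper9.OrdSec

variable (R : Type u) [CommRing R] (K : Type v) [Field K] [Algebra R K]

theorem ordFrac_mul {f g : K} (hf : f ≠ 0) (hg : g ≠ 0) :
    CycAlg.ordFrac R K (f * g) = CycAlg.ordFrac R K f + CycAlg.ordFrac R K g := by
  unfold CycAlg.ordFrac
  split_ifs with h
  · have := h.1; have := h.2.1; have := h.2.2.1; have := h.2.2.2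
    rw [map_mul]
    have h1 : Ring.ordFrac R f ≠ 0 := (map_ne_zero _).mpr hf
    have h2 : Ring.ordFrac R g ≠ 0 := (map_ne_zero _).mpr hg
    obtain ⟨a, ha⟩ := WithZero.ne_zero_iff_exists.mp h1
    obtain ⟨b, hb⟩ := WithZero.ne_zero_iff_exists.mp h2
    rw [← ha, ← hb, ← WithZero.coe_mul]
    simp only [WithZero.recZeroCoe_coe, toAdd_mul]
  · simp

theorem ordFrac_mul_unit (f : K) {u : R} (hu : IsUnit u) :
    CycAlg.ordFrac R K (f * algebraMap R K u) = CycAlg.ordFrac R K f := by
  unfold CycAlg.ordFrac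
  split_ifs with h
  · have := h.1; have := h.2.1; have := h.2.2.1; have := h.2.2.2
    have : IsDomain R := (IsFractionRing.injective R K).isDomain
    rw [map_mul, Ring.ordFrac_of_isUnit hu, mul_one]
  · rfl

end Groth.Agent.Lib.Helper9.OrdSec
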