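import Mathlib
import Groth.Prelude.Def_C1
import Groth.Prelude.Def_RefHull
import Groth.Agent.Lib.Helper9.OrdSec1
import Groth.Agent.Lib.Helper9.ExtGen1
import Groth.Agent.Lib.Helper29.Dual2
import Groth.Agent.Lib.Helper29.Twist3

/-!
# The order of a rational section of a trivialised module (helper9)
-/

set_option autoImplicit false
universe u
open CategoryTheory CategoryTheory.Limits AlgebraicGeometry TopologicalSpace Opposite

namespace Groth.Agent.Lib.Helper9.OrdSec

open Groth.Agent.Lib.Helper29.QCoh Groth.Agent.Lib.Helper29.QCoh.Dual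
open Groth.Agent.Lib.Helper9.ExtGen

variable {X : Scheme.{u}} [IsIntegral X]

theorem maximalIdeal_genericPoint :
    IsLocalRing.maximalIdeal (X.presheaf.stalk (genericPoint X)) = ⊥ := by
  let _ : Field (X.presheaf.stalk (genericPoint X)) := inferInstanceAs (Field X.functionField)
  exact IsLocalRing.isField_iff_maximalIdeal_eq.mp (Field.toIsField _)

/-- the class in the fibre at the generic point -/
noncomputable abbrev mkη (L : X.Modules) (v : L.presheaf.stalk (genericPoint X)) :
    Cyc.secFibre L (genericPoint X) := Submodule.Quotient.mk v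

theorem mkη_eq_zero_iff (L : X.Modules) (v : L.presheaf.stalk (genericPoint X)) :
    mkη L v = 0 ↔ v = 0 := by
  rw [Submodule.Quotient.mk_eq_zero, maximalIdeal_genericPoint, Submodule.bot_smul,
    Submodule.mem_bot]

/-- **Order of a rational section through a trivialisation**: if `e` trivialises `L` near `x`,
the order at `x` of the rational section `φ • e` is the order of `φ`. -/
theorem secOrdAt_eq (L : X.Modules) {V : X.Opens} {e : Γ(L, V)} (hT : IsTriv L V e) (x : X)
    (hx : x ∈ V) (h : genericPoint X ⤳ x) (φ : X.presheaf.stalk (genericPoint X)) :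
    Cyc.secOrdAt L (genericPoint X) x h
        (φ • mkη L (L.presheaf.germ V (genericPoint X) (h.mem_open V.2 hx) e)) =
      Cyc.ordAt x (genericPoint X) h (X.residue (genericPoint X) φ) := by
  have hη : genericPoint X ∈ V := h.mem_open V.2 hx
  have ht : ∃ t : L.presheaf.stalk x, Submodule.span (X.presheaf.stalk x) {t} = ⊤ :=
    ⟨L.presheaf.germ V x hx e, hT.span_germ_eq_top x hx⟩
  -- the chosen generator differs from the germ of `e` by a unit
  have h1 : Classical.choose ht ∈ Submodule.span (X.presheaf.stalk x) {L.presheaf.germ V x hx e} := by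
    rw [hT.span_germ_eq_top x hx]; trivial
  have h2 : L.presheaf.germ V x hx e ∈
      Submodule.span (X.presheaf.stalk x) {Classical.choose ht} := by
    rw [Classical.choose_spec ht]; trivial
  obtain ⟨u, hu⟩ := Submodule.mem_span_singleton.mp h1
  obtain ⟨u', hu'⟩ := Submodule.mem_span_singleton.mp h2
  have huu' : u' * u = 1 := by
    apply (coordEquiv hT x hx).injective
    rw [coordEquiv_apply, coordEquiv_apply, mul_smul, hu, hu', one_smul]
  have hunit : IsUnit u := IsUnit.of_mul_eq_one u' (by rw [mul_comm]; exact huu')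
  set spu : X.presheaf.stalk (genericPoint X) := (X.presheaf.stalkSpecializes h).hom u with hspu
  have hspunit : IsUnit spu := hunit.map (X.presheaf.stalkSpecializes h).hom
  have hsp : (L.presheaf.stalkSpecializes h).hom (Classical.choose ht) =
      spu • L.presheaf.germ V (genericPoint X) hη e := by
    rw [← hu, sp_smul]
    erw [L.presheaf.germ_stalkSpecializes_apply (hy := hx) h]
  obtain ⟨w, hw⟩ := hspunit
  have hφ : ∃ φ₀ : X.presheaf.stalk (genericPoint X),
      φ • mkη L (L.presheaf.germ V (genericPoint X) hη e) =
        φ₀ • (Submodule.Quotient.mk ((L.presheaf.stalkSpecializes h) (Classical.choose ht)) :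
          Cyc.secFibre L (genericPoint X)) := by
    refine ⟨φ * ↑w⁻¹, ?_⟩
    erw [hsp]
    rw [Submodule.Quotient.mk_smul, ← hw, ← mul_smul, mul_assoc, Units.inv_mul, mul_one]
  have hval : X.residue (genericPoint X) φ =
      X.residue (genericPoint X) (Classical.choose hφ) * X.residue (genericPoint X) spu := by
    obtain ⟨φ₀, hφ₀⟩ : ∃ φ₀, φ₀ = Classical.choose hφ := ⟨_, rfl⟩
    have h3 : φ • mkη L (L.presheaf.germ V (genericPoint X) hη e) =
        φ₀ • (Submodule.Quotient.mk ((L.presheaf.stalkSpecializes h) (Classical.choose ht)) :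
          Cyc.secFibre L (genericPoint X)) := by
      rw [hφ₀]; exact Classical.choose_spec hφ
    rw [← hφ₀]
    erw [hsp] at h3
    rw [Submodule.Quotient.mk_smul, ← mul_smul, ← sub_eq_zero, ← sub_smul,
      ← Submodule.Quotient.mk_smul] at h3
    have h4 := (mkη_eq_zero_iff L _).mp h3
    have h5 : φ - φ₀ * spu = 0 := by
      apply (coordEquiv hT (genericPoint X) hη).injective
      rw [coordEquiv_apply, coordEquiv_apply, zero_smul]
      exact h4
    rw [← map_mul, ← sub_eq_zero.mp h5]
  unfold Cyc.secOrdAt
  rw [dif_pos ht, dif_pos hφ, hval]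
  unfold Cyc.ordAt
  have h6 : X.residue (genericPoint X) spu =
      algebraMap (Cyc.LocQuot x (genericPoint X) h) (X.residueField (genericPoint X))
        (Ideal.Quotient.mk _ u) := rfl
  rw [h6, ordFrac_mul_unit _ _ _ (hunit.map (Ideal.Quotient.mk _))]

end Groth.Agent.Lib.Helper9.OrdSec
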