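import Mathlib
import Groth.Prelude.Def_RefHull
import Groth.Agent.Lib.Helper9.RefGrp6

/-!
# Rank one reflexive modules: commutativity, associativity, unit and inverse (helper9)
-/

set_option autoImplicit false
universe u
open CategoryTheory CategoryTheory.Limits AlgebraicGeometry TopologicalSpace Opposite

namespace Groth.Agent.Lib.Helper9.RefGrp

open Groth.Agent.Lib.Helper29.QCoh Groth.Agent.Lib.Helper29.QCoh.Dual
open Groth.Agent.Lib.Helper9.RefStalk Groth.Agent.Lib.Helper9.ReflNormal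
open Groth.Agent.Lib.Helper9.FlatLocus

variable {X : Scheme.{u}} [IsIntegral X] [IsLocallyNoetherian X]

omit [IsIntegral X] in
theorem nonempty_dual_iso {M N : X.Modules} (e : M ≅ N) (hM : Coh.IsCoh M) (hN : Coh.IsCoh N) :
    Nonempty (RefHull.dual M ≅ RefHull.dual N) := by
  have : IsIso (homShPre e.inv (Coh.structureModule X)) := by
    rw [isIso_iff_stalkMap_bijective]
    intro x
    refine stalkMapₗ_homShPre_bijective e.inv _ (isFP_of_isCoh _ hN) (isFP_of_isCoh _ hM) x ?_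
    have h1 : IsIso e.inv := inferInstance
    rw [isIso_iff_stalkMap_bijective] at h1
    exact h1 x
  exact ⟨asIso (homShPre e.inv _)⟩

omit [IsIntegral X] in
theorem ddual_tensor_comm (F G : X.Modules) (hF : Coh.IsCoh F) (hG : Coh.IsCoh G) :
    Nonempty (RefHull.ddual (CohB1.tensorMod F G) ≅ RefHull.ddual (CohB1.tensorMod G F)) :=
  nonempty_ddual_iso (tensorBraid F G) (isCoh_tensorMod F G hF hG) (isCoh_tensorMod G F hG hF)

omit [IsIntegral X] in
theorem ddual_unit_tensor (F : X.Modules) (hF : Coh.IsCoh F) (hr : RefHull.IsReflexive F) :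
    Nonempty (RefHull.ddual (CohB1.tensorMod (Coh.structureModule X) F) ≅ F) := by
  obtain ⟨e⟩ := nonempty_ddual_iso (tensorUnitL F) (isCoh_tensorMod _ F (isCoh_unit X) hF) hF
  have : IsIso (RefHull.bidualMap F) := hr
  exact ⟨e ≪≫ (asIso (RefHull.bidualMap F)).symm⟩

omit [IsIntegral X] in
/-- the bidual of a morphism preserving trivialisations near all points of codimension at most
one is an isomorphism -/
theorem isIso_ddualMap_of_isTriv (hX : Pi1.IsNormalScheme X) {M N : X.Modules}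
    (hM : Coh.IsCoh M) (hN : Coh.IsCoh N) (χ : M ⟶ N)
    (h : ∀ x : X, ringKrullDim (X.presheaf.stalk x) ≤ 1 → ∃ (V : X.Opens) (e : Γ(M, V)),
      x ∈ V ∧ IsTriv M V e ∧ IsTriv N V (χ.app V e)) : IsIso (ddualMap χ) := by
  refine isIso_of_codim_one hX (isCoh_ddual M hM) (isCoh_ddual N hN)
    (fun x => isReflexive_stalk_ddual (fun x => (hX x).1) M hM x)
    (fun x => isReflexive_stalk_ddual (fun x => (hX x).1) N hN x) (ddualMap χ) ?_
  intro x hx
  obtain ⟨V, e, hxV, hT, hT'⟩ := h x hx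
  exact ⟨V, hxV, fun y hy => stalkMapₗ_ddualMap_bijective χ hM hN y
    (stalkMapₗ_bijective_of_isTriv χ hT hT' y hy)⟩

theorem ddual_tensor_assoc (hX : Pi1.IsNormalScheme X) (F G H : X.Modules)
    (hF : RefHull.IsRef1 F) (hG : RefHull.IsRef1 G) (hH : RefHull.IsRef1 H) :
    Nonempty (RefHull.ddual (CohB1.tensorMod (RefHull.ddual (CohB1.tensorMod F G)) H) ≅
      RefHull.ddual (CohB1.tensorMod F (RefHull.ddual (CohB1.tensorMod G H)))) := by
  have hcF := hF.1
  have hcG := hG.1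
  have hcH := hH.1
  have hcFG := isCoh_tensorMod F G hcF hcG
  have hcGH := isCoh_tensorMod G H hcG hcH
  have hcFG' := isCoh_ddual _ hcFG
  have hcGH' := isCoh_ddual _ hcGH
  have := hcF.1
  have := hcG.1
  have := hcH.1
  have := hcFG.1
  have := hcGH.1
  have := hcFG'.1
  have := hcGH'.1
  have htriv : ∀ x : X, ringKrullDim (X.presheaf.stalk x) ≤ 1 →
      ∃ (V : X.Opens) (eF : Γ(F, V)) (eG : Γ(G, V)) (eH : Γ(H, V)), x ∈ V ∧
        IsTriv F V eF ∧ IsTriv G V eG ∧ IsTriv H V eH := by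
    intro x hx
    obtain ⟨V1, e1, hx1, hT1⟩ := exists_isTriv_of_isRef1 hX F hF x hx
    obtain ⟨V2, e2, hx2, hT2⟩ := exists_isTriv_of_isRef1 hX G hG x hx
    obtain ⟨V3, e3, hx3, hT3⟩ := exists_isTriv_of_isRef1 hX H hH x hx
    exact ⟨V1 ⊓ V2 ⊓ V3, _, _, _, ⟨⟨hx1, hx2⟩, hx3⟩,
      hT1.restrict (inf_le_left.trans inf_le_left),
      hT2.restrict (inf_le_left.trans inf_le_right), hT3.restrict inf_le_right⟩
  have ha : IsIso (ddualMap (tensorMapHom (RefHull.bidualMap (CohB1.tensorMod F G)) (𝟙 H))) :=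
    isIso_ddualMap_of_isTriv hX (isCoh_tensorMod _ _ hcFG hcH) (isCoh_tensorMod _ _ hcFG' hcH) _
      (by
        intro x hx
        obtain ⟨V, eF, eG, eH, hxV, hTF, hTG, hTH⟩ := htriv x hx
        have h1 := hTF.tensor hTG
        refine ⟨V, tmulSec _ _ (tmulSec F G eF eG) eH, hxV, h1.tensor hTH, ?_⟩
        rw [tensorMapHom_tmulSec]
        exact (isTriv_bidualMap _ h1).tensor hTH)
  have hb : IsIso (ddualMap (tensorMapHom (𝟙 F) (RefHull.bidualMap (CohB1.tensorMod G H)))) :=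
    isIso_ddualMap_of_isTriv hX (isCoh_tensorMod _ _ hcF hcGH) (isCoh_tensorMod _ _ hcF hcGH') _
      (by
        intro x hx
        obtain ⟨V, eF, eG, eH, hxV, hTF, hTG, hTH⟩ := htriv x hx
        have h1 := hTG.tensor hTH
        refine ⟨V, tmulSec _ _ eF (tmulSec G H eG eH), hxV, hTF.tensor h1, ?_⟩
        rw [tensorMapHom_tmulSec]
        exact hTF.tensor (isTriv_bidualMap _ h1))
  obtain ⟨e⟩ := nonempty_ddual_iso (tensorAssoc F G H) (isCoh_tensorMod _ _ hcFG hcH)
    (isCoh_tensorMod _ _ hcF hcGH)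
  exact ⟨(asIso (ddualMap (tensorMapHom (RefHull.bidualMap (CohB1.tensorMod F G)) (𝟙 H)))).symm ≪≫
    e ≪≫ asIso (ddualMap (tensorMapHom (𝟙 F) (RefHull.bidualMap (CohB1.tensorMod G H))))⟩

theorem ddual_dual_tensor (hX : Pi1.IsNormalScheme X) (F : X.Modules) (hF : RefHull.IsRef1 F) :
    Nonempty (RefHull.ddual (CohB1.tensorMod (RefHull.dual F) F) ≅ Coh.structureModule X) := by
  have hcF := hF.1
  have hcD : Coh.IsCoh (RefHull.dual F) := isCoh_homSh F _ hcF (isCoh_unit X)
  have := hcF.1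
  have := hcD.1
  have hev : IsIso (ddualMap (evHom F (unitM X))) :=
    isIso_ddualMap_of_isTriv hX (isCoh_tensorMod _ _ hcD hcF) (isCoh_unit X) _ (by
      intro x hx
      obtain ⟨V, e, hxV, hT⟩ := exists_isTriv_of_isRef1 hX F hF x hx
      refine ⟨V, tmulSec _ _ (dualGen hT) e, hxV, (isTriv_dualGen hT).tensor hT, ?_⟩
      rw [evHom_tmulSec, ev_dualGen]
      exact isTriv_unit V)
  have : IsIso (RefHull.bidualMap (Coh.structureModule X)) := isReflexive_unit
  exact ⟨asIso (ddualMap (evHom F (unitM X))) ≪≫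
    (asIso (RefHull.bidualMap (Coh.structureModule X))).symm⟩

end Groth.Agent.Lib.Helper9.RefGrp
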