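import Mathlib
import Groth.Prelude.Def_C1
import Groth.Prelude.Def_RefHull
import Groth.Agent.Lib.Helper9.OrdSec2
import Groth.Agent.Lib.Helper9.RefGrp7

/-!
# Additivity of the order of rational sections for the reflexive tensor product (helper9)
-/

set_option autoImplicit false
universe u
open CategoryTheory CategoryTheory.Limits AlgebraicGeometry TopologicalSpace Opposite
open scoped TensorProduct

namespace Groth.Agent.Lib.Helper9.OrdSec

open Groth.Agent.Lib.Helper29.QCoh Groth.Agent.Lib.Helper29.QCoh.Dual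
open Groth.Agent.Lib.Helper9.ExtGen Groth.Agent.Lib.Helper9.RefGrp
open Groth.Agent.Lib.Helper9.RefStalk

variable {X : Scheme.{u}}

theorem tmulSec_smul_left (A B : X.Modules) {U : X.Opens} (r : Γ(X, U)) (m : Γ(A, U))
    (n : Γ(B, U)) : tmulSec A B (r • m) n = r • tmulSec A B m n := by
  change tensorSectionsMap A B U _ = r • tensorSectionsMap A B U _
  rw [← TensorProduct.smul_tmul', map_smul]

theorem tmulSec_smul_right (A B : X.Modules) {U : X.Opens} (r : Γ(X, U)) (m : Γ(A, U))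
    (n : Γ(B, U)) : tmulSec A B m (r • n) = r • tmulSec A B m n := by
  change tensorSectionsMap A B U _ = r • tensorSectionsMap A B U _
  rw [TensorProduct.tmul_smul, map_smul]

variable [IsIntegral X]

theorem ringKrullDim_genericPoint_le_one :
    ringKrullDim (X.presheaf.stalk (genericPoint X)) ≤ 1 := by
  have hf : IsField (X.presheaf.stalk (genericPoint X)) := by
    let _ : Field (X.presheaf.stalk (genericPoint X)) := inferInstanceAs (Field X.functionField)
    exact Field.toIsField _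
  rw [ringKrullDim_eq_zero_of_isField hf]
  exact zero_le_one

theorem residue_ne_zero {φ : X.presheaf.stalk (genericPoint X)} (hφ : φ ≠ 0) :
    X.residue (genericPoint X) φ ≠ 0 := by
  intro h0
  apply hφ
  have h1 : φ ∈ IsLocalRing.maximalIdeal (X.presheaf.stalk (genericPoint X)) :=
    (IsLocalRing.residue_eq_zero_iff φ).mp h0
  rw [maximalIdeal_genericPoint] at h1
  exact h1

/-- every element of the fibre at the generic point is a multiple of the class of a
trivialising section -/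
theorem exists_eq_smul_mkη (L : X.Modules) {V : X.Opens} {e : Γ(L, V)} (hT : IsTriv L V e)
    (hη : genericPoint X ∈ V) (s : Cyc.secFibre L (genericPoint X)) :
    ∃ a : X.presheaf.stalk (genericPoint X),
      s = a • mkη L (L.presheaf.germ V (genericPoint X) hη e) := by
  obtain ⟨v, rfl⟩ := Submodule.Quotient.mk_surjective _ s
  have hv : v ∈ Submodule.span (X.presheaf.stalk (genericPoint X))
      {L.presheaf.germ V (genericPoint X) hη e} := by
    rw [hT.span_germ_eq_top _ hη]; trivial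
  obtain ⟨a, rfl⟩ := Submodule.mem_span_singleton.mp hv
  exact ⟨a, rfl⟩

theorem smul_mkη_ne_zero (L : X.Modules) {V : X.Opens} {e : Γ(L, V)} (hT : IsTriv L V e)
    (hη : genericPoint X ∈ V) {a : X.presheaf.stalk (genericPoint X)} (ha : a ≠ 0) :
    a • mkη L (L.presheaf.germ V (genericPoint X) hη e) ≠ 0 := by
  intro h0
  apply ha
  rw [← Submodule.Quotient.mk_smul] at h0
  have h1 := (mkη_eq_zero_iff L _).mp h0
  apply (coordEquiv hT (genericPoint X) hη).injective
  rw [coordEquiv_apply, coordEquiv_apply, zero_smul]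
  exact h1

/-- change of trivialisation at the generic point -/
theorem germ_eq_smul_of_isTriv (L : X.Modules) {V V' : X.Opens} {e : Γ(L, V)} {e' : Γ(L, V')}
    (hT : IsTriv L V e) (_hη : genericPoint X ∈ V) (_hη' : genericPoint X ∈ V') :
    ∃ c : Γ(X, V ⊓ V'), res L (inf_le_right : V ⊓ V' ≤ V') e' =
      c • res L (inf_le_left : V ⊓ V' ≤ V) e :=
  (hT.restrict (inf_le_left : V ⊓ V' ≤ V)).exists_eq_smul _

theorem smul_mkη_change (L : X.Modules) {V V0 : X.Opens} {e : Γ(L, V)} {e0 : Γ(L, V0)}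
    (hη : genericPoint X ∈ V) (hη0 : genericPoint X ∈ V0) (c : Γ(X, V ⊓ V0))
    (hc : res L (inf_le_right : V ⊓ V0 ≤ V0) e0 = c • res L (inf_le_left : V ⊓ V0 ≤ V) e)
    (a : X.presheaf.stalk (genericPoint X)) :
    a • mkη L (L.presheaf.germ V0 (genericPoint X) hη0 e0) =
      (a * X.presheaf.germ (V ⊓ V0) (genericPoint X) ⟨hη, hη0⟩ c) •
        mkη L (L.presheaf.germ V (genericPoint X) hη e) := by
  have h1 : L.presheaf.germ V0 (genericPoint X) hη0 e0 =
      X.presheaf.germ (V ⊓ V0) (genericPoint X) ⟨hη, hη0⟩ c •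
        L.presheaf.germ V (genericPoint X) hη e := by
    rw [← germ_res L (inf_le_right : V ⊓ V0 ≤ V0) (genericPoint X) ⟨hη, hη0⟩, hc, germ_smul,
      germ_res]
  rw [h1]
  unfold mkη
  rw [Submodule.Quotient.mk_smul, mul_smul]

theorem germ_ne_zero_of_change (L : X.Modules) {V V0 : X.Opens} {e : Γ(L, V)} {e0 : Γ(L, V0)}
    (hT0 : IsTriv L V0 e0)
    (hη : genericPoint X ∈ V) (hη0 : genericPoint X ∈ V0) (c : Γ(X, V ⊓ V0))
    (hc : res L (inf_le_right : V ⊓ V0 ≤ V0) e0 = c • res L (inf_le_left : V ⊓ V0 ≤ V) e) :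
    X.presheaf.germ (V ⊓ V0) (genericPoint X) ⟨hη, hη0⟩ c ≠ 0 := by
  intro h0
  have h1 := smul_mkη_change L hη hη0 c hc 1
  rw [h0, mul_zero, zero_smul] at h1
  exact smul_mkη_ne_zero L hT0 hη0 one_ne_zero h1

variable [IsLocallyNoetherian X]

theorem exists_section_ddual_tensor (hX : Pi1.IsNormalScheme X) (F G : X.Modules)
    (hF : RefHull.IsRef1 F) (hG : RefHull.IsRef1 G)
    (s : Cyc.secFibre F (genericPoint ↥X)) (hs : s ≠ 0)
    (t : Cyc.secFibre G (genericPoint ↥X)) (ht : t ≠ 0) :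
    ∃ w : Cyc.secFibre (RefHull.ddual (CohB1.tensorMod F G)) (genericPoint ↥X), w ≠ 0 ∧
      ∀ (x : ↥X), Order.coheight x = 1 →
        Cyc.secOrdAt (RefHull.ddual (CohB1.tensorMod F G)) (genericPoint ↥X) x
            ((genericPoint_spec ↥X).specializes (Set.mem_univ x)) w =
          Cyc.secOrdAt F (genericPoint ↥X) x
              ((genericPoint_spec ↥X).specializes (Set.mem_univ x)) s +
            Cyc.secOrdAt G (genericPoint ↥X) x
              ((genericPoint_spec ↥X).specializes (Set.mem_univ x)) t := by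
  have := hF.1.1
  have := hG.1.1
  -- trivialisations at the generic point
  obtain ⟨V1, e1, hη1, hT1⟩ := exists_isTriv_of_isRef1 hX F hF (genericPoint X)
    ringKrullDim_genericPoint_le_one
  obtain ⟨V2, e2, hη2, hT2⟩ := exists_isTriv_of_isRef1 hX G hG (genericPoint X)
    ringKrullDim_genericPoint_le_one
  have hη0 : genericPoint X ∈ V1 ⊓ V2 := ⟨hη1, hη2⟩
  have hTF0 := hT1.restrict (inf_le_left : V1 ⊓ V2 ≤ V1)
  have hTG0 := hT2.restrict (inf_le_right : V1 ⊓ V2 ≤ V2)
  have hTE0 := isTriv_bidualMap _ (hTF0.tensor hTG0)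
  obtain ⟨a, rfl⟩ := exists_eq_smul_mkη F hTF0 hη0 s
  obtain ⟨b, rfl⟩ := exists_eq_smul_mkη G hTG0 hη0 t
  have ha : a ≠ 0 := by
    rintro rfl
    exact hs (zero_smul _ _)
  have hb : b ≠ 0 := by
    rintro rfl
    exact ht (zero_smul _ _)
  refine ⟨(a * b) • mkη _ ((RefHull.ddual (CohB1.tensorMod F G)).presheaf.germ (V1 ⊓ V2)
    (genericPoint X) hη0 ((RefHull.bidualMap (CohB1.tensorMod F G)).app (V1 ⊓ V2)
      (tmulSec F G (res F inf_le_left e1) (res G inf_le_right e2)))),
    smul_mkη_ne_zero _ hTE0 hη0 (mul_ne_zero ha hb), ?_⟩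
  intro x hx
  have hsp : genericPoint X ⤳ x := (genericPoint_spec X).specializes (Set.mem_univ x)
  have hdim : ringKrullDim (X.presheaf.stalk x) ≤ 1 := by
    rw [ringKrullDim_stalk_eq_coheight x, hx]
    exact le_rfl
  obtain ⟨W1, f1, hx1, hS1⟩ := exists_isTriv_of_isRef1 hX F hF x hdim
  obtain ⟨W2, f2, hx2, hS2⟩ := exists_isTriv_of_isRef1 hX G hG x hdim
  have hxV : x ∈ W1 ⊓ W2 := ⟨hx1, hx2⟩
  have hηV : genericPoint X ∈ W1 ⊓ W2 := hsp.mem_open (W1 ⊓ W2).2 hxV
  have hTF := hS1.restrict (inf_le_left : W1 ⊓ W2 ≤ W1)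
  have hTG := hS2.restrict (inf_le_right : W1 ⊓ W2 ≤ W2)
  have hTE := isTriv_bidualMap _ (hTF.tensor hTG)
  obtain ⟨cF, hcF⟩ := germ_eq_smul_of_isTriv F (e' := res F inf_le_left e1) hTF hηV hη0
  obtain ⟨cG, hcG⟩ := germ_eq_smul_of_isTriv G (e' := res G inf_le_right e2) hTG hηV hη0
  have hcE : res (RefHull.ddual (CohB1.tensorMod F G))
      (inf_le_right : (W1 ⊓ W2) ⊓ (V1 ⊓ V2) ≤ V1 ⊓ V2)
      ((RefHull.bidualMap (CohB1.tensorMod F G)).app (V1 ⊓ V2)
        (tmulSec F G (res F inf_le_left e1) (res G inf_le_right e2))) =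
      (cF * cG) • res (RefHull.ddual (CohB1.tensorMod F G))
        (inf_le_left : (W1 ⊓ W2) ⊓ (V1 ⊓ V2) ≤ W1 ⊓ W2)
        ((RefHull.bidualMap (CohB1.tensorMod F G)).app (W1 ⊓ W2)
          (tmulSec F G (res F inf_le_left f1) (res G inf_le_right f2))) := by
    rw [← app_res, ← app_res, res_tmulSec, res_tmulSec, hcF, hcG, tmulSec_smul_left,
      tmulSec_smul_right, app_smul', app_smul', mul_smul]
  have hcFne := germ_ne_zero_of_change F hTF0 hηV hη0 cF hcF
  have hcGne := germ_ne_zero_of_change G hTG0 hηV hη0 cG hcG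
  rw [smul_mkη_change F hηV hη0 cF hcF a, smul_mkη_change G hηV hη0 cG hcG b,
    smul_mkη_change _ hηV hη0 (cF * cG) hcE (a * b),
    secOrdAt_eq F hTF x hxV hsp, secOrdAt_eq G hTG x hxV hsp, secOrdAt_eq _ hTE x hxV hsp]
  unfold Cyc.ordAt
  rw [← ordFrac_mul _ _ (residue_ne_zero (mul_ne_zero ha hcFne))
    (residue_ne_zero (mul_ne_zero hb hcGne)), ← map_mul]
  congr 2
  rw [map_mul]
  ring

end Groth.Agent.Lib.Helper9.OrdSec
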