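import Mathlib
import Groth.Prelude.Def_C1
import Groth.Prelude.Def_RefHull
import Groth.Agent.Lib.Helper9.DivCl1
import Groth.Agent.Lib.Helper9.OrdSec3

/-!
# The prelude's order along `η ⤳ x` is Mathlib's `Scheme.ord` (helper9)
-/

set_option autoImplicit false
universe u
open CategoryTheory CategoryTheory.Limits AlgebraicGeometry TopologicalSpace Opposite

namespace Groth.Agent.Lib.Helper9.DivCl

variable {X : Scheme.{u}} [IsIntegral X]

theorem residue_genericPoint_injective :
    Function.Injective (X.residue (genericPoint X)).hom := by
  let _ : Field (X.presheaf.stalk (genericPoint X)) := inferInstanceAs (Field X.functionField)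
  exact RingHom.injective _

theorem specMap_injective (x : X) (h : genericPoint X ⤳ x) :
    Function.Injective (Cyc.specMap x (genericPoint X) h) := by
  have h1 : Function.Injective (X.presheaf.stalkSpecializes h).hom :=
    IsFractionRing.injective (X.presheaf.stalk x) X.functionField
  exact residue_genericPoint_injective.comp h1

/-- `O_x ≃ O_x / ker` -/
noncomputable def eR (x : X) (h : genericPoint X ⤳ x) :
    X.presheaf.stalk x ≃+* Cyc.LocQuot x (genericPoint X) h :=
  RingEquiv.ofBijective (Ideal.Quotient.mk _) ⟨by
    rw [RingHom.injective_iff_ker_eq_bot, Ideal.mk_ker,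
      (RingHom.injective_iff_ker_eq_bot _).mp (specMap_injective x h)],
    Ideal.Quotient.mk_surjective⟩

/-- the function field is the residue field of the generic point -/
noncomputable def eK : X.functionField ≃+* X.residueField (genericPoint X) :=
  RingEquiv.ofBijective (X.residue (genericPoint X)).hom
    ⟨residue_genericPoint_injective, X.residue_surjective _⟩

theorem eK_apply (φ : X.functionField) : eK φ = X.residue (genericPoint X) φ := rfl

theorem eK_algebraMap (x : X) (h : genericPoint X ⤳ x) (r : X.presheaf.stalk x) :
    eK (algebraMap (X.presheaf.stalk x) X.functionField r) =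
      algebraMap (Cyc.LocQuot x (genericPoint X) h) (X.residueField (genericPoint X))
        (eR x h r) := rfl

variable [IsLocallyNoetherian X]

theorem ordAt_residue (x : X) (hx : Order.coheight x = 1) (h : genericPoint X ⤳ x)
    (φ : X.functionField) :
    Cyc.ordAt x (genericPoint X) h (X.residue (genericPoint X) φ) = Scheme.ord φ x := by
  have hK : Ring.KrullDimLE 1 (X.presheaf.stalk x) := krullDimLE_of_coheight_le hx.le
  have hK' : Ring.KrullDimLE 1 (Cyc.LocQuot x (genericPoint X) h) := by
    rw [Ring.krullDimLE_iff, ← ringKrullDim_eq_of_ringEquiv (eR x h)]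
    exact Ring.krullDimLE_iff.mp hK
  have hD : IsDomain (Cyc.LocQuot x (genericPoint X) h) :=
    (eR x h).symm.injective.isDomain (eR x h).symm.toRingHom
  have hF : IsFractionRing (Cyc.LocQuot x (genericPoint X) h)
      (X.residueField (genericPoint X)) :=
    isFractionRing_of_ringEquiv (eR x h) eK (eK_algebraMap x h)
  rw [Scheme.ord_eq_ordHom_of_coheight_eq_one hx]
  unfold Cyc.ordAt
  exact cycOrdFrac_ringEquiv (eR x h) eK (eK_algebraMap x h) φ

end Groth.Agent.Lib.Helper9.DivCl
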