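import Mathlib
import Groth.Prelude.Def_C1
import Groth.Prelude.Def_RefHull
import Groth.Agent.Lib.Helper9.DivCl2
import Groth.Agent.Lib.Helper9.OrdSec3
import Groth.Agent.Lib.Helper29.PullSect

/-!
# Orders of rational sections through local trivialisations (helper9)
-/

set_option autoImplicit false
universe u
open CategoryTheory CategoryTheory.Limits AlgebraicGeometry TopologicalSpace Opposite

namespace Groth.Agent.Lib.Helper9.DivCl

open Groth.Agent.Lib.Helper29.QCoh Groth.Agent.Lib.Helper29.QCoh.Dual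
open Groth.Agent.Lib.Helper9.ExtGen Groth.Agent.Lib.Helper9.RefGrp
open Groth.Agent.Lib.Helper9.RefStalk Groth.Agent.Lib.Helper9.OrdSec

variable {X : Scheme.{u}} [IsIntegral X]

/-- the generic stalk of a generically trivial module is one-dimensional -/
theorem exists_eq_smul_of_ne_zero (L : X.Modules) {V : X.Opens} {e : Γ(L, V)}
    (hT : IsTriv L V e) (hη : genericPoint X ∈ V) {v : L.presheaf.stalk (genericPoint X)}
    (hv : v ≠ 0) (v' : L.presheaf.stalk (genericPoint X)) :
    ∃ c : X.functionField, v' = (c : X.presheaf.stalk (genericPoint X)) • v := by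
  obtain ⟨a, ha⟩ := (coordEquiv hT (genericPoint X) hη).surjective v
  obtain ⟨a', ha'⟩ := (coordEquiv hT (genericPoint X) hη).surjective v'
  rw [coordEquiv_apply] at ha ha'
  have ha0 : (a : X.functionField) ≠ 0 := by
    rintro rfl
    exact hv (by rw [← ha]; exact zero_smul _ _)
  refine ⟨(a' : X.functionField) * (a : X.functionField)⁻¹, ?_⟩
  rw [← ha, ← ha', ← mul_smul]
  congr 1
  exact (inv_mul_cancel_right₀ ha0 _).symm

variable [IsLocallyNoetherian X]

theorem ord_one (x : X) : Scheme.ord (1 : X.functionField) x = 0 := by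
  have h := Scheme.ord_mul (X := X) (x := x) (f := 1) (g := 1) one_ne_zero one_ne_zero
  rw [mul_one] at h
  omega

theorem ord_inv {f : X.functionField} (hf : f ≠ 0) (x : X) :
    Scheme.ord f⁻¹ x = - Scheme.ord f x := by
  have h := Scheme.ord_mul (X := X) (x := x) hf (inv_ne_zero hf)
  rw [mul_inv_cancel₀ hf, ord_one] at h
  omega

/-- order of the class of `c • germ e` -/
theorem secOrdAt_mkη (L : X.Modules) {V : X.Opens} {e : Γ(L, V)} (hT : IsTriv L V e) (x : X)
    (hx : x ∈ V) (hx1 : Order.coheight x = 1) (h : genericPoint X ⤳ x) (c : X.functionField) :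
    Cyc.secOrdAt L (genericPoint X) x h
        (mkη L ((c : X.presheaf.stalk (genericPoint X)) •
          L.presheaf.germ V (genericPoint X) (h.mem_open V.2 hx) e)) = Scheme.ord c x := by
  have h1 := secOrdAt_eq L hT x hx h c
  unfold mkη at h1 ⊢
  rw [Submodule.Quotient.mk_smul, h1, ordAt_residue x hx1 h c]

omit [IsIntegral X] [IsLocallyNoetherian X] in
theorem stalkMapₗ_injective_of_iso {F G : X.Modules} (θ : F ≅ G) (x : X) :
    Function.Injective (RefHull.stalkMapₗ θ.hom x) := by
  have h1 : IsIso θ.hom := inferInstance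
  rw [isIso_iff_stalkMap_bijective] at h1
  exact (h1 x).1

omit [IsIntegral X] [IsLocallyNoetherian X] in
theorem dim_le_one_of_coheight {x : X} (hx1 : Order.coheight x = 1) :
    ringKrullDim (X.presheaf.stalk x) ≤ 1 := by
  rw [ringKrullDim_stalk_eq_coheight, hx1]
  rfl

omit [IsIntegral X] [IsLocallyNoetherian X] in
theorem dim_eq_one_of_coheight {x : X} (hx1 : Order.coheight x = 1) :
    ringKrullDim (X.presheaf.stalk x) = 1 := by
  rw [ringKrullDim_stalk_eq_coheight, hx1]
  rfl

omit [IsIntegral X] [IsLocallyNoetherian X] in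
theorem coheight_of_dim_eq_one {x : X} (hx1 : ringKrullDim (X.presheaf.stalk x) = 1) :
    Order.coheight x = 1 := by
  rw [ringKrullDim_stalk_eq_coheight] at hx1
  exact_mod_cast hx1

/-- **(⇒)** isomorphic rank one reflexive modules have linearly equivalent divisors -/
theorem exists_of_iso (hX : Pi1.IsNormalScheme X) (F G : X.Modules) (hF : RefHull.IsRef1 F)
    (hG : RefHull.IsRef1 G) (θ : F ≅ G)
    (v : F.presheaf.stalk (genericPoint X)) (hv : v ≠ 0)
    (w : G.presheaf.stalk (genericPoint X)) (hw : w ≠ 0) :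
    ∃ f : X.functionField, f ≠ 0 ∧ ∀ x : X, Order.coheight x = 1 →
      Cyc.secOrdAt F (genericPoint X) x ((genericPoint_spec X).specializes (Set.mem_univ x))
          (mkη F v) =
        Cyc.secOrdAt G (genericPoint X) x ((genericPoint_spec X).specializes (Set.mem_univ x))
          (mkη G w) + Scheme.ord f x := by
  obtain ⟨V2, e2, hη2, hT2⟩ := exists_isTriv_of_isRef1 hX G hG (genericPoint X)
    ringKrullDim_genericPoint_le_one
  obtain ⟨f, hf⟩ := exists_eq_smul_of_ne_zero G hT2 hη2 hw
    (RefHull.stalkMapₗ θ.hom (genericPoint X) v)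
  have hθv : RefHull.stalkMapₗ θ.hom (genericPoint X) v ≠ 0 := fun h0 =>
    hv (stalkMapₗ_injective_of_iso θ _ (by rw [h0, map_zero]))
  have hf0 : f ≠ 0 := by
    rintro rfl
    exact hθv (by rw [hf]; exact zero_smul _ _)
  refine ⟨f, hf0, fun x hx1 => ?_⟩
  have hsp := (genericPoint_spec X).specializes (Set.mem_univ x)
  obtain ⟨V, e, hxV, hT⟩ := exists_isTriv_of_isRef1 hX F hF x (dim_le_one_of_coheight hx1)
  have hTG : IsTriv G V (θ.hom.app V e) := hT.of_iso θ
  have hηV : genericPoint X ∈ V := hsp.mem_open V.2 hxV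
  obtain ⟨c, hc⟩ := (coordEquiv hT (genericPoint X) hηV).surjective v
  obtain ⟨d, hd⟩ := (coordEquiv hTG (genericPoint X) hηV).surjective w
  rw [coordEquiv_apply] at hc hd
  have hd0 : (d : X.functionField) ≠ 0 := by
    rintro rfl
    exact hw (by rw [← hd]; exact zero_smul _ _)
  have hcfd : (c : X.functionField) = f * d := by
    apply (coordEquiv hTG (genericPoint X) hηV).injective
    rw [coordEquiv_apply, coordEquiv_apply, mul_smul, hd, ← hf, ← hc, map_smul,
      RefHull.stalkMapₗ_germ]
  rw [← hc, ← hd, secOrdAt_mkη F hT x hxV hx1 hsp c, secOrdAt_mkη G hTG x hxV hx1 hsp d, hcfd,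
    Scheme.ord_mul hf0 hd0, add_comm]

/-- a generic linear map which respects the divisors preserves the lattices at points of
codimension one -/
theorem mapsTo_of_ord (hX : Pi1.IsNormalScheme X) (F G : X.Modules) {V : X.Opens} {e : Γ(F, V)}
    (hT : IsTriv F V e) {W : X.Opens} {g : Γ(G, W)} (hTg : IsTriv G W g) (x : X) (hxV : x ∈ V)
    (hxW : x ∈ W) (hx1 : Order.coheight x = 1)
    (v : F.presheaf.stalk (genericPoint X)) (hv : v ≠ 0)
    (w : G.presheaf.stalk (genericPoint X)) (hw : w ≠ 0) (f : X.functionField) (hf : f ≠ 0)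
    (T : F.presheaf.stalk (genericPoint X) →ₗ[X.presheaf.stalk (genericPoint X)]
      G.presheaf.stalk (genericPoint X))
    (hTv : T v = (f : X.presheaf.stalk (genericPoint X)) • w)
    (hord : Cyc.secOrdAt F (genericPoint X) x
        ((genericPoint_spec X).specializes (Set.mem_univ x)) (mkη F v) =
      Cyc.secOrdAt G (genericPoint X) x ((genericPoint_spec X).specializes (Set.mem_univ x))
        (mkη G w) + Scheme.ord f x) :
    Set.MapsTo ⇑T
      (Set.range ⇑(F.presheaf.stalkSpecializes
        ((genericPoint_spec X).specializes (Set.mem_univ x))).hom)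
      (Set.range ⇑(G.presheaf.stalkSpecializes
        ((genericPoint_spec X).specializes (Set.mem_univ x))).hom) := by
  have hsp := (genericPoint_spec X).specializes (Set.mem_univ x)
  have hηV : genericPoint X ∈ V := hsp.mem_open V.2 hxV
  have hηW : genericPoint X ∈ W := hsp.mem_open W.2 hxW
  obtain ⟨c, hc⟩ := (coordEquiv hT (genericPoint X) hηV).surjective v
  obtain ⟨d, hd⟩ := (coordEquiv hTg (genericPoint X) hηW).surjective w
  rw [coordEquiv_apply] at hc hd
  have hc0 : (c : X.functionField) ≠ 0 := by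
    rintro rfl
    exact hv (by rw [← hc]; exact zero_smul _ _)
  have hd0 : (d : X.functionField) ≠ 0 := by
    rintro rfl
    exact hw (by rw [← hd]; exact zero_smul _ _)
  rw [← hc, ← hd, secOrdAt_mkη F hT x hxV hx1 hsp c, secOrdAt_mkη G hTg x hxW hx1 hsp d] at hord
  obtain ⟨μ, hμ⟩ : ∃ μ : X.functionField, μ = (c : X.functionField)⁻¹ * f * d := ⟨_, rfl⟩
  have hμ0 : μ ≠ 0 := by
    rw [hμ]
    exact mul_ne_zero (mul_ne_zero (inv_ne_zero hc0) hf) hd0
  have hordμ : Scheme.ord μ x = 0 := by
    rw [hμ, Scheme.ord_mul (mul_ne_zero (inv_ne_zero hc0) hf) hd0,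
      Scheme.ord_mul (inv_ne_zero hc0) hf, ord_inv hc0]
    omega
  have h1 : Scheme.ordHom x hx1 μ = 1 := by
    have h2 := (Scheme.ord_eq_iff hx1 hμ0).mp hordμ
    rw [h2]
    rfl
  have := (hX x).1
  have := (hX x).2
  have hK : Ring.KrullDimLE 1 (X.presheaf.stalk x) := krullDimLE_of_coheight_le hx1.le
  obtain ⟨u, hu, huμ⟩ := exists_isUnit_of_ordFrac_eq_one (X.presheaf.stalk x)
    (dim_eq_one_of_coheight hx1) μ h1
  have hTe : T (F.presheaf.germ V (genericPoint X) hηV e) =
      (μ : X.presheaf.stalk (genericPoint X)) • G.presheaf.germ W (genericPoint X) hηW g := by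
    have h3 : F.presheaf.germ V (genericPoint X) hηV e =
        ((c : X.functionField)⁻¹ : X.functionField) • v := by
      rw [← hc, ← mul_smul, inv_mul_cancel₀ hc0, one_smul]
    rw [h3, map_smul, hTv, ← hd, ← mul_smul, ← mul_smul, hμ]
  rintro _ ⟨m0, rfl⟩
  obtain ⟨r, rfl⟩ := (coordEquiv hT x hxV).surjective m0
  rw [coordEquiv_apply]
  refine ⟨(r * u) • G.presheaf.germ W x hxW g, ?_⟩
  rw [sp_smul, sp_smul, map_smul]
  erw [F.presheaf.germ_stalkSpecializes_apply (hy := hxV) hsp,
    G.presheaf.germ_stalkSpecializes_apply (hy := hxW) hsp]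
  rw [hTe, map_mul, mul_smul]
  congr 2

end Groth.Agent.Lib.Helper9.DivCl
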