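import Mathlib
import Groth.Prelude.Def_RefHull
import Groth.Prelude.Def_Pi1
import Groth.Agent.Lib.Helper9.ExtGen1
import Groth.Agent.Lib.Helper9.FlatLocus2

/-!
# Extending generic linear maps to morphisms into the reflexive hull (helper9)
-/

set_option autoImplicit false
universe u
open CategoryTheory CategoryTheory.Limits AlgebraicGeometry TopologicalSpace Opposite

namespace Groth.Agent.Lib.Helper9.ExtGen

open Groth.Agent.Lib.Helper29.QCoh Groth.Agent.Lib.Helper29.QCoh.Dual
open Groth.Agent.Lib.Helper9.RefStalk Groth.Agent.Lib.Helper9.ReflNormal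
open Groth.Agent.Lib.Helper9.FlatLocus

section modules

variable (R : Type*) [CommRing R] [IsDomain R] (M : Type*) [AddCommGroup M] [Module R M]

/-- if the torsion-free quotient of `M` is reflexive then `M → M^**` is surjective -/
theorem eval_surjective_of_quotient
    (h : Function.Surjective (Module.Dual.eval R (M ⧸ Submodule.torsion R M))) :
    Function.Surjective (Module.Dual.eval R M) := by
  intro ξ
  let π := (Submodule.torsion R M).mkQ
  let ξ' : Module.Dual R (Module.Dual R (M ⧸ Submodule.torsion R M)) := ξ ∘ₗ π.dualMap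
  obtain ⟨m', hm'⟩ := h ξ'
  obtain ⟨m, rfl⟩ := Submodule.mkQ_surjective _ m'
  refine ⟨m, ?_⟩
  apply LinearMap.ext
  intro α
  have hα : Submodule.torsion R M ≤ LinearMap.ker α := by
    intro t ht
    obtain ⟨a, ha⟩ := (Submodule.mem_torsion_iff t).mp ht
    have h1 : (a : R) • α t = 0 := by
      rw [← map_smul]
      have : (a : R) • t = 0 := ha
      rw [this, map_zero]
    exact (smul_eq_zero.mp h1).resolve_left (nonZeroDivisors.coe_ne_zero a)
  let α' : Module.Dual R (M ⧸ Submodule.torsion R M) := (Submodule.torsion R M).liftQ α hα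
  have h1 : α = α' ∘ₗ π := (Submodule.liftQ_mkQ _ α hα).symm
  have h2 := LinearMap.congr_fun hm' α'
  rw [Module.Dual.eval_apply]
  rw [Module.Dual.eval_apply] at h2
  change α' (π m) = ξ (π.dualMap α') at h2
  rw [h1]
  exact h2

end modules

variable {X : Scheme.{u}}

/-- the stalk map of the morphism defined by a global section of the sheaf Hom -/
theorem stalkMapₗ_homOfGlobal {F G : X.Modules} (Φ : Γ(RefHull.homSh F G, ⊤)) (x : X) :
    RefHull.stalkMapₗ (homOfGlobal Φ) x = Φ.1 ⟨x, trivial⟩ := by
  apply LinearMap.ext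
  intro v
  obtain ⟨W, hxW, m, rfl⟩ := TopCat.Presheaf.exists_germ_eq F.presheaf v
  rw [RefHull.stalkMapₗ_germ, homOfGlobal_app, germ_ev]
  rfl

/-- surjectivity of the stalk of `F → F^**` from surjectivity of the module-level evaluation -/
theorem stalkMapₗ_bidualMap_surjective (F : X.Modules) (hF : CohB1.IsFP F)
    (hD : CohB1.IsFP (RefHull.dual F)) (x : X)
    (h : Function.Surjective (Module.Dual.eval (X.presheaf.stalk x) (F.presheaf.stalk x))) :
    Function.Surjective (RefHull.stalkMapₗ (RefHull.bidualMap F) x) := by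
  have h1 : Function.Surjective (RefHull.bidualAt F x) := by
    rw [bidualAt_eq_comp F hF x]
    exact (Φ F hF x).surjective.comp h
  have h2 : ⇑(RefHull.bidualAt F x) =
      ⇑(evalEquiv (RefHull.dual F) (Coh.structureModule X) hD x) ∘
        ⇑(RefHull.stalkMapₗ (RefHull.bidualMap F) x) := by
    funext v
    exact (evalStalk_stalkMapₗ_bidualMap F x v).symm
  rw [h2] at h1
  intro e
  obtain ⟨v, hv⟩ := h1 (evalEquiv (RefHull.dual F) (Coh.structureModule X) hD x e)
  exact ⟨v, (evalEquiv (RefHull.dual F) (Coh.structureModule X) hD x).injective hv⟩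

end Groth.Agent.Lib.Helper9.ExtGen
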