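import Mathlib
import Groth.Prelude.Def_RefHull
import Groth.Prelude.Def_Pi1
import Groth.Agent.Lib.Helper9.ExtGen2

/-!
# Extending generic linear maps to morphisms into the reflexive hull: the criterion (helper9)
-/

set_option autoImplicit false
universe u
open CategoryTheory CategoryTheory.Limits AlgebraicGeometry TopologicalSpace Opposite

namespace Groth.Agent.Lib.Helper9.ExtGen

open Groth.Agent.Lib.Helper29.QCoh Groth.Agent.Lib.Helper29.QCoh.Dual
open Groth.Agent.Lib.Helper9.RefStalk Groth.Agent.Lib.Helper9.ReflNormal
open Groth.Agent.Lib.Helper9.FlatLocus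

variable {X : Scheme.{u}} [IsIntegral X] [IsLocallyNoetherian X]

theorem not_two_le_of_eq_one {d : WithBot ℕ∞} (h : d = 1) : ¬ (2 : WithBot ℕ∞) ≤ d := by
  rw [h]
  intro h2
  have h3 : ((2 : ℕ∞) : WithBot ℕ∞) ≤ ((1 : ℕ∞) : WithBot ℕ∞) := h2
  rw [WithBot.coe_le_coe] at h3
  have h4 : ((2 : ℕ) : ℕ∞) ≤ ((1 : ℕ) : ℕ∞) := h3
  rw [Nat.cast_le] at h4
  omega

omit [IsLocallyNoetherian X] in
/-- the generic stalk of a coherent module is reflexive -/
theorem isReflexiveAt_genericPoint (F : X.Modules) (hF : Coh.IsCoh F) :
    RefHull.IsReflexiveAt F (genericPoint X) := by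
  have := finite_stalk_of_isCoh F hF (genericPoint X)
  have : Module.Free (X.presheaf.stalk (genericPoint X)) (F.presheaf.stalk (genericPoint X)) := by
    let _ : Field (X.presheaf.stalk (genericPoint X)) := inferInstanceAs (Field X.functionField)
    exact Module.Free.of_divisionRing _ _
  exact inferInstanceAs (Module.IsReflexive (X.presheaf.stalk (genericPoint X))
    (F.presheaf.stalk (genericPoint X)))

theorem extends_iff (hX : Pi1.IsNormalScheme X) (F G : X.Modules) (hF : Coh.IsCoh F)
    (hG : Coh.IsCoh G)
    (T : ↑(G.presheaf.stalk (genericPoint ↥X)) →ₗ[↑(X.presheaf.stalk (genericPoint ↥X))]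
      ↑(F.presheaf.stalk (genericPoint ↥X))) :
    (∃ ψ : G ⟶ RefHull.ddual F, RefHull.stalkMapₗ ψ (genericPoint ↥X) =
        (RefHull.stalkMapₗ (RefHull.bidualMap F) (genericPoint ↥X)).comp T) ↔
      ∀ x : ↥X, ringKrullDim ↑(X.presheaf.stalk x) = 1 →
        Set.MapsTo ⇑T
          (Set.range ⇑(G.presheaf.stalkSpecializes
            ((genericPoint_spec ↥X).specializes (Set.mem_univ x))).hom)
          (Set.range ⇑(F.presheaf.stalkSpecializes
            ((genericPoint_spec ↥X).specializes (Set.mem_univ x))).hom) := by
  have hD : Coh.IsCoh (RefHull.dual F) := isCoh_homSh F _ hF (isCoh_unit X)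
  have hE : Coh.IsCoh (RefHull.ddual F) := isCoh_homSh _ _ hD (isCoh_unit X)
  have hFfp := isFP_of_isCoh F hF
  have hDfp := isFP_of_isCoh _ hD
  have hGfp := isFP_of_isCoh G hG
  have hinjη : Function.Injective (RefHull.stalkMapₗ (RefHull.bidualMap F) (genericPoint X)) :=
    ((stalkMapₗ_bidualMap_bijective_iff F hFfp hDfp (genericPoint X)).mpr
      (isReflexiveAt_genericPoint F hF)).1
  constructor
  · rintro ⟨ψ, hψ⟩ x hx1 _ ⟨g, rfl⟩
    have hsp : genericPoint X ⤳ x := (genericPoint_spec X).specializes (Set.mem_univ x)
    have := (hX x).1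
    have := (hX x).2
    have := finite_stalk_of_isCoh F hF x
    have hfree := free_of_isTorsionFree_of_normal (X.presheaf.stalk x)
      (not_two_le_of_eq_one hx1)
      (F.presheaf.stalk x ⧸ Submodule.torsion (X.presheaf.stalk x) (F.presheaf.stalk x))
    have hsurj := stalkMapₗ_bidualMap_surjective F hFfp hDfp x
      (eval_surjective_of_quotient _ _ (Module.bijective_dual_eval _ _).2)
    obtain ⟨f, hf⟩ := hsurj (RefHull.stalkMapₗ ψ x g)
    refine ⟨f, ?_⟩
    apply hinjη
    rw [← sp_stalkMapₗ (RefHull.bidualMap F) hsp f, hf, sp_stalkMapₗ ψ hsp g, hψ]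
    rfl
  · intro hT
    have htfE : TorSh.IsTorsionFree (RefHull.ddual F) := fun x => by
      have := (hX x).1
      have := isReflexive_stalk_ddual (fun x => (hX x).1) F hF x
      infer_instance
    have := hE.1
    have := hG.1
    have hHc : Coh.IsCoh (RefHull.homSh G (RefHull.ddual F)) := isCoh_homSh G _ hG hE
    have hHR : ∀ x : X, Module.IsReflexive (X.presheaf.stalk x)
        ((RefHull.homSh G (RefHull.ddual F)).presheaf.stalk x) := by
      intro x
      have := (hX x).1
      have := finite_stalk_of_isCoh G hG x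
      have := finite_stalk_of_isCoh _ hE x
      have := isReflexive_stalk_ddual (fun x => (hX x).1) F hF x
      have h1 : Module.IsReflexive (X.presheaf.stalk x)
          (G.presheaf.stalk x →ₗ[X.presheaf.stalk x] (RefHull.ddual F).presheaf.stalk x) :=
        Groth.Agent.Lib.Helper9.LocRefl.isReflexive_linearMap _ _
      exact Module.equiv (evalEquiv G (RefHull.ddual F) hGfp x).symm
    set T' : RefHull.StalkHom G (RefHull.ddual F) (genericPoint X) :=
      (RefHull.stalkMapₗ (RefHull.bidualMap F) (genericPoint ↥X)).comp T with hT'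
    obtain ⟨s, hs⟩ := exists_global_of_codim_one hX (RefHull.homSh G (RefHull.ddual F)) hHc hHR
      ((evalEquiv G (RefHull.ddual F) hGfp (genericPoint X)).symm T') (by
        intro x hx1
        have hsp : genericPoint X ⤳ x := (genericPoint_spec X).specializes (Set.mem_univ x)
        have hspE := sp_injective (RefHull.ddual F) htfE x
        -- pointwise preimages
        have hex : ∀ g : G.presheaf.stalk x, ∃ e : (RefHull.ddual F).presheaf.stalk x,
            ((RefHull.ddual F).presheaf.stalkSpecializes hsp).hom e =
              T' ((G.presheaf.stalkSpecializes hsp).hom g) := by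
          intro g
          obtain ⟨f, hf⟩ := hT x hx1 ⟨g, rfl⟩
          refine ⟨RefHull.stalkMapₗ (RefHull.bidualMap F) x f, ?_⟩
          rw [sp_stalkMapₗ (RefHull.bidualMap F) hsp f, hT']
          change _ = RefHull.stalkMapₗ (RefHull.bidualMap F) (genericPoint X) (T _)
          rw [← hf]
        choose φ0 hφ0 using hex
        let φ : RefHull.StalkHom G (RefHull.ddual F) x :=
          { toFun := φ0
            map_add' := fun a b => by
              apply hspE
              rw [map_add, hφ0, hφ0, hφ0, map_add, map_add]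
            map_smul' := fun a g => by
              apply hspE
              rw [RingHom.id_apply, sp_smul, hφ0, hφ0, sp_smul, map_smul] }
        obtain ⟨V, hxV, σ, hσ⟩ := TopCat.Presheaf.exists_germ_eq
          (RefHull.homSh G (RefHull.ddual F)).presheaf
          ((evalEquiv G (RefHull.ddual F) hGfp x).symm φ)
        refine ⟨(evalEquiv G (RefHull.ddual F) hGfp x).symm φ, ?_⟩
        rw [LinearEquiv.eq_symm_apply, ← hσ]
        erw [(RefHull.homSh G (RefHull.ddual F)).presheaf.germ_stalkSpecializes_apply
          (hy := hxV) hsp]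
        rw [RefStalk.evalEquiv_apply, RefHull.evalStalk_germ]
        have hσx : σ.1 ⟨x, hxV⟩ = φ := by
          have := congrArg (evalEquiv G (RefHull.ddual F) hGfp x) hσ
          rw [RefStalk.evalEquiv_apply, RefHull.evalStalk_germ, LinearEquiv.apply_symm_apply] at this
          exact this
        apply LinearMap.ext
        intro v
        obtain ⟨W, hW, hxW, -⟩ := exists_isAffineOpen_mem_and_subset (x := x) (U := ⊤) trivial
        have hηW : genericPoint X ∈ W := genericPoint_mem hxW
        obtain ⟨r, m, hηr, hrm⟩ := exists_smul_germ_eq G hW (genericPoint X) hηW v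
        have hu := isUnit_germ_of_mem_basicOpen r (genericPoint X) hηW hηr
        have key : ∀ g : G.presheaf.stalk x,
            σ.1 ⟨genericPoint X, hsp.mem_open V.2 hxV⟩ ((G.presheaf.stalkSpecializes hsp).hom g) =
              T' ((G.presheaf.stalkSpecializes hsp).hom g) := by
          intro g
          rw [sp_homSh σ hsp hxV g, hσx]
          exact hφ0 g
        have hm : G.presheaf.germ W (genericPoint X) hηW m =
            (G.presheaf.stalkSpecializes hsp).hom (G.presheaf.germ W x hxW m) :=
          (G.presheaf.germ_stalkSpecializes_apply (hy := hxW) hsp m).symm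
        have h1 := key (G.presheaf.germ W x hxW m)
        rw [← hm, ← hrm, map_smul, map_smul] at h1
        exact hu.smul_left_cancel.mp h1)
    refine ⟨homOfGlobal s, ?_⟩
    rw [stalkMapₗ_homOfGlobal]
    have := congrArg (evalEquiv G (RefHull.ddual F) hGfp (genericPoint X)) hs
    rw [LinearEquiv.apply_symm_apply, RefStalk.evalEquiv_apply, RefHull.evalStalk_germ] at this
    exact this

end Groth.Agent.Lib.Helper9.ExtGen
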