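import Mathlib
import Groth.Prelude.Def_C1
import Groth.Prelude.Def_RefHull
import Groth.Agent.Lib.Helper9.DivCl3
import Groth.Agent.Lib.Helper9.ExtGen3

/-!
# Linearly equivalent divisors give isomorphic reflexive modules (helper9)
-/

set_option autoImplicit false
universe u
open CategoryTheory CategoryTheory.Limits AlgebraicGeometry TopologicalSpace Opposite

namespace Groth.Agent.Lib.Helper9.DivCl

open Groth.Agent.Lib.Helper29.QCoh Groth.Agent.Lib.Helper29.QCoh.Dual
open Groth.Agent.Lib.Helper9.ExtGen Groth.Agent.Lib.Helper9.RefGrp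
open Groth.Agent.Lib.Helper9.RefStalk Groth.Agent.Lib.Helper9.OrdSec

variable {X : Scheme.{u}}

theorem stalkMapₗ_comp_apply {F G H : X.Modules} (φ : F ⟶ G) (ψ : G ⟶ H) (x : X)
    (m : F.presheaf.stalk x) :
    RefHull.stalkMapₗ (φ ≫ ψ) x m = RefHull.stalkMapₗ ψ x (RefHull.stalkMapₗ φ x m) := by
  obtain ⟨U, hU, s, rfl⟩ := TopCat.Presheaf.exists_germ_eq F.presheaf m
  rw [RefHull.stalkMapₗ_germ, RefHull.stalkMapₗ_germ, RefHull.stalkMapₗ_germ]
  rfl

theorem stalkMapₗ_injective_of_isIso {F G : X.Modules} (θ : F ⟶ G) [IsIso θ] (x : X) :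
    Function.Injective (RefHull.stalkMapₗ θ x) := by
  have h1 : IsIso θ := inferInstance
  rw [isIso_iff_stalkMap_bijective] at h1
  exact (h1 x).1

variable [IsIntegral X]

/-- generic linear maps between generically trivial modules with prescribed value -/
theorem exists_generic_maps (F G : X.Modules) {V1 : X.Opens} {e1 : Γ(F, V1)}
    (hT1 : IsTriv F V1 e1) (hη1 : genericPoint X ∈ V1) {V2 : X.Opens} {e2 : Γ(G, V2)}
    (hT2 : IsTriv G V2 e2) (hη2 : genericPoint X ∈ V2)
    (v : F.presheaf.stalk (genericPoint X)) (hv : v ≠ 0)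
    (w : G.presheaf.stalk (genericPoint X)) (hw : w ≠ 0) (f : X.functionField) (hf : f ≠ 0) :
    ∃ (T : F.presheaf.stalk (genericPoint X) →ₗ[X.presheaf.stalk (genericPoint X)]
        G.presheaf.stalk (genericPoint X))
      (T' : G.presheaf.stalk (genericPoint X) →ₗ[X.presheaf.stalk (genericPoint X)]
        F.presheaf.stalk (genericPoint X)),
      T v = (f : X.presheaf.stalk (genericPoint X)) • w ∧
      T' w = ((f⁻¹ : X.functionField) : X.presheaf.stalk (genericPoint X)) • v ∧
      (∀ m, T' (T m) = m) ∧ ∀ n, T (T' n) = n := by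
  obtain ⟨a, ha⟩ := (coordEquiv hT1 (genericPoint X) hη1).surjective v
  obtain ⟨b, hb⟩ := (coordEquiv hT2 (genericPoint X) hη2).surjective w
  have ha0 : (a : X.functionField) ≠ 0 := by
    rintro rfl
    exact hv (by rw [← ha]; exact map_zero _)
  have hb0 : (b : X.functionField) ≠ 0 := by
    rintro rfl
    exact hw (by rw [← hb]; exact map_zero _)
  obtain ⟨l, hl⟩ : ∃ l : X.functionField, l = (a : X.functionField)⁻¹ * f * b := ⟨_, rfl⟩
  have hl0 : l ≠ 0 := by
    rw [hl]
    exact mul_ne_zero (mul_ne_zero (inv_ne_zero ha0) hf) hb0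
  refine ⟨(l : X.presheaf.stalk (genericPoint X)) •
      ((coordEquiv hT2 (genericPoint X) hη2).toLinearMap ∘ₗ
        (coordEquiv hT1 (genericPoint X) hη1).symm.toLinearMap),
    ((l⁻¹ : X.functionField) : X.presheaf.stalk (genericPoint X)) •
      ((coordEquiv hT1 (genericPoint X) hη1).toLinearMap ∘ₗ
        (coordEquiv hT2 (genericPoint X) hη2).symm.toLinearMap), ?_, ?_, ?_, ?_⟩
  · rw [LinearMap.smul_apply, LinearMap.comp_apply, LinearEquiv.coe_coe, LinearEquiv.coe_coe,
      ← ha, LinearEquiv.symm_apply_apply, ← hb, coordEquiv_apply, coordEquiv_apply, ← mul_smul,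
      ← mul_smul]
    congr 1
    rw [hl]
    field_simp
  · rw [LinearMap.smul_apply, LinearMap.comp_apply, LinearEquiv.coe_coe, LinearEquiv.coe_coe,
      ← hb, LinearEquiv.symm_apply_apply, ← ha, coordEquiv_apply, coordEquiv_apply, ← mul_smul,
      ← mul_smul]
    congr 1
    rw [hl]
    field_simp
  · intro m
    rw [LinearMap.smul_apply, LinearMap.comp_apply, LinearMap.smul_apply, LinearMap.comp_apply,
      LinearEquiv.coe_coe, LinearEquiv.coe_coe, LinearEquiv.coe_coe, LinearEquiv.coe_coe,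
      map_smul, LinearEquiv.symm_apply_apply, map_smul, LinearEquiv.apply_symm_apply, ← mul_smul,
      inv_mul_cancel₀ hl0, one_smul]
  · intro n
    rw [LinearMap.smul_apply, LinearMap.comp_apply, LinearMap.smul_apply, LinearMap.comp_apply,
      LinearEquiv.coe_coe, LinearEquiv.coe_coe, LinearEquiv.coe_coe, LinearEquiv.coe_coe,
      map_smul, LinearEquiv.symm_apply_apply, map_smul, LinearEquiv.apply_symm_apply, ← mul_smul,
      mul_inv_cancel₀ hl0, one_smul]

variable [IsLocallyNoetherian X]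

/-- **(⇐)** rank one reflexive modules with linearly equivalent divisors are isomorphic -/
theorem iso_of_ord (hX : Pi1.IsNormalScheme X) (F G : X.Modules) (hF : RefHull.IsRef1 F)
    (hG : RefHull.IsRef1 G)
    (v : F.presheaf.stalk (genericPoint X)) (hv : v ≠ 0)
    (w : G.presheaf.stalk (genericPoint X)) (hw : w ≠ 0) (f : X.functionField) (hf : f ≠ 0)
    (hord : ∀ x : X, Order.coheight x = 1 →
      Cyc.secOrdAt F (genericPoint X) x ((genericPoint_spec X).specializes (Set.mem_univ x))
          (mkη F v) =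
        Cyc.secOrdAt G (genericPoint X) x ((genericPoint_spec X).specializes (Set.mem_univ x))
          (mkη G w) + Scheme.ord f x) : Nonempty (F ≅ G) := by
  obtain ⟨V1, e1, hη1, hT1⟩ := exists_isTriv_of_isRef1 hX F hF (genericPoint X)
    ringKrullDim_genericPoint_le_one
  obtain ⟨V2, e2, hη2, hT2⟩ := exists_isTriv_of_isRef1 hX G hG (genericPoint X)
    ringKrullDim_genericPoint_le_one
  obtain ⟨T, T', hTv, hT'w, hT'T, hTT'⟩ := exists_generic_maps F G hT1 hη1 hT2 hη2 v hv w hw f hf
  have := hF.1.1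
  have := hG.1.1
  have hRF := (isReflexive_iff_of_isCoh F hF.1).mp hF.2.1
  have hRG := (isReflexive_iff_of_isCoh G hG.1).mp hG.2.1
  have htfF : TorSh.IsTorsionFree F := fun x => by
    have : Module.IsReflexive (X.presheaf.stalk x) (F.presheaf.stalk x) := hRF x
    infer_instance
  have htfG : TorSh.IsTorsionFree G := fun x => by
    have : Module.IsReflexive (X.presheaf.stalk x) (G.presheaf.stalk x) := hRG x
    infer_instance
  -- the two extensions
  obtain ⟨ψ, hψ⟩ := (extends_iff hX G F hG.1 hF.1 T).mpr (by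
    intro x hx1
    have hc := coheight_of_dim_eq_one hx1
    obtain ⟨V, e, hxV, hTe⟩ := exists_isTriv_of_isRef1 hX F hF x hx1.le
    obtain ⟨W, g, hxW, hTg⟩ := exists_isTriv_of_isRef1 hX G hG x hx1.le
    exact mapsTo_of_ord hX F G hTe hTg x hxV hxW hc v hv w hw f hf T hTv (hord x hc))
  obtain ⟨ψ', hψ'⟩ := (extends_iff hX F G hF.1 hG.1 T').mpr (by
    intro x hx1
    have hc := coheight_of_dim_eq_one hx1
    obtain ⟨V, e, hxV, hTe⟩ := exists_isTriv_of_isRef1 hX F hF x hx1.le
    obtain ⟨W, g, hxW, hTg⟩ := exists_isTriv_of_isRef1 hX G hG x hx1.le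
    refine mapsTo_of_ord hX G F hTg hTe x hxW hxV hc w hw v hv f⁻¹ (inv_ne_zero hf) T' hT'w ?_
    rw [hord x hc, ord_inv hf]
    omega)
  have hiF : IsIso (RefHull.bidualMap F) := hF.2.1
  have hiG : IsIso (RefHull.bidualMap G) := hG.2.1
  -- the morphisms
  set α : F ⟶ G := ψ ≫ inv (RefHull.bidualMap G) with hα
  set β : G ⟶ F := ψ' ≫ inv (RefHull.bidualMap F) with hβ
  have hαη : ∀ m, RefHull.stalkMapₗ α (genericPoint X) m = T m := by
    intro m
    apply stalkMapₗ_injective_of_isIso (RefHull.bidualMap G) (genericPoint X)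
    rw [← stalkMapₗ_comp_apply, hα, Category.assoc, IsIso.inv_hom_id, Category.comp_id, hψ]
    rfl
  have hβη : ∀ n, RefHull.stalkMapₗ β (genericPoint X) n = T' n := by
    intro n
    apply stalkMapₗ_injective_of_isIso (RefHull.bidualMap F) (genericPoint X)
    rw [← stalkMapₗ_comp_apply, hβ, Category.assoc, IsIso.inv_hom_id, Category.comp_id, hψ']
    rfl
  have : IsIso α := by
    rw [isIso_iff_stalkMap_bijective]
    intro x
    have hsp := (genericPoint_spec X).specializes (Set.mem_univ x)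
    have hiF := sp_injective F htfF x
    have hiG := sp_injective G htfG x
    change Function.Bijective (RefHull.stalkMapₗ α x)
    constructor
    · intro m m' hmm'
      apply hiF
      have h1 := congrArg (G.presheaf.stalkSpecializes hsp).hom hmm'
      rw [sp_stalkMapₗ α hsp, sp_stalkMapₗ α hsp, hαη, hαη] at h1
      rw [← hT'T ((F.presheaf.stalkSpecializes hsp).hom m), h1, hT'T]
    · intro n
      refine ⟨RefHull.stalkMapₗ β x n, ?_⟩
      apply hiG
      rw [sp_stalkMapₗ α hsp, sp_stalkMapₗ β hsp, hαη, hβη, hTT']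
  exact ⟨asIso α⟩

/-- **the class map is well defined and injective** -/
theorem iso_iff (hX : Pi1.IsNormalScheme X) (F G : X.Modules) (hF : RefHull.IsRef1 F)
    (hG : RefHull.IsRef1 G)
    (s : Cyc.secFibre F (genericPoint ↥X)) (hs : s ≠ 0) (t : Cyc.secFibre G (genericPoint ↥X))
    (ht : t ≠ 0) :
    Nonempty (F ≅ G) ↔
      ∃ f : ↑X.functionField, f ≠ 0 ∧
        ∀ (x : ↥X), Order.coheight x = 1 →
          Cyc.secOrdAt F (genericPoint ↥X) x
              ((genericPoint_spec ↥X).specializes (Set.mem_univ x)) s =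
            Cyc.secOrdAt G (genericPoint ↥X) x
                ((genericPoint_spec ↥X).specializes (Set.mem_univ x)) t +
              Scheme.ord f x := by
  obtain ⟨v, rfl⟩ := Submodule.Quotient.mk_surjective _ s
  obtain ⟨w, rfl⟩ := Submodule.Quotient.mk_surjective _ t
  have hv : v ≠ 0 := fun h => hs (by rw [h]; rfl)
  have hw : w ≠ 0 := fun h => ht (by rw [h]; rfl)
  constructor
  · rintro ⟨θ⟩
    exact exists_of_iso hX F G hF hG θ v hv w hw
  · rintro ⟨f, hf, h⟩
    exact iso_of_ord hX F G hF hG v hv w hw f hf h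

end Groth.Agent.Lib.Helper9.DivCl
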