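import Mathlib
import Groth.Prelude.Def_RefHull
import Groth.Agent.Lib.Helper9.DivCl4

/-!
# Valuative lemmas for `Scheme.ord` on a normal integral locally Noetherian scheme (helper9)
-/

set_option autoImplicit false
universe u
open CategoryTheory CategoryTheory.Limits AlgebraicGeometry TopologicalSpace Opposite

namespace Groth.Agent.Lib.Helper9.WeilVal

open Groth.Agent.Lib.Helper9.DivCl Groth.Agent.Lib.Helper9.ExtGen
open Groth.Agent.Lib.Helper29.QCoh

variable {X : Scheme.{u}} [IsIntegral X] [IsLocallyNoetherian X]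

omit [IsLocallyNoetherian X] in
/-- `algebraMap` from a stalk to the function field on germs -/
theorem algebraMap_germ {U : X.Opens} (r : Γ(X, U)) {x : X} (hx : x ∈ U) :
    algebraMap (X.presheaf.stalk x) X.functionField (X.presheaf.germ U x hx r) =
      X.presheaf.germ U (genericPoint X) (genericPoint_mem hx) r := by
  have : Nonempty U := ⟨⟨x, hx⟩⟩
  exact Scheme.algebraMap_germ_eq_germToFunctionField (X := X) hx r

omit [IsLocallyNoetherian X] in
theorem germ_ne_zero {U : X.Opens} {r : Γ(X, U)} (hr : r ≠ 0) (hη : genericPoint X ∈ U) :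
    X.presheaf.germ U (genericPoint X) hη r ≠ 0 := by
  intro h0
  apply hr
  apply germ_injective_of_isIntegral (X := X) (genericPoint X) hη
  rw [h0, map_zero]

/-- regular functions have nonnegative order -/
theorem ord_germ_nonneg {U : X.Opens} {r : Γ(X, U)} (hr : r ≠ 0) {x : X} (hx : x ∈ U) :
    0 ≤ Scheme.ord (X.presheaf.germ U (genericPoint X) (genericPoint_mem hx) r) x := by
  have : Nonempty U := ⟨⟨x, hx⟩⟩
  have h := Scheme.ord_le_smul hx hr (1 : X.functionField)
  rw [ord_one, Algebra.smul_def, mul_one] at h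
  exact h

/-- functions invertible at a point have order zero there -/
theorem ord_germ_eq_zero {U : X.Opens} (r : Γ(X, U)) {x : X} (hx : x ∈ U)
    (hxr : x ∈ X.basicOpen r) :
    Scheme.ord (X.presheaf.germ U (genericPoint X) (genericPoint_mem hx) r) x = 0 := by
  have : Nonempty (X.basicOpen r) := ⟨⟨x, hxr⟩⟩
  have hu : IsUnit (X.presheaf.map (homOfLE (X.basicOpen_le r)).op r) :=
    X.toRingedSpace.isUnit_res_basicOpen r
  have h := Scheme.ord_of_isUnit (X := X) (U := X.basicOpen r) hu hxr
  rw [← h]
  congr 1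
  exact (X.presheaf.germ_res_apply (homOfLE (X.basicOpen_le r)) (genericPoint X)
    (genericPoint_mem hxr) r).symm

theorem ord_pow (φ : X.functionField) (hφ : φ ≠ 0) (n : ℕ) (x : X) :
    Scheme.ord (φ ^ n) x = n * Scheme.ord φ x := by
  induction n with
  | zero => rw [pow_zero, ord_one]; simp
  | succ n ih =>
    rw [pow_succ, Scheme.ord_mul (pow_ne_zero n hφ) hφ, ih]
    push_cast
    ring

theorem ord_zpow (φ : X.functionField) (hφ : φ ≠ 0) (n : ℤ) (x : X) :
    Scheme.ord (φ ^ n) x = n * Scheme.ord φ x := by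
  obtain ⟨k, rfl | rfl⟩ := n.eq_nat_or_neg
  · rw [zpow_natCast, ord_pow φ hφ]
  · rw [zpow_neg, zpow_natCast, ord_inv (pow_ne_zero k hφ), ord_pow φ hφ]
    ring

theorem ord_div {φ ψ : X.functionField} (hφ : φ ≠ 0) (hψ : ψ ≠ 0) (x : X) :
    Scheme.ord (φ / ψ) x = Scheme.ord φ x - Scheme.ord ψ x := by
  rw [div_eq_mul_inv, Scheme.ord_mul hφ (inv_ne_zero hψ), ord_inv hψ]
  ring

variable (hX : Pi1.IsNormalScheme X)
include hX

theorem isDVR {x : X} (hx1 : Order.coheight x = 1) :
    IsDiscreteValuationRing (X.presheaf.stalk x) := by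
  have := (hX x).1
  have := (hX x).2
  exact isDiscreteValuationRing_of_normal (X.presheaf.stalk x) (dim_eq_one_of_coheight hx1)

/-- a uniformizer has order one -/
theorem ord_irreducible {x : X} (hx1 : Order.coheight x = 1) {π : X.presheaf.stalk x}
    (hπ : Irreducible π) :
    Scheme.ord (algebraMap (X.presheaf.stalk x) X.functionField π) x = 1 := by
  have := isDVR hX hx1
  have hne : algebraMap (X.presheaf.stalk x) X.functionField π ≠ 0 := by
    intro h0
    exact hπ.ne_zero ((IsFractionRing.injective (X.presheaf.stalk x) X.functionField)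
      (by rw [h0, map_zero]))
  rw [Scheme.ord_eq_iff hx1 hne]
  have hK : Ring.KrullDimLE 1 (X.presheaf.stalk x) := krullDimLE_of_coheight_le hx1.le
  exact Ring.ordFrac_irreducible hπ

/-- every integer is the order of some rational function at a point of codimension one -/
theorem exists_ord_eq {x : X} (hx1 : Order.coheight x = 1) (n : ℤ) :
    ∃ φ : X.functionField, φ ≠ 0 ∧ Scheme.ord φ x = n := by
  have := isDVR hX hx1
  obtain ⟨π, hπ⟩ := IsDiscreteValuationRing.exists_irreducible (X.presheaf.stalk x)
  have hne : algebraMap (X.presheaf.stalk x) X.functionField π ≠ 0 := by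
    intro h0
    exact hπ.ne_zero ((IsFractionRing.injective (X.presheaf.stalk x) X.functionField)
      (by rw [h0, map_zero]))
  refine ⟨(algebraMap (X.presheaf.stalk x) X.functionField π) ^ n, zpow_ne_zero n hne, ?_⟩
  rw [ord_zpow _ hne, ord_irreducible hX hx1 hπ, mul_one]

/-- rational functions of nonnegative order at a point of codimension one are regular there -/
theorem exists_of_ord_nonneg {x : X} (hx1 : Order.coheight x = 1) {φ : X.functionField}
    (hφ : φ ≠ 0) (h : 0 ≤ Scheme.ord φ x) :
    ∃ a : X.presheaf.stalk x, algebraMap (X.presheaf.stalk x) X.functionField a = φ := by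
  have := isDVR hX hx1
  have := (hX x).1
  have := (hX x).2
  obtain ⟨π, hπ⟩ := IsDiscreteValuationRing.exists_irreducible (X.presheaf.stalk x)
  have hne : algebraMap (X.presheaf.stalk x) X.functionField π ≠ 0 := by
    intro h0
    exact hπ.ne_zero ((IsFractionRing.injective (X.presheaf.stalk x) X.functionField)
      (by rw [h0, map_zero]))
  obtain ⟨n, hn⟩ := Int.eq_ofNat_of_zero_le h
  have hψ : (algebraMap (X.presheaf.stalk x) X.functionField π) ^ n ≠ 0 := pow_ne_zero n hne
  have hord : Scheme.ord (φ / (algebraMap (X.presheaf.stalk x) X.functionField π) ^ n) x = 0 := by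
    rw [ord_div hφ hψ, ord_pow _ hne, ord_irreducible hX hx1 hπ, hn]
    ring
  have hq0 : φ / (algebraMap (X.presheaf.stalk x) X.functionField π) ^ n ≠ 0 :=
    div_ne_zero hφ hψ
  have h1 : Scheme.ordHom x hx1 (φ / (algebraMap (X.presheaf.stalk x) X.functionField π) ^ n) =
      1 := by
    have h2 := (Scheme.ord_eq_iff hx1 hq0).mp hord
    rw [h2]
    rfl
  have hK : Ring.KrullDimLE 1 (X.presheaf.stalk x) := krullDimLE_of_coheight_le hx1.le
  obtain ⟨u, -, hu⟩ := exists_isUnit_of_ordFrac_eq_one (X.presheaf.stalk x)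
    (dim_eq_one_of_coheight hx1) _ h1
  refine ⟨u * π ^ n, ?_⟩
  rw [map_mul, map_pow, hu, div_mul_cancel₀ _ hψ]

/-- functions vanishing at a point of codimension one have positive order there -/
theorem one_le_ord_germ {U : X.Opens} {r : Γ(X, U)} (hr : r ≠ 0) {x : X} (hx : x ∈ U)
    (hx1 : Order.coheight x = 1) (hxr : x ∉ X.basicOpen r) :
    1 ≤ Scheme.ord (X.presheaf.germ U (genericPoint X) (genericPoint_mem hx) r) x := by
  have := isDVR hX hx1
  have h0 := ord_germ_nonneg hr hx
  have hne : Scheme.ord (X.presheaf.germ U (genericPoint X) (genericPoint_mem hx) r) x ≠ 0 := by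
    intro h
    apply hxr
    rw [Scheme.mem_basicOpen _ _ _ hx]
    have hK : Ring.KrullDimLE 1 (X.presheaf.stalk x) := krullDimLE_of_coheight_le hx1.le
    rw [Ring.isUnit_iff_ordFrac_one_of_isDiscreteValuationRing (K := X.functionField),
      algebraMap_germ]
    have h2 := (Scheme.ord_eq_iff hx1 (germ_ne_zero hr (genericPoint_mem hx))).mp h
    rw [Scheme.ordHom] at h2
    rw [h2]
    rfl
  omega

end Groth.Agent.Lib.Helper9.WeilVal
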