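import Mathlib
import Groth.Prelude.Def_RefHull
import Groth.Agent.Lib.Helper9.WeilVal1

/-!
# Finiteness of the set of codimension one points in a proper closed subset (helper9)
-/

set_option autoImplicit false
universe u
open CategoryTheory CategoryTheory.Limits AlgebraicGeometry TopologicalSpace Opposite

namespace Groth.Agent.Lib.Helper9.WeilVal

open Groth.Agent.Lib.Helper9.DivCl Groth.Agent.Lib.Helper9.ExtGen
open Groth.Agent.Lib.Helper29.QCoh

theorem eq_of_le_of_height_one {B : Type*} [CommRing B] [IsDomain B] {P Q : Ideal B} [P.IsPrime]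
    [Q.IsPrime] (hP : P.height = 1) (hQ : Q ≠ ⊥) (hle : Q ≤ P) : Q = P := by
  by_contra hne
  have hlt : Q < P := lt_of_le_of_ne hle hne
  have h1 := (Ideal.height_le_iff (p := P) (n := 1)).mp (by rw [hP]; rfl) Q inferInstance hlt
  have h2 : Q.height = 0 := by
    have : Q.height < 1 := by exact_mod_cast h1
    exact Order.lt_one_iff.mp this
  exact hQ (Ideal.height_eq_zero_iff_eq_bot.mp h2)

variable {X : Scheme.{u}} [IsIntegral X] [IsLocallyNoetherian X]

omit [IsIntegral X] [IsLocallyNoetherian X] in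
/-- the prime of a point of codimension one in an affine open has height one -/
theorem height_primeIdealOf {W : X.Opens} (hW : IsAffineOpen W) {x : X} (hxW : x ∈ W)
    (hx1 : Order.coheight x = 1) : (hW.primeIdealOf ⟨x, hxW⟩).asIdeal.height = 1 := by
  let _ : Algebra Γ(X, W) (X.presheaf.stalk x) :=
    TopCat.Presheaf.algebra_section_stalk X.presheaf ⟨x, hxW⟩
  have := hW.isLocalization_stalk ⟨x, hxW⟩
  have h1 := IsLocalization.AtPrime.ringKrullDim_eq_height
    (hW.primeIdealOf ⟨x, hxW⟩).asIdeal (X.presheaf.stalk x)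
  rw [dim_eq_one_of_coheight hx1] at h1
  exact_mod_cast h1.symm

/-- **finiteness**: a nonzero function on an affine open vanishes at only finitely many points
of codimension one -/
theorem finite_codim_one_not_mem_basicOpen {W : X.Opens} (hW : IsAffineOpen W) {c : Γ(X, W)}
    (hc : c ≠ 0) : {x : X | x ∈ W ∧ Order.coheight x = 1 ∧ x ∉ X.basicOpen c}.Finite := by
  by_cases hne : Nonempty W
  swap
  · refine Set.Finite.subset Set.finite_empty ?_
    rintro x ⟨hxW, -, -⟩
    exact absurd ⟨⟨x, hxW⟩⟩ hne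
  have : IsNoetherianRing Γ(X, W) := IsLocallyNoetherian.component_noetherian ⟨W, hW⟩
  have : IsDomain Γ(X, W) := inferInstance
  have hfin := Ideal.finite_minimalPrimes_of_isNoetherianRing Γ(X, W) (Ideal.span {c})
  have hT : {p : PrimeSpectrum Γ(X, W) | p.asIdeal ∈ (Ideal.span {c}).minimalPrimes}.Finite := by
    refine Set.Finite.preimage ?_ hfin
    intro p _ q _ hpq
    exact PrimeSpectrum.ext hpq
  refine (hT.image (fun p => hW.fromSpec p)).subset ?_
  rintro x ⟨hxW, hx1, hxc⟩
  refine ⟨hW.primeIdealOf ⟨x, hxW⟩, ?_, hW.fromSpec_primeIdealOf ⟨x, hxW⟩⟩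
  have hcP : c ∈ (hW.primeIdealOf ⟨x, hxW⟩).asIdeal := by
    by_contra h
    exact hxc ((mem_basicOpen_iff_notMem_primeIdealOf hW x hxW c).mpr h)
  have hP1 := height_primeIdealOf hW hxW hx1
  refine ⟨⟨(hW.primeIdealOf ⟨x, hxW⟩).isPrime, ?_⟩, ?_⟩
  · rw [Ideal.span_le]
    exact Set.singleton_subset_iff.mpr hcP
  · rintro Q ⟨hQ, hIQ⟩ hQP
    have hQ0 : Q ≠ ⊥ := by
      rintro rfl
      exact hc ((Ideal.mem_bot).mp (hIQ (Ideal.subset_span rfl)))
    exact (eq_of_le_of_height_one hP1 hQ0 hQP).ge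

/-- **finiteness of the divisor of a rational function** on an affine open -/
theorem finite_ord_ne_zero {W : X.Opens} (hW : IsAffineOpen W) {φ : X.functionField}
    (hφ : φ ≠ 0) : {x : X | x ∈ W ∧ Order.coheight x = 1 ∧ Scheme.ord φ x ≠ 0}.Finite := by
  by_cases hne : Nonempty W
  swap
  · refine Set.Finite.subset Set.finite_empty ?_
    rintro x ⟨hxW, -, -⟩
    exact absurd ⟨⟨x, hxW⟩⟩ hne
  have := functionField_isFractionRing_of_isAffineOpen X W hW
  have : IsDomain Γ(X, W) := inferInstance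
  obtain ⟨a, b, hb, rfl⟩ := IsFractionRing.div_surjective (A := Γ(X, W)) φ
  have hb0 : b ≠ 0 := nonZeroDivisors.ne_zero hb
  have ha0 : a ≠ 0 := by
    rintro rfl
    apply hφ
    rw [map_zero, zero_div]
  refine ((finite_codim_one_not_mem_basicOpen hW ha0).union
    (finite_codim_one_not_mem_basicOpen hW hb0)).subset ?_
  rintro x ⟨hxW, hx1, hord⟩
  by_contra hcon
  apply hord
  rw [Set.mem_union, not_or] at hcon
  have hxa : x ∈ X.basicOpen a := by
    by_contra h
    exact hcon.1 ⟨hxW, hx1, h⟩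
  have hxb : x ∈ X.basicOpen b := by
    by_contra h
    exact hcon.2 ⟨hxW, hx1, h⟩
  have hη : genericPoint X ∈ W := genericPoint_mem hxW
  have e1 : algebraMap Γ(X, W) X.functionField a = X.presheaf.germ W (genericPoint X) hη a := rfl
  have e2 : algebraMap Γ(X, W) X.functionField b = X.presheaf.germ W (genericPoint X) hη b := rfl
  rw [e1, e2, ord_div (germ_ne_zero ha0 hη) (germ_ne_zero hb0 hη), ord_germ_eq_zero a hxW hxa,
    ord_germ_eq_zero b hxW hxb, sub_zero]

end Groth.Agent.Lib.Helper9.WeilVal
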