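import Mathlib
import Groth.Prelude.Def_RefHull
import Groth.Agent.Lib.Helper9.WeilVal2
import Groth.Agent.Lib.Helper9.RefGrp6

/-!
# Hartogs for rational functions on a normal scheme (helper9)
-/

set_option autoImplicit false
universe u
open CategoryTheory CategoryTheory.Limits AlgebraicGeometry TopologicalSpace Opposite

namespace Groth.Agent.Lib.Helper9.WeilVal

open Groth.Agent.Lib.Helper9.DivCl Groth.Agent.Lib.Helper9.ExtGen
open Groth.Agent.Lib.Helper29.QCoh Groth.Agent.Lib.Helper9.RefStalk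
open Groth.Agent.Lib.Helper9.ReflNormal Groth.Agent.Lib.Helper9.RefGrp
open Groth.Agent.Lib.Helper9.FlatHartogs

variable {X : Scheme.{u}} [IsIntegral X] [IsLocallyNoetherian X]

omit [IsIntegral X] in
/-- Hartogs for the structure sheaf of a normal scheme -/
theorem hartogs_unit (hX : Pi1.IsNormalScheme X) {U V : X.Opens} (hVU : V ≤ U)
    (hdim : ∀ x : X, x ∈ U → x ∉ V → (2 : WithBot ℕ∞) ≤ ringKrullDim (X.presheaf.stalk x)) :
    Function.Bijective ((unitM X).presheaf.map (homOfLE hVU).op) := by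
  have hc := isCoh_unit X
  have := hc.1
  have := hc.2
  have hR := (isReflexive_iff_of_isCoh _ hc).mp isReflexive_unit
  apply Groth.Agent.Lib.Helper9.HartogsRel.map_bijective_of_depth (unitM X) hVU
  intro x hxU hxV
  have := (hX x).1
  have := (hX x).2
  have : Module.IsReflexive (X.presheaf.stalk x) ((unitM X).presheaf.stalk x) := hR x
  exact two_le_depth_of_isReflexive _ _ (hasRegSeq_two_of_normal _ (hdim x hxU hxV))

/-- **Hartogs for rational functions**: a rational function with nonnegative order at all points of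
codimension one of an open is a section over that open -/
theorem exists_section_of_ord_nonneg (hX : Pi1.IsNormalScheme X) {W : X.Opens}
    (hη : genericPoint X ∈ W) (φ : X.functionField)
    (h : ∀ x ∈ W, Order.coheight x = 1 → φ = 0 ∨ 0 ≤ Scheme.ord φ x) :
    ∃ r : Γ(X, W), X.presheaf.germ W (genericPoint X) hη r = φ := by
  by_cases hφ : φ = 0
  · exact ⟨0, by rw [map_zero, hφ]⟩
  let I := {V : X.Opens // V ≤ W ∧ ∃ (hηV : genericPoint X ∈ V) (a : Γ(X, V)),
    X.presheaf.germ V (genericPoint X) hηV a = φ}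
  have hI : ∀ i : I, ∃ (hηV : genericPoint X ∈ i.1) (a : Γ(X, i.1)),
      X.presheaf.germ i.1 (genericPoint X) hηV a = φ := fun i => i.2.2
  choose hηI a ha using hI
  let V0 : X.Opens := ⨆ i : I, i.1
  have hV0W : V0 ≤ W := iSup_le (fun i => i.2.1)
  obtain ⟨s, hs, -⟩ := X.sheaf.existsUnique_gluing' (fun i : I => i.1) V0
    (fun i => homOfLE (le_iSup (fun i : I => i.1) i)) le_rfl (fun i => a i) (by
      intro i j
      apply germ_injective_of_isIntegral (X := X) (U := i.1 ⊓ j.1) (genericPoint X)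
        (show genericPoint X ∈ (i.1 ⊓ j.1 : X.Opens) from ⟨hηI i, hηI j⟩)
      erw [X.presheaf.germ_res_apply, X.presheaf.germ_res_apply]
      rw [ha i, ha j])
  -- membership criterion for `V0`
  have hmem : ∀ (x : X) (V' : X.Opens) (hxV' : x ∈ V') (a' : Γ(X, V')), x ∈ W →
      X.presheaf.germ V' (genericPoint X) (genericPoint_mem hxV') a' = φ → x ∈ V0 := by
    intro x V' hxV' a' hxW ha'
    refine Opens.mem_iSup.mpr ⟨⟨V' ⊓ W, inf_le_right, ⟨genericPoint_mem hxV', hη⟩,
      X.presheaf.map (homOfLE (inf_le_left : V' ⊓ W ≤ V')).op a', ?_⟩, ⟨hxV', hxW⟩⟩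
    rw [X.presheaf.germ_res_apply]
    exact ha'
  have hηV0 : genericPoint X ∈ V0 := by
    obtain ⟨U0, hηU0, a0, ha0⟩ := TopCat.Presheaf.exists_germ_eq X.presheaf φ
    exact hmem (genericPoint X) U0 hηU0 a0 hη ha0
  have hsφ : X.presheaf.germ V0 (genericPoint X) hηV0 s = φ := by
    obtain ⟨i, hi⟩ := Opens.mem_iSup.mp hηV0
    rw [← ha i, ← hs i]
    exact (X.presheaf.germ_res_apply _ _ _ _).symm
  have hdim : ∀ x : X, x ∈ W → x ∉ V0 →
      (2 : WithBot ℕ∞) ≤ ringKrullDim (X.presheaf.stalk x) := by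
    intro x hxW hxV0
    by_contra hnot
    have hle := dim_le_one_of_not_two_le _ hnot
    rw [ringKrullDim_stalk_eq_coheight] at hle
    have hc : Order.coheight x ≤ 1 := by exact_mod_cast hle
    rcases lt_or_eq_of_le hc with h0 | h1
    · have h00 : Order.coheight x = 0 := Order.lt_one_iff.mp h0
      have hK : Ring.KrullDimLE 0 (X.presheaf.stalk x) := krullDimLE_of_coheight_le h00.le
      have hfld : IsField (X.presheaf.stalk x) := Ring.KrullDimLE.isField_of_isDomain
      rw [eq_genericPoint_of_isField x hfld] at hxV0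
      exact hxV0 hηV0
    · rcases h x hxW h1 with h2 | h2
      · exact hφ h2
      · obtain ⟨ax, hax⟩ := exists_of_ord_nonneg hX h1 hφ h2
        obtain ⟨V', hxV', a', rfl⟩ := TopCat.Presheaf.exists_germ_eq X.presheaf ax
        rw [algebraMap_germ] at hax
        exact hxV0 (hmem x V' hxV' a' hxW hax)
  obtain ⟨r, hr⟩ := (hartogs_unit hX hV0W hdim).2 (toUnit s)
  refine ⟨fromUnit r, ?_⟩
  have hr' : X.presheaf.map (homOfLE hV0W).op (fromUnit r) = s := hr
  rw [← hsφ, ← hr']
  exact (X.presheaf.germ_res_apply _ _ _ _).symm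

end Groth.Agent.Lib.Helper9.WeilVal
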