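import Mathlib
import Groth.Prelude.Def_FDesc
import Groth.Agent.Lib.Helper29.QCohAss2
import Groth.Agent.Lib.Helper9.ClosedPt2
import Groth.Agent.Lib.Helper29.QCohIdealMod

/-!
# One-dimensional Noetherian schemes with reduced ring of global functions have no embedded
points (helper9)
-/

set_option autoImplicit false
universe u
open CategoryTheory CategoryTheory.Limits AlgebraicGeometry TopologicalSpace Opposite

namespace Groth.Agent.Lib.Helper9.NoEmb

open Groth.Agent.Lib.Helper29.QCoh Groth.Agent.Lib.Helper9.ClosedPt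

variable {C : Scheme.{u}}

/-- a point with a proper generisation and no room below it is closed -/
theorem isClosed_of_dim_one [IsNoetherian C] (hdim : topologicalKrullDim C = 1) (x y : C)
    (hyx : y ⤳ x) (hne : x ≠ y) : IsClosed ({x} : Set C) := by
  obtain ⟨z, hz, hzcl⟩ := (isClosed_closure (s := ({x} : Set C))).exists_closed_singleton
    ⟨x, subset_closure rfl⟩
  have hxz : x ⤳ z := specializes_iff_mem_closure.mpr hz
  by_cases hzx : z = x
  · rw [← hzx]; exact hzcl
  exfalso
  let cl : C → IrreducibleCloseds C := fun w =>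
    ⟨closure {w}, isIrreducible_singleton.closure, isClosed_closure⟩
  have hlt : ∀ a b : C, a ⤳ b → a ≠ b → cl b < cl a := by
    intro a b hab hne'
    refine lt_of_le_of_ne ?_ ?_
    · change closure {b} ⊆ closure {a}
      exact hab.closure_subset
    · intro heq
      have h1 : (cl b : Set C) = cl a := congrArg _ heq
      have h2 : a ∈ closure ({b} : Set C) := by
        change a ∈ (cl b : Set C)
        rw [h1]
        exact subset_closure rfl
      exact hne' ((hab.antisymm (specializes_iff_mem_closure.mpr h2)).eq)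
  have h1 : cl z < cl x := hlt x z hxz (fun h => hzx h.symm)
  have h2 : cl x < cl y := hlt y x hyx (fun h => hne h.symm)
  let l : LTSeries (IrreducibleCloseds C) := ((RelSeries.singleton _ (cl z)).snoc (cl x) h1).snoc
    (cl y) (by simpa using h2)
  have hl : l.length = 2 := by simp [l]
  have h3 : ((2 : ℕ) : WithBot ℕ∞) ≤ topologicalKrullDim C := by
    rw [← hl]
    exact Order.LTSeries.length_le_krullDim l
  rw [hdim] at h3
  norm_cast at h3


/-- gluing a section over `W` vanishing off a closed point with zero -/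
theorem exists_glue_zero (W U : C.Opens) (hcov : W ⊔ U = ⊤) (a : Γ(C, W))
    (h0 : C.presheaf.map (homOfLE (inf_le_left : W ⊓ U ≤ W)).op a = 0) :
    ∃ s : Γ(C, ⊤), C.presheaf.map (homOfLE (le_top : W ≤ ⊤)).op s = a ∧
      C.presheaf.map (homOfLE (le_top : U ≤ ⊤)).op s = 0 := by
  let Uf : Bool → C.Opens := fun b => cond b W U
  let sf : ∀ b : Bool, Γ(C, Uf b) := fun b =>
    match b with
    | true => a
    | false => 0
  have hc : TopCat.Presheaf.IsCompatible C.presheaf Uf sf := by
    intro b b'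
    cases b <;> cases b'
    · rfl
    · change C.presheaf.map (homOfLE (inf_le_left : U ⊓ W ≤ U)).op 0 =
        C.presheaf.map (homOfLE (inf_le_right : U ⊓ W ≤ W)).op a
      rw [map_zero]
      have h1 := congrArg (C.presheaf.map (homOfLE (le_inf inf_le_right inf_le_left :
        U ⊓ W ≤ W ⊓ U)).op) h0
      rw [map_zero] at h1
      rw [Groth.Agent.Lib.Helper29.QCoh.map_map_apply] at h1
      exact h1.symm
    · change C.presheaf.map (homOfLE (inf_le_left : W ⊓ U ≤ W)).op a =
        C.presheaf.map (homOfLE (inf_le_right : W ⊓ U ≤ U)).op 0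
      rw [map_zero]
      exact h0
    · rfl
  have hle : ∀ b : Bool, Uf b ≤ ⊤ := fun b => le_top
  have hcover : (⊤ : C.Opens) ≤ iSup Uf := by
    rw [← hcov]
    exact sup_le (le_iSup Uf true) (le_iSup Uf false)
  obtain ⟨s, hs, -⟩ := C.sheaf.existsUnique_gluing' Uf ⊤ (fun b => homOfLE (hle b)) hcover sf hc
  exact ⟨s, hs true, hs false⟩

/-- **no embedded points** -/
theorem noEmbedded (C : Scheme.{u}) [IsNoetherian C] (hdim : topologicalKrullDim C = 1)
    (hred : IsReduced Γ(C, ⊤)) : AssSch.NoEmbedded (Coh.structureModule C) := by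
  intro x hx y hy hyx
  by_contra hne
  have hxcl := isClosed_of_dim_one hdim x y hyx hne
  obtain ⟨W, hW, hxW, -⟩ := exists_isAffineOpen_mem_and_subset (x := x) (U := ⊤) trivial
  have : IsNoetherianRing Γ(C, W) := IsLocallyNoetherian.component_noetherian ⟨W, hW⟩
  have : (Coh.structureModule C).IsQuasicoherent := inferInstanceAs (unitM C).IsQuasicoherent
  have hq := primeIdealOf_mem_associatedPrimes (Coh.structureModule C) hW x hxW
    ((isAssPoint_iff_isWeakAssPoint _ x).1 hx)
  obtain ⟨hqp, a, ha⟩ := (isAssociatedPrime_iff).mp hq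
  let a' : Γ(C, W) := a
  have h1 : ∀ g : Γ(C, W), g ∈ (hW.primeIdealOf ⟨x, hxW⟩).asIdeal → g * a' = 0 := by
    intro g hg
    rw [ha, Submodule.mem_colon_singleton, Submodule.mem_bot] at hg
    exact hg
  have h2 : a' ≠ 0 := by
    intro h0
    apply hqp.ne_top
    rw [ha, Ideal.eq_top_iff_one, Submodule.mem_colon_singleton, Submodule.mem_bot]
    change (1 : Γ(C, W)) * a' = 0
    rw [h0, mul_zero]
  have hyW : y ∈ W := hyx.mem_open W.2 hxW
  have h3 : a' ∈ (hW.primeIdealOf ⟨x, hxW⟩).asIdeal := by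
    by_contra hna
    apply hne
    have hle : (hW.primeIdealOf ⟨y, hyW⟩).asIdeal ≤ (hW.primeIdealOf ⟨x, hxW⟩).asIdeal :=
      (specializes_iff_primeIdealOf_le hW ⟨y, hyW⟩ ⟨x, hxW⟩).mp hyx
    have hge : (hW.primeIdealOf ⟨x, hxW⟩).asIdeal ≤ (hW.primeIdealOf ⟨y, hyW⟩).asIdeal := by
      intro g hg
      have hga : g * a' ∈ (hW.primeIdealOf ⟨y, hyW⟩).asIdeal := by
        rw [h1 g hg]
        exact Ideal.zero_mem _
      rcases (Ideal.IsPrime.mem_or_mem inferInstance hga) with h | h
      · exact h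
      · exact absurd (hle h) hna
    exact eq_of_primeIdealOf_eq hW x y hxW hyW (PrimeSpectrum.ext (le_antisymm hge hle))
  have h4 : a' * a' = 0 := h1 a' h3
  let Uc : C.Opens := ⟨({x} : Set C)ᶜ, hxcl.isOpen_compl⟩
  have h5 : C.presheaf.map (homOfLE (inf_le_left : W ⊓ Uc ≤ W)).op a' = 0 := by
    refine TopCat.Presheaf.section_ext C.sheaf (W ⊓ Uc) _ 0 fun z hz => ?_
    change C.presheaf.germ (W ⊓ Uc) z hz
      (C.presheaf.map (homOfLE (inf_le_left : W ⊓ Uc ≤ W)).op a') =
      C.presheaf.germ (W ⊓ Uc) z hz 0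
    rw [map_zero]
    erw [TopCat.Presheaf.germ_res_apply C.presheaf (homOfLE (inf_le_left : W ⊓ Uc ≤ W)) z hz a']
    have hzx : z ≠ x := hz.2
    have hnle : ¬ (hW.primeIdealOf ⟨x, hxW⟩).asIdeal ≤ (hW.primeIdealOf ⟨z, hz.1⟩).asIdeal := by
      intro hle
      have hsp : x ⤳ z := (specializes_iff_primeIdealOf_le hW ⟨x, hxW⟩ ⟨z, hz.1⟩).mpr hle
      have hzcl : z ∈ closure ({x} : Set C) := specializes_iff_mem_closure.mp hsp
      rw [hxcl.closure_eq] at hzcl
      exact hzx hzcl
    obtain ⟨g, hgq, hgz⟩ := Set.not_subset.mp hnle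
    have hzg : z ∈ C.basicOpen g :=
      (mem_basicOpen_iff_notMem_primeIdealOf hW g ⟨z, hz.1⟩).mpr hgz
    have hu : IsUnit (C.presheaf.germ W z hz.1 g) := (C.mem_basicOpen g z hz.1).mp hzg
    have h6 := congrArg (C.presheaf.germ W z hz.1) (h1 g hgq)
    rw [map_mul, map_zero] at h6
    exact (hu.mul_right_eq_zero).mp h6
  have hcov : W ⊔ Uc = ⊤ := by
    rw [eq_top_iff]
    intro z _
    by_cases hzx : z = x
    · exact Or.inl (hzx ▸ hxW)
    · exact Or.inr hzx
  obtain ⟨s, hsW, hsU⟩ := exists_glue_zero W Uc hcov a' h5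
  have hs2 : s * s = 0 := by
    refine TopCat.Presheaf.section_ext C.sheaf ⊤ _ 0 fun z hz => ?_
    change C.presheaf.germ ⊤ z hz (s * s) = C.presheaf.germ ⊤ z hz 0
    rw [map_zero, map_mul]
    by_cases hzx : z = x
    · have hzW : z ∈ W := hzx ▸ hxW
      have e : C.presheaf.germ ⊤ z hz s = C.presheaf.germ W z hzW a' := by
        rw [← hsW]
        erw [TopCat.Presheaf.germ_res_apply C.presheaf (homOfLE (le_top : W ≤ ⊤)) z hzW s]
      erw [e]
      rw [← map_mul, h4, map_zero]
    · have hzU : z ∈ Uc := hzx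
      have e : C.presheaf.germ ⊤ z hz s = 0 := by
        have e1 := TopCat.Presheaf.germ_res_apply C.presheaf (homOfLE (le_top : Uc ≤ ⊤)) z hzU s
        erw [hsU] at e1
        rw [map_zero] at e1
        exact e1.symm
      erw [e]
      rw [mul_zero]
  have hs0 : s = 0 := IsReduced.eq_zero s ⟨2, by rw [pow_two]; exact hs2⟩
  apply h2
  rw [← hsW, hs0, map_zero]

end Groth.Agent.Lib.Helper9.NoEmb
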