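import Mathlib
import Groth.Prelude.Def_ega3
import Groth.Agent.Lib.Helper28.FlatCx
import Groth.Agent.Lib.Helper2.ArtinFlat

/-!
# Homological functors `T_p(M) = H_p(P ⊗ M)`: surjectivity criteria (helper9)

* `homologyMap_smul'`, `TFun_map_smul_id`: `A`-linearity of `T_p`.
* `mono_TFun_map_of_epi`: for a short exact sequence `0 → M' → M → M'' → 0`, if `T_p(M) → T_p(M'')`
  is epi then `T_q(M') → T_q(M)` is mono (`c.Rel p q`).
* `mono_whiskerLeft_opcycles_of_mono_TFun_map`: if `T_q(g)` is mono for a mono `g`, then
  `P.opcycles q ◁ g` is mono.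
* `flat_of_injective_lTensor_maximalIdeal`: over an Artinian local ring, `W` is flat as soon as
  `W ⊗ 𝔪 → W ⊗ A` is injective.
* `preservesEpi_of_surjective_residueField`: Artinian local, `T_p(A) → T_p(k)` surjective implies
  `T_p` preserves epimorphisms.
-/

set_option autoImplicit false
universe u

namespace Groth.Agent.Lib.Helper9.FlatCxArtin

open CategoryTheory CategoryTheory.Limits MonoidalCategory CohIII
open Groth.Agent.Lib.Helper28.FlatCx

variable {A : Type u} [CommRing A] {ι : Type} {c : ComplexShape ι}

theorem homologyMap_smul' {K L : HomologicalComplex (ModuleCat.{u} A) c} (φ : K ⟶ L) (a : A)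
    (i : ι) : HomologicalComplex.homologyMap (a • φ) i = a • HomologicalComplex.homologyMap φ i := by
  have h : (HomologicalComplex.shortComplexFunctor (ModuleCat.{u} A) c i).map (a • φ) =
      a • (HomologicalComplex.shortComplexFunctor (ModuleCat.{u} A) c i).map φ := by
    ext <;> rfl
  change ShortComplex.homologyMap
    ((HomologicalComplex.shortComplexFunctor (ModuleCat.{u} A) c i).map (a • φ)) = _
  rw [h, ShortComplex.homologyMap_smul]
  rfl

theorem TFun_map_smul_id (P : HomologicalComplex (ModuleCat.{u} A) c) (q : ι)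
    (M : ModuleCat.{u} A) (f : A) :
    (TFun P q).map (f • 𝟙 M) = f • 𝟙 ((TFun P q).obj M) := by
  rw [TFun_map]
  have h1 : tensorMap P (f • 𝟙 M) = f • 𝟙 (tensorObj P M) := by
    ext i : 1
    rw [tensorMap_f]
    simp only [MonoidalLinear.whiskerLeft_smul, MonoidalCategory.whiskerLeft_id,
      HomologicalComplex.smul_f_apply, HomologicalComplex.id_f]
    rfl
  rw [h1, homologyMap_smul', HomologicalComplex.homologyMap_id]
  rfl

/-- From the long exact sequence: if `T_p(g)` is epi then `T_q(f)` is mono. -/
theorem mono_TFun_map_of_epi (P : HomologicalComplex (ModuleCat.{u} A) c)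
    (hP : ∀ i, Module.Flat A (P.X i)) (p q : ι) (hpq : c.Rel p q)
    (S₀ : ShortComplex (ModuleCat.{u} A)) (hS₀ : S₀.ShortExact)
    (hepi : Epi ((TFun P p).map S₀.g)) : Mono ((TFun P q).map S₀.f) := by
  have hS := tensorSC_shortExact P hP S₀ hS₀
  have h3 := hS.homology_exact₃ p q hpq
  have h1 := hS.homology_exact₁ p q hpq
  have hepi' : Epi (HomologicalComplex.homologyMap (tensorSC P S₀).g p) := hepi
  have hδ : hS.δ p q hpq = 0 := h3.epi_f_iff.mp hepi'
  exact h1.mono_g_iff.mpr hδ

/-- If `T_q(g)` is mono for a mono `g`, then `P.opcycles q ◁ g` is mono. -/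
theorem mono_whiskerLeft_opcycles_of_mono_TFun_map (P : HomologicalComplex (ModuleCat.{u} A) c)
    (hP : ∀ i, Module.Flat A (P.X i)) (q : ι) {M N : ModuleCat.{u} A} (g : M ⟶ N) [Mono g]
    (h : Mono ((TFun P q).map g)) : Mono (P.opcycles q ◁ g) := by
  have h1 : Mono (HomologicalComplex.homologyMap (tensorMap P g) q) := h
  have h2 : Mono ((tensorMap P g).f (c.next q)) := by
    rw [tensorMap_f, ModuleCat.mono_iff_injective]
    have := hP (c.next q)
    exact Module.Flat.lTensor_preserves_injective_linearMap _
      ((ModuleCat.mono_iff_injective g).mp inferInstance)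
  have h3 := mono_opcyclesMap_of_mono (tensorMap P g) q h1 h2
  have h4 : P.opcycles q ◁ g = (opcyclesTensorIso P q _).inv ≫
      HomologicalComplex.opcyclesMap (tensorMap P g) q ≫ (opcyclesTensorIso P q _).hom := by
    rw [opcyclesTensorIso_hom_naturality, Iso.inv_hom_id_assoc]
  rw [h4]
  infer_instance

section Artin

variable [IsArtinianRing A] [IsLocalRing A]

theorem flat_of_presentation (W : Type u) [AddCommGroup W] [Module A W]
    (h : Function.Injective ((IsLocalRing.maximalIdeal A).subtype.rTensor W))
    (K F : Type u) [AddCommGroup K] [Module A K] [AddCommGroup F] [Module A F] [Module.Flat A F]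
    (ι' : K →ₗ[A] F) (φ : F →ₗ[A] W) (hι : Function.Injective ι') (hφ : Function.Surjective φ)
    (hex : Function.Exact ι' φ) : Module.Flat A W := by
  have hm : Function.Exact (IsLocalRing.maximalIdeal A).subtype (IsLocalRing.maximalIdeal A).mkQ :=
    LinearMap.exact_subtype_mkQ _
  have h2 : Function.Injective (ι'.lTensor A) :=
    Module.Flat.lTensor_preserves_injective_linearMap (M := A) ι' hι
  have hinj : Function.Injective (ι'.lTensor (A ⧸ IsLocalRing.maximalIdeal A)) :=
    lTensor_injective_of_exact_of_exact_of_rTensor_injective hm (Submodule.mkQ_surjective _)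
      hex hφ h h2
  exact Groth.Agent.Lib.Helper2.ArtinFlat.flat_of_exact_of_residue ι' φ hφ hex hinj

/-- Over an Artinian local ring, a module `W` with `W ⊗ 𝔪 → W ⊗ A` injective is flat. -/
theorem flat_of_injective_lTensor_maximalIdeal (W : Type u) [AddCommGroup W] [Module A W]
    (h : Function.Injective ((IsLocalRing.maximalIdeal A).subtype.lTensor W)) :
    Module.Flat A W :=
  flat_of_presentation W ((LinearMap.lTensor_inj_iff_rTensor_inj _ _).mp h)
    (LinearMap.ker (Finsupp.linearCombination A (id : W → W))) (W →₀ A)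
    (LinearMap.ker (Finsupp.linearCombination A (id : W → W))).subtype
    (Finsupp.linearCombination A id) (Submodule.injective_subtype _)
    (Finsupp.linearCombination_id_surjective A W) (LinearMap.exact_subtype_ker_map _)


/-- The short exact sequence `0 → 𝔪 → A → k → 0` in `ModuleCat A`. -/
noncomputable def residueSC : ShortComplex (ModuleCat.{u} A) :=
  ShortComplex.mk (ModuleCat.ofHom (IsLocalRing.maximalIdeal A).subtype)
    (ModuleCat.ofHom (Algebra.linearMap A (IsLocalRing.ResidueField A))) (by
      ext x
      exact (Ideal.Quotient.eq_zero_iff_mem).mpr x.2)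

omit [IsArtinianRing A] in
theorem residueSC_shortExact : (residueSC (A := A)).ShortExact := by
  apply ModuleCat.shortComplex_shortExact
  · intro (x : A)
    constructor
    · intro hx
      have hx' : Ideal.Quotient.mk (IsLocalRing.maximalIdeal A) x = 0 := hx
      exact ⟨⟨x, (Ideal.Quotient.eq_zero_iff_mem).mp hx'⟩, rfl⟩
    · rintro ⟨y, rfl⟩
      exact (Ideal.Quotient.eq_zero_iff_mem (I := IsLocalRing.maximalIdeal A)).mpr y.2
  · exact Submodule.injective_subtype _
  · change Function.Surjective (Ideal.Quotient.mk (IsLocalRing.maximalIdeal A))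
    exact Ideal.Quotient.mk_surjective

/-- Artinian local ring: if `T_p(A) → T_p(k)` is surjective then `T_p` preserves epimorphisms. -/
theorem preservesEpi_of_surjective_residueField (P : HomologicalComplex (ModuleCat.{u} A) c)
    (hP : ∀ i, Module.Flat A (P.X i)) (p q : ι) (hpq : c.Rel p q)
    (hsurj : Function.Surjective ((TFun P p).map
      (ModuleCat.ofHom (Algebra.linearMap A (IsLocalRing.ResidueField A)))).hom) :
    (TFun P p).PreservesEpimorphisms := by
  rw [preservesEpi_iff_preservesMono_of_rel P hP p q hpq, preservesMono_iff_flat_opcycles P hP q]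
  have hepi : Epi ((TFun P p).map (residueSC (A := A)).g) :=
    (ModuleCat.epi_iff_surjective _).mpr hsurj
  have hmono := mono_TFun_map_of_epi P hP p q hpq residueSC residueSC_shortExact hepi
  have : Mono (residueSC (A := A)).f := residueSC_shortExact.mono_f
  have h2 := mono_whiskerLeft_opcycles_of_mono_TFun_map P hP q (residueSC (A := A)).f hmono
  apply flat_of_injective_lTensor_maximalIdeal
  exact (ModuleCat.mono_iff_injective _).mp h2

end Artin

end Groth.Agent.Lib.Helper9.FlatCxArtin
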