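import Mathlib
import Groth.Prelude.Def_CAlg
import Groth.Prelude.Def_EGA4b
import Groth.Agent.Lib.Helper18.FibBridge
import Groth.Agent.Lib.Helper23.RegularHom
import Groth.Agent.Lib.Helper23.RegularHom2

/-!
Descent of regularity (helper9): for `R → S → T` with `p S_q = q S_q` and `κ(q)/κ(p)` separable
algebraic for all primes `q` of `S` (`p = q ∩ R`), `R → T` regular implies `S → T` regular
(`isRegularHom_of_isRegularHom_base`).  Key step: local rings of the fibre of `S → T` over `q`
are local rings of the fibre of `R → T` over `p` (`exists_algEquiv_fibre_loc`).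
-/

set_option autoImplicit false
set_option linter.style.haveILetI false
universe u

namespace Groth.Agent.Lib.Helper9.RegularDescent

open TensorProduct IsLocalRing

section transport

variable {T : Type u} [CommRing T]

theorem nonempty_quotLocCongr {Q₁ Q₂ : Ideal T} [Q₁.IsPrime] [Q₂.IsPrime] (h : Q₁ = Q₂)
    (I : Ideal T) :
    Nonempty ((Localization.AtPrime Q₁ ⧸ I.map (algebraMap T (Localization.AtPrime Q₁))) ≃ₐ[T]
      (Localization.AtPrime Q₂ ⧸ I.map (algebraMap T (Localization.AtPrime Q₂)))) := by
  subst h
  exact ⟨AlgEquiv.refl⟩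

end transport

section step1

variable (R S T : Type u) [CommRing R] [CommRing S] [CommRing T] [Algebra R S] [Algebra S T]
  [Algebra R T] [IsScalarTower R S T]

/-- local rings of the fibre over `q` are local rings of the fibre over `q ∩ R`, provided
`p S_q = q S_q`. -/
theorem exists_algEquiv_fibre_loc (q : Ideal S) [q.IsPrime]
    (hq : ∀ x ∈ q, ∃ s ∉ q, s * x ∈ (q.under R).map (algebraMap R S))
    (𝔓 : Ideal (q.Fiber T)) [𝔓.IsPrime] :
    ∃ (𝔓' : Ideal ((q.under R).Fiber T)) (_ : 𝔓'.IsPrime),
      Nonempty (Localization.AtPrime 𝔓 ≃ₐ[R] Localization.AtPrime 𝔓') := by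
  set Q : Ideal T := 𝔓.comap (Algebra.TensorProduct.includeRight : T →ₐ[S] q.Fiber T) with hQ
  have hQS : Q.comap (algebraMap S T) = q := Groth.Agent.Lib.Helper18.FibBridge.ctr_comap q 𝔓
  have hQR : Q.comap (algebraMap R T) = q.under R := by
    rw [IsScalarTower.algebraMap_eq R S T, ← Ideal.comap_comap, hQS]
  obtain ⟨𝔓', h𝔓', hctr⟩ :=
    Groth.Agent.Lib.Helper18.FibBridge.exists_prime_of_comap_eq (q.under R) Q hQR
  refine ⟨𝔓', h𝔓', ?_⟩
  have e₁ := Ideal.Fiber.algEquivAux₂ (R := S) (S := T) q 𝔓
  have e₂ := Ideal.Fiber.algEquivAux₂ (R := R) (S := T) (q.under R) 𝔓'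
  obtain ⟨e₃⟩ := nonempty_quotLocCongr (T := T) hctr ((q.under R).map (algebraMap R T))
  -- the two ideals agree in `T_Q`
  have hI : (q.map (algebraMap S T)).map (algebraMap T (Localization.AtPrime Q)) =
      ((q.under R).map (algebraMap R T)).map (algebraMap T (Localization.AtPrime Q)) := by
    apply le_antisymm
    · rw [Ideal.map_map, Ideal.map_le_iff_le_comap]
      intro x hx
      obtain ⟨s, hs, hsx⟩ := hq x hx
      rw [Ideal.mem_comap]
      have hsQ : algebraMap S T s ∉ Q := fun h => hs (by rw [← hQS]; exact h)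
      have hu : IsUnit (algebraMap T (Localization.AtPrime Q) (algebraMap S T s)) :=
        IsLocalization.map_units (Localization.AtPrime Q) (⟨_, hsQ⟩ : Q.primeCompl)
      have h1 : algebraMap T (Localization.AtPrime Q) (algebraMap S T (s * x)) ∈
          ((q.under R).map (algebraMap R T)).map (algebraMap T (Localization.AtPrime Q)) := by
        apply Ideal.mem_map_of_mem
        have : (q.under R).map (algebraMap R T) =
            ((q.under R).map (algebraMap R S)).map (algebraMap S T) := by
          rw [Ideal.map_map, ← IsScalarTower.algebraMap_eq]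
        rw [this]
        exact Ideal.mem_map_of_mem _ hsx
      rw [map_mul, map_mul] at h1
      exact (Ideal.unit_mul_mem_iff_mem _ hu).mp h1
    · apply Ideal.map_mono
      rw [IsScalarTower.algebraMap_eq R S T, ← Ideal.map_map]
      apply Ideal.map_mono
      rw [Ideal.map_le_iff_le_comap]
  have e₄ := Ideal.quotientEquivAlgOfEq R hI
  exact ⟨((e₁.restrictScalars R).trans e₄).trans ((e₃.symm.restrictScalars R).trans e₂.symm)⟩

end step1

section step2

variable (R S T : Type u) [CommRing R] [CommRing S] [CommRing T] [Algebra R S] [Algebra S T]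
  [Algebra R T] [IsScalarTower R S T]

/-- the map of residue fields `κ(q ∩ R) → κ(q)` -/
noncomputable def resMapQ (q : Ideal S) [q.IsPrime] :
    (q.under R).ResidueField →+* q.ResidueField :=
  (Ideal.ResidueField.mapₐ (q.under R) q (Algebra.ofId R S) rfl).toRingHom

theorem resMapQ_algebraMap (q : Ideal S) [q.IsPrime] (r : R) :
    resMapQ R S q (algebraMap R (q.under R).ResidueField r) = algebraMap R q.ResidueField r :=
  (Ideal.ResidueField.mapₐ (q.under R) q (Algebra.ofId R S) rfl).commutes r

theorem geomRegular_fibre_of_isSeparable [IsNoetherianRing T] (q : Ideal S) [q.IsPrime]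
    (hq : ∀ x ∈ q, ∃ s ∉ q, s * x ∈ (q.under R).map (algebraMap R S))
    (hsep : letI := (resMapQ R S q).toAlgebra
      Algebra.IsSeparable (q.under R).ResidueField q.ResidueField)
    (h : CAlg.IsGeometricallyRegular (q.under R).ResidueField ((q.under R).Fiber T)) :
    CAlg.IsGeometricallyRegular q.ResidueField (q.Fiber T) := by
  letI := (resMapQ R S q).toAlgebra
  apply Groth.Agent.Lib.Helper23.SmoothField.geomRegular_of_atPrime
  intro 𝔓 _
  obtain ⟨𝔓', h𝔓', ⟨e⟩⟩ := exists_algEquiv_fibre_loc R S T q hq 𝔓
  have hE' := Groth.Agent.Lib.Helper23.SmoothField.geomRegular_atPrime h 𝔓'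
  haveI : IsScalarTower (q.under R).ResidueField q.ResidueField (Localization.AtPrime 𝔓) :=
    inferInstance
  haveI : IsNoetherianRing (Localization.AtPrime 𝔓) :=
    IsLocalization.isNoetherianRing 𝔓.primeCompl _ inferInstance
  -- upgrade `e` to a `κ(p)`-linear isomorphism
  let f : (q.under R).ResidueField →+* Localization.AtPrime 𝔓 :=
    (e.symm.toRingEquiv : Localization.AtPrime 𝔓' →+* Localization.AtPrime 𝔓).comp
      (algebraMap (q.under R).ResidueField (Localization.AtPrime 𝔓'))
  let g : (q.under R).ResidueField →+* Localization.AtPrime 𝔓 :=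
    algebraMap (q.under R).ResidueField (Localization.AtPrime 𝔓)
  have hfg : f = g := by
    refine @Ideal.ResidueField.ringHom_ext R (Localization.AtPrime 𝔓) _ _ (q.under R) _ f g ?_
    ext r
    simp only [RingHom.comp_apply, f, g]
    rw [← IsScalarTower.algebraMap_apply R (q.under R).ResidueField (Localization.AtPrime 𝔓')]
    change e.symm (algebraMap R _ r) = _
    rw [e.symm.commutes,
      IsScalarTower.algebraMap_apply (q.under R).ResidueField q.ResidueField
        (Localization.AtPrime 𝔓)]
    change _ = algebraMap q.ResidueField _ (resMapQ R S q _)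
    rw [resMapQ_algebraMap,
      ← IsScalarTower.algebraMap_apply R q.ResidueField (Localization.AtPrime 𝔓)]
  have hcomm : ∀ a : (q.under R).ResidueField,
      e.symm.toRingEquiv (algebraMap (q.under R).ResidueField (Localization.AtPrime 𝔓') a) =
        algebraMap (q.under R).ResidueField (Localization.AtPrime 𝔓) a :=
    fun a => congrArg (fun φ => φ a) hfg
  have hE : CAlg.IsGeometricallyRegular (q.under R).ResidueField (Localization.AtPrime 𝔓) :=
    Groth.Agent.Lib.Helper23.RegularHom2.geomRegular_of_algEquiv
      (AlgEquiv.ofRingEquiv (f := e.symm.toRingEquiv) hcomm) hE'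
  exact (Groth.Agent.Lib.Helper23.RegularHom.geomRegular_iff_of_isSeparable
    (q.under R).ResidueField q.ResidueField (Localization.AtPrime 𝔓)).mp hE

/-- **Descent of regularity along a residually separable, fibrewise unramified map.** -/
theorem isRegularHom_of_isRegularHom_base [IsNoetherianRing T] [Module.Flat S T]
    (hq : ∀ (q : Ideal S) [q.IsPrime], ∀ x ∈ q, ∃ s ∉ q,
      s * x ∈ (q.under R).map (algebraMap R S))
    (hsep : ∀ (q : Ideal S) [q.IsPrime], letI := (resMapQ R S q).toAlgebra
      Algebra.IsSeparable (q.under R).ResidueField q.ResidueField)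
    (h : CAlg.IsRegularHom R T) : CAlg.IsRegularHom S T := by
  refine ⟨inferInstance, fun q _ => ⟨inferInstance, ?_⟩⟩
  exact geomRegular_fibre_of_isSeparable R S T q (hq q) (hsep q) (h.2 (q.under R)).2

end step2

end Groth.Agent.Lib.Helper9.RegularDescent
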