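import Mathlib
import Groth.Prelude.Def_CAlg
import Groth.Prelude.Def_EGA4b
import Groth.Agent.Lib.Helper9.RegularDescent
import Groth.Agent.Lib.Helper4.HznFibre
import Groth.Agent.Lib.Helper18.PMor

/-!
Noetherian ind-étale algebras (helper9): fibres are reduced Artinian (`isReduced_fiber`,
`isArtinianRing_fiber`), `p S_q = q S_q` (`exists_mul_mem_map`), residue field extensions are
separable algebraic (`isSeparable_residueField`), and a flat Noetherian ind-étale algebra is a
regular homomorphism (`isRegularHom_of_isIndEtale`).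
-/

set_option autoImplicit false
set_option linter.style.haveILetI false
universe u

namespace Groth.Agent.Lib.Helper9.IndEtaleRegular

open TensorProduct IsLocalRing Groth.Agent.Lib.Helper9.RegularDescent

section pi

/-- a ring isomorphic to a finite product of fields is a regular ring -/
theorem isRegularRing_of_equiv_pi {F : Type u} [CommRing F] {n : ℕ} (K : Fin n → Type u)
    [∀ i, Field (K i)] (e : F ≃+* (Π i, K i)) : IsRegularRing F := by
  haveI : IsArtinianRing F := RingEquiv.isArtinianRing e.symm
  haveI : IsReduced F := isReduced_of_injective e.toRingHom e.injective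
  haveI : IsNoetherianRing F := inferInstance
  rw [isRegularRing_iff]
  intro P _
  have hf : IsField (Localization.AtPrime P) :=
    IsArtinianRing.isField_of_isReduced_of_isLocalRing _
  letI := hf.toField
  infer_instance

end pi

section fibres

variable (R S : Type u) [CommRing R] [CommRing S] [Algebra R S] [IsNoetherianRing S]
  (hind : EtPBC.IsIndEtale R S)

include hind

theorem isReduced_fiber (p : Ideal R) [p.IsPrime] : IsReduced (p.Fiber S) := by
  obtain ⟨n, K, _, _, -, ⟨e⟩⟩ :=
    Groth.Agent.Lib.Helper4.Hzn.fibre_equiv_pi_separable_of_isIndEtale R S hind p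
  exact isReduced_of_injective e.toRingEquiv.toRingHom e.injective

theorem isArtinianRing_fiber (p : Ideal R) [p.IsPrime] : IsArtinianRing (p.Fiber S) := by
  obtain ⟨n, K, _, _, -, ⟨e⟩⟩ :=
    Groth.Agent.Lib.Helper4.Hzn.fibre_equiv_pi_separable_of_isIndEtale R S hind p
  exact RingEquiv.isArtinianRing e.toRingEquiv.symm

/-- `p S_q = q S_q` for an ind-étale Noetherian algebra -/
theorem exists_mul_mem_map (q : Ideal S) [hqp : q.IsPrime] (x : S) (hx : x ∈ q) :
    ∃ s ∉ q, s * x ∈ (q.under R).map (algebraMap R S) := by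
  haveI := isReduced_fiber R S hind (q.under R)
  haveI := isArtinianRing_fiber R S hind (q.under R)
  obtain ⟨𝔮, h𝔮, hctr⟩ :=
    Groth.Agent.Lib.Helper18.FibBridge.exists_prime_of_comap_eq (q.under R) q rfl
  have e := Ideal.Fiber.algEquivAux₂ (R := R) (S := S) (q.under R) 𝔮
  have hf := IsArtinianRing.isField_of_isReduced_of_isLocalRing (Localization.AtPrime 𝔮)
  -- generalize the contraction
  have key : ∀ (q' : Ideal S) [q'.IsPrime], q' = q →
      IsField (Localization.AtPrime q' ⧸ ((q.under R).map (algebraMap R S)).map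
        (algebraMap S (Localization.AtPrime q'))) →
      ∃ s ∉ q, s * x ∈ (q.under R).map (algebraMap R S) := by
    intro q' _ hq' hfld
    subst hq'
    have hmax : (((q'.under R).map (algebraMap R S)).map
        (algebraMap S (Localization.AtPrime q'))).IsMaximal :=
      Ideal.Quotient.maximal_of_isField _ hfld
    have heq : ((q'.under R).map (algebraMap R S)).map
        (algebraMap S (Localization.AtPrime q')) = maximalIdeal (Localization.AtPrime q') :=
      IsLocalRing.eq_maximalIdeal hmax
    have hxm : algebraMap S (Localization.AtPrime q') x ∈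
        maximalIdeal (Localization.AtPrime q') := by
      rw [← Localization.AtPrime.map_eq_maximalIdeal]
      exact Ideal.mem_map_of_mem _ hx
    rw [← heq] at hxm
    rw [IsLocalization.algebraMap_mem_map_algebraMap_iff q'.primeCompl] at hxm
    obtain ⟨s, hs, hsx⟩ := hxm
    exact ⟨s, hs, hsx⟩
  exact key _ hctr (MulEquiv.isField hf e.symm.toMulEquiv)

/-- residue field extensions of a Noetherian ind-étale algebra are separable algebraic -/
theorem isSeparable_residueField (q : Ideal S) [hqp : q.IsPrime] :
    letI := (resMapQ R S q).toAlgebra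
    Algebra.IsSeparable (q.under R).ResidueField q.ResidueField := by
  letI := (resMapQ R S q).toAlgebra
  haveI : IsScalarTower R (q.under R).ResidueField q.ResidueField :=
    IsScalarTower.of_algebraMap_eq (fun r => (resMapQ_algebraMap R S q r).symm)
  haveI := isArtinianRing_fiber R S hind (q.under R)
  -- the canonical map from the fibre ring to `κ(q)`
  let Ψ : (q.under R).Fiber S →ₐ[(q.under R).ResidueField] q.ResidueField :=
    Algebra.TensorProduct.lift (Algebra.ofId _ _) (IsScalarTower.toAlgHom R S q.ResidueField)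
      (fun _ _ => Commute.all _ _)
  have hΨ : ∀ s : S, Ψ ((1 : (q.under R).ResidueField) ⊗ₜ[R] s) = algebraMap S q.ResidueField s := by
    intro s
    simp [Ψ]
  -- `Ψ` is surjective
  have hker : (RingHom.ker Ψ.toRingHom).IsPrime := RingHom.ker_isPrime _
  have hkmax : (RingHom.ker Ψ.toRingHom).IsMaximal := Ideal.IsPrime.isMaximal' inferInstance
  have hsurj : Function.Surjective Ψ := by
    intro x
    obtain ⟨⟨a, b⟩, hab⟩ := IsLocalization.surj (nonZeroDivisors (S ⧸ q)) x
    obtain ⟨a, rfl⟩ := Ideal.Quotient.mk_surjective a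
    obtain ⟨b', hb'⟩ := Ideal.Quotient.mk_surjective (b : S ⧸ q)
    have hb0 : algebraMap S q.ResidueField b' ≠ 0 := by
      rw [IsScalarTower.algebraMap_apply S (S ⧸ q) q.ResidueField, Ideal.Quotient.algebraMap_eq, hb']
      exact IsLocalization.to_map_ne_zero_of_mem_nonZeroDivisors _ le_rfl b.2
    simp only at hab
    rw [← hb', ← Ideal.Quotient.algebraMap_eq,
      ← IsScalarTower.algebraMap_apply S (S ⧸ q) q.ResidueField,
      ← IsScalarTower.algebraMap_apply S (S ⧸ q) q.ResidueField] at hab
    -- `1 ⊗ b'` is invertible modulo the kernel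
    have hnot : ((1 : (q.under R).ResidueField) ⊗ₜ[R] b' : (q.under R).Fiber S) ∉
        RingHom.ker Ψ.toRingHom := by
      rw [RingHom.mem_ker]
      change Ψ _ ≠ 0
      rw [hΨ]
      exact hb0
    obtain ⟨c, d, hd, hcd⟩ := hkmax.exists_inv hnot
    have hd0 : Ψ d = 0 := hd
    have h1 : Ψ c * algebraMap S q.ResidueField b' = 1 := by
      have := congrArg Ψ hcd
      rw [map_add, map_mul, hΨ, hd0, add_zero, map_one] at this
      exact this
    refine ⟨c * ((1 : (q.under R).ResidueField) ⊗ₜ[R] a), ?_⟩
    rw [map_mul, hΨ, ← hab]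
    calc Ψ c * (x * algebraMap S q.ResidueField b')
        = x * (Ψ c * algebraMap S q.ResidueField b') := by ring
      _ = x := by rw [h1, mul_one]
  constructor
  intro x
  obtain ⟨z, rfl⟩ := hsurj x
  obtain ⟨E, _, _, _, θ, y, rfl⟩ :=
    Groth.Agent.Lib.Helper4.Hzn.exists_etale_image_of_isIndEtale R S (q.under R).ResidueField hind z
  let θ' : E →ₐ[(q.under R).ResidueField] q.ResidueField := Ψ.comp θ
  have : (RingHom.ker θ').IsPrime := RingHom.ker_isPrime _
  have hs : IsSeparable (q.under R).ResidueField (Ideal.Quotient.mk (RingHom.ker θ') y) :=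
    Algebra.IsSeparable.isSeparable _ _
  have h1 : Ideal.kerLiftAlg θ' (Ideal.Quotient.mk _ y) = Ψ (θ y) := by
    rw [Ideal.kerLiftAlg_mk]; rfl
  change IsSeparable _ (Ψ (θ y))
  rw [← h1]
  unfold IsSeparable at hs ⊢
  rwa [minpoly.algHom_eq _ (Ideal.kerLiftAlg_injective θ')]

/-- a flat Noetherian ind-étale algebra is a regular homomorphism -/
theorem isRegularHom_of_isIndEtale [Module.Flat R S] : CAlg.IsRegularHom R S := by
  refine ⟨inferInstance, fun p _ => ⟨inferInstance, ?_⟩⟩
  intro K _ _ hfin
  letI : Algebra R K :=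
    ((algebraMap p.ResidueField K).comp (algebraMap R p.ResidueField)).toAlgebra
  haveI : IsScalarTower R p.ResidueField K := IsScalarTower.of_algebraMap_eq (fun _ => rfl)
  haveI := Groth.Agent.Lib.Helper18.PMor.essFiniteType_of_finite_residueField R p K
  haveI : IsNoetherianRing (S ⊗[R] K) := Algebra.EssFiniteType.isNoetherianRing S (S ⊗[R] K)
  haveI : IsNoetherianRing (K ⊗[R] S) :=
    isNoetherianRing_of_ringEquiv _ (Algebra.TensorProduct.comm R S K).toRingEquiv
  obtain ⟨n, L, _, _, -, ⟨e⟩⟩ :=
    Groth.Agent.Lib.Helper4.Hzn.exists_pi_separable_of_etale_images K (K ⊗[R] S)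
      (Groth.Agent.Lib.Helper4.Hzn.exists_etale_image_of_isIndEtale R S K hind)
  have h1 : IsRegularRing (K ⊗[R] S) := isRegularRing_of_equiv_pi L e.toRingEquiv
  have h2 : IsRegularRing (S ⊗[R] K) :=
    @IsRegularRing.of_ringEquiv (K ⊗[R] S) _ _ _ (Algebra.TensorProduct.comm R K S).toRingEquiv h1
  exact @IsRegularRing.of_ringEquiv (S ⊗[R] K) _ _ _
    (Groth.Agent.Lib.Helper18.PMor.eB R S p K) h2

end fibres

end Groth.Agent.Lib.Helper9.IndEtaleRegular
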