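import Mathlib
import Groth.Prelude.Def_EGA4b
import Groth.Agent.Lib.Helper4.ExcFin1
import Groth.Agent.Lib.Helper18.Exc

set_option autoImplicit false
set_option linter.unusedSectionVars false
set_option linter.style.haveILetI false
universe u
open IsLocalRing TensorProduct

namespace Groth.Agent.Lib.Helper9.FFib

open Groth.Agent.Lib.Helper23.GenericFormalFibre

theorem reg_of_equiv {X Y : Type u} [CommRing X] [CommRing Y] (e : X ≃+* Y) (h : IsRegularRing X) :
    IsRegularRing Y := IsRegularRing.of_ringEquiv e

set_option maxHeartbeats 800000 in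
set_option synthInstance.maxHeartbeats 100000 in
theorem chain (A B C Ah D Ch L : Type u) [CommRing A] [CommRing B] [CommRing C] [CommRing Ah]
    [CommRing D] [CommRing Ch] [CommRing L]
    [Algebra A B] [Algebra A Ah] [Algebra B C]
    (S : Submonoid B) [IsLocalization S C] (M : Submonoid (B ⊗[A] Ah))
    [Algebra (B ⊗[A] Ah) D] [IsLocalization M D] [Algebra B D] [IsScalarTower B (B ⊗[A] Ah) D]
    [Algebra C D] [IsScalarTower B C D] [Algebra C Ch] (eA : Ch ≃ₐ[C] D)
    [Algebra C L] [Algebra B L] [IsScalarTower B C L] [Algebra A L] [IsScalarTower A B L]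
    (hV : IsRegularRing (L ⊗[A] Ah)) : IsRegularRing (L ⊗[C] Ch) := by
  have hW : IsRegularRing (L ⊗[B] (B ⊗[A] Ah)) :=
    reg_of_equiv (Algebra.TensorProduct.cancelBaseChange A B L L Ah).symm.toRingEquiv hV
  have hX : IsRegularRing ((B ⊗[A] Ah) ⊗[B] L) :=
    reg_of_equiv (Algebra.TensorProduct.comm B L (B ⊗[A] Ah)).toRingEquiv hW
  have hY : IsRegularRing (((B ⊗[A] Ah) ⊗[B] L) ⊗[B ⊗[A] Ah] D) :=
    isRegularRing_of_isLocalization (R := (B ⊗[A] Ah) ⊗[B] L)
      (Algebra.algebraMapSubmonoid ((B ⊗[A] Ah) ⊗[B] L) M)
  have hY' : IsRegularRing (D ⊗[B ⊗[A] Ah] ((B ⊗[A] Ah) ⊗[B] L)) :=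
    reg_of_equiv (Algebra.TensorProduct.comm (B ⊗[A] Ah) ((B ⊗[A] Ah) ⊗[B] L) D).toRingEquiv hY
  have hZ : IsRegularRing (D ⊗[B] L) :=
    reg_of_equiv (Algebra.TensorProduct.cancelBaseChange B (B ⊗[A] Ah) D D L).toRingEquiv hY'
  have hZ' : IsRegularRing (L ⊗[B] D) :=
    reg_of_equiv (Algebra.TensorProduct.comm B D L).toRingEquiv hZ
  have hZ'' : IsRegularRing (L ⊗[C] D) :=
    reg_of_equiv (IsLocalization.algebraTensorEquiv S C L D).symm.toRingEquiv hZ'
  exact reg_of_equiv (Algebra.TensorProduct.congr (AlgEquiv.refl (R := C) (A₁ := L))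
      eA.symm).toRingEquiv hZ''

set_option maxHeartbeats 1600000 in
set_option synthInstance.maxHeartbeats 200000 in
/-- Pointwise finite ascent of geometric regularity of formal fibres. -/
theorem geomRegular_formalFibre_of_finite_local {A B C : Type u} [CommRing A] [IsLocalRing A]
    [IsNoetherianRing A] [CommRing B] [Algebra A B] [Module.Finite A B] (n : Ideal B)
    [hnmax : n.IsMaximal] [CommRing C] [Algebra B C] [IsLocalization.AtPrime C n] [IsLocalRing C]
    [Algebra A C] [IsScalarTower A B C]
    (hn : maximalIdeal A ≤ n.comap (algebraMap A B))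
    (Q' : Ideal C) [Q'.IsPrime] (Q : Ideal A) [Q.IsPrime] (hQ : Q'.comap (algebraMap A C) = Q)
    (hA : CAlg.IsGeometricallyRegular Q.ResidueField (EGA4.formalFibre A Q)) :
    CAlg.IsGeometricallyRegular Q'.ResidueField (EGA4.formalFibre C Q') := by
  classical
  have hNmax : (n.map (algebraMap B (B ⊗[A] AdicCompletion (maximalIdeal A) A))).IsMaximal :=
    isMaximal_map n hn
  have hcomap := comap_map n hn
  have hres : ∀ x : B ⊗[A] AdicCompletion (maximalIdeal A) A, ∃ b : B,
      x - algebraMap B _ b ∈ n.map (algebraMap B (B ⊗[A] AdicCompletion (maximalIdeal A) A)) :=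
    fun x => exists_sub_mem n hn x
  have hAc : IsAdicComplete (maximalIdeal (AdicCompletion (maximalIdeal A) A))
      (AdicCompletion (maximalIdeal A) A) := inferInstance
  have hAcN : IsNoetherianRing (AdicCompletion (maximalIdeal A) A) := inferInstance
  have hTnoeth : IsNoetherianRing (B ⊗[A] AdicCompletion (maximalIdeal A) A) :=
    letI := Algebra.TensorProduct.rightAlgebra (R := A) (A := B)
      (B := AdicCompletion (maximalIdeal A) A)
    haveI := Groth.Agent.Lib.Helper4.ExcFin.finite_right' (A := A) (B := B)
    IsNoetherianRing.of_finite (AdicCompletion (maximalIdeal A) A) _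
  obtain ⟨hDnoeth, hDcomp⟩ :=
    letI := Algebra.TensorProduct.rightAlgebra (R := A) (A := B)
      (B := AdicCompletion (maximalIdeal A) A)
    haveI := Groth.Agent.Lib.Helper4.ExcFin.finite_right' (A := A) (B := B)
    complete_of_finite (AdicCompletion (maximalIdeal A) A)
      (B ⊗[A] AdicCompletion (maximalIdeal A) A)
      (n.map (algebraMap B (B ⊗[A] AdicCompletion (maximalIdeal A) A)))
  have hBN : IsNoetherianRing B := IsNoetherianRing.of_finite A B
  have hCN : IsNoetherianRing C := IsLocalization.isNoetherianRing n.primeCompl C inferInstance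
  obtain ⟨e, he⟩ := exists_equiv (C := C) (D := Localization.AtPrime
    (n.map (algebraMap B (B ⊗[A] AdicCompletion (maximalIdeal A) A)))) n
    (n.map (algebraMap B (B ⊗[A] AdicCompletion (maximalIdeal A) A))) rfl hcomap hres
  let _ : Algebra C (Localization.AtPrime
      (n.map (algebraMap B (B ⊗[A] AdicCompletion (maximalIdeal A) A)))) :=
    (phi (C := C) (D := Localization.AtPrime
      (n.map (algebraMap B (B ⊗[A] AdicCompletion (maximalIdeal A) A)))) n
      (n.map (algebraMap B (B ⊗[A] AdicCompletion (maximalIdeal A) A))) hcomap).toAlgebra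
  have htow2 : IsScalarTower B C (Localization.AtPrime
      (n.map (algebraMap B (B ⊗[A] AdicCompletion (maximalIdeal A) A)))) :=
    by
    refine IsScalarTower.of_algebraMap_eq (fun b => ?_)
    rw [IsScalarTower.algebraMap_apply B (B ⊗[A] AdicCompletion (maximalIdeal A) A)]
    exact (phi_algebraMap (C := C) (D := Localization.AtPrime
      (n.map (algebraMap B (B ⊗[A] AdicCompletion (maximalIdeal A) A)))) n
      (n.map (algebraMap B (B ⊗[A] AdicCompletion (maximalIdeal A) A))) hcomap b).symm
  have hcomm : ∀ c : C, e (algebraMap C (AdicCompletion (maximalIdeal C) C) c) =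
      algebraMap C (Localization.AtPrime
        (n.map (algebraMap B (B ⊗[A] AdicCompletion (maximalIdeal A) A)))) c := by
    have h1 : (e.toRingHom.comp (algebraMap C (AdicCompletion (maximalIdeal C) C))) =
        algebraMap C (Localization.AtPrime
          (n.map (algebraMap B (B ⊗[A] AdicCompletion (maximalIdeal A) A)))) := by
      refine IsLocalization.ringHom_ext n.primeCompl ?_
      ext b
      simp only [RingHom.comp_apply]
      rw [← IsScalarTower.algebraMap_apply B C (Localization.AtPrime
        (n.map (algebraMap B (B ⊗[A] AdicCompletion (maximalIdeal A) A)))),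
        IsScalarTower.algebraMap_apply B (B ⊗[A] AdicCompletion (maximalIdeal A) A)
          (Localization.AtPrime
            (n.map (algebraMap B (B ⊗[A] AdicCompletion (maximalIdeal A) A))))]
      exact he b
    exact fun c => congrArg (fun φ => φ c) h1
  let eA : AdicCompletion (maximalIdeal C) C ≃ₐ[C] Localization.AtPrime
      (n.map (algebraMap B (B ⊗[A] AdicCompletion (maximalIdeal A) A))) :=
    AlgEquiv.ofRingEquiv (f := e) hcomm
  -- now the geometric regularity
  intro L _ _ hfin
  letI algCL : Algebra C L :=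
    ((algebraMap Q'.ResidueField L).comp (algebraMap C Q'.ResidueField)).toAlgebra
  haveI : IsScalarTower C Q'.ResidueField L := IsScalarTower.of_algebraMap_eq (fun _ => rfl)
  letI algBL : Algebra B L := ((algebraMap C L).comp (algebraMap B C)).toAlgebra
  haveI : IsScalarTower B C L := IsScalarTower.of_algebraMap_eq (fun _ => rfl)
  letI algAL : Algebra A L := ((algebraMap B L).comp (algebraMap A B)).toAlgebra
  haveI : IsScalarTower A B L := IsScalarTower.of_algebraMap_eq (fun _ => rfl)
  haveI : IsScalarTower A C L := IsScalarTower.of_algebraMap_eq (fun a => by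
    change algebraMap C L (algebraMap B C (algebraMap A B a)) = algebraMap C L (algebraMap A C a)
    rw [← IsScalarTower.algebraMap_apply A B C])
  haveI : Q'.LiesOver Q := ⟨hQ.symm⟩
  letI := Localization.AtPrime.algebraOfLiesOver Q Q'
  letI algQL : Algebra Q.ResidueField L :=
    ((algebraMap Q'.ResidueField L).comp (algebraMap Q.ResidueField Q'.ResidueField)).toAlgebra
  haveI : IsScalarTower Q.ResidueField Q'.ResidueField L :=
    IsScalarTower.of_algebraMap_eq (fun _ => rfl)
  haveI : IsScalarTower A Q.ResidueField L := by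
    refine IsScalarTower.of_algebraMap_eq (fun a => ?_)
    change algebraMap Q'.ResidueField L (algebraMap C Q'.ResidueField (algebraMap B C (algebraMap A B a))) =
      algebraMap Q'.ResidueField L (algebraMap Q.ResidueField Q'.ResidueField (algebraMap A Q.ResidueField a))
    rw [← IsScalarTower.algebraMap_apply A B C, ← IsScalarTower.algebraMap_apply A C Q'.ResidueField,
      ← IsScalarTower.algebraMap_apply A Q.ResidueField Q'.ResidueField]
  haveI : Algebra.QuasiFinite B C := Algebra.QuasiFinite.of_isLocalization n.primeCompl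
  haveI : Algebra.QuasiFinite A C := Algebra.QuasiFinite.trans A B C
  haveI : Module.Finite Q.ResidueField L := Module.Finite.trans Q'.ResidueField L
  have hV₀ : IsRegularRing (L ⊗[Q.ResidueField] (Q.Fiber (AdicCompletion (maximalIdeal A) A))) :=
    hA L inferInstance
  have hV : IsRegularRing (L ⊗[A] AdicCompletion (maximalIdeal A) A) :=
    IsRegularRing.of_ringEquiv (Algebra.TensorProduct.cancelBaseChange A Q.ResidueField L L
      (AdicCompletion (maximalIdeal A) A)).toRingEquiv
  have h5 : IsRegularRing (L ⊗[C] AdicCompletion (maximalIdeal C) C) :=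
    chain A B C (AdicCompletion (maximalIdeal A) A) (Localization.AtPrime
        (n.map (algebraMap B (B ⊗[A] AdicCompletion (maximalIdeal A) A))))
      (AdicCompletion (maximalIdeal C) C) L n.primeCompl
      (n.map (algebraMap B (B ⊗[A] AdicCompletion (maximalIdeal A) A))).primeCompl eA hV
  exact reg_of_equiv (Algebra.TensorProduct.cancelBaseChange C Q'.ResidueField L L
      (AdicCompletion (maximalIdeal C) C)).symm.toRingEquiv h5

end Groth.Agent.Lib.Helper9.FFib
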