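import Mathlib
import Groth.Prelude.Def_EGA4b
import Groth.Agent.Lib.Helper4.ExcFin1
import Groth.Agent.Lib.Helper18.Exc
import Groth.Agent.Lib.Helper9.FFib

set_option autoImplicit false
set_option linter.unusedSectionVars false
set_option linter.style.haveILetI false
universe u
open IsLocalRing TensorProduct

namespace Groth.Agent.Lib.Helper9.FFib2

open Groth.Agent.Lib.Helper18.FibQuot

section surj

variable (A B : Type u) [CommRing A] [IsNoetherianRing A] [IsLocalRing A]
  [CommRing B] [IsNoetherianRing B] [IsLocalRing B] [Algebra A B]
  (hs : Function.Surjective (algebraMap A B))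

include hs in
/-- pointwise transport of geometric regularity of a formal fibre along a surjection -/
theorem geomRegular_formalFibre_of_surjective (p : Ideal B) [p.IsPrime]
    (hA : CAlg.IsGeometricallyRegular (p.comap (algebraMap A B)).ResidueField
      (EGA4.formalFibre A (p.comap (algebraMap A B)))) :
    CAlg.IsGeometricallyRegular p.ResidueField (EGA4.formalFibre B p) := by
  intro k' _ _ hfin
  letI alg : Algebra (p.comap (algebraMap A B)).ResidueField k' :=
    ((algebraMap p.ResidueField k').comp (resMap' A B p)).toAlgebra
  letI alg2 : Algebra (p.comap (algebraMap A B)).ResidueField p.ResidueField :=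
    (resMap' A B p).toAlgebra
  haveI : IsScalarTower (p.comap (algebraMap A B)).ResidueField p.ResidueField k' :=
    IsScalarTower.of_algebraMap_eq (fun _ => rfl)
  haveI : Module.Finite (p.comap (algebraMap A B)).ResidueField p.ResidueField :=
    Module.Finite.of_surjective
      (Algebra.linearMap (p.comap (algebraMap A B)).ResidueField p.ResidueField)
      (resMap'_bijective A B hs p).2
  have hfin' : Module.Finite (p.comap (algebraMap A B)).ResidueField k' :=
    Module.Finite.trans p.ResidueField k'
  obtain ⟨e⟩ := nonempty_ringEquiv_formalFibre' A B hs p k' rfl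
  have := hA k' hfin'
  exact @IsRegularRing.of_ringEquiv _ _ _ _ e.symm this

end surj

section main

variable (R R' : Type u) [CommRing R] [CommRing R'] [IsNoetherianRing R] [IsNoetherianRing R']
  [Algebra R R'] [Algebra.FiniteType R R'] (p' : Ideal R') [p'.IsPrime]
  [Algebra.QuasiFiniteAt R p']

set_option maxHeartbeats 1600000 in
theorem main
    (Q' : Ideal (Localization.AtPrime p')) [Q'.IsPrime]
    (Q : Ideal (Localization.AtPrime (Ideal.comap (algebraMap R R') p'))) [Q.IsPrime]
    (hQ : Ideal.comap (algebraMap R (Localization.AtPrime (Ideal.comap (algebraMap R R') p'))) Q =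
      Ideal.comap (algebraMap R (Localization.AtPrime p')) Q')
    (h : CAlg.IsGeometricallyRegular Q.ResidueField
      (EGA4.formalFibre (Localization.AtPrime (Ideal.comap (algebraMap R R') p')) Q)) :
    CAlg.IsGeometricallyRegular Q'.ResidueField (EGA4.formalFibre (Localization.AtPrime p') Q') := by
  classical
  obtain ⟨S', hS'fg, r, hrp, hbij⟩ :=
    Algebra.QuasiFiniteAt.exists_fg_and_exists_notMem_and_awayMap_bijective (R := R) p'
  haveI hfin : Module.Finite R S' := ⟨(Submodule.fg_top _).mpr hS'fg⟩
  set p : Ideal R := Ideal.comap (algebraMap R R') p' with hp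
  set q : Ideal S' := p'.under S' with hq
  haveI hqprime : q.IsPrime := Ideal.comap_isPrime _ _
  haveI : p'.LiesOver q := ⟨rfl⟩
  have hsat : S'.saturation (p'.primeCompl ⊓ S'.toSubmonoid) inf_le_right = ⊤ := by
    rw [eq_top_iff]
    intro x _
    obtain ⟨b, m, hb⟩ := Localization.awayMap_surjective_iff.mp hbij.2 x
    refine ⟨(r : R') ^ m, ⟨?_, ?_⟩, ?_⟩
    · exact p'.primeCompl.pow_mem hrp m
    · exact pow_mem r.2 m
    · have : (S'.val.toRingHom r) ^ m * x = b := hb.symm
      change (r : R') ^ m * x = b at this
      rw [this]
      exact b.2
  have hloc := Localization.localRingHom_bijective_of_saturated_inf_eq_top R' hsat q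
  let e2 : Localization.AtPrime q ≃+* Localization.AtPrime p' := RingEquiv.ofBijective _ hloc
  haveI hSN : IsNoetherianRing S' := IsNoetherianRing.of_finite R S'
  let M : Submonoid S' := Algebra.algebraMapSubmonoid S' p.primeCompl
  haveI hBfin : Module.Finite (Localization.AtPrime p) (Localization M) :=
    Module.Finite.of_isLocalization R S' p.primeCompl
  have hqR : q.comap (algebraMap R S') = p := by
    rw [hq, hp, Ideal.under_def, Ideal.comap_comap, ← IsScalarTower.algebraMap_eq]
  have hdisj : Disjoint (M : Set S') (q : Set S') := by
    rw [Set.disjoint_left]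
    rintro _ ⟨s, hs, rfl⟩ hsq
    apply hs
    change s ∈ p
    rw [← hqR]
    exact hsq
  set n : Ideal (Localization M) := q.map (algebraMap S' (Localization M)) with hn
  haveI hnprime : n.IsPrime := IsLocalization.isPrime_of_isPrime_disjoint M _ q hqprime hdisj
  have hncomap : n.comap (algebraMap S' (Localization M)) = q :=
    IsLocalization.under_map_of_isPrime_disjoint M _ hqprime hdisj
  have hmax_le : maximalIdeal (Localization.AtPrime p) ≤
      n.comap (algebraMap (Localization.AtPrime p) (Localization M)) := by
    rw [← Localization.AtPrime.map_eq_maximalIdeal, Ideal.map_le_iff_le_comap, Ideal.comap_comap,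
      ← IsScalarTower.algebraMap_eq, IsScalarTower.algebraMap_eq R S' (Localization M),
      ← Ideal.comap_comap, hncomap, hqR]
  haveI hnmax : n.IsMaximal := by
    haveI : Algebra.IsIntegral (Localization.AtPrime p) (Localization M) :=
      Algebra.IsIntegral.of_finite _ _
    apply Ideal.isMaximal_of_isIntegral_of_isMaximal_comap (R := Localization.AtPrime p)
    have hne : n.comap (algebraMap (Localization.AtPrime p) (Localization M)) ≠ ⊤ :=
      Ideal.comap_ne_top _ hnprime.ne_top
    rw [← (maximalIdeal.isMaximal _).eq_of_le hne hmax_le]
    infer_instance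
  haveI hloc' : IsLocalization.AtPrime (Localization.AtPrime n) q := by
    have h2 : IsLocalization (n.comap (algebraMap S' (Localization M))).primeCompl
        (Localization.AtPrime n) :=
      IsLocalization.isLocalization_isLocalization_atPrime_isLocalization M
        (Localization.AtPrime n) n
    have h3 : (n.comap (algebraMap S' (Localization M))).primeCompl = q.primeCompl := by
      ext x
      change x ∉ n.comap (algebraMap S' (Localization M)) ↔ x ∉ q
      rw [hncomap]
    change IsLocalization q.primeCompl (Localization.AtPrime n)
    rw [← h3]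
    exact h2
  let e1a : Localization.AtPrime n ≃ₐ[S'] Localization.AtPrime q :=
    IsLocalization.algEquiv q.primeCompl (Localization.AtPrime n) (Localization.AtPrime q)
  let e1 : Localization.AtPrime n ≃+* Localization.AtPrime q := e1a.toRingEquiv
  haveI : IsNoetherianRing (Localization M) := IsLocalization.isNoetherianRing M _ inferInstance
  haveI : IsNoetherianRing (Localization.AtPrime n) :=
    IsLocalization.isNoetherianRing n.primeCompl _ inferInstance
  haveI : IsNoetherianRing (Localization.AtPrime p') :=
    IsLocalization.isNoetherianRing p'.primeCompl _ inferInstance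
  -- the iso σ : C ≃+* R'_{p'} and its compatibility with R
  let σ : Localization.AtPrime n ≃+* Localization.AtPrime p' := e1.trans e2
  have hσR : ∀ x : R, σ (algebraMap R (Localization.AtPrime n) x) =
      algebraMap R (Localization.AtPrime p') x := by
    intro x
    have h1 : algebraMap R (Localization.AtPrime n) x =
        algebraMap S' (Localization.AtPrime n) (algebraMap R S' x) := by
      rw [← IsScalarTower.algebraMap_apply R S' (Localization.AtPrime n)]
    rw [h1]
    change e2 (e1a (algebraMap S' (Localization.AtPrime n) (algebraMap R S' x))) = _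
    rw [e1a.commutes]
    simp only [e2, RingEquiv.ofBijective_apply, Localization.localRingHom_to_map]
    rfl
  letI algσ : Algebra (Localization.AtPrime n) (Localization.AtPrime p') := σ.toRingHom.toAlgebra
  set Q'' : Ideal (Localization.AtPrime n) := Q'.comap (algebraMap (Localization.AtPrime n)
    (Localization.AtPrime p')) with hQ''
  haveI : Q''.IsPrime := Ideal.comap_isPrime _ _
  have hQQ : Q''.comap (algebraMap (Localization.AtPrime p) (Localization.AtPrime n)) = Q := by
    have hinj := IsLocalization.map_comap p.primeCompl (Localization.AtPrime p)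
    rw [← hinj Q, ← hinj (Q''.comap (algebraMap (Localization.AtPrime p) (Localization.AtPrime n)))]
    congr 1
    rw [Ideal.under_def, Ideal.under_def, hQ, hQ'', Ideal.comap_comap, Ideal.comap_comap]
    congr 1
    ext x
    simp only [RingHom.comp_apply]
    rw [← IsScalarTower.algebraMap_apply R (Localization.AtPrime p) (Localization.AtPrime n)]
    exact hσR x
  have h1 := Groth.Agent.Lib.Helper9.FFib.geomRegular_formalFibre_of_finite_local
    (A := Localization.AtPrime p) (B := Localization M) (C := Localization.AtPrime n) n hmax_le
    Q'' Q hQQ h
  exact geomRegular_formalFibre_of_surjective (Localization.AtPrime n) (Localization.AtPrime p')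
    σ.surjective Q' h1

end main

end Groth.Agent.Lib.Helper9.FFib2
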