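import Mathlib
import Groth.Prelude.Def_EGA4b
import Groth.Agent.Lib.Helper18.Exc
import Groth.Agent.Lib.Helper9.FFib2

set_option autoImplicit false
set_option linter.unusedSectionVars false
set_option linter.style.haveILetI false
universe u
open IsLocalRing TensorProduct

namespace Groth.Agent.Lib.Helper9.FFib3

open Groth.Agent.Lib.Helper18.FibQuot

section surj

variable (A B : Type u) [CommRing A] [IsNoetherianRing A] [IsLocalRing A]
  [CommRing B] [IsNoetherianRing B] [IsLocalRing B] [Algebra A B]
  (hs : Function.Surjective (algebraMap A B))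

include hs in
/-- converse transport along a surjection -/
theorem geomRegular_formalFibre_of_surjective' (p : Ideal B) [p.IsPrime]
    (hB : CAlg.IsGeometricallyRegular p.ResidueField (EGA4.formalFibre B p)) :
    CAlg.IsGeometricallyRegular (p.comap (algebraMap A B)).ResidueField
      (EGA4.formalFibre A (p.comap (algebraMap A B))) := by
  intro L _ _ hfin
  let ρ : (p.comap (algebraMap A B)).ResidueField ≃+* p.ResidueField :=
    RingEquiv.ofBijective (resMap' A B p) (resMap'_bijective A B hs p)
  letI alg : Algebra p.ResidueField L :=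
    ((algebraMap (p.comap (algebraMap A B)).ResidueField L).comp ρ.symm.toRingHom).toAlgebra
  have hcomp : algebraMap (p.comap (algebraMap A B)).ResidueField L =
      (algebraMap p.ResidueField L).comp (resMap' A B p) := by
    refine RingHom.ext fun x => ?_
    change _ = algebraMap (p.comap (algebraMap A B)).ResidueField L (ρ.symm (ρ x))
    rw [RingEquiv.symm_apply_apply]
  letI alg2 : Algebra (p.comap (algebraMap A B)).ResidueField p.ResidueField :=
    (resMap' A B p).toAlgebra
  haveI : IsScalarTower (p.comap (algebraMap A B)).ResidueField p.ResidueField L :=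
    IsScalarTower.of_algebraMap_eq (fun x => congrArg (fun φ => φ x) hcomp)
  haveI : Module.Finite p.ResidueField L :=
    Module.Finite.of_restrictScalars_finite (p.comap (algebraMap A B)).ResidueField _ _
  obtain ⟨e⟩ := nonempty_ringEquiv_formalFibre' A B hs p L hcomp
  have := hB L inferInstance
  exact @IsRegularRing.of_ringEquiv _ _ _ _ e this

end surj

section loc

variable (R : Type u) [CommRing R] (q : Ideal R) [q.IsPrime] (P : Ideal (R ⧸ q)) [P.IsPrime]
  (p : Ideal R) [p.IsPrime] (hpP : p = P.comap (Ideal.Quotient.mk q))

include hpP in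
theorem localRingHom_surjective :
    Function.Surjective (Localization.localRingHom p P (Ideal.Quotient.mk q) hpP) := by
  intro y
  obtain ⟨a, s, rfl⟩ := IsLocalization.exists_mk'_eq P.primeCompl y
  obtain ⟨a', rfl⟩ := Ideal.Quotient.mk_surjective a
  obtain ⟨s', hs'⟩ := Ideal.Quotient.mk_surjective (s : R ⧸ q)
  have hs'p : s' ∈ p.primeCompl := by
    intro hmem
    have h2 : s' ∈ P.comap (Ideal.Quotient.mk q) := hpP ▸ hmem
    rw [Ideal.mem_comap, hs'] at h2
    exact s.2 h2
  refine ⟨IsLocalization.mk' _ a' ⟨s', hs'p⟩, ?_⟩
  rw [Localization.localRingHom_mk']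
  congr 1
  exact Subtype.ext hs'

include hpP in
theorem ker_localRingHom (Q : Ideal (Localization.AtPrime p)) [Q.IsPrime]
    (hQ : Q.comap (algebraMap R (Localization.AtPrime p)) = q) :
    (⊥ : Ideal (Localization.AtPrime P)).comap
      (Localization.localRingHom p P (Ideal.Quotient.mk q) hpP) = Q := by
  have hqp : q ≤ p := by
    rw [hpP]
    intro x hx
    rw [Ideal.mem_comap, Ideal.Quotient.eq_zero_iff_mem.mpr hx]
    exact zero_mem _
  ext x
  obtain ⟨a, s, rfl⟩ := IsLocalization.exists_mk'_eq p.primeCompl x
  rw [Ideal.mem_comap, Ideal.mem_bot, Localization.localRingHom_mk',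
    IsLocalization.mk'_eq_zero_iff, IsLocalization.mk'_mem_iff, ← Ideal.mem_comap, hQ]
  constructor
  · rintro ⟨⟨m, hm⟩, hma⟩
    obtain ⟨m', rfl⟩ := Ideal.Quotient.mk_surjective m
    simp only at hma
    rw [← map_mul, Ideal.Quotient.eq_zero_iff_mem] at hma
    rcases (inferInstance : q.IsPrime).mem_or_mem hma with h | h
    · exfalso
      apply hm
      rw [Ideal.Quotient.eq_zero_iff_mem.mpr h]
      exact zero_mem _
    · exact h
  · intro ha
    exact ⟨1, by simp [Ideal.Quotient.eq_zero_iff_mem.mpr ha]⟩

end loc

theorem main (R : Type u) [CommRing R] [IsNoetherianRing R] :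
    CAlg.IsGRing R ↔
      ∀ (q : Ideal R) [q.IsPrime] (P : Ideal (R ⧸ q)) [P.IsPrime],
        CAlg.IsGeometricallyRegular (⊥ : Ideal (Localization.AtPrime P)).ResidueField
          (EGA4.formalFibre (Localization.AtPrime P) (⊥ : Ideal (Localization.AtPrime P))) := by
  constructor
  · rintro ⟨_, hG⟩ q _ P _
    set p : Ideal R := P.comap (Ideal.Quotient.mk q) with hp
    haveI : p.IsPrime := Ideal.comap_isPrime _ _
    letI : Algebra (Localization.AtPrime p) (Localization.AtPrime P) :=
      (Localization.localRingHom p P (Ideal.Quotient.mk q) hp).toAlgebra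
    have hs : Function.Surjective (algebraMap (Localization.AtPrime p) (Localization.AtPrime P)) :=
      localRingHom_surjective R q P p hp
    haveI : IsNoetherianRing (Localization.AtPrime p) :=
      IsLocalization.isNoetherianRing p.primeCompl _ inferInstance
    haveI : IsNoetherianRing (Localization.AtPrime P) :=
      IsLocalization.isNoetherianRing P.primeCompl _ inferInstance
    haveI : ((⊥ : Ideal (Localization.AtPrime P)).comap
        (algebraMap (Localization.AtPrime p) (Localization.AtPrime P))).IsPrime :=
      Ideal.comap_isPrime _ _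
    exact Groth.Agent.Lib.Helper9.FFib2.geomRegular_formalFibre_of_surjective _ _ hs ⊥
      ((hG p).2 _).2
  · intro H
    refine ⟨inferInstance, fun p _ => ?_⟩
    haveI : IsNoetherianRing (Localization.AtPrime p) :=
      IsLocalization.isNoetherianRing p.primeCompl _ inferInstance
    refine ⟨inferInstance, fun Q _ => ⟨inferInstance, ?_⟩⟩
    set q : Ideal R := Q.comap (algebraMap R (Localization.AtPrime p)) with hq
    haveI : q.IsPrime := Ideal.comap_isPrime _ _
    have hqp : q ≤ p := by
      intro x hx
      have h1 : algebraMap R (Localization.AtPrime p) x ∈ maximalIdeal (Localization.AtPrime p) :=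
        IsLocalRing.le_maximalIdeal (Ideal.IsPrime.ne_top inferInstance) hx
      exact (IsLocalization.AtPrime.to_map_mem_maximal_iff _ p x).mp h1
    set P : Ideal (R ⧸ q) := p.map (Ideal.Quotient.mk q) with hP
    have hPc : P.comap (Ideal.Quotient.mk q) = p := by
      rw [hP, Ideal.comap_map_of_surjective _ Ideal.Quotient.mk_surjective, ← RingHom.ker_eq_comap_bot,
        Ideal.mk_ker, sup_eq_left.mpr hqp]
    haveI : P.IsPrime := by
      rw [hP]
      exact Ideal.map_isPrime_of_surjective Ideal.Quotient.mk_surjective (by rw [Ideal.mk_ker]; exact hqp)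
    letI : Algebra (Localization.AtPrime p) (Localization.AtPrime P) :=
      (Localization.localRingHom p P (Ideal.Quotient.mk q) hPc.symm).toAlgebra
    have hs : Function.Surjective (algebraMap (Localization.AtPrime p) (Localization.AtPrime P)) :=
      localRingHom_surjective R q P p hPc.symm
    haveI : IsNoetherianRing (Localization.AtPrime P) :=
      IsLocalization.isNoetherianRing P.primeCompl _ inferInstance
    have hker : (⊥ : Ideal (Localization.AtPrime P)).comap
        (algebraMap (Localization.AtPrime p) (Localization.AtPrime P)) = Q :=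
      ker_localRingHom R q P p hPc.symm Q rfl
    have h1 := geomRegular_formalFibre_of_surjective' _ _ hs ⊥ (H q P)
    have key : ∀ Q₁ : Ideal (Localization.AtPrime p), Q₁ = Q → ∀ [Q₁.IsPrime],
        CAlg.IsGeometricallyRegular Q₁.ResidueField
          (EGA4.formalFibre (Localization.AtPrime p) Q₁) →
        CAlg.IsGeometricallyRegular Q.ResidueField
          (EGA4.formalFibre (Localization.AtPrime p) Q) := by
      intro Q₁ hQ₁ _ h
      subst hQ₁
      exact h
    haveI : ((⊥ : Ideal (Localization.AtPrime P)).comap
        (algebraMap (Localization.AtPrime p) (Localization.AtPrime P))).IsPrime :=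
      Ideal.comap_isPrime _ _
    exact key _ hker h1

end Groth.Agent.Lib.Helper9.FFib3
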