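import Mathlib
import Groth.Agent.Lib.Helper9.SmoothDim

set_option autoImplicit false
universe u

namespace Groth.Agent.Lib.Helper9.SmoothField

open TensorProduct KaehlerDifferential IsLocalRing Groth.Agent.Lib.Helper9.JacobianPt
  Groth.Agent.Lib.Helper9.SmoothDim

/-- smoothness over a field can be checked at closed points. -/
theorem smooth_of_forall_isSmoothAt (k A : Type u) [Field k] [CommRing A] [Algebra k A]
    [Algebra.FiniteType k A]
    (h : ∀ (m : Ideal A) [m.IsMaximal], Algebra.IsSmoothAt k m) : Algebra.Smooth k A := by
  have hfp : Algebra.FinitePresentation k A := Algebra.FinitePresentation.of_finiteType.mp inferInstance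
  have hopen := Algebra.isOpen_smoothLocus (R := k) (A := A)
  have huniv : Algebra.smoothLocus k A = Set.univ := by
    by_contra hne
    have hc : (Algebra.smoothLocus k A)ᶜ.Nonempty := Set.nonempty_compl.mpr hne
    obtain ⟨p, hp⟩ := hc
    have hcl : IsClosed (Algebra.smoothLocus k A)ᶜ := hopen.isClosed_compl
    obtain ⟨m, hm, hpm⟩ := Ideal.exists_le_maximal p.asIdeal p.2.ne_top
    have hmem : (⟨m, hm.isPrime⟩ : PrimeSpectrum A) ∈ (Algebra.smoothLocus k A)ᶜ := by
      apply hcl.stableUnderSpecialization _ hp
      rw [← PrimeSpectrum.le_iff_specializes]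
      exact hpm
    exact hmem (h m)
  exact ⟨Algebra.smoothLocus_eq_univ_iff.mp huniv, hfp⟩

/-- a finite module all of whose closed fibres vanish is zero. -/
theorem subsingleton_of_forall_maximal {A : Type*} [CommRing A] (K : Type*) [AddCommGroup K]
    [Module A K] [Module.Finite A K]
    (h : ∀ (m : Ideal A) [m.IsMaximal], Subsingleton (m.ResidueField ⊗[A] K)) : Subsingleton K := by
  by_contra hK
  rw [not_subsingleton_iff_nontrivial] at hK
  obtain ⟨p, hp⟩ := Module.nonempty_support_of_nontrivial (R := A) (M := K)
  obtain ⟨m, hm, hpm⟩ := Ideal.exists_le_maximal p.asIdeal p.2.ne_top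
  have hmem : (⟨m, hm.isPrime⟩ : PrimeSpectrum A) ∈ Module.support A K :=
    Module.mem_support_mono (p := p) (q := ⟨m, hm.isPrime⟩) hpm hp
  rw [Module.mem_support_iff_nontrivial_residueField_tensorProduct] at hmem
  have := h m
  exact not_subsingleton _ this

/-- A surjection from a finite module onto a projective module whose closed fibres are not
smaller is injective. -/
theorem injective_of_surjective_of_finrank_le {A : Type*} [CommRing A] {F M : Type*}
    [AddCommGroup F] [Module A F] [AddCommGroup M] [Module A M] [Module.Finite A F]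
    [Module.Projective A M] (f : F →ₗ[A] M) (hf : Function.Surjective f)
    (h : ∀ (m : Ideal A) [m.IsMaximal],
      Module.finrank m.ResidueField (m.ResidueField ⊗[A] F) ≤
        Module.finrank m.ResidueField (m.ResidueField ⊗[A] M)) :
    Function.Injective f := by
  obtain ⟨σ, hσ⟩ := Module.projective_lifting_property f LinearMap.id hf
  have hσ' : ∀ z, f (σ z) = z := fun z => LinearMap.congr_fun hσ z
  -- the splitting
  let pr : F →ₗ[A] LinearMap.ker f :=
    LinearMap.codRestrict (LinearMap.ker f) (LinearMap.id - σ ∘ₗ f) (fun x => by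
      simp [LinearMap.mem_ker, hσ'])
  have hpr : ∀ x, (pr x : F) = x - σ (f x) := fun x => rfl
  let e : F ≃ₗ[A] (LinearMap.ker f × M) :=
    { toLinearMap := pr.prod f
      invFun := fun y => (y.1 : F) + σ y.2
      left_inv := fun x => by
        simp [hpr]
      right_inv := fun y => by
        apply Prod.ext
        · apply Subtype.ext
          simp [hpr, hσ', (LinearMap.mem_ker.mp y.1.2)]
        · simp [hσ', (LinearMap.mem_ker.mp y.1.2)] }
  have hfinK : Module.Finite A (LinearMap.ker f) :=
    Module.Finite.of_surjective pr (fun y => ⟨y, by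
      apply Subtype.ext
      rw [hpr, LinearMap.mem_ker.mp y.2, map_zero, sub_zero]⟩)
  have hfinM : Module.Finite A M := Module.Finite.of_surjective f hf
  have hK : Subsingleton (LinearMap.ker f) := by
    refine subsingleton_of_forall_maximal (A := A) _ (fun m hm => ?_)
    have e' : m.ResidueField ⊗[A] F ≃ₗ[m.ResidueField]
        (m.ResidueField ⊗[A] LinearMap.ker f) × (m.ResidueField ⊗[A] M) :=
      (AlgebraTensorModule.congr (LinearEquiv.refl m.ResidueField m.ResidueField) e) ≪≫ₗ
        TensorProduct.prodRight A m.ResidueField m.ResidueField _ _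
    have h1 := e'.finrank_eq
    rw [Module.finrank_prod] at h1
    have h2 := h m
    have h3 : Module.finrank m.ResidueField (m.ResidueField ⊗[A] LinearMap.ker f) = 0 := by omega
    exact Module.finrank_zero_iff.mp h3
  rw [← LinearMap.ker_eq_bot]
  exact (Submodule.subsingleton_iff_eq_bot).mp hK

/-- if `Ω` is spanned by `n` elements then its fibres have dimension `≤ n`. -/
theorem finrank_fibre_le_of_span {A M : Type*} [CommRing A] [AddCommGroup M] [Module A M]
    (L : Type*) [Field L] [Algebra A L] {n : ℕ} (v : Fin n → M)
    (hv : Submodule.span A (Set.range v) = ⊤) :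
    Module.finrank L (L ⊗[A] M) ≤ n := by
  have h1 := span_tmul_eq_top (L := L) v hv
  have h2 := finrank_range_le_card (R := L) (fun i => (1 : L) ⊗ₜ[A] v i)
  rw [Set.finrank, h1, finrank_top, Fintype.card_fin] at h2
  exact h2

end Groth.Agent.Lib.Helper9.SmoothField
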