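import Mathlib
import Groth.Agent.Lib.Helper9.SmoothField
import Groth.Agent.Lib.Helper23.Cartier
import Groth.Agent.Lib.Helper20.DimTrdeg

set_option autoImplicit false
universe u

namespace Groth.Agent.Lib.Helper9.SmoothRed

open TensorProduct KaehlerDifferential IsLocalRing Groth.Agent.Lib.Helper9.JacobianPt
  Groth.Agent.Lib.Helper9.SmoothDim Groth.Agent.Lib.Helper9.SmoothField

theorem height_le_height_comap_of_surjective {R S : Type*} [CommRing R] [CommRing S] (f : R →+* S)
    (hf : Function.Surjective f) (Q : Ideal S) [hQ : Q.IsPrime] : Q.height ≤ (Q.comap f).height := by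
  have hmono : StrictMono (PrimeSpectrum.comap f) := by
    apply Monotone.strictMono_of_injective
    · intro a b hab
      exact Ideal.comap_mono hab
    · exact PrimeSpectrum.comap_injective_of_surjective f hf
  have h := Order.height_le_height_apply_of_strictMono (PrimeSpectrum.comap f) hmono
    (⟨Q, hQ⟩ : PrimeSpectrum S)
  rw [← PrimeSpectrum.height_eq_orderHeight, ← PrimeSpectrum.height_eq_orderHeight] at h
  exact h

/-- Cartier's equality in the separable case. -/
theorem finrank_kaehler_eq_trdeg (k L : Type u) [Field k] [Field L] [Algebra k L]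
    [Algebra.EssFiniteType k L] [Algebra.IsGeometricallyReduced k L] :
    Module.finrank L Ω[L⁄k] = Cardinal.toNat (Algebra.trdeg k L) := by
  obtain ⟨h1, h2, h3⟩ := Groth.Agent.Lib.Helper23.Cartier.t2469main (K := k) (L := L)
  have hinj := (Groth.Agent.Lib.Helper23.FieldSep.isGeometricallyReduced_iff_injective k L).mp
    inferInstance
  have h0 : Module.finrank L (EGA41.imperfection ℤ k L) = 0 := by
    have : EGA41.imperfection ℤ k L = ⊥ := LinearMap.ker_eq_bot.mpr hinj
    rw [this]
    exact finrank_bot L _
  rw [h0] at h3
  have : (Module.finrank L Ω[L⁄k] : ℤ) = Cardinal.toNat (Algebra.trdeg k L) := by simpa using h3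
  exact_mod_cast this

section
variable (k A : Type u) [Field k] [CommRing A] [Algebra k A] [Algebra.FiniteType k A]
  (p : Ideal A) [p.IsPrime]

omit [Algebra.FiniteType k A] in
theorem bijective_residue {A : Type*} [CommRing A] (p : Ideal A) [p.IsPrime]
    (hF : IsField (Localization.AtPrime p)) :
    Function.Bijective (algebraMap (Localization.AtPrime p) p.ResidueField) := by
  constructor
  · rw [RingHom.injective_iff_ker_eq_bot]
    change RingHom.ker (IsLocalRing.residue _) = ⊥
    rw [IsLocalRing.ker_residue, ← IsLocalRing.isField_iff_maximalIdeal_eq]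
    exact hF
  · exact IsLocalRing.residue_surjective

theorem finrank_fibre_eq_trdeg (hF : IsField (Localization.AtPrime p))
    [Algebra.IsGeometricallyReduced k (Localization.AtPrime p)] :
    Module.finrank p.ResidueField (p.ResidueField ⊗[A] Ω[A⁄k]) =
      Cardinal.toNat (Algebra.trdeg k p.ResidueField) := by
  let e : Localization.AtPrime p ≃ₐ[Localization.AtPrime p] p.ResidueField :=
    AlgEquiv.ofBijective (Algebra.ofId _ _) (bijective_residue p hF)
  have h1 : Algebra.FormallyEtale (Localization.AtPrime p) p.ResidueField :=
    Algebra.FormallyEtale.of_equiv e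
  have h2 : Algebra.FormallyEtale A (Localization.AtPrime p) :=
    Algebra.FormallyEtale.of_isLocalization p.primeCompl
  have h3 : Algebra.FormallyEtale A p.ResidueField :=
    Algebra.FormallyEtale.comp A (Localization.AtPrime p) p.ResidueField
  have h4 : Algebra.EssFiniteType (Localization.AtPrime p) p.ResidueField := by
    have : Algebra.FiniteType (Localization.AtPrime p) p.ResidueField :=
      Algebra.FiniteType.of_surjective (Algebra.ofId _ _) IsLocalRing.residue_surjective
    infer_instance
  have h5 : Algebra.EssFiniteType k p.ResidueField :=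
    Algebra.EssFiniteType.comp k (Localization.AtPrime p) p.ResidueField
  have h6 : Algebra.IsGeometricallyReduced k p.ResidueField :=
    Algebra.IsGeometricallyReduced.of_injective
      (((e.restrictScalars k).symm : p.ResidueField ≃ₐ[k] Localization.AtPrime p) :
        p.ResidueField →ₐ[k] Localization.AtPrime p)
      (AlgEquiv.injective _)
  rw [(tensorKaehlerEquivOfFormallyEtale k A p.ResidueField).finrank_eq]
  exact finrank_kaehler_eq_trdeg k p.ResidueField

theorem finrank_le_ringKrullDim [Module.Projective A Ω[A⁄k]]
    (hF : IsField (Localization.AtPrime p))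
    [Algebra.IsGeometricallyReduced k (Localization.AtPrime p)] (m : Ideal A) [m.IsMaximal]
    (hpm : p ≤ m) :
    ((Module.finrank m.ResidueField (m.ResidueField ⊗[A] Ω[A⁄k]) : ℕ) : WithBot ℕ∞) ≤
      ringKrullDim (Localization.AtPrime m) := by
  have hfin : Module.Finite A Ω[A⁄k] := inferInstance
  have h1 : Module.finrank m.ResidueField (m.ResidueField ⊗[A] Ω[A⁄k]) =
      Module.finrank p.ResidueField (p.ResidueField ⊗[A] Ω[A⁄k]) := by
    have := Module.rankAtStalk_eq_of_le_of_finite_of_flat' Ω[A⁄k] hpm
    rw [Module.rankAtStalk_eq, Module.rankAtStalk_eq] at this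
    exact this.symm
  rw [h1, finrank_fibre_eq_trdeg k A p hF]
  have h2 := Groth.Agent.Lib.Helper20.DimTrdeg.ringKrullDim_eq_trdeg k (A ⧸ p) p.ResidueField
  rw [← h2]
  let m' := m.map (Ideal.Quotient.mk p)
  have hm' : m'.IsMaximal := Ideal.IsMaximal.map_of_surjective_of_ker_le
    Ideal.Quotient.mk_surjective (by rw [Ideal.mk_ker]; exact hpm)
  have h3 := Groth.Agent.Lib.Helper7.DimFT.height_eq_ringKrullDim_of_isMaximal k (A ⧸ p) m'
  rw [← h3, IsLocalization.AtPrime.ringKrullDim_eq_height m (Localization.AtPrime m)]
  have h4 := height_le_height_comap_of_surjective (Ideal.Quotient.mk p)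
    Ideal.Quotient.mk_surjective m'
  have h5 : m'.comap (Ideal.Quotient.mk p) = m := by
    rw [Ideal.comap_map_of_surjective' _ Ideal.Quotient.mk_surjective, Ideal.mk_ker,
      sup_eq_left.mpr hpm]
  rw [h5] at h4
  exact_mod_cast h4


/-- **Smoothness criterion**: projective differentials and geometrically reduced generic points. -/
theorem smooth_of_projective_of_geomReduced [Module.Projective A Ω[A⁄k]]
    (h : ∀ (q : Ideal A) [q.IsPrime], q ∈ minimalPrimes A →
      Algebra.IsGeometricallyReduced k (Localization.AtPrime q)) : Algebra.Smooth k A := by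
  apply smooth_of_forall_isSmoothAt
  intro m hm
  obtain ⟨q, hq, hqm⟩ := Ideal.exists_minimalPrimes_le (I := (⊥ : Ideal A)) (J := m) bot_le
  have hqp : q.IsPrime := hq.1.1
  have hgr := h q hq
  have hred : IsReduced (Localization.AtPrime q) :=
    Algebra.isReduced_of_isGeometricallyReduced k
  have hdim : Ring.KrullDimLE 0 (Localization.AtPrime q) :=
    Ring.KrullDimLE.of_isLocalization q hq _
  have hF : IsField (Localization.AtPrime q) := Ring.KrullDimLE.isField_of_isReduced
  rw [isSmoothAt_iff_finrank_le]
  exact finrank_le_ringKrullDim k A q hF m hqm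

theorem isGeometricallyReduced_of_smooth [Algebra.Smooth k A] (q : Ideal A) [q.IsPrime] :
    Algebra.IsGeometricallyReduced k (Localization.AtPrime q) := by
  have : Algebra.FormallySmooth A (Localization.AtPrime q) :=
    Algebra.FormallySmooth.of_isLocalization q.primeCompl
  have : Algebra.FormallySmooth k (Localization.AtPrime q) :=
    Algebra.FormallySmooth.comp k A (Localization.AtPrime q)
  exact Groth.Agent.Lib.Helper23.FieldSep.isGeometricallyReduced_of_formallySmooth k _

/-- over a perfect field, reduced with projective differentials implies smooth. -/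
theorem smooth_of_projective_of_reduced_of_perfect [PerfectField k] [IsReduced A]
    [Module.Projective A Ω[A⁄k]] : Algebra.Smooth k A := by
  apply smooth_of_projective_of_geomReduced
  intro q hqp hq
  have hred : IsReduced (Localization.AtPrime q) := inferInstance
  have hdim : Ring.KrullDimLE 0 (Localization.AtPrime q) :=
    Ring.KrullDimLE.of_isLocalization q hq _
  have hF : IsField (Localization.AtPrime q) := Ring.KrullDimLE.isField_of_isReduced
  let e : Localization.AtPrime q ≃ₐ[Localization.AtPrime q] q.ResidueField :=
    AlgEquiv.ofBijective (Algebra.ofId _ _) (bijective_residue q hF)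
  have h4 : Algebra.EssFiniteType (Localization.AtPrime q) q.ResidueField := by
    have : Algebra.FiniteType (Localization.AtPrime q) q.ResidueField :=
      Algebra.FiniteType.of_surjective (Algebra.ofId _ _) IsLocalRing.residue_surjective
    infer_instance
  have h5 : Algebra.EssFiniteType k q.ResidueField :=
    Algebra.EssFiniteType.comp k (Localization.AtPrime q) q.ResidueField
  have h6 : Algebra.FormallySmooth k q.ResidueField := Algebra.FormallySmooth.of_perfectField
  have h7 : Algebra.IsGeometricallyReduced k q.ResidueField :=
    Groth.Agent.Lib.Helper23.FieldSep.isGeometricallyReduced_of_formallySmooth k _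
  exact Algebra.IsGeometricallyReduced.of_injective
      ((e.restrictScalars k : Localization.AtPrime q ≃ₐ[k] q.ResidueField) :
        Localization.AtPrime q →ₐ[k] q.ResidueField)
      (AlgEquiv.injective _)

end

end Groth.Agent.Lib.Helper9.SmoothRed
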