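import Mathlib
import Groth.Agent.S2195
import Groth.Agent.Lib.Helper29.QAff3
import Groth.Agent.Lib.Helper26.FinLocFreeMor

/-!
# Purity of the branch locus for finite flat morphisms (helper9)
-/

set_option autoImplicit false
universe u
open CategoryTheory CategoryTheory.Limits AlgebraicGeometry TopologicalSpace Opposite IsLocalRing

namespace Groth.Agent.Lib.Helper9.PurFF

open Groth.Agent.Lib.Helper29.QCoh

variable {X Y : Scheme.{u}}

set_option backward.isDefEq.respectTransparency false in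
theorem etale_morphismRestrict_iff (f : X ⟶ Y) [IsAffineHom f] {W : Y.Opens}
    (hW : IsAffineOpen W) : Etale (f ∣_ W) ↔ (f.app W).hom.Etale := by
  haveI : IsAffine W.toScheme := hW
  haveI : IsAffine (f ⁻¹ᵁ W).toScheme := hW.preimage f
  rw [HasRingHomProperty.iff_of_isAffine (P := @Etale), morphismRestrict_appTop,
    CommRingCat.hom_comp, RingHom.Etale.respectsIso.cancel_right_isIso]
  change RingHom.Etale (Scheme.Hom.app f (W.ι ''ᵁ ⊤)).hom ↔ _
  rw [Scheme.Opens.ι_image_top]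

theorem etale_restrict_of_le (f : X ⟶ Y) {U W : Y.Opens} (hWU : W ≤ U) [Etale (f ∣_ U)] :
    Etale (f ∣_ W) := by
  have h1 : Etale ((f ∣_ U) ∣_ (U.ι ⁻¹ᵁ W)) := inferInstance
  have h2 : Etale (f ∣_ U.ι ''ᵁ (U.ι ⁻¹ᵁ W)) :=
    (MorphismProperty.arrow_mk_iso_iff @Etale (morphismRestrictRestrict f U (U.ι ⁻¹ᵁ W))).mp h1
  have e : U.ι ''ᵁ (U.ι ⁻¹ᵁ W) = W := by
    rw [Scheme.Hom.image_preimage_eq_opensRange_inf, Scheme.Opens.opensRange_ι]
    exact inf_eq_right.mpr hWU
  rw [e] at h2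
  exact h2

theorem isUnit_discr_of_etale_away {A B A' B' : Type u} [CommRing A] [CommRing B] [CommRing A']
    [CommRing B'] [Algebra A B] [Algebra A A'] [Algebra B B'] [Algebra A' B'] [Algebra A B']
    [IsScalarTower A A' B'] [IsScalarTower A B B']
    (h : A) [IsLocalization.Away h A'] [hB : IsLocalization.Away (algebraMap A B h) B']
    {n : ℕ} (b : Module.Basis (Fin n) A B) [Algebra.Etale A' B'] :
    IsUnit (algebraMap A A' (Algebra.discr A b)) := by
  haveI : IsLocalization (Algebra.algebraMapSubmonoid B (Submonoid.powers h)) B' := by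
    rw [Algebra.algebraMapSubmonoid_powers]; exact hB
  let b' := b.localizationLocalization A' (Submonoid.powers h) B'
  have h1 : IsUnit (Algebra.discr A' b') := (Groth.Agent.S2195.result b').mp inferInstance
  rwa [Algebra.discr_localizationLocalization A (Submonoid.powers h) B' b] at h1

open Groth.Agent.Lib.Helper26.FinLocFreeMor in
theorem main [IsLocallyNoetherian Y] (f : X ⟶ Y) [IsFinite f] [Flat f] (U : Y.Opens)
    (hU : ∀ y : Y, y ∉ U → (2 : WithBot ℕ∞) ≤ ringKrullDim (Y.presheaf.stalk y))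
    [Etale (f ∣_ U)] : Etale f := by
  have hlfp : LocallyOfFinitePresentation f := inferInstance
  have hM : FlatMod.IsFinLocFree ((Scheme.Modules.pushforward f).obj (unitM X)) :=
    (backward f ⟨inferInstance, inferInstance, hlfp⟩).2
  apply IsZariskiLocalAtTarget.of_forall_exists_morphismRestrict (P := @Etale)
  intro y
  obtain ⟨V, d, hV, hyV, -, ⟨e⟩⟩ :=
    QAff.exists_affine_le_linearEquiv_of_isFinLocFree hM (W := ⊤) y trivial
  refine ⟨V, hyV, ?_⟩
  rw [etale_morphismRestrict_iff f hV]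
  letI alg : Algebra Γ(Y, V) Γ(X, f ⁻¹ᵁ V) := (f.app V).hom.toAlgebra
  let b : Module.Basis (Fin d) Γ(Y, V) Γ(X, f ⁻¹ᵁ V) :=
    Module.Basis.ofRepr ((sectionsEquiv f V).symm ≪≫ₗ e)
  have : IsNoetherianRing Γ(Y, V) := IsLocallyNoetherian.component_noetherian ⟨V, hV⟩
  suffices hunit : IsUnit (Algebra.discr Γ(Y, V) b) by
    have : Algebra.Etale Γ(Y, V) Γ(X, f ⁻¹ᵁ V) := (Groth.Agent.S2195.result b).mpr hunit
    exact this
  by_contra hnu
  have hne : Ideal.span {Algebra.discr Γ(Y, V) b} ≠ ⊤ := by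
    rwa [Ne, Ideal.span_singleton_eq_top]
  obtain ⟨p, hp⟩ := Ideal.nonempty_minimalPrimes hne
  have hpp : p.IsPrime := hp.1.1
  have hdp : Algebra.discr Γ(Y, V) b ∈ p := hp.1.2 (Ideal.subset_span rfl)
  have hht : p.height ≤ 1 := Ideal.height_le_one_of_isPrincipal_of_mem_minimalPrimes _ p hp
  obtain ⟨z, hzV, hzp⟩ := exists_point_of_prime' hV ⟨p, hpp⟩
  have hzp' : (hV.primeIdealOf ⟨z, hzV⟩).asIdeal = p := congrArg PrimeSpectrum.asIdeal hzp
  have hzU : z ∈ U := by
    by_contra hz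
    have h2 := hU z hz
    letI : Algebra Γ(Y, V) (Y.presheaf.stalk z) :=
      TopCat.Presheaf.algebra_section_stalk Y.presheaf ⟨z, hzV⟩
    have hloc := hV.isLocalization_stalk ⟨z, hzV⟩
    rw [IsLocalization.AtPrime.ringKrullDim_eq_height (hV.primeIdealOf ⟨z, hzV⟩).asIdeal
      (Y.presheaf.stalk z)] at h2
    have h3 : ((2 : ℕ∞) : WithBot ℕ∞) ≤ ((1 : ℕ∞) : WithBot ℕ∞) :=
      h2.trans (WithBot.coe_le_coe.mpr (by rw [hzp']; exact hht))
    rw [WithBot.coe_le_coe] at h3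
    exact absurd h3 (by norm_num)
  obtain ⟨h, hhU, hzh⟩ := hV.exists_basicOpen_le (V := U) ⟨z, hzU⟩ hzV
  have hW : IsAffineOpen (Y.basicOpen h) := hV.basicOpen h
  haveI : Etale (f ∣_ Y.basicOpen h) := etale_restrict_of_le f hhU
  have hE : (f.app (Y.basicOpen h)).hom.Etale :=
    (etale_morphismRestrict_iff f hW).mp inferInstance
  have hpre : f ⁻¹ᵁ Y.basicOpen h = X.basicOpen (f.app V h) := Scheme.preimage_basicOpen f h
  let ψ : Γ(Y, Y.basicOpen h) ⟶ Γ(X, X.basicOpen (f.app V h)) :=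
    f.appLE (Y.basicOpen h) (X.basicOpen (f.app V h)) hpre.ge
  have hψ : ψ.hom.Etale := by
    rw [Scheme.Hom.app_eq_appLE] at hE
    exact (Scheme.Hom.appLE_congr f le_rfl rfl hpre (fun g => g.hom.Etale)).mp hE
  letI algA'B' : Algebra Γ(Y, Y.basicOpen h) Γ(X, X.basicOpen (f.app V h)) := ψ.hom.toAlgebra
  letI algAB' : Algebra Γ(Y, V) Γ(X, X.basicOpen (f.app V h)) :=
    ((algebraMap Γ(Y, Y.basicOpen h) Γ(X, X.basicOpen (f.app V h))).comp
      (algebraMap Γ(Y, V) Γ(Y, Y.basicOpen h))).toAlgebra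
  haveI : IsScalarTower Γ(Y, V) Γ(Y, Y.basicOpen h) Γ(X, X.basicOpen (f.app V h)) :=
    IsScalarTower.of_algebraMap_eq' rfl
  haveI : IsScalarTower Γ(Y, V) Γ(X, f ⁻¹ᵁ V) Γ(X, X.basicOpen (f.app V h)) := by
    apply IsScalarTower.of_algebraMap_eq'
    have h1 : Y.presheaf.map (homOfLE (Y.basicOpen_le h)).op ≫ ψ =
        f.app V ≫ X.presheaf.map (homOfLE (X.basicOpen_le (f.app V h))).op := by
      rw [Scheme.Hom.map_appLE]
      rfl
    exact congrArg CommRingCat.Hom.hom h1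
  haveI : IsLocalization.Away h Γ(Y, Y.basicOpen h) := hV.isLocalization_basicOpen h
  haveI : IsLocalization.Away (algebraMap Γ(Y, V) Γ(X, f ⁻¹ᵁ V) h)
      Γ(X, X.basicOpen (f.app V h)) := (hV.preimage f).isLocalization_basicOpen (f.app V h)
  haveI : Algebra.Etale Γ(Y, Y.basicOpen h) Γ(X, X.basicOpen (f.app V h)) := hψ
  have hu := isUnit_discr_of_etale_away (A' := Γ(Y, Y.basicOpen h))
    (B' := Γ(X, X.basicOpen (f.app V h))) h b
  have hhp : h ∉ p := by
    rw [← hzp']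
    exact (mem_basicOpen_iff_notMem_primeIdealOf hV z hzV h).mp hzh
  have hdisj : Disjoint (Submonoid.powers h : Set Γ(Y, V)) (p : Set Γ(Y, V)) :=
    (Ideal.disjoint_powers_iff_notMem _ hpp.isRadical).mpr hhp
  have hne' : p.map (algebraMap Γ(Y, V) Γ(Y, Y.basicOpen h)) ≠ ⊤ :=
    (IsLocalization.map_algebraMap_ne_top_iff_disjoint (Submonoid.powers h) _ p).mpr hdisj
  exact hne' (Ideal.eq_top_of_isUnit_mem _ (Ideal.mem_map_of_mem _ hdp) hu)

end Groth.Agent.Lib.Helper9.PurFF
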