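import Mathlib
import Groth.Agent.Lib.Helper9.SmoothSerre
import Groth.Agent.Lib.Helper13.SchemeLocal
import Groth.Agent.Lib.Helper25.NhdStalk

/-!
# Serre's conditions and codepth along smooth morphisms (helper9)
-/

set_option autoImplicit false
universe u
open CategoryTheory CategoryTheory.Limits AlgebraicGeometry TopologicalSpace

namespace Groth.Agent.Lib.Helper9.SmoothSerre

variable {X Y : Scheme.{u}} (f : X ⟶ Y) [IsLocallyNoetherian Y] [LocallyOfFiniteType f] (x : X)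

theorem stalk_data (hx : ∃ U : X.Opens, x ∈ U ∧ Smooth (U.ι ≫ f)) :
    (f.stalkMap x).hom.FormallySmooth ∧ (f.stalkMap x).hom.Flat := by
  obtain ⟨U, hxU, hU⟩ := hx
  refine ⟨(Groth.Agent.Lib.Helper25.NhdStalk.exists_smooth_nhd_iff f x).mp ⟨U, hxU, hU⟩, ?_⟩
  have := Flat.stalkMap (U.ι ≫ f) ⟨x, hxU⟩
  exact (Groth.Agent.Lib.Helper13.stalkMap_ι_comp_iff RingHom.Flat.respectsIso f U ⟨x, hxU⟩).mp this

theorem codepth_stalk (hx : ∃ U : X.Opens, x ∈ U ∧ Smooth (U.ι ≫ f)) :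
    ringKrullDim ↑(X.presheaf.stalk x) +
        ((LocCoh.depth ↑(Y.presheaf.stalk (f.base x)) ↑(Y.presheaf.stalk (f.base x)) : ℕ∞) : WithBot ℕ∞) =
      ringKrullDim ↑(Y.presheaf.stalk (f.base x)) +
        ((LocCoh.depth ↑(X.presheaf.stalk x) ↑(X.presheaf.stalk x) : ℕ∞) : WithBot ℕ∞) := by
  obtain ⟨hsm, hflat⟩ := stalk_data f x hx
  have : IsLocallyNoetherian X := LocallyOfFiniteType.isLocallyNoetherian f
  algebraize [(f.stalkMap x).hom]
  have : IsLocalHom (algebraMap (Y.presheaf.stalk (f x)) (X.presheaf.stalk x)) :=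
    inferInstanceAs (IsLocalHom (f.stalkMap x).hom)
  exact codepth_eq (Y.presheaf.stalk (f x)) (X.presheaf.stalk x)

theorem serre_stalk (hx : ∃ U : X.Opens, x ∈ U ∧ Smooth (U.ι ≫ f)) (n : ℕ) :
    (LocCoh.HasSk n ↑(X.presheaf.stalk x) ↑(X.presheaf.stalk x) ↔
        LocCoh.HasSk n ↑(Y.presheaf.stalk (f.base x)) ↑(Y.presheaf.stalk (f.base x))) ∧
      (LocCoh.HasRk n ↑(X.presheaf.stalk x) ↔ LocCoh.HasRk n ↑(Y.presheaf.stalk (f.base x))) := by
  obtain ⟨hsm, hflat⟩ := stalk_data f x hx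
  have : IsLocallyNoetherian X := LocallyOfFiniteType.isLocallyNoetherian f
  algebraize [(f.stalkMap x).hom]
  have : IsLocalHom (algebraMap (Y.presheaf.stalk (f x)) (X.presheaf.stalk x)) :=
    inferInstanceAs (IsLocalHom (f.stalkMap x).hom)
  exact ⟨hasSk_iff (Y.presheaf.stalk (f x)) (X.presheaf.stalk x) n,
    hasRk_iff (Y.presheaf.stalk (f x)) (X.presheaf.stalk x) n⟩

end Groth.Agent.Lib.Helper9.SmoothSerre
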