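import Mathlib
import Groth.Agent.Lib.Helper9.RegLiftNoeth
import Groth.Agent.Lib.Helper12.RegularQuot
import Groth.Agent.Lib.Helper21.RegularLocal

set_option autoImplicit false
universe u
open IsLocalRing TensorProduct

namespace Groth.Agent.Lib.Helper9.EmbDimFlat

section general

variable {R : Type*} [CommRing R] [IsLocalRing R] [IsNoetherianRing R]

/-- `embdim R ≤ embdim (R/I) + μ(I)`. -/
theorem spanFinrank_le_quotient_add (I : Ideal R) [IsLocalRing (R ⧸ I)] :
    (maximalIdeal R).spanFinrank ≤ (maximalIdeal (R ⧸ I)).spanFinrank + I.spanFinrank := by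
  classical
  obtain ⟨s, hs, hspan⟩ := Submodule.FG.exists_span_finset_card_eq_spanFinrank
    (maximalIdeal (R ⧸ I)).fg_of_isNoetherianRing
  obtain ⟨t, ht, htspan⟩ := Submodule.FG.exists_span_finset_card_eq_spanFinrank
    I.fg_of_isNoetherianRing
  have hsurj : Function.Surjective (Ideal.Quotient.mk I) := Ideal.Quotient.mk_surjective
  let g := Function.surjInv hsurj
  have hg : ∀ x, Ideal.Quotient.mk I (g x) = x := Function.surjInv_eq hsurj
  have hmax := Groth.Agent.Lib.Helper21.maximalIdeal_quotient_eq_map (R := R) I
  have hloc : IsLocalHom (Ideal.Quotient.mk I) := IsLocalHom.of_surjective _ hsurj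
  have hcomap : (maximalIdeal (R ⧸ I)).comap (Ideal.Quotient.mk I) = maximalIdeal R :=
    IsLocalRing.maximalIdeal_comap (Ideal.Quotient.mk I)
  have hI : I ≤ maximalIdeal R := by
    rw [← hcomap]
    intro x hx
    rw [Ideal.mem_comap, Ideal.Quotient.eq_zero_iff_mem.mpr hx]
    exact Ideal.zero_mem _
  have key : maximalIdeal R = Ideal.span ((s.image g : Finset R) ∪ t : Finset R) := by
    apply le_antisymm
    · intro z hz
      have hz' : Ideal.Quotient.mk I z ∈ maximalIdeal (R ⧸ I) := by
        rw [← hcomap] at hz
        exact hz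
      rw [← hspan] at hz'
      have himg : (s : Set (R ⧸ I)) = Ideal.Quotient.mk I '' ((s.image g : Finset R) : Set R) := by
        ext x
        simp only [Finset.mem_coe, Finset.coe_image, Set.mem_image]
        constructor
        · intro hx
          exact ⟨g x, ⟨x, hx, rfl⟩, hg x⟩
        · rintro ⟨_, ⟨y, hy, rfl⟩, rfl⟩
          rwa [hg]
      change Ideal.Quotient.mk I z ∈ Ideal.span (s : Set (R ⧸ I)) at hz'
      rw [himg, ← Ideal.map_span, Ideal.mem_map_iff_of_surjective _ hsurj] at hz'
      obtain ⟨w, hw, hwz⟩ := hz'
      have h1 : z - w ∈ I := by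
        rw [← Ideal.Quotient.eq, hwz]
      have h2 : z - w ∈ Ideal.span ((s.image g : Finset R) ∪ t : Finset R) := by
        refine Ideal.span_mono ?_ (show z - w ∈ Ideal.span (t : Set R) from ?_)
        · intro x hx
          simp only [Finset.coe_union, Set.mem_union]
          exact Or.inr hx
        · change z - w ∈ Submodule.span R (t : Set R)
          rw [htspan]
          exact h1
      have h3 : w ∈ Ideal.span ((s.image g : Finset R) ∪ t : Finset R) := by
        refine Ideal.span_mono ?_ hw
        intro x hx
        simp only [Finset.coe_union, Set.mem_union]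
        exact Or.inl hx
      have := add_mem h2 h3
      simpa using this
    · rw [Ideal.span_le]
      intro x hx
      simp only [Finset.coe_union, Finset.coe_image, Set.mem_union, Set.mem_image,
        Finset.mem_coe] at hx
      rcases hx with ⟨y, hy, rfl⟩ | hx
      · rw [SetLike.mem_coe, ← hcomap, Ideal.mem_comap, hg]
        rw [← hspan]
        exact Submodule.subset_span hy
      · apply hI
        rw [← htspan]
        exact Submodule.subset_span hx
  have h1 : (maximalIdeal R).spanFinrank ≤ ((s.image g : Finset R) ∪ t : Finset R).card := by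
    conv_lhs => rw [key]
    have := Submodule.spanFinrank_span_le_ncard_of_finite (R := R)
      (Finset.finite_toSet ((s.image g : Finset R) ∪ t : Finset R))
    rwa [Set.ncard_coe_finset] at this
  have h2 : ((s.image g : Finset R) ∪ t : Finset R).card ≤ s.card + t.card :=
    (Finset.card_union_le _ _).trans (Nat.add_le_add_right Finset.card_image_le _)
  omega

end general

section flat

variable {A B : Type u} [CommRing A] [CommRing B] [IsLocalRing A] [IsLocalRing B]
  [IsNoetherianRing A] [IsNoetherianRing B] [Algebra A B] [IsLocalHom (algebraMap A B)] [Module.Flat A B]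

theorem finrank_tensor_eq_spanFinrank {R : Type u} [CommRing R] [IsLocalRing R] [IsNoetherianRing R]
    (I : Ideal R) :
    Module.finrank (ResidueField R) (ResidueField R ⊗[R] I) = I.spanFinrank := by
  rw [← TensorProduct.spanFinrank_top_eq_of_residueField I I.fg_of_isNoetherianRing,
    Module.finrank_eq_spanFinrank_of_free]

/-- For a flat local homomorphism, `μ_B(I B) = μ_A(I)`. -/
theorem spanFinrank_map_eq_of_flat (I : Ideal A) :
    (I.map (algebraMap A B)).spanFinrank = I.spanFinrank := by
  let f : B ⊗[A] I →ₗ[B] B := LinearMap.liftBaseChange B ((Algebra.linearMap A B).comp I.subtype)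
  have hf : ∀ (b : B) (a : I), f (b ⊗ₜ a) = b * algebraMap A B a := by
    intro b a
    simp [f]
  have hinj : Function.Injective f := by
    have h1 := Module.Flat.lTensor_preserves_injective_linearMap (M := B) I.subtype
      I.injective_subtype
    have h2 : (f : B ⊗[A] I → B) = (TensorProduct.rid A B) ∘ (I.subtype.lTensor B) := by
      ext x
      induction x with
      | zero => simp
      | tmul b a =>
        rw [hf]
        simp [Algebra.smul_def, mul_comm]
      | add x y hx hy =>
        simp only [map_add, Function.comp_apply] at hx hy ⊢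
        rw [hx, hy]
    rw [h2]
    exact (TensorProduct.rid A B).injective.comp h1
  have hrange : LinearMap.range f = I.map (algebraMap A B) := by
    apply le_antisymm
    · rintro _ ⟨x, rfl⟩
      induction x with
      | zero => simp
      | tmul b a =>
        rw [hf]
        exact Ideal.mul_mem_left _ _ (Ideal.mem_map_of_mem _ a.2)
      | add x y hx hy =>
        rw [map_add]
        exact add_mem hx hy
    · change Ideal.map (algebraMap A B) I ≤ (LinearMap.range f : Ideal B)
      rw [Ideal.map_le_iff_le_comap]
      intro a ha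
      rw [Ideal.mem_comap]
      exact ⟨1 ⊗ₜ ⟨a, ha⟩, by rw [hf, one_mul]⟩
  let φ : B ⊗[A] I ≃ₗ[B] ↥(I.map (algebraMap A B)) :=
    LinearEquiv.ofInjective f hinj ≪≫ₗ LinearEquiv.ofEq _ _ hrange
  rw [← finrank_tensor_eq_spanFinrank, ← finrank_tensor_eq_spanFinrank]
  let e1 : ResidueField B ⊗[B] (B ⊗[A] I) ≃ₗ[ResidueField B] ResidueField B ⊗[B] ↥(I.map (algebraMap A B)) :=
    TensorProduct.AlgebraTensorModule.congr (LinearEquiv.refl _ _) φ
  let e2 : ResidueField B ⊗[B] (B ⊗[A] I) ≃ₗ[ResidueField B] ResidueField B ⊗[A] I :=
    TensorProduct.AlgebraTensorModule.cancelBaseChange A B (ResidueField B) (ResidueField B) I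
  let e3 : ResidueField B ⊗[ResidueField A] (ResidueField A ⊗[A] I) ≃ₗ[ResidueField B]
      ResidueField B ⊗[A] I :=
    TensorProduct.AlgebraTensorModule.cancelBaseChange A (ResidueField A) (ResidueField B)
      (ResidueField B) I
  rw [← e1.finrank_eq, e2.finrank_eq, ← e3.finrank_eq, Module.finrank_baseChange]

end flat

end Groth.Agent.Lib.Helper9.EmbDimFlat
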