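import Mathlib
import Groth.Agent.Lib.Helper9.RegLiftNoeth
import Groth.Agent.Lib.Helper12.RegularQuot
import Groth.Agent.Lib.Helper21.RegularLocal
import Groth.Agent.Lib.Helper9.EmbDimFlatA

set_option autoImplicit false
universe u
open IsLocalRing TensorProduct
open scoped Pointwise

namespace Groth.Agent.Lib.Helper9.EmbDimFlat

open Groth.Agent.Lib.Helper1.RegLift (mM)

theorem main_aux (d : ℕ) : ∀ (A B : Type u) [CommRing A] [CommRing B] [IsLocalRing A]
    [IsNoetherianRing A] [IsLocalRing B] [IsNoetherianRing B] [Algebra A B]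
    [IsLocalHom (algebraMap A B)] [Module.Flat A B]
    [IsRegularLocalRing (B ⧸ (maximalIdeal A).map (algebraMap A B))],
    (maximalIdeal (B ⧸ (maximalIdeal A).map (algebraMap A B))).spanFinrank = d →
    (maximalIdeal B).spanFinrank = d + (maximalIdeal A).spanFinrank := by
  induction d with
  | zero =>
    intro A B _ _ _ _ _ _ _ _ _ hreg hd
    set J := (maximalIdeal A).map (algebraMap A B) with hJ
    have hbot : maximalIdeal (B ⧸ J) = ⊥ :=
      (Submodule.spanFinrank_eq_zero_iff_eq_bot (maximalIdeal (B ⧸ J)).fg_of_isNoetherianRing).mp hd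
    have hsurj : Function.Surjective (Ideal.Quotient.mk J) := Ideal.Quotient.mk_surjective
    have hloc : IsLocalHom (Ideal.Quotient.mk J) := IsLocalHom.of_surjective _ hsurj
    have hcomap : (maximalIdeal (B ⧸ J)).comap (Ideal.Quotient.mk J) = maximalIdeal B :=
      IsLocalRing.maximalIdeal_comap (Ideal.Quotient.mk J)
    have hJm : J = maximalIdeal B := by
      rw [← hcomap, hbot, ← RingHom.ker_eq_comap_bot, Ideal.mk_ker]
    rw [zero_add, ← hJm, hJ]
    exact spanFinrank_map_eq_of_flat _
  | succ d ih =>
    intro A B _ _ _ _ _ _ _ _ _ hreg hd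
    set J := (maximalIdeal A).map (algebraMap A B) with hJ
    have hd' : (maximalIdeal (B ⧸ J)).spanFinrank = d + 1 := hd
    have hdom : IsDomain (B ⧸ J) := Groth.Agent.Lib.Helper21.isDomain_of_isRegularLocalRing _
    have hsurj : Function.Surjective (Ideal.Quotient.mk J) := Ideal.Quotient.mk_surjective
    have hloc : IsLocalHom (Ideal.Quotient.mk J) := IsLocalHom.of_surjective _ hsurj
    have hcomap : (maximalIdeal (B ⧸ J)).comap (Ideal.Quotient.mk J) = maximalIdeal B :=
      IsLocalRing.maximalIdeal_comap (Ideal.Quotient.mk J)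
    have hmax := Groth.Agent.Lib.Helper21.maximalIdeal_quotient_eq_map (R := B) J
    -- an element of n \ n²
    obtain ⟨y0, hy0, hy02⟩ : ∃ y0 ∈ maximalIdeal (B ⧸ J), y0 ∉ maximalIdeal (B ⧸ J) ^ 2 := by
      by_contra hcon
      push Not at hcon
      have hle : maximalIdeal (B ⧸ J) ≤ maximalIdeal (B ⧸ J) • maximalIdeal (B ⧸ J) := by
        intro x hx
        have := hcon x hx
        rwa [pow_two] at this
      have hbot : maximalIdeal (B ⧸ J) = ⊥ :=
        Submodule.eq_bot_of_le_smul_of_le_jacobson_bot (maximalIdeal (B ⧸ J)) (maximalIdeal (B ⧸ J))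
          (IsNoetherian.noetherian _) hle (maximalIdeal_le_jacobson _)
      rw [hbot, Submodule.spanFinrank_bot] at hd'
      omega
    obtain ⟨y, rfl⟩ := hsurj y0
    have hy : y ∈ maximalIdeal B := by
      rw [← hcomap]
      exact hy0
    have hy2 : y ∉ maximalIdeal B ^ 2 := by
      intro h
      apply hy02
      rw [hmax, ← Ideal.map_pow]
      exact Ideal.mem_map_of_mem _ h
    have hy0ne : Ideal.Quotient.mk J y ≠ 0 := by
      intro h
      apply hy02
      rw [h]
      exact Ideal.zero_mem _
    -- the quotient B₁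
    have hloc1 : IsLocalRing (B ⧸ Ideal.span {y}) :=
      Groth.Agent.Lib.Helper21.isLocalRing_quotient_of_le_maximalIdeal
        ((Ideal.span_singleton_le_iff_mem _).mpr hy)
    have hlochom1 : IsLocalHom (algebraMap A (B ⧸ Ideal.span {y})) := by
      constructor
      intro a ha
      have h1 : IsLocalHom (Ideal.Quotient.mk (Ideal.span {y})) :=
        IsLocalHom.of_surjective _ Ideal.Quotient.mk_surjective
      have h2 : IsUnit (algebraMap A B a) := by
        apply isUnit_of_map_unit (Ideal.Quotient.mk (Ideal.span {y}))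
        exact ha
      exact isUnit_of_map_unit (algebraMap A B) a h2
    have hflat1 : Module.Flat A (B ⧸ Ideal.span {y}) := by
      have h : ∀ x : B, y • x ∈ mM (C := A) (A := B) B → x ∈ mM (C := A) (A := B) B := by
        intro x hx
        have hmM : mM (C := A) (A := B) B = J := by
          change J • (⊤ : Submodule B B) = J
          rw [smul_eq_mul, Ideal.mul_top]
        rw [hmM] at hx ⊢
        rw [← Ideal.Quotient.eq_zero_iff_mem] at hx ⊢
        rw [smul_eq_mul, map_mul] at hx
        exact (mul_eq_zero.mp hx).resolve_left hy0ne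
      obtain ⟨-, hfl⟩ := Groth.Agent.Lib.Helper9.RegLiftNoeth.isSMulRegular_and_flat
        (C := A) (A := B) (M := B) y h
      have heq : y • (⊤ : Submodule B B) = Ideal.span {y} := by
        simp [← Submodule.ideal_span_singleton_smul]
      exact Module.Flat.of_linearEquiv
        ((Submodule.quotEquivOfEq _ _ heq).restrictScalars A).symm
    -- the closed fibre of B₁
    have hmapeq : J.map (Ideal.Quotient.mk (Ideal.span {y})) =
        (maximalIdeal A).map (algebraMap A (B ⧸ Ideal.span {y})) := by
      rw [hJ, Ideal.map_map]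
      rfl
    have hspaneq : (Ideal.span {y}).map (Ideal.Quotient.mk J) = Ideal.span {Ideal.Quotient.mk J y} := by
      rw [Ideal.map_span, Set.image_singleton]
    let e : ((B ⧸ Ideal.span {y}) ⧸ (maximalIdeal A).map (algebraMap A (B ⧸ Ideal.span {y}))) ≃+*
        ((B ⧸ J) ⧸ Ideal.span {Ideal.Quotient.mk J y}) :=
      (Ideal.quotEquivOfEq hmapeq.symm).trans
        ((DoubleQuot.quotQuotEquivComm (Ideal.span {y}) J).trans (Ideal.quotEquivOfEq hspaneq))
    have hreg0 : IsRegularLocalRing ((B ⧸ J) ⧸ Ideal.span {Ideal.Quotient.mk J y}) :=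
      Groth.Agent.Lib.Helper12.isRegularLocalRing_quotient_singleton hy0 hy02
    have hreg1 : IsRegularLocalRing
        ((B ⧸ Ideal.span {y}) ⧸ (maximalIdeal A).map (algebraMap A (B ⧸ Ideal.span {y}))) :=
      IsRegularLocalRing.of_ringEquiv e.symm
    have hd0 : (maximalIdeal ((B ⧸ J) ⧸ Ideal.span {Ideal.Quotient.mk J y})).spanFinrank = d := by
      have h1 := Groth.Agent.Lib.Helper21.spanFinrank_maximalIdeal_quotient_succ_le hy0 hy02
      have h2 := spanFinrank_le_quotient_add (Ideal.span {Ideal.Quotient.mk J y})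
      have h3 : (Ideal.span {Ideal.Quotient.mk J y}).spanFinrank ≤ 1 := by
        have := Submodule.spanFinrank_span_le_ncard_of_finite (R := B ⧸ J)
          (Set.finite_singleton (Ideal.Quotient.mk J y))
        rwa [Set.ncard_singleton] at this
      omega
    have hd1 : (maximalIdeal ((B ⧸ Ideal.span {y}) ⧸
        (maximalIdeal A).map (algebraMap A (B ⧸ Ideal.span {y})))).spanFinrank = d := by
      rw [← hd0, ← map_ringEquiv_maximalIdeal e, Ideal.spanFinrank_map_eq_of_ringEquiv]
    have hih := ih A (B ⧸ Ideal.span {y}) hd1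
    have h1 := Groth.Agent.Lib.Helper21.spanFinrank_maximalIdeal_quotient_succ_le hy hy2
    have h2 := spanFinrank_le_quotient_add (Ideal.span {y})
    have h3 : (Ideal.span {y}).spanFinrank ≤ 1 := by
      have := Submodule.spanFinrank_span_le_ncard_of_finite (R := B) (Set.finite_singleton y)
      rwa [Set.ncard_singleton] at this
    omega

end Groth.Agent.Lib.Helper9.EmbDimFlat

namespace Groth.Agent.Lib.Helper9.EmbDimFlat

theorem main (A B : Type u) [CommRing A]
    [CommRing B] [IsLocalRing A] [IsNoetherianRing A] [IsLocalRing B] [IsNoetherianRing B] [Algebra A B]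
    [IsLocalHom (algebraMap A B)] [Module.Flat A B]
    [IsRegularLocalRing (B ⧸ Ideal.map (algebraMap A B) (IsLocalRing.maximalIdeal A))] :
    Module.finrank (IsLocalRing.ResidueField B) (IsLocalRing.CotangentSpace B) =
      Module.finrank (IsLocalRing.ResidueField (B ⧸ Ideal.map (algebraMap A B) (IsLocalRing.maximalIdeal A)))
          (IsLocalRing.CotangentSpace (B ⧸ Ideal.map (algebraMap A B) (IsLocalRing.maximalIdeal A))) +
        Module.finrank (IsLocalRing.ResidueField A) (IsLocalRing.CotangentSpace A) := by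
  rw [← spanFinrank_maximalIdeal_eq_finrank_cotangentSpace,
    ← spanFinrank_maximalIdeal_eq_finrank_cotangentSpace,
    ← spanFinrank_maximalIdeal_eq_finrank_cotangentSpace]
  exact main_aux _ A B rfl

end Groth.Agent.Lib.Helper9.EmbDimFlat
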