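import Mathlib
import Groth.Agent.Lib.Helper9.EmbDimFlat
import Groth.Agent.Lib.Helper18.Miracle
import Groth.Agent.Lib.Helper18.FlatLocal
import Groth.Agent.Lib.Helper16.RegularDim

set_option autoImplicit false
universe u
open IsLocalRing

namespace Groth.Agent.Lib.Helper9.RegHomTFAE

variable {A B : Type u} [CommRing A] [IsLocalRing A] [IsNoetherianRing A] [CommRing B] [IsLocalRing B]
  [IsNoetherianRing B] [Algebra A B] [IsLocalHom (algebraMap A B)]
  [IsLocalRing (B ⧸ (maximalIdeal A).map (algebraMap A B))]

theorem two_to_one (_hB : IsRegularLocalRing B)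
    (hB0 : IsRegularLocalRing (B ⧸ (maximalIdeal A).map (algebraMap A B))) (hfl : Module.Flat A B) :
    Module.finrank (ResidueField B) (CotangentSpace B) =
         Module.finrank (ResidueField A) (CotangentSpace A) +
           Module.finrank (ResidueField (B ⧸ (maximalIdeal A).map (algebraMap A B)))
            (CotangentSpace (B ⧸ (maximalIdeal A).map (algebraMap A B))) := by
  rw [add_comm]
  exact Groth.Agent.Lib.Helper9.EmbDimFlat.main A B

theorem one_to_four (hB : IsRegularLocalRing B)
    (h : Module.finrank (ResidueField B) (CotangentSpace B) =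
         Module.finrank (ResidueField A) (CotangentSpace A) +
           Module.finrank (ResidueField (B ⧸ (maximalIdeal A).map (algebraMap A B)))
            (CotangentSpace (B ⧸ (maximalIdeal A).map (algebraMap A B)))) :
    IsRegularLocalRing A ∧ IsRegularLocalRing (B ⧸ (maximalIdeal A).map (algebraMap A B)) ∧
       ringKrullDim B = ringKrullDim A + ringKrullDim (B ⧸ (maximalIdeal A).map (algebraMap A B)) := by
  rw [← spanFinrank_maximalIdeal_eq_finrank_cotangentSpace,
    ← spanFinrank_maximalIdeal_eq_finrank_cotangentSpace,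
    ← spanFinrank_maximalIdeal_eq_finrank_cotangentSpace] at h
  obtain ⟨a, ha⟩ := Groth.Agent.Lib.Helper21.exists_nat_eq_ringKrullDim (R := A)
  obtain ⟨b, hb⟩ := Groth.Agent.Lib.Helper21.exists_nat_eq_ringKrullDim (R := B)
  obtain ⟨c, hc⟩ := Groth.Agent.Lib.Helper21.exists_nat_eq_ringKrullDim
    (R := B ⧸ (maximalIdeal A).map (algebraMap A B))
  have h1 : ((maximalIdeal B).spanFinrank : WithBot ℕ∞) = ringKrullDim B :=
    IsRegularLocalRing.spanFinrank_maximalIdeal
  have h3a := ringKrullDim_le_spanFinrank_maximalIdeal A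
  have h3c := ringKrullDim_le_spanFinrank_maximalIdeal (B ⧸ (maximalIdeal A).map (algebraMap A B))
  have h4 := Groth.Agent.Lib.Helper18.CM.ringKrullDim_le_add_fibre (R := A) (S := B)
  rw [ha, hb, hc] at h4
  rw [hb] at h1
  rw [ha] at h3a
  rw [hc] at h3c
  have h1' : (maximalIdeal B).spanFinrank = b := by exact_mod_cast h1
  have h3a' : a ≤ (maximalIdeal A).spanFinrank := by exact_mod_cast h3a
  have h3c' : c ≤ (maximalIdeal (B ⧸ (maximalIdeal A).map (algebraMap A B))).spanFinrank := by
    exact_mod_cast h3c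
  have h4' : b ≤ a + c := by exact_mod_cast h4
  refine ⟨?_, ?_, ?_⟩
  · apply IsRegularLocalRing.of_spanFinrank_maximalIdeal_le
    rw [ha]
    have : (maximalIdeal A).spanFinrank ≤ a := by omega
    exact_mod_cast this
  · apply IsRegularLocalRing.of_spanFinrank_maximalIdeal_le
    rw [hc]
    have : (maximalIdeal (B ⧸ (maximalIdeal A).map (algebraMap A B))).spanFinrank ≤ c := by omega
    exact_mod_cast this
  · rw [ha, hb, hc]
    have : b = a + c := by omega
    exact_mod_cast this

theorem four_to_three (hA : IsRegularLocalRing A)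
    (hB0 : IsRegularLocalRing (B ⧸ (maximalIdeal A).map (algebraMap A B)))
    (hdim : ringKrullDim B = ringKrullDim A +
      ringKrullDim (B ⧸ (maximalIdeal A).map (algebraMap A B))) :
    Module.Flat A B := by
  have hBreg : IsRegularLocalRing B := by
    apply IsRegularLocalRing.of_spanFinrank_maximalIdeal_le
    have h1 := Groth.Agent.Lib.Helper9.EmbDimFlat.spanFinrank_le_quotient_add
      ((maximalIdeal A).map (algebraMap A B))
    have h2 := Ideal.spanFinrank_map_le_of_fg (algebraMap A B)
      (maximalIdeal A).fg_of_isNoetherianRing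
    have h3 : ((maximalIdeal A).spanFinrank : WithBot ℕ∞) = ringKrullDim A :=
      IsRegularLocalRing.spanFinrank_maximalIdeal
    have h4 : ((maximalIdeal (B ⧸ (maximalIdeal A).map (algebraMap A B))).spanFinrank :
        WithBot ℕ∞) = ringKrullDim (B ⧸ (maximalIdeal A).map (algebraMap A B)) :=
      IsRegularLocalRing.spanFinrank_maximalIdeal
    rw [hdim, ← h3, ← h4]
    have h5 : (maximalIdeal B).spanFinrank ≤ (maximalIdeal A).spanFinrank +
        (maximalIdeal (B ⧸ (maximalIdeal A).map (algebraMap A B))).spanFinrank := by omega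
    exact_mod_cast h5
  have hCM : LocCoh.IsCohenMacaulayLocalRing B :=
    { supportDim_eq_depth :=
        Groth.Agent.Lib.Helper16.PDR.isCohenMacaulayModule_self_of_isRegularLocalRing B }
  exact Groth.Agent.Lib.Helper18.CM.miracle_flatness hdim

theorem main :
    [IsRegularLocalRing B ∧
       Module.finrank (ResidueField B) (CotangentSpace B) =
         Module.finrank (ResidueField A) (CotangentSpace A) +
           Module.finrank (ResidueField (B ⧸ (maximalIdeal A).map (algebraMap A B))) (CotangentSpace (B ⧸ (maximalIdeal A).map (algebraMap A B))),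
     IsRegularLocalRing B ∧ IsRegularLocalRing (B ⧸ (maximalIdeal A).map (algebraMap A B)) ∧ Module.Flat A B,
     IsRegularLocalRing A ∧ IsRegularLocalRing (B ⧸ (maximalIdeal A).map (algebraMap A B)) ∧ Module.Flat A B,
     IsRegularLocalRing A ∧ IsRegularLocalRing (B ⧸ (maximalIdeal A).map (algebraMap A B)) ∧
       ringKrullDim B = ringKrullDim A + ringKrullDim (B ⧸ (maximalIdeal A).map (algebraMap A B))].TFAE := by
  tfae_have 2 → 1 := fun ⟨hB, hB0, hfl⟩ => ⟨hB, two_to_one hB hB0 hfl⟩
  tfae_have 1 → 4 := fun ⟨hB, h⟩ => one_to_four hB h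
  tfae_have 4 → 3 := fun ⟨hA, hB0, hdim⟩ => ⟨hA, hB0, four_to_three hA hB0 hdim⟩
  tfae_have 3 → 2 := by
    rintro ⟨hA, hB0, hfl⟩
    exact ⟨Groth.Agent.Lib.Helper18.FlatLocal.isRegularLocalRing_of_flat_of_fibre A B, hB0, hfl⟩
  tfae_finish

end Groth.Agent.Lib.Helper9.RegHomTFAE
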