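import Mathlib
import Groth.Agent.Lib.Helper29.RegDim1

namespace Groth.Agent.Lib.Helper9.DedFlat

open AlgebraicGeometry CategoryTheory TopologicalSpace

universe u

variable {X Y : Scheme.{u}}

/-- A point with no proper generisations has closure an irreducible component. -/
theorem closure_mem_irreducibleComponents (ξ : X) (h : ∀ ξ' : X, ξ' ⤳ ξ → ξ' = ξ) :
    closure ({ξ} : Set X) ∈ irreducibleComponents X := by
  refine ⟨isIrreducible_singleton.closure, fun t ht hle => ?_⟩
  obtain ⟨ξ', hξ'⟩ := QuasiSober.sober ht.closure isClosed_closure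
  have h1 : ξ ∈ closure t := subset_closure (hle (subset_closure rfl))
  have h2 : ξ' ⤳ ξ := by
    rw [specializes_iff_mem_closure, hξ'.def]
    exact h1
  have h3 := h ξ' h2
  subst h3
  intro z hz
  have : z ∈ closure t := subset_closure hz
  rw [← hξ'.def] at this
  exact this

/-- The generic point of an irreducible component. -/
theorem exists_generic_of_mem_irreducibleComponents (Z : Set X) (hZ : Z ∈ irreducibleComponents X) :
    ∃ ξ : X, closure ({ξ} : Set X) = Z ∧ ∀ ξ' : X, ξ' ⤳ ξ → ξ' ∈ Z := by
  have hcl : IsClosed Z := isClosed_of_mem_irreducibleComponents Z hZ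
  obtain ⟨ξ, hξ⟩ := QuasiSober.sober hZ.1 hcl
  refine ⟨ξ, hξ.def, fun ξ' h' => ?_⟩
  have hsub : Z ≤ closure ({ξ'} : Set X) := by
    rw [← hξ.def]
    exact closure_minimal (Set.singleton_subset_iff.mpr (specializes_iff_mem_closure.mp h'))
      isClosed_closure
  have := hZ.2 (isIrreducible_singleton.closure) hsub
  exact this (subset_closure rfl)

theorem dense_of_flat (f : X ⟶ Y) [IsIntegral Y] [Flat f] (Z : Set X)
    (hZ : Z ∈ irreducibleComponents X) : Dense (f.base '' Z) := by
  obtain ⟨ξ, hξ, hgen⟩ := exists_generic_of_mem_irreducibleComponents Z hZ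
  have hη : genericPoint Y ⤳ f.base ξ := genericPoint_specializes _
  obtain ⟨ξ', h1, h2⟩ := (Flat.generalizingMap f) hη
  have hmem : genericPoint Y ∈ f.base '' Z := ⟨ξ', hgen ξ' h1, h2⟩
  intro y
  have : y ∈ closure ({genericPoint Y} : Set Y) := by
    rw [← specializes_iff_mem_closure]; exact genericPoint_specializes y
  exact closure_mono (Set.singleton_subset_iff.mpr hmem) this


/-- The image of a minimal prime of the stalk is a maximal point. -/
theorem maximal_point_of_minimalPrime (x : X) (P : PrimeSpectrum (X.presheaf.stalk x))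
    (hP : P.asIdeal ∈ minimalPrimes (X.presheaf.stalk x)) (ξ' : X)
    (h : ξ' ⤳ (X.fromSpecStalk x).base P) : ξ' = (X.fromSpecStalk x).base P := by
  have hx : (X.fromSpecStalk x).base P ⤳ x := by
    have : (X.fromSpecStalk x).base P ∈ Set.range (X.fromSpecStalk x).base := ⟨P, rfl⟩
    rw [Scheme.range_fromSpecStalk] at this
    exact this
  have h' : ξ' ∈ Set.range (X.fromSpecStalk x).base := by
    rw [Scheme.range_fromSpecStalk]
    exact h.trans hx
  obtain ⟨P', rfl⟩ := h'
  have hemb : Topology.IsEmbedding (X.fromSpecStalk x).base := (X.fromSpecStalk x).isEmbedding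
  have hsp : P' ⤳ P := hemb.isInducing.specializes_iff.mp h
  have hle : P'.asIdeal ≤ P.asIdeal := (PrimeSpectrum.le_iff_specializes P' P).mpr hsp
  have hge : P.asIdeal ≤ P'.asIdeal := hP.2 ⟨P'.isPrime, bot_le⟩ hle
  have : P' = P := PrimeSpectrum.ext (le_antisymm hle hge)
  rw [this]

theorem comap_eq_bot (f : X ⟶ Y) [IsIntegral Y] (x : X)
    (P : PrimeSpectrum (X.presheaf.stalk x))
    (hgen : ∀ y : Y, f.base ((X.fromSpecStalk x).base P) ⤳ y) :
    Ideal.comap (f.stalkMap x).hom P.asIdeal = ⊥ := by
  have hcomm := Scheme.SpecMap_stalkMap_fromSpecStalk (f := f) (x := x)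
  have h1 : (Y.fromSpecStalk (f.base x)).base ((Spec.map (f.stalkMap x)).base P) =
      f.base ((X.fromSpecStalk x).base P) := by
    have := congrArg (fun g => g.base P) hcomm
    exact this
  let P0 : PrimeSpectrum (Y.presheaf.stalk (f.base x)) := ⟨⊥, Ideal.isPrime_bot⟩
  have hsp : P0 ⤳ (Spec.map (f.stalkMap x)).base P :=
    (PrimeSpectrum.le_iff_specializes _ _).mp bot_le
  have hsp' : (Y.fromSpecStalk (f.base x)).base P0 ⤳ f.base ((X.fromSpecStalk x).base P) := by
    rw [← h1]
    exact hsp.map (Y.fromSpecStalk (f.base x)).continuous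
  have heq : (Y.fromSpecStalk (f.base x)).base P0 =
      (Y.fromSpecStalk (f.base x)).base ((Spec.map (f.stalkMap x)).base P) := by
    rw [h1]
    exact (hsp'.antisymm (hgen _)).eq
  have hinj := (Y.fromSpecStalk (f.base x)).isEmbedding.injective heq
  have : ((Spec.map (f.stalkMap x)).base P).asIdeal = ⊥ := by rw [← hinj]
  exact this


theorem flat_of_dense [IsIntegral Y] [IsNoetherian Y]
    (hreg : ∀ y : Y, IsRegularLocalRing (Y.presheaf.stalk y)) (hdim : topologicalKrullDim Y ≤ 1)
    (f : X ⟶ Y) [IsReduced X]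
    (h : ∀ Z ∈ irreducibleComponents (X : Type u), Dense (f.base '' Z)) : Flat f := by
  refine Flat.of_stalkMap f fun x => ?_
  haveI := hreg (f.base x)
  have hd : ringKrullDim (Y.presheaf.stalk (f.base x)) ≤ 1 :=
    (Groth.Agent.Lib.Helper29.QCoh.ringKrullDim_stalk_le_topologicalKrullDim Y (f.base x)).trans hdim
  haveI : IsPrincipalIdealRing (Y.presheaf.stalk (f.base x)) :=
    Groth.Agent.Lib.Helper29.QCoh.isPrincipalIdealRing_of_isRegularLocalRing_of_dim_le_one _ hd
  letI : Algebra (Y.presheaf.stalk (f.base x)) (X.presheaf.stalk x) := (f.stalkMap x).hom.toAlgebra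
  change Module.Flat (Y.presheaf.stalk (f.base x)) (X.presheaf.stalk x)
  rw [Module.Flat.flat_iff_torsion_eq_bot_of_isBezout, Submodule.eq_bot_iff]
  intro b hb
  rw [Submodule.mem_torsion_iff] at hb
  obtain ⟨a, hab⟩ := hb
  have hab' : (f.stalkMap x).hom (a : Y.presheaf.stalk (f.base x)) * b = 0 := hab
  have hnil : b ∈ nilradical (X.presheaf.stalk x) := by
    rw [nilradical, ← Ideal.sInf_minimalPrimes, Ideal.mem_sInf]
    intro 𝔭 h𝔭
    haveI : 𝔭.IsPrime := h𝔭.1.1
    have hmem : (f.stalkMap x).hom (a : Y.presheaf.stalk (f.base x)) * b ∈ 𝔭 := by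
      rw [hab']; exact Ideal.zero_mem _
    rcases Ideal.IsPrime.mem_or_mem ‹𝔭.IsPrime› hmem with h1 | h1
    · exfalso
      let P : PrimeSpectrum (X.presheaf.stalk x) := ⟨𝔭, inferInstance⟩
      have hmax := maximal_point_of_minimalPrime x P h𝔭
      have hcomp := closure_mem_irreducibleComponents _ hmax
      have hdense := h _ hcomp
      have hgen : ∀ y : Y, f.base ((X.fromSpecStalk x).base P) ⤳ y := by
        intro y
        rw [specializes_iff_mem_closure]
        have h2 : f.base '' closure {(X.fromSpecStalk x).base P} ⊆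
            closure {f.base ((X.fromSpecStalk x).base P)} := by
          refine (image_closure_subset_closure_image f.continuous).trans ?_
          rw [Set.image_singleton]
        exact closure_minimal h2 isClosed_closure (hdense y)
      have hbot := comap_eq_bot f x P hgen
      have ha0 : (a : Y.presheaf.stalk (f.base x)) ∈
          Ideal.comap (f.stalkMap x).hom P.asIdeal := h1
      rw [hbot] at ha0
      exact nonZeroDivisors.coe_ne_zero a ha0
    · exact h1
  rw [nilradical_eq_zero] at hnil
  exact hnil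

theorem main [IsIntegral Y] [IsNoetherian Y]
    (hreg : ∀ y : Y, IsRegularLocalRing (Y.presheaf.stalk y)) (hdim : topologicalKrullDim Y ≤ 1)
    (f : X ⟶ Y) [IsReduced X] :
    Flat f ↔ ∀ Z ∈ irreducibleComponents (X : Type u), Dense (f.base '' Z) :=
  ⟨fun _ Z hZ => dense_of_flat f Z hZ, flat_of_dense hreg hdim f⟩

end Groth.Agent.Lib.Helper9.DedFlat
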