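import Mathlib

/-!
# Finite intersections of valuation rings of a field (helper9 library)

Let `L` be a field, `V i` finitely many local subrings of `L` with `x ∈ V i ∨ x⁻¹ ∈ V i`, `K` a
subfield, and `A` the subring `(⋂ V i) ∩ K`.  Then `A` is a semilocal Prüfer domain with fraction
field `K`.
-/

set_option autoImplicit false
universe u

namespace Groth.Agent.Lib.Helper9.ValInter

open Finset

/-- geometric sum -/
def G {B : Type*} [Semiring B] (s : ℕ) (x : B) : B := ∑ i ∈ range s, x ^ i

theorem G_add {B : Type*} [CommSemiring B] (s d : ℕ) (x : B) :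
    G (s + d) x = G s x + x ^ s * G d x := by
  unfold G
  rw [sum_range_add, mul_sum]
  congr 1
  exact sum_congr rfl fun i _ => pow_add x s i

theorem G_one {B : Type*} [Semiring B] (x : B) : G 1 x = 1 := by simp [G]

theorem G_succ {B : Type*} [Semiring B] (s : ℕ) (x : B) : G (s + 1) x = x * G s x + 1 :=
  geom_sum_succ

/-- In a local ring, the set of `s` with `G s x` a unit contains `1 + k d` for a suitable period. -/
theorem exists_period {B : Type*} [CommRing B] [IsLocalRing B] (x : B) :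
    ∃ d : ℕ, 1 ≤ d ∧ ∀ k : ℕ, IsUnit (G (1 + k * d) x) := by
  by_cases h : ∃ d : ℕ, 1 ≤ d ∧ G d x ∈ IsLocalRing.maximalIdeal B
  · obtain ⟨d, hd, hG⟩ := h
    refine ⟨d, hd, fun k => ?_⟩
    have key : ∀ k : ℕ, G (1 + k * d) x - 1 ∈ IsLocalRing.maximalIdeal B := by
      intro k
      induction k with
      | zero => simp [G_one]
      | succ k ih =>
        have e : 1 + (k + 1) * d = (1 + k * d) + d := by ring
        rw [e, G_add]
        have : G (1 + k * d) x + x ^ (1 + k * d) * G d x - 1 =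
            (G (1 + k * d) x - 1) + x ^ (1 + k * d) * G d x := by ring
        rw [this]
        exact Ideal.add_mem _ ih (Ideal.mul_mem_left _ _ hG)
    rw [← IsLocalRing.notMem_maximalIdeal]
    intro hmem
    have h1 : (1 : B) ∈ IsLocalRing.maximalIdeal B := by
      have := Ideal.sub_mem _ hmem (key k)
      simpa using this
    exact (Ideal.ne_top_iff_one _).mp (IsLocalRing.maximalIdeal.isMaximal B).ne_top h1
  · push Not at h
    refine ⟨1, le_rfl, fun k => ?_⟩
    rw [← IsLocalRing.notMem_maximalIdeal]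
    exact h (1 + k * 1) (by omega)

/-- If `t` is a non-unit of a local ring then `G s t` is a unit for `s ≥ 1`. -/
theorem isUnit_G_of_not_isUnit {B : Type*} [CommRing B] [IsLocalRing B] (t : B) (ht : ¬ IsUnit t)
    (s : ℕ) (hs : 1 ≤ s) : IsUnit (G s t) := by
  obtain ⟨s, rfl⟩ : ∃ s', s = s' + 1 := ⟨s - 1, by omega⟩
  rw [G_succ, ← IsLocalRing.notMem_maximalIdeal]
  intro hmem
  have ht' : t ∈ IsLocalRing.maximalIdeal B := (IsLocalRing.mem_maximalIdeal t).mpr ht
  have h1 : (1 : B) ∈ IsLocalRing.maximalIdeal B := by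
    have := Ideal.sub_mem _ hmem (Ideal.mul_mem_right (G s t) _ ht')
    simpa using this
  exact (Ideal.ne_top_iff_one _).mp (IsLocalRing.maximalIdeal.isMaximal B).ne_top h1

/-- reversal: `G s x = x^(s-1) * G s x⁻¹` in a field -/
theorem G_eq_pow_mul_G_inv {L : Type*} [Field L] (x : L) (hx : x ≠ 0) (s : ℕ) (hs : 1 ≤ s) :
    G s x = x ^ (s - 1) * G s x⁻¹ := by
  unfold G
  rw [mul_sum, ← sum_range_reflect]
  refine sum_congr rfl fun i hi => ?_
  have hi' : i < s := mem_range.mp hi
  have e : s - 1 = (s - 1 - i) + i := by omega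
  rw [inv_pow]
  conv_rhs => rw [e, pow_add, mul_assoc, mul_inv_cancel₀ (pow_ne_zero i hx), mul_one]


section Field
variable {L : Type u} [Field L]

theorem coe_G (V : Subring L) (s : ℕ) (x : V) : ((G s x : V) : L) = G s (x : L) := by
  simp [G]

/-- One valuation ring: a period for the good exponents. -/
theorem exists_period_subring (V : Subring L) [IsLocalRing V]
    (hval : ∀ x : L, x ∈ V ∨ x⁻¹ ∈ V) (x : L) :
    ∃ d : ℕ, 1 ≤ d ∧ ∀ k : ℕ, G (1 + k * d) x ≠ 0 ∧
      ∀ j < 1 + k * d, x ^ j / G (1 + k * d) x ∈ V := by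
  by_cases hx : x ∈ V
  · obtain ⟨d, hd, hu⟩ := exists_period (⟨x, hx⟩ : V)
    refine ⟨d, hd, fun k => ?_⟩
    obtain ⟨u, hu'⟩ := (hu k).exists_right_inv
    have h1 : G (1 + k * d) x * (u : L) = 1 := by
      have := congrArg Subtype.val hu'
      rwa [Subring.coe_mul, coe_G, Subring.coe_one] at this
    have hne : G (1 + k * d) x ≠ 0 := left_ne_zero_of_mul_eq_one h1
    refine ⟨hne, fun j _ => ?_⟩
    have : x ^ j / G (1 + k * d) x = x ^ j * u := by
      rw [div_eq_iff hne, mul_assoc, mul_comm (u : L), h1, mul_one]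
    rw [this]
    exact V.mul_mem (V.pow_mem hx j) u.2
  · have hxi : x⁻¹ ∈ V := (hval x).resolve_left hx
    have hx0 : x ≠ 0 := by rintro rfl; exact hx V.zero_mem
    refine ⟨1, le_rfl, fun k => ?_⟩
    set s := 1 + k * 1 with hs
    have hs1 : 1 ≤ s := by omega
    have hnu : ¬ IsUnit (⟨x⁻¹, hxi⟩ : V) := by
      intro h
      obtain ⟨w, hw⟩ := h.exists_right_inv
      have h2 : x⁻¹ * (w : L) = 1 := by
        have := congrArg Subtype.val hw
        rwa [Subring.coe_mul, Subring.coe_one] at this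
      have h3 : (w : L) = x := by
        have : x * (x⁻¹ * (w : L)) = x * 1 := by rw [h2]
        rwa [← mul_assoc, mul_inv_cancel₀ hx0, one_mul, mul_one] at this
      exact hx (h3 ▸ w.2)
    obtain ⟨u, hu'⟩ := (isUnit_G_of_not_isUnit _ hnu s hs1).exists_right_inv
    have h1 : G s x⁻¹ * (u : L) = 1 := by
      have := congrArg Subtype.val hu'
      rwa [Subring.coe_mul, coe_G, Subring.coe_one] at this
    have hrev := G_eq_pow_mul_G_inv x hx0 s hs1
    have hne : G s x ≠ 0 := by
      rw [hrev]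
      exact mul_ne_zero (pow_ne_zero _ hx0) (left_ne_zero_of_mul_eq_one h1)
    refine ⟨hne, fun j hj => ?_⟩
    have : x ^ j / G s x = (x⁻¹) ^ (s - 1 - j) * u := by
      rw [div_eq_iff hne, hrev]
      have hpow : x⁻¹ ^ (s - 1 - j) * x ^ (s - 1) = x ^ j := by
        obtain ⟨a, ha⟩ : ∃ a, s - 1 = a + j := ⟨s - 1 - j, by omega⟩
        rw [ha, Nat.add_sub_cancel, pow_add, ← mul_assoc, ← mul_pow, inv_mul_cancel₀ hx0, one_pow,
          one_mul]
      have e2 : x⁻¹ ^ (s - 1 - j) * ↑u * (x ^ (s - 1) * G s x⁻¹) =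
          (x⁻¹ ^ (s - 1 - j) * x ^ (s - 1)) * (G s x⁻¹ * u) := by ring
      rw [e2, h1, mul_one, hpow]
    rw [this]
    exact V.mul_mem (V.pow_mem hxi _) u.2

variable {ι : Type*} [Finite ι] (V : ι → Subring L) [∀ i, IsLocalRing (V i)]
  (hval : ∀ i (x : L), x ∈ V i ∨ x⁻¹ ∈ V i)

include hval in
/-- Key lemma: a common good exponent `s ≥ 2` for finitely many valuation rings. -/
theorem exists_good_exponent [Nonempty ι] (x : L) :
    ∃ s : ℕ, 2 ≤ s ∧ G s x ≠ 0 ∧ ∀ i, ∀ j < s, x ^ j / G s x ∈ V i := by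
  classical
  have := Fintype.ofFinite ι
  have h := fun i => exists_period_subring (V i) (hval i) x
  choose d hd hk using h
  refine ⟨1 + ∏ i, d i, ?_, ?_, ?_⟩
  · have : 1 ≤ ∏ i, d i := Nat.one_le_iff_ne_zero.mpr
      (Finset.prod_ne_zero_iff.mpr fun i _ => by have := hd i; omega)
    omega
  · obtain ⟨i⟩ := ‹Nonempty ι›
    obtain ⟨k, hk'⟩ : d i ∣ ∏ i, d i := Finset.dvd_prod_of_mem d (Finset.mem_univ i)
    have e : 1 + ∏ i, d i = 1 + k * d i := by rw [hk', mul_comm]
    rw [e]
    exact (hk i k).1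
  · intro i j hj
    obtain ⟨k, hk'⟩ : d i ∣ ∏ i, d i := Finset.dvd_prod_of_mem d (Finset.mem_univ i)
    have e : 1 + ∏ i, d i = 1 + k * d i := by rw [hk', mul_comm]
    rw [e] at hj ⊢
    exact (hk i k).2 j hj

end Field


section Main
variable {L : Type u} [Field L] {ι : Type*} [Finite ι] [Nonempty ι] (V : ι → Subring L)
  [∀ i, IsLocalRing (V i)] (hval : ∀ i (x : L), x ∈ V i ∨ x⁻¹ ∈ V i) (K : Subfield L)
  (A : Subring L) (hA : ∀ x, x ∈ A ↔ (∀ i, x ∈ V i) ∧ x ∈ K)

include hval hA in
theorem exists_good_exponent_mem (x : L) (hx : x ∈ K) :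
    ∃ s : ℕ, 2 ≤ s ∧ G s x ≠ 0 ∧ ∀ j < s, x ^ j / G s x ∈ A := by
  obtain ⟨s, hs, hG, hmem⟩ := exists_good_exponent V hval x
  refine ⟨s, hs, hG, fun j hj => (hA _).mpr ⟨fun i => hmem i j hj, ?_⟩⟩
  exact K.div_mem (K.pow_mem hx j) (K.sum_mem fun i _ => K.pow_mem hx i)

include hval hA in
/-- `K` is the fraction field of `A`. -/
theorem exists_div_eq (x : L) (hx : x ∈ K) :
    ∃ a b : L, a ∈ A ∧ b ∈ A ∧ b ≠ 0 ∧ x = a / b := by
  obtain ⟨s, hs, hG, hmem⟩ := exists_good_exponent_mem V hval K A hA x hx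
  refine ⟨x ^ 1 / G s x, x ^ 0 / G s x, hmem 1 (by omega), hmem 0 (by omega), ?_, ?_⟩
  · rw [pow_zero]; exact one_div_ne_zero hG
  · rw [pow_zero, pow_one]; field_simp

include hval hA in
/-- The localizations of `A` at primes are valuation rings. -/
theorem valuationRing_localization (p : Ideal A) [hp : p.IsPrime] :
    ValuationRing (Localization.AtPrime p) := by
  have hAK : ∀ z : A, (z : L) ∈ K := fun z => ((hA _).mp z.2).2
  have : PreValuationRing (Localization.AtPrime p) := by
    refine ⟨fun a b => ?_⟩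
    obtain ⟨α, σ, rfl⟩ := IsLocalization.exists_mk'_eq p.primeCompl a
    obtain ⟨β, τ, rfl⟩ := IsLocalization.exists_mk'_eq p.primeCompl b
    by_cases hβ : β = 0
    · exact ⟨0, Or.inl (by rw [hβ, IsLocalization.mk'_zero, mul_zero])⟩
    have hβL : (β : L) ≠ 0 := fun h => hβ (Subtype.ext h)
    obtain ⟨s, hs, hG, hmem⟩ := exists_good_exponent_mem V hval K A hA ((α : L) / β)
      (K.div_mem (hAK α) (hAK β))
    set x : L := (α : L) / β with hx
    let e : ℕ → A := fun j => if h : j < s then ⟨x ^ j / G s x, hmem j h⟩ else 0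
    have he : ∀ j (h : j < s), (e j : L) = x ^ j / G s x := fun j h => by
      simp only [e, dif_pos h]
    have hsum : ∑ j ∈ range s, e j = 1 := by
      apply Subtype.ext
      rw [← Subring.subtype_apply, map_sum]
      simp only [Subring.subtype_apply, Subring.coe_one]
      rw [sum_congr rfl fun j hj => he j (mem_range.mp hj), ← sum_div]
      exact div_self hG
    have hstep : ∀ j, j + 1 < s → α * e j = β * e (j + 1) := by
      intro j hj
      apply Subtype.ext
      rw [Subring.coe_mul, Subring.coe_mul, he j (by omega), he (j + 1) hj, hx, pow_succ]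
      field_simp
    have hex : ∃ j ∈ range s, e j ∉ p := by
      by_contra hcon
      push Not at hcon
      have : (1 : A) ∈ p := by rw [← hsum]; exact p.sum_mem hcon
      exact (Ideal.ne_top_iff_one p).mp hp.ne_top this
    obtain ⟨j, hj, hjp⟩ := hex
    have hj' : j < s := mem_range.mp hj
    cases j with
    | zero =>
      have h01 := hstep 0 (by omega)
      have hden : e 0 * (σ : A) ∈ p.primeCompl := Submonoid.mul_mem _ hjp σ.2
      refine ⟨IsLocalization.mk' _ (e 1 * τ) ⟨e 0 * σ, hden⟩, Or.inr ?_⟩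
      rw [← IsLocalization.mk'_mul]
      apply IsLocalization.mk'_eq_of_eq
      simp only [Submonoid.coe_mul]
      linear_combination ((τ : A) * σ) * h01
    | succ j =>
      have h01 := hstep j hj'
      have hden : e (j + 1) * (τ : A) ∈ p.primeCompl := Submonoid.mul_mem _ hjp τ.2
      refine ⟨IsLocalization.mk' _ (e j * σ) ⟨e (j + 1) * τ, hden⟩, Or.inl ?_⟩
      rw [← IsLocalization.mk'_mul]
      apply IsLocalization.mk'_eq_of_eq
      simp only [Submonoid.coe_mul]
      linear_combination (-(τ : A) * σ) * h01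
  exact .mk

include hA in
/-- `A` has finitely many maximal ideals. -/
theorem finite_maximalSpectrum : Finite (MaximalSpectrum A) := by
  classical
  have := Fintype.ofFinite ι
  have hAV : ∀ i, A ≤ V i := fun i z hz => ((hA z).mp hz).1 i
  let P : ι → Ideal A := fun i =>
    (IsLocalRing.maximalIdeal (V i)).comap (Subring.inclusion (hAV i))
  have hP : ∀ i, (P i).IsPrime := fun i => Ideal.comap_isPrime _ _
  have key : ∀ n : MaximalSpectrum A, ∃ i, n.asIdeal = P i := by
    intro n
    by_contra hcon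
    push Not at hcon
    have hnle : ∀ i, ¬ n.asIdeal ≤ P i := fun i hle =>
      hcon i (n.isMaximal.eq_of_le (hP i).ne_top hle)
    obtain ⟨i₀⟩ := ‹Nonempty ι›
    have h1 : ¬ ((n.asIdeal : Set A) ⊆ ⋃ i ∈ ((Finset.univ : Finset ι) : Set ι), P i) := by
      rw [Ideal.subset_union_prime i₀ i₀ (fun i _ _ _ => hP i)]
      rintro ⟨i, -, hi⟩
      exact hnle i hi
    rw [Set.not_subset] at h1
    obtain ⟨a, han, ha⟩ := h1
    simp only [Finset.coe_univ, Set.mem_univ, Set.iUnion_true, Set.mem_iUnion, SetLike.mem_coe,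
      not_exists] at ha
    have hw : ∀ i, ∃ w : V i, (a : L) * (w : L) = 1 := by
      intro i
      have hu : IsUnit (Subring.inclusion (hAV i) a) := by
        rw [← IsLocalRing.notMem_maximalIdeal]
        exact ha i
      obtain ⟨w, hw⟩ := hu.exists_right_inv
      refine ⟨w, ?_⟩
      have := congrArg Subtype.val hw
      simpa using this
    have ha0 : (a : L) ≠ 0 := by
      obtain ⟨w, hw⟩ := hw i₀
      exact left_ne_zero_of_mul_eq_one hw
    have hinv : (a : L)⁻¹ ∈ A := by
      rw [hA]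
      refine ⟨fun i => ?_, K.inv_mem ((hA _).mp a.2).2⟩
      obtain ⟨w, hw⟩ := hw i
      have : (a : L)⁻¹ = w := by
        exact inv_eq_of_mul_eq_one_right hw
      rw [this]
      exact w.2
    have h1A : (1 : A) ∈ n.asIdeal := by
      have : (1 : A) = a * ⟨(a : L)⁻¹, hinv⟩ := Subtype.ext (by simp [mul_inv_cancel₀ ha0])
      rw [this]
      exact Ideal.mul_mem_right _ _ han
    exact (Ideal.ne_top_iff_one _).mp n.isMaximal.ne_top h1A
  choose f hf using key
  exact Finite.of_injective f (fun n n' h => MaximalSpectrum.ext (by rw [hf n, hf n', h]))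

end Main

end Groth.Agent.Lib.Helper9.ValInter
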