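import Mathlib
import Groth.Statements.S4657
import Groth.Agent.S4637
import Groth.Agent.Lib.Helper28.DCohRes17
import Groth.Agent.Lib.Helper29.QCohQcqsAss

set_option autoImplicit false
open CategoryTheory AlgebraicGeometry
universe u
open AssSch

namespace Groth.Agent.Lib.Helper9.RedMod

open Groth.Agent.Lib.Helper29.QCoh

/-- In a Noetherian ring, a minimal prime `p` over `I` has a basic open neighbourhood `D(a)` whose
intersection with `V(I)` is contained in `V(p)`. -/
theorem exists_notMem_forall_le_of_mem_minimalPrimes {A : Type*} [CommRing A] [IsNoetherianRing A]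
    (I p : Ideal A) (hp : p ∈ I.minimalPrimes) :
    ∃ a : A, a ∉ p ∧ ∀ r : Ideal A, r.IsPrime → I ≤ r → a ∉ r → p ≤ r := by
  classical
  have hfin : (I.minimalPrimes).Finite := Ideal.finite_minimalPrimes_of_isNoetherianRing A I
  let T : Finset (Ideal A) := hfin.toFinset.erase p
  have hpp : p.IsPrime := hp.1.1
  have hT : ¬ T.inf id ≤ p := by
    intro hle
    obtain ⟨q, hqT, hqp⟩ := (Ideal.IsPrime.inf_le' hpp).mp hle
    rw [Finset.mem_erase, Set.Finite.mem_toFinset] at hqT
    have hq : q ∈ I.minimalPrimes := hqT.2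
    exact hqT.1 (le_antisymm hqp (hp.2 hq.1 hqp))
  obtain ⟨a, haT, hap⟩ := Set.not_subset.mp hT
  refine ⟨a, hap, fun r hr hIr har => ?_⟩
  obtain ⟨q, hq, hqr⟩ := Ideal.exists_minimalPrimes_le (I := I) (J := r) hIr
  by_cases hqp : q = p
  · rw [← hqp]; exact hqr
  · exfalso
    apply har
    apply hqr
    have hqT : q ∈ T := by
      rw [Finset.mem_erase, Set.Finite.mem_toFinset]
      exact ⟨hqp, hq⟩
    exact (Finset.inf_le hqT : T.inf id ≤ id q) haT

variable {X : Scheme.{u}}

/-- An associated point of a module without embedded points is a maximal point of the support. -/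
theorem eq_of_specializes_of_nontrivial (F : X.Modules) [F.IsQuasicoherent]
    (hNE : NoEmbedded F) (x : X) (hx : x ∈ Ass F) (y : X)
    (hy : Nontrivial (F.presheaf.stalk y)) (hyx : y ⤳ x) : y = x := by
  obtain ⟨V, hV, hxV, -⟩ := exists_isAffineOpen_mem_and_subset (x := x) (U := (⊤ : X.Opens)) trivial
  have hyV : y ∈ V := hyx.mem_open V.isOpen hxV
  have hns : ¬ Subsingleton (F.presheaf.stalk y) := not_subsingleton_iff_nontrivial.mpr hy
  rw [stalk_subsingleton_iff_germ F hV y hyV, not_forall] at hns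
  obtain ⟨m, hm⟩ := hns
  obtain ⟨z, hzV, hzy, hz, -⟩ := exists_isWeakAssPoint_specializes F hV m y hyV hm
  have hzA : z ∈ Ass F := (isAssPoint_iff_isWeakAssPoint F z).mpr hz
  have hxz : x = z := hNE x hx z hzA (hzy.trans hyx)
  subst hxz
  exact (hyx.antisymm hzy).eq

/-- A maximal point of the support of a coherent module lies in every open subset whose trace on
the support is dense in the support. -/
theorem mem_of_dense [IsLocallyNoetherian X] (U : X.Opens) (F : X.Modules) (hF : Coh.IsCoh F)
    (hdense : CohB1.support F ⊆ closure ((U : Set ↥X) ∩ CohB1.support F)) (x : X)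
    (hnt : Nontrivial (F.presheaf.stalk x))
    (hmax : ∀ y : X, Nontrivial (F.presheaf.stalk y) → y ⤳ x → y = x) : x ∈ U := by
  obtain ⟨hQ, hFT⟩ := hF
  have : F.IsQuasicoherent := hQ
  have : F.IsFiniteType := hFT
  obtain ⟨V, hV, hxV, -⟩ := exists_isAffineOpen_mem_and_subset (x := x) (U := (⊤ : X.Opens)) trivial
  have hN : IsNoetherianRing Γ(X, V) :=
    IsLocallyNoetherian.component_noetherian (X := X) ⟨V, hV⟩
  have hfin : Module.Finite Γ(X, V) Γ(F, V) := module_finite_of_isFiniteType F hV
  have hxsupp : hV.primeIdealOf ⟨x, hxV⟩ ∈ Module.support Γ(X, V) Γ(F, V) := by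
    by_contra hns
    exact (not_subsingleton_iff_nontrivial.mpr hnt)
      ((Groth.Agent.S4637.stalk_subsingleton_iff_notMem_support F hV x hxV).mpr hns)
  have hmin : (hV.primeIdealOf ⟨x, hxV⟩).asIdeal ∈
      (Module.annihilator Γ(X, V) Γ(F, V)).minimalPrimes := by
    refine ⟨⟨(hV.primeIdealOf ⟨x, hxV⟩).isPrime, Module.mem_support_iff_of_finite.mp hxsupp⟩,
      fun q hq hqp => ?_⟩
    obtain ⟨hqq, hIq⟩ := hq
    obtain ⟨y, hy, hyq⟩ := exists_point_of_prime' hV ⟨q, hqq⟩
    have hynt : Nontrivial (F.presheaf.stalk y) := by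
      rw [← not_subsingleton_iff_nontrivial,
        Groth.Agent.S4637.stalk_subsingleton_iff_notMem_support F hV y hy,
        not_not, hyq, Module.mem_support_iff_of_finite]
      exact hIq
    have hyx : y ⤳ x := specializes_of_primeIdealOf_le hV x y hxV hy
      (by rw [hyq]; exact hqp)
    have hyeq := hmax y hynt hyx
    have e : hV.primeIdealOf ⟨y, hy⟩ = hV.primeIdealOf ⟨x, hxV⟩ := by subst hyeq; rfl
    rw [← e, hyq]
  obtain ⟨a, hap, ha⟩ := exists_notMem_forall_le_of_mem_minimalPrimes _ _ hmin
  have hxa : x ∈ X.basicOpen a := (mem_basicOpen_iff_notMem_primeIdealOf hV x hxV a).mpr hap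
  have hxS : x ∈ CohB1.support F := not_subsingleton_iff_nontrivial.mpr hnt
  obtain ⟨u, hua, huU, huS⟩ := mem_closure_iff.mp (hdense hxS) (X.basicOpen a : Set X)
    (X.basicOpen a).isOpen hxa
  have huV : u ∈ V := X.basicOpen_le a hua
  have hau := (mem_basicOpen_iff_notMem_primeIdealOf hV u huV a).mp hua
  have husupp : hV.primeIdealOf ⟨u, huV⟩ ∈ Module.support Γ(X, V) Γ(F, V) := by
    by_contra hns
    exact huS ((Groth.Agent.S4637.stalk_subsingleton_iff_notMem_support F hV u huV).mpr hns)
  have hle := ha _ (hV.primeIdealOf ⟨u, huV⟩).isPrime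
    (Module.mem_support_iff_of_finite.mp husupp) hau
  exact (specializes_of_primeIdealOf_le hV u x huV hxV hle).mem_open U.isOpen huU

/-- The length of a module is invariant under semilinear bijections along surjective ring maps. -/
theorem length_eq_of_semilinear_bijective {A B M N : Type*} [CommRing A] [CommRing B]
    [AddCommGroup M] [AddCommGroup N] [Module A M] [Module B N] {σ : A →+* B}
    [RingHomSurjective σ] (f : M →ₛₗ[σ] N) (hf : Function.Bijective f) :
    Module.length A M = Module.length B N := by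
  rw [Module.length, Module.length, WithBot.unbot_inj,
    Order.krullDim_eq_of_orderIso (Submodule.orderIsoMapComapOfBijective f hf)]

/-- The restriction of `F` to an open subscheme, as a pullback, is isomorphic to the restriction. -/
noncomputable def pullbackIsoRestrict (U : X.Opens) (F : X.Modules) :
    (Scheme.Modules.pullback U.ι).obj F ≅ F.restrict U.ι :=
  ((Scheme.Modules.restrictFunctorIsoPullback U.ι).app F).symm

theorem isAssPoint_pullback_iff (U : X.Opens) (F : X.Modules) (y : U) :
    Curv2.IsAssPoint ((Scheme.Modules.pullback U.ι).obj F) y ↔ Curv2.IsAssPoint F (U.ι y) := by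
  rw [isAssPoint_iff_isWeakAssPoint, isAssPoint_iff_isWeakAssPoint,
    ← isWeakAssPoint_restrict_iff U.ι F y]
  exact ⟨isWeakAssPoint_of_iso (pullbackIsoRestrict U F) y,
    isWeakAssPoint_of_iso (pullbackIsoRestrict U F).symm y⟩

theorem length_pullback (U : X.Opens) (F : X.Modules) (y : U) :
    Module.length ((U : Scheme).presheaf.stalk y)
        (((Scheme.Modules.pullback U.ι).obj F).presheaf.stalk y) =
      Module.length (X.presheaf.stalk (U.ι y)) (F.presheaf.stalk (U.ι y)) := by
  rw [(Groth.Agent.Lib.Helper28.DCohRes.stalkLinearEquiv (pullbackIsoRestrict U F) y).length_eq]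
  let e : X.presheaf.stalk (U.ι y) ≃+* (U : Scheme).presheaf.stalk y :=
    (asIso (U.ι.stalkMap y)).commRingCatIsoToRingEquiv
  let _ : RingHomInvPair (e : X.presheaf.stalk (U.ι y) →+* (U : Scheme).presheaf.stalk y)
    (e.symm : (U : Scheme).presheaf.stalk y →+* X.presheaf.stalk (U.ι y)) :=
    RingHomInvPair.of_ringEquiv e
  let _ : RingHomInvPair (e.symm : (U : Scheme).presheaf.stalk y →+* X.presheaf.stalk (U.ι y))
    (e : X.presheaf.stalk (U.ι y) →+* (U : Scheme).presheaf.stalk y) :=
    RingHomInvPair.of_ringEquiv e.symm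
  have es := Groth.Agent.Lib.Helper28.DCohRes.restrictStalkSemilinearEquiv U.ι F y
  have : RingHomSurjective (e : X.presheaf.stalk (U.ι y) →+* (U : Scheme).presheaf.stalk y) :=
    ⟨e.surjective⟩
  exact (length_eq_of_semilinear_bijective es.toLinearMap es.bijective).symm

theorem main [IsLocallyNoetherian X] (U : X.Opens) (F : X.Modules)
    (hF : Coh.IsCoh F) (hdense : CohB1.support F ⊆ closure ((U : Set ↥X) ∩ CohB1.support F)) :
    AssSch.IsReducedMod F ↔
      AssSch.IsReducedMod ((Scheme.Modules.pullback U.ι).obj F) ∧ AssSch.NoEmbedded F := by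
  have hQ : F.IsQuasicoherent := hF.1
  constructor
  · rintro ⟨hNE, hlen⟩
    refine ⟨⟨fun y hy y' hy' hspec => ?_, fun y hy => ?_⟩, hNE⟩
    · have h1 : U.ι y ∈ Ass F := (isAssPoint_pullback_iff U F y).mp hy
      have h2 : U.ι y' ∈ Ass F := (isAssPoint_pullback_iff U F y').mp hy'
      have h3 : U.ι y' ⤳ U.ι y := hspec.map U.ι.continuous
      exact U.ι.isOpenEmbedding.injective (hNE _ h1 _ h2 h3)
    · rw [length_pullback]
      exact hlen _ ((isAssPoint_pullback_iff U F y).mp hy)
  · rintro ⟨⟨-, hlen⟩, hNE⟩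
    refine ⟨hNE, fun x hx => ?_⟩
    have hnt : Nontrivial (F.presheaf.stalk x) := by
      rw [← not_subsingleton_iff_nontrivial]
      intro hs
      exact not_isWeakAssPoint_of_subsingleton F x ((isAssPoint_iff_isWeakAssPoint F x).mp hx)
    have hxU : x ∈ U := mem_of_dense U F hF hdense x hnt
      (fun y hy hyx => eq_of_specializes_of_nontrivial F hNE x hx y hy hyx)
    obtain ⟨y, rfl⟩ : ∃ y : U, U.ι y = x := ⟨⟨x, hxU⟩, rfl⟩
    rw [← length_pullback]
    exact hlen y ((isAssPoint_pullback_iff U F y).mpr hx)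

end Groth.Agent.Lib.Helper9.RedMod
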