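import Mathlib
import Groth.Agent.Lib.Helper9.RedMod
import Groth.Agent.Lib.Helper25.IdealCRT
import Groth.Agent.Lib.Helper12.HomGlue1
import Groth.Agent.Lib.Helper12.FlatMod1

set_option autoImplicit false
open CategoryTheory CategoryTheory.Limits AlgebraicGeometry TopologicalSpace
universe u

namespace Groth.Agent.Lib.Helper9.AssQuot

open Groth.Agent.Lib.Helper29.QCoh Groth.Agent.Lib.Helper25.HypTwist

variable {X : Scheme.{u}}

/-- The vanishing ideal of the closure of a point `x`, on an affine open containing `x`, is the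
prime ideal of `x`. -/
theorem ideal_vanishingIdeal_closure (x : X) {W : X.Opens} (hW : IsAffineOpen W) (hx : x ∈ W) :
    (Scheme.IdealSheafData.vanishingIdeal ⟨closure {x}, isClosed_closure⟩).ideal ⟨W, hW⟩ =
      (hW.primeIdealOf ⟨x, hx⟩).asIdeal := by
  rw [Scheme.IdealSheafData.vanishingIdeal_ideal]
  have h1 : hW.fromSpec ⁻¹' ((⟨closure {x}, isClosed_closure⟩ : Closeds X) : Set X) =
      closure {hW.primeIdealOf ⟨x, hx⟩} := by
    change hW.fromSpec ⁻¹' (closure {x}) = _
    rw [hW.fromSpec.isOpenEmbedding.isOpenMap.preimage_closure_eq_closure_preimage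
      hW.fromSpec.continuous]
    congr 1
    ext q
    simp only [Set.mem_preimage, Set.mem_singleton_iff]
    constructor
    · intro h
      apply hW.fromSpec.isOpenEmbedding.injective
      rw [h, hW.fromSpec_primeIdealOf]
    · rintro rfl
      exact hW.fromSpec_primeIdealOf ⟨x, hx⟩
  refine (congrArg PrimeSpectrum.vanishingIdeal h1).trans ?_
  rw [PrimeSpectrum.vanishingIdeal_closure, PrimeSpectrum.vanishingIdeal_singleton]

/-- Algebra: factor `σ` through a surjection `π` with the same kernel; the factor is injective. -/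
theorem exists_injective_factor {R A B : Type*} [CommRing R] [AddCommGroup A] [AddCommGroup B]
    [Module R A] [Module R B] (π : R →ₗ[R] A) (σ : R →ₗ[R] B) (hπ : Function.Surjective π)
    (hk : LinearMap.ker π = LinearMap.ker σ) :
    ∃ l : A →ₗ[R] B, Function.Injective l ∧ ∀ a, l (π a) = σ a := by
  let e := LinearMap.quotKerEquivOfSurjective π hπ
  let q : (R ⧸ LinearMap.ker π) →ₗ[R] B := (LinearMap.ker π).liftQ σ hk.le
  refine ⟨q ∘ₗ e.symm.toLinearMap, ?_, ?_⟩
  · have hq : Function.Injective q := by
      rw [← LinearMap.ker_eq_bot]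
      exact Submodule.ker_liftQ_eq_bot _ _ _ hk.ge
    exact hq.comp e.symm.injective
  · intro a
    have h1 : e.symm (π a) = Submodule.Quotient.mk a := by
      rw [LinearEquiv.symm_apply_eq]
      rfl
    change q (e.symm (π a)) = σ a
    rw [h1]
    rfl

end Groth.Agent.Lib.Helper9.AssQuot
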