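import Mathlib
import Groth.Agent.Lib.Helper9.AssQuot1

set_option autoImplicit false
open CategoryTheory CategoryTheory.Limits AlgebraicGeometry TopologicalSpace
universe u

namespace Groth.Agent.Lib.Helper9.AssQuot

open Groth.Agent.Lib.Helper29.QCoh Groth.Agent.Lib.Helper25.HypTwist
open Groth.Agent.Lib.Helper12.H12HomGlue Groth.Agent.Lib.Helper12

variable {X : Scheme.{u}}

theorem smul_toSubscheme_one_eq_zero_iff (I : X.IdealSheafData) {W : X.Opens} (hW : IsAffineOpen W)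
    (r : Γ(X, W)) :
    r • (ClSub.toSubscheme I).app W (toUnit 1) = 0 ↔ r ∈ I.ideal ⟨W, hW⟩ := by
  rw [← app_smul', ← toUnit_eq_smul_one, toSubscheme_app_eq_zero_iff I ⟨W, hW⟩]
  rfl

/-- On an affine scheme, a linear map on global sections out of a quasi-coherent module is
induced by a morphism of modules. -/
theorem exists_hom_of_linear_top {Y : Scheme.{u}} [IsAffine Y] {M N : Y.Modules}
    [M.IsQuasicoherent] (l : Γ(M, ⊤) →ₗ[Γ(Y, ⊤)] Γ(N, ⊤)) :
    ∃ g : M ⟶ N, ∀ m : Γ(M, ⊤), g.app ⊤ m = l m := by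
  obtain ⟨g, hg⟩ := exists_hom_of_local (F := M) (Q := N) (fun _ : Unit => (⊤ : Y.Opens))
    (fun _ => isAffineOpen_top Y) (fun _ => ⟨(), trivial⟩) (fun _ => Set.univ)
    (fun _ => Submodule.span_univ) (fun _ => l) (by
      intro k l' x _ _ m _
      refine ⟨⊤, trivial, le_rfl, le_rfl, 1, fun _ => 1, fun _ => m, ?_, ?_⟩
      · rw [Fin.sum_univ_one, one_smul]
      · rw [Fin.sum_univ_one, one_smul])
  exact ⟨g, fun m => hg () m⟩

/-- `x` is an associated point of `O_Z` for `Z` the reduced closure of `x`. -/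
theorem isAssPoint_quotMod (x : X) :
    Curv2.IsAssPoint (ClSub.quotMod
      (Scheme.IdealSheafData.vanishingIdeal ⟨closure {x}, isClosed_closure⟩)) x := by
  rw [isAssPoint_iff_isWeakAssPoint]
  obtain ⟨W, hW, hxW, -⟩ := exists_isAffineOpen_mem_and_subset (x := x) (U := ⊤) trivial
  refine isWeakAssPoint_of_mem_minimalPrimes _ hW
    ((ClSub.toSubscheme (Scheme.IdealSheafData.vanishingIdeal
      ⟨closure {x}, isClosed_closure⟩)).app W (toUnit 1)) x hxW ?_
  have h1 : annSection _ ((ClSub.toSubscheme (Scheme.IdealSheafData.vanishingIdeal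
      ⟨closure {x}, isClosed_closure⟩)).app W (toUnit 1)) =
      (hW.primeIdealOf ⟨x, hxW⟩).asIdeal := by
    ext r
    rw [mem_annSection, smul_toSubscheme_one_eq_zero_iff _ hW, ideal_vanishingIdeal_closure x hW hxW]
  rw [h1, Ideal.minimalPrimes_eq_subsingleton_self]
  rfl

end Groth.Agent.Lib.Helper9.AssQuot

namespace Groth.Agent.Lib.Helper9.AssQuot

open Groth.Agent.Lib.Helper29.QCoh Groth.Agent.Lib.Helper25.HypTwist
open Groth.Agent.Lib.Helper12.H12HomGlue Groth.Agent.Lib.Helper12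

variable {X : Scheme.{u}}

set_option maxHeartbeats 800000 in
theorem exists_mono_restrict [IsLocallyNoetherian X] (F : X.Modules) [F.IsQuasicoherent] (x : X)
    (h : Curv2.IsAssPoint F x) :
    ∃ U : X.Opens, x ∈ U ∧
      ∃ g : (ClSub.quotMod (Scheme.IdealSheafData.vanishingIdeal
          ⟨closure {x}, isClosed_closure⟩)).restrict U.ι ⟶ F.restrict U.ι, Mono g := by
  generalize hI : Scheme.IdealSheafData.vanishingIdeal ⟨closure {x}, isClosed_closure⟩ = I
  obtain ⟨W, hW, hxW, -⟩ := exists_isAffineOpen_mem_and_subset (x := x) (U := ⊤) trivial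
  have hW'eq : W.ι ''ᵁ ⊤ = W := W.ι_image_top
  have hW' : IsAffineOpen (W.ι ''ᵁ ⊤) := by rw [hW'eq]; exact hW
  have hxW' : x ∈ W.ι ''ᵁ ⊤ := by rw [hW'eq]; exact hxW
  have : IsNoetherianRing Γ(X, W.ι ''ᵁ ⊤) :=
    IsLocallyNoetherian.component_noetherian ⟨_, hW'⟩
  have hass := primeIdealOf_mem_associatedPrimes F hW' x hxW'
    ((isAssPoint_iff_isWeakAssPoint F x).mp h)
  rw [AssociatedPrimes.mem_iff, isAssociatedPrime_iff] at hass
  obtain ⟨-, s, hs⟩ := hass
  have hs' : ∀ r : Γ(X, W.ι ''ᵁ ⊤), r • s = 0 ↔ r ∈ I.ideal ⟨_, hW'⟩ := by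
    intro r
    rw [← hI, ideal_vanishingIdeal_closure x hW' hxW', hs, Submodule.mem_colon_singleton,
      Submodule.mem_bot]
  have : IsAffine (W : Scheme) := hW
  refine ⟨W, hxW, ?_⟩
  let M : (W : Scheme).Modules := (ClSub.quotMod I).restrict W.ι
  let N : (W : Scheme).Modules := F.restrict W.ι
  let m₁ : Γ(M, ⊤) := (ClSub.toSubscheme I).app (W.ι ''ᵁ ⊤) (toUnit 1)
  let s₁ : Γ(N, ⊤) := s
  let π : Γ((W : Scheme), ⊤) →ₗ[Γ((W : Scheme), ⊤)] Γ(M, ⊤) := LinearMap.toSpanSingleton _ _ m₁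
  let σ : Γ((W : Scheme), ⊤) →ₗ[Γ((W : Scheme), ⊤)] Γ(N, ⊤) := LinearMap.toSpanSingleton _ _ s₁
  have hπa : ∀ a, π a = ((W.ι.appIso ⊤).inv a) •
      ((ClSub.toSubscheme I).app (W.ι ''ᵁ ⊤) (toUnit 1)) :=
    fun a => restrict_smul W.ι (ClSub.quotMod I) ⊤ a _
  have hσa : ∀ a, σ a = ((W.ι.appIso ⊤).inv a) • s := fun a => restrict_smul W.ι F ⊤ a s
  have hπ : Function.Surjective π := by
    intro t
    obtain ⟨b, hb⟩ := toSubscheme_app_surjective I ⟨_, hW'⟩ t
    refine ⟨(W.ι.appIso ⊤).hom (fromUnit b), ?_⟩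
    rw [hπa]
    have h1 : (W.ι.appIso ⊤).inv ((W.ι.appIso ⊤).hom (fromUnit b)) = fromUnit b := by
      rw [← ConcreteCategory.comp_apply, Iso.hom_inv_id]
      rfl
    rw [h1, ← app_smul', ← toUnit_eq_smul_one, toUnit_fromUnit]
    exact hb
  have hπ0 : ∀ a, π a = 0 ↔ ((W.ι.appIso ⊤).inv a) ∈ I.ideal ⟨_, hW'⟩ := by
    intro a
    have h1 := smul_toSubscheme_one_eq_zero_iff I hW' ((W.ι.appIso ⊤).inv a)
    constructor
    · intro h0
      exact h1.mp ((hπa a).symm.trans h0)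
    · intro h0
      exact (hπa a).trans (h1.mpr h0)
  have hσ0 : ∀ a, σ a = 0 ↔ ((W.ι.appIso ⊤).inv a) ∈ I.ideal ⟨_, hW'⟩ := by
    intro a
    have h1 := hs' ((W.ι.appIso ⊤).inv a)
    constructor
    · intro h0
      exact h1.mp ((hσa a).symm.trans h0)
    · intro h0
      exact (hσa a).trans (h1.mpr h0)
  have hk : LinearMap.ker π = LinearMap.ker σ := by
    ext a
    rw [LinearMap.mem_ker, LinearMap.mem_ker, hπ0, hσ0]
  obtain ⟨l, hlinj, hl⟩ := exists_injective_factor π σ hπ hk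
  obtain ⟨g, hg⟩ := exists_hom_of_linear_top (M := M) (N := N) l
  refine ⟨g, ?_⟩
  exact Groth.Agent.Lib.Helper12.H12FlatLim.mono_of_app_injective_of_affine_cover g (fun _ : Unit => (⊤ : (W : Scheme).Opens))
    (fun _ => isAffineOpen_top _) (fun _ => ⟨(), trivial⟩) (fun _ => by
      intro a b hab
      rw [hg, hg] at hab
      exact hlinj hab)

end Groth.Agent.Lib.Helper9.AssQuot

namespace Groth.Agent.Lib.Helper9.AssQuot

open Groth.Agent.Lib.Helper29.QCoh

theorem main {X : Scheme.{u}} [IsLocallyNoetherian X] (F : X.Modules)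
    (hF : Coh.IsQCoh F) (x : X) :
    x ∈ AssSch.Ass F ↔ ∃ (U : X.Opens), x ∈ U ∧
      ∃ φ : (Scheme.Modules.pullback U.ι).obj
              ((Scheme.Modules.pushforward (Scheme.IdealSheafData.vanishingIdeal ⟨closure {x}, isClosed_closure⟩).subschemeι).obj
                (Coh.structureModule (Scheme.IdealSheafData.vanishingIdeal ⟨closure {x}, isClosed_closure⟩).subscheme)) ⟶
            (Scheme.Modules.pullback U.ι).obj F, Mono φ := by
  have : F.IsQuasicoherent := hF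
  constructor
  · intro h
    obtain ⟨U, hxU, g, hg⟩ := exists_mono_restrict F x h
    have := hg
    exact ⟨U, hxU, (RedMod.pullbackIsoRestrict U _).hom ≫ g ≫ (RedMod.pullbackIsoRestrict U F).inv,
      inferInstance⟩
  · rintro ⟨U, hxU, φ, hφ⟩
    have := hφ
    have h1 := isAssPoint_quotMod x
    have h2 := (RedMod.isAssPoint_pullback_iff U _ ⟨x, hxU⟩).mpr h1
    have h3 := isAssPoint_of_mono φ ⟨x, hxU⟩ h2
    exact (RedMod.isAssPoint_pullback_iff U F ⟨x, hxU⟩).mp h3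

end Groth.Agent.Lib.Helper9.AssQuot
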