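import Mathlib
import Groth.Agent.Lib.Helper29.HomSec3
import Groth.Agent.Lib.Helper29.QCohRestrict
import Groth.Agent.Lib.Helper29.Cocycle
import Groth.Agent.Lib.Helper9.RefStalk2

/-!
# Sections of the sheaf Hom as morphisms of restrictions; extending stalk maps (helper9)
-/

set_option autoImplicit false
universe u
open CategoryTheory CategoryTheory.Limits AlgebraicGeometry TopologicalSpace Opposite

namespace Groth.Agent.Lib.Helper9.StalkExt

open Groth.Agent.Lib.Helper29.QCoh Groth.Agent.Lib.Helper29.QCoh.Dual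
  Groth.Agent.Lib.Helper29.QCoh.HomSec

variable {X : Scheme.{u}} {G F : X.Modules}

theorem image_le (U : X.Opens) (V : (U : Scheme.{u}).Opens) : U.ι ''ᵁ V ≤ U := by
  rintro _ ⟨y, -, rfl⟩
  exact y.2

/-- Evaluation of a section of the sheaf Hom over `U` on sections over smaller opens. -/
noncomputable def evAt {U : X.Opens} (θ : Γ(RefHull.homSh G F, U)) {W : X.Opens} (hW : W ≤ U) :
    Γ(G, W) →+ Γ(F, W) where
  toFun := fun m => ev (res (RefHull.homSh G F) hW θ) m
  map_zero' := by
    have := ev_smul_right (0 : Γ(X, W)) (res (RefHull.homSh G F) hW θ) (0 : Γ(G, W))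
    rwa [zero_smul, zero_smul] at this
  map_add' := fun a b => ev_add_right _ a b

theorem evAt_apply {U : X.Opens} (θ : Γ(RefHull.homSh G F, U)) {W : X.Opens} (hW : W ≤ U)
    (m : Γ(G, W)) : evAt θ hW m = ev (res (RefHull.homSh G F) hW θ) m := rfl

theorem evAt_smul {U : X.Opens} (θ : Γ(RefHull.homSh G F, U)) {W : X.Opens} (hW : W ≤ U)
    (r : Γ(X, W)) (m : Γ(G, W)) : evAt θ hW (r • m) = r • evAt θ hW m :=
  ev_smul_right r _ m

theorem evAt_res {U : X.Opens} (θ : Γ(RefHull.homSh G F, U)) {W W' : X.Opens} (hW : W ≤ U)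
    (h : W' ≤ W) (m : Γ(G, W)) :
    evAt θ (h.trans hW) (res G h m) = res F h (evAt θ hW m) := by
  rw [evAt_apply, evAt_apply, res_ev, res_res]

theorem germ_evAt {U : X.Opens} (θ : Γ(RefHull.homSh G F, U)) {W : X.Opens} (hW : W ≤ U)
    (m : Γ(G, W)) (y : X) (hy : y ∈ W) :
    F.presheaf.germ W y hy (evAt θ hW m) = θ.1 ⟨y, hW hy⟩ (G.presheaf.germ W y hy m) := by
  rw [evAt_apply, germ_ev]
  rfl

/-- The morphism `G|_U ⟶ F|_U` defined by a section of the sheaf Hom over `U`. -/
noncomputable def homOfSection {U : X.Opens} (θ : Γ(RefHull.homSh G F, U)) :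
    G.restrict U.ι ⟶ F.restrict U.ι :=
  homOfApp (M := G.restrict U.ι) (N := F.restrict U.ι)
    (fun V => (evAt θ (image_le U V) : Γ(G, U.ι ''ᵁ V) →+ Γ(F, U.ι ''ᵁ V)))
    (fun V r m => by
      have h1 := restrict_smul U.ι G V r m
      have h2 := restrict_smul U.ι F V r (evAt θ (image_le U V) m)
      exact (congrArg (evAt θ (image_le U V)) h1).trans ((evAt_smul θ _ _ m).trans h2.symm))
    (fun {V V'} h m => evAt_res θ (image_le U V) (U.ι.image_mono h) m)

theorem homOfSection_app {U : X.Opens} (θ : Γ(RefHull.homSh G F, U)) (V : (U : Scheme.{u}).Opens)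
    (m : Γ(G, U.ι ''ᵁ V)) :
    (homOfSection θ).app V m = evAt θ (image_le U V) m := rfl

end Groth.Agent.Lib.Helper9.StalkExt
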