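import Mathlib
import Groth.Prelude.Def_Dual3
import Groth.Agent.Lib.Helper9.IdMul3

/-!
# Subobjects of quasi-coherent modules through their sections over affine opens (helper9)
-/

set_option autoImplicit false
universe u
open CategoryTheory CategoryTheory.Limits AlgebraicGeometry TopologicalSpace Opposite TensorProduct

namespace Groth.Agent.Lib.Helper9.IdMul

open Groth.Agent.Lib.Helper29.QCoh

variable {X : Scheme.{u}}

theorem app_comp_apply {A B C : X.Modules} (f : A ⟶ B) (g : B ⟶ C) (U : X.Opens) (z : Γ(A, U)) :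
    (f ≫ g).app U z = g.app U (f.app U z) := rfl

theorem zero_app_apply {A B : X.Modules} (U : X.Opens) (z : Γ(A, U)) :
    Scheme.Modules.Hom.app (0 : A ⟶ B) U z = 0 := rfl

theorem range_appₗ_comp_iso {P T F : X.Modules} (e : P ≅ T) (t : T ⟶ F) (p : P ⟶ F)
    (h : e.hom ≫ t = p) (W : X.Opens) :
    LinearMap.range (appₗ p W) = LinearMap.range (appₗ t W) := by
  subst h
  ext m
  constructor
  · rintro ⟨z, rfl⟩
    exact ⟨e.hom.app W z, rfl⟩
  · rintro ⟨z, rfl⟩
    refine ⟨e.inv.app W z, ?_⟩
    change (e.inv ≫ e.hom ≫ t).app W z = _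
    rw [Iso.inv_hom_id_assoc]
    rfl

/-- Comparison of subobjects through sections over an affine cover. -/
theorem mk_le_mk_of_range_le {A B F : X.Modules} [A.IsQuasicoherent] (a : A ⟶ F) (b : B ⟶ F)
    [Mono a] [Mono b] {ι : Type*} (W : ι → X.Opens) (hW : ∀ i, IsAffineOpen (W i))
    (hcov : ∀ x : X, ∃ i, x ∈ W i)
    (h : ∀ i, LinearMap.range (appₗ a (W i)) ≤ LinearMap.range (appₗ b (W i))) :
    Subobject.mk a ≤ Subobject.mk b := by
  have h0 : a ≫ cokernel.π b = 0 := by
    refine Groth.Agent.Lib.Helper12.H12ModLim.hom_ext_of_affine_cover _ _ W hW hcov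
      (fun _ => Set.univ) (fun _ => Submodule.span_univ) ?_
    intro i z _
    obtain ⟨y, hy⟩ := h i ⟨z, rfl⟩
    rw [app_comp_apply, zero_app_apply]
    have : a.app (W i) z = b.app (W i) y := hy.symm
    rw [this, ← app_comp_apply, cokernel.condition]
    rfl
  exact Subobject.mk_le_mk_of_comm (Abelian.monoLift b a h0) (Abelian.monoLift_comp b a h0)

theorem mk_eq_mk_of_range_eq {A B F : X.Modules} [A.IsQuasicoherent] [B.IsQuasicoherent]
    (a : A ⟶ F) (b : B ⟶ F)
    [Mono a] [Mono b] {ι : Type*} (W : ι → X.Opens) (hW : ∀ i, IsAffineOpen (W i))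
    (hcov : ∀ x : X, ∃ i, x ∈ W i)
    (h : ∀ i, LinearMap.range (appₗ a (W i)) = LinearMap.range (appₗ b (W i))) :
    Subobject.mk a = Subobject.mk b :=
  le_antisymm (mk_le_mk_of_range_le a b W hW hcov fun i => (h i).le)
    (mk_le_mk_of_range_le b a W hW hcov fun i => (h i).ge)

section inf

variable {A B F : X.Modules} (a : A ⟶ F) (b : B ⟶ F) [Mono a] [Mono b]

/-- A concrete model of the intersection of two subobjects. -/
noncomputable abbrev infObj : X.Modules := kernel (a ≫ cokernel.π b)

noncomputable abbrev infArrow : infObj a b ⟶ F := kernel.ι (a ≫ cokernel.π b) ≫ a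

instance : Mono (infArrow a b) := mono_comp _ _

theorem inf_eq_mk_infArrow :
    Subobject.mk a ⊓ Subobject.mk b = Subobject.mk (infArrow a b) := by
  apply le_antisymm
  · let S := Subobject.mk a ⊓ Subobject.mk b
    let u : (S : X.Modules) ⟶ A := Subobject.ofLEMk S a inf_le_left
    let v : (S : X.Modules) ⟶ B := Subobject.ofLEMk S b inf_le_right
    have hu : u ≫ a = S.arrow := Subobject.ofLEMk_comp _
    have hv : v ≫ b = S.arrow := Subobject.ofLEMk_comp _
    have h0 : u ≫ (a ≫ cokernel.π b) = 0 := by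
      rw [← Category.assoc, hu, ← hv, Category.assoc, cokernel.condition, comp_zero]
    refine Subobject.le_mk_of_comm (kernel.lift _ u h0) ?_
    rw [← Category.assoc, kernel.lift_ι, hu]
  · refine le_inf ?_ ?_
    · exact Subobject.mk_le_mk_of_comm (kernel.ι _) rfl
    · have h0 : infArrow a b ≫ cokernel.π b = 0 := by
        rw [Category.assoc, kernel.condition]
      exact Subobject.mk_le_mk_of_comm (Abelian.monoLift b _ h0) (Abelian.monoLift_comp b _ h0)

omit [Mono a] [Mono b] in
theorem range_infArrow [B.IsQuasicoherent] [F.IsQuasicoherent] (W : X.affineOpens) :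
    LinearMap.range (appₗ (infArrow a b) W.1) =
      LinearMap.range (appₗ a W.1) ⊓ LinearMap.range (appₗ b W.1) := by
  have hexb : Function.Exact (b.app W.1) ((cokernel.π b).app W.1) :=
    app_exact_of_exact (ShortComplex.mk b (cokernel.π b) (cokernel.condition b))
      (ShortComplex.exact_cokernel b) W.2
  have hexk := app_exact_of_exact_of_mono
    (ShortComplex.mk (kernel.ι (a ≫ cokernel.π b)) (a ≫ cokernel.π b) (kernel.condition _))
    (ShortComplex.exact_kernel _) W.1
  ext m
  rw [Submodule.mem_inf]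
  constructor
  · rintro ⟨z, rfl⟩
    refine ⟨⟨(kernel.ι (a ≫ cokernel.π b)).app W.1 z, rfl⟩, ?_⟩
    apply (hexb _).mp
    change (infArrow a b ≫ cokernel.π b).app W.1 z = 0
    rw [Category.assoc, kernel.condition]
    rfl
  · rintro ⟨⟨z, rfl⟩, hb⟩
    have h1 : (a ≫ cokernel.π b).app W.1 z = 0 := (hexb _).mpr hb
    obtain ⟨z', hz'⟩ := (hexk z).mp h1
    refine ⟨z', ?_⟩
    change a.app W.1 ((kernel.ι (a ≫ cokernel.π b)).app W.1 z') = _
    rw [show (kernel.ι (a ≫ cokernel.π b)).app W.1 z' = z from hz']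
    rfl

/-- The iso between the underlying object of the intersection and the concrete model. -/
noncomputable def infIso :
    ((Subobject.mk a ⊓ Subobject.mk b : Subobject F) : X.Modules) ≅ infObj a b :=
  Subobject.isoOfEqMk _ (infArrow a b) (inf_eq_mk_infArrow a b)

theorem infIso_hom_arrow :
    (infIso a b).hom ≫ infArrow a b = (Subobject.mk a ⊓ Subobject.mk b).arrow :=
  Subobject.ofLEMk_comp _

theorem isQuasicoherent_inf [A.IsQuasicoherent] [B.IsQuasicoherent] [F.IsQuasicoherent] :
    ((Subobject.mk a ⊓ Subobject.mk b : Subobject F) : X.Modules).IsQuasicoherent :=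
  isQuasicoherent_of_iso (infIso a b).symm

theorem range_inf_arrow [B.IsQuasicoherent] [F.IsQuasicoherent] (W : X.affineOpens) :
    LinearMap.range (appₗ (Subobject.mk a ⊓ Subobject.mk b).arrow W.1) =
      LinearMap.range (appₗ a W.1) ⊓ LinearMap.range (appₗ b W.1) := by
  rw [range_appₗ_comp_iso (infIso a b) (infArrow a b) _ (infIso_hom_arrow a b) W.1,
    range_infArrow]

end inf

end Groth.Agent.Lib.Helper9.IdMul
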