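import Mathlib
import Groth.Prelude.Def_Dual3
import Groth.Agent.Lib.Helper9.IdMul5
import Groth.Agent.Lib.Helper1.IdealSheafComap

/-!
# `I · f_* F = f_* ((I O_Y) · F)` for affine `f` (helper9)
-/

set_option autoImplicit false
universe u
open CategoryTheory CategoryTheory.Limits AlgebraicGeometry TopologicalSpace Opposite TensorProduct

namespace Groth.Agent.Lib.Helper9.IdMul

open Groth.Agent.Lib.Helper29.QCoh

theorem mem_smul_top_iff_of_semilinear {A B M M' : Type*} [CommRing A] [CommRing B]
    [AddCommGroup M] [Module B M] [AddCommGroup M'] [Module A M'] (φ : A →+* B) (g : M' ≃+ M)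
    (hg : ∀ (r : A) (m : M'), g (r • m) = φ r • g m) (J : Ideal A) (m : M') :
    m ∈ J • (⊤ : Submodule A M') ↔ g m ∈ (J.map φ) • (⊤ : Submodule B M) := by
  constructor
  · intro hm
    refine Submodule.smul_induction_on hm ?_ ?_
    · intro r hr n _
      rw [hg]
      exact Submodule.smul_mem_smul (Ideal.mem_map_of_mem φ hr) trivial
    · intro x y hx hy
      rw [map_add]
      exact Submodule.add_mem _ hx hy
  · intro hm
    have hsymm : ∀ (r : A) (n : M), g.symm (φ r • n) = r • g.symm n := by
      intro r n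
      apply g.injective
      rw [hg, AddEquiv.apply_symm_apply, AddEquiv.apply_symm_apply]
    have key : ∀ b ∈ J.map φ, ∀ n : M, g.symm (b • n) ∈ J • (⊤ : Submodule A M') := by
      intro b hb
      refine Submodule.span_induction (p := fun b _ => ∀ n : M, g.symm (b • n) ∈
        J • (⊤ : Submodule A M')) ?_ ?_ ?_ ?_ hb
      · rintro _ ⟨r, hr, rfl⟩ n
        rw [hsymm]
        exact Submodule.smul_mem_smul hr trivial
      · intro n
        rw [zero_smul, map_zero]
        exact Submodule.zero_mem _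
      · intro x y _ _ hx hy n
        rw [add_smul, map_add]
        exact Submodule.add_mem _ (hx n) (hy n)
      · intro c x _ hx n
        rw [smul_eq_mul, mul_comm, mul_smul]
        exact hx _
    have : ∀ y ∈ (J.map φ) • (⊤ : Submodule B M), g.symm y ∈ J • (⊤ : Submodule A M') := by
      intro y hy
      refine Submodule.smul_induction_on hy ?_ ?_
      · intro b hb n _
        exact key b hb n
      · intro x y hx hy
        rw [map_add]
        exact Submodule.add_mem _ hx hy
    have h := this _ hm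
    rwa [AddEquiv.symm_apply_apply] at h

theorem main9523 {Y X : Scheme.{u}} (f : Y ⟶ X) [IsAffineHom f]
    (F : Y.Modules) (hF : Coh.IsQCoh F) (I : X.IdealSheafData) :
    ∃ e : (Dual3.idealMul I).obj ((Scheme.Modules.pushforward f).obj F) ≅
        (Scheme.Modules.pushforward f).obj ((Dual3.idealMul (I.comap f)).obj F),
      e.hom ≫ (Scheme.Modules.pushforward f).map (Dual3.idealMulι (I.comap f) F) =
        Dual3.idealMulι I ((Scheme.Modules.pushforward f).obj F) := by
  have : F.IsQuasicoherent := hF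
  have hPF : ((Scheme.Modules.pushforward f).obj F).IsQuasicoherent :=
    isQuasicoherent_pushforward_of_isAffineHom f F
  have hB : ((Scheme.Modules.pushforward f).obj
      ((Dual3.idealMul (I.comap f)).obj F)).IsQuasicoherent :=
    isQuasicoherent_pushforward_of_isAffineHom f _
  let a := Dual3.idealMulι I ((Scheme.Modules.pushforward f).obj F)
  let b := (Scheme.Modules.pushforward f).map (Dual3.idealMulι (I.comap f) F)
  have hb : Mono b :=
    (mono_iff_app_injective b).mpr fun U => idealMulι_app_injective (I.comap f) F (f ⁻¹ᵁ U)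
  have heq : Subobject.mk a = Subobject.mk b := by
    refine mk_eq_mk_of_range_eq a b (fun W : X.affineOpens => (W : X.Opens)) (fun W => W.2)
      ?_ ?_
    · intro x
      obtain ⟨W, hW, hxW, -⟩ := Opens.isBasis_iff_nbhd.mp X.isBasis_affineOpens (Opens.mem_top x)
      exact ⟨⟨W, hW⟩, hxW⟩
    · intro W
      have hW' : IsAffineOpen (f ⁻¹ᵁ W.1) := W.2.preimage f
      ext m
      have h1 : m ∈ LinearMap.range (appₗ a W.1) ↔
          m ∈ (I.ideal W) • (⊤ : Submodule Γ(X, W.1)
            Γ((Scheme.Modules.pushforward f).obj F, W.1)) :=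
        mem_range_idealMulι_app_iff I _ W m
      have h2 : m ∈ LinearMap.range (appₗ b W.1) ↔
          (show Γ(F, f ⁻¹ᵁ W.1) from m) ∈ ((I.comap f).ideal ⟨f ⁻¹ᵁ W.1, hW'⟩) •
            (⊤ : Submodule Γ(Y, f ⁻¹ᵁ W.1) Γ(F, f ⁻¹ᵁ W.1)) :=
        mem_range_idealMulι_app_iff (I.comap f) F ⟨f ⁻¹ᵁ W.1, hW'⟩ m
      have h3 : (I.comap f).ideal ⟨f ⁻¹ᵁ W.1, hW'⟩ = (I.ideal W).map (f.app W.1).hom := by
        rw [Groth.Agent.Lib.Helper1.ideal_comap I f ⟨f ⁻¹ᵁ W.1, hW'⟩ W le_rfl,
          ← Scheme.Hom.app_eq_appLE]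
      rw [h1, h2, h3]
      let g : Γ((Scheme.Modules.pushforward f).obj F, W.1) ≃+ Γ(F, f ⁻¹ᵁ W.1) :=
        AddEquiv.refl _
      exact mem_smul_top_iff_of_semilinear (f.app W.1).hom g (fun r m => rfl) (I.ideal W) m
  refine ⟨Subobject.isoOfMkEqMk a b heq, ?_⟩
  exact Subobject.ofMkLEMk_comp _

end Groth.Agent.Lib.Helper9.IdMul
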