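import Mathlib
import Groth.Prelude.Def_Dual3
import Groth.Agent.Lib.Helper9.IdMul5

/-!
# Artin–Rees for submodule sheaves (helper9)
-/

set_option autoImplicit false
universe u
open CategoryTheory CategoryTheory.Limits AlgebraicGeometry TopologicalSpace Opposite TensorProduct

namespace Groth.Agent.Lib.Helper9.IdMul

open Groth.Agent.Lib.Helper29.QCoh

variable {X : Scheme.{u}} (I : X.IdealSheafData)

theorem range_idealMulι (P : X.Modules) [P.IsQuasicoherent] (k : ℕ) (W : X.affineOpens) :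
    LinearMap.range (appₗ (Dual3.idealMulι (I ^ k) P) W.1) =
      ((I.ideal W) ^ k) • (⊤ : Submodule Γ(X, W.1) Γ(P, W.1)) := by
  ext m
  have := mem_range_idealMulι_app_iff (I ^ k) P W m
  rw [Scheme.IdealSheafData.ideal_pow] at this
  exact this

theorem range_appₗ_comp {A B C : X.Modules} (f : A ⟶ B) (g : B ⟶ C) (U : X.Opens) :
    LinearMap.range (appₗ (f ≫ g) U) = Submodule.map (appₗ g U) (LinearMap.range (appₗ f U)) := by
  ext m
  constructor
  · rintro ⟨z, rfl⟩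
    exact ⟨f.app U z, ⟨z, rfl⟩, rfl⟩
  · rintro ⟨_, ⟨z, rfl⟩, rfl⟩
    exact ⟨z, rfl⟩

/-- Artin–Rees with any larger constant. -/
theorem artinRees_of_le {R M : Type*} [CommRing R] [AddCommGroup M] [Module R M]
    (J : Ideal R) (N : Submodule R M) (k : ℕ)
    (hk : ∀ n ≥ k, J ^ n • ⊤ ⊓ N = J ^ (n - k) • (J ^ k • ⊤ ⊓ N)) (c : ℕ) (hc : k ≤ c) :
    ∀ n ≥ c, J ^ n • ⊤ ⊓ N = J ^ (n - c) • (J ^ c • ⊤ ⊓ N) := by
  intro n hn
  rw [hk n (hc.trans hn), hk c hc, ← Submodule.mul_smul, ← pow_add]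
  congr 2
  omega

theorem main9517 (X : Scheme.{u}) [IsNoetherian X] (F G : X.Modules) (hF : Coh.IsCoh F)
    (hG : Coh.IsQCoh G) (ι : G ⟶ F) [Mono ι] (I : X.IdealSheafData) :
    ∃ c : ℕ, ∀ n : ℕ, c ≤ n →
      Subobject.mk (Dual3.idealMulι (I ^ (n - c))
          (Subobject.underlying.obj (Subobject.mk (Dual3.idealMulι (I ^ c) F) ⊓ Subobject.mk ι)) ≫
        (Subobject.mk (Dual3.idealMulι (I ^ c) F) ⊓ Subobject.mk ι).arrow) =
      Subobject.mk (Dual3.idealMulι (I ^ n) F) ⊓ Subobject.mk ι := by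
  have : F.IsQuasicoherent := hF.1
  have : F.IsFiniteType := hF.2
  have : G.IsQuasicoherent := hG
  -- local Artin–Rees constants
  have hloc : ∀ W : X.affineOpens, ∃ k : ℕ, ∀ n ≥ k,
      (I.ideal W) ^ n • ⊤ ⊓ LinearMap.range (appₗ ι W.1) =
        (I.ideal W) ^ (n - k) • ((I.ideal W) ^ k • ⊤ ⊓ LinearMap.range (appₗ ι W.1)) := by
    intro W
    have : IsNoetherianRing Γ(X, W.1) := IsLocallyNoetherian.component_noetherian W
    have : Module.Finite Γ(X, W.1) Γ(F, W.1) := module_finite_of_isFiniteType F W.2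
    exact Ideal.exists_pow_inf_eq_pow_smul (I.ideal W) (LinearMap.range (appₗ ι W.1))
  choose kk hkk using hloc
  have hcov : ∀ x : X, ∃ W : X.affineOpens, x ∈ W.1 := by
    intro x
    obtain ⟨W, hW, hxW, -⟩ := Opens.isBasis_iff_nbhd.mp X.isBasis_affineOpens (Opens.mem_top x)
    exact ⟨⟨W, hW⟩, hxW⟩
  choose Wx hWx using hcov
  obtain ⟨t, ht⟩ := isCompact_univ.elim_finite_subcover (fun x : X => ((Wx x).1 : Set X))
    (fun x => (Wx x).1.isOpen) (fun x _ => Set.mem_iUnion.mpr ⟨x, hWx x⟩)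
  let c : ℕ := t.sup fun x => kk (Wx x)
  refine ⟨c, fun n hn => ?_⟩
  have hq : ∀ k : ℕ, ((Subobject.mk (Dual3.idealMulι (I ^ k) F) ⊓ Subobject.mk ι :
      Subobject F) : X.Modules).IsQuasicoherent := fun k => isQuasicoherent_inf _ _
  have hqc := hq c
  have hqn := hq n
  rw [← Subobject.mk_arrow (Subobject.mk (Dual3.idealMulι (I ^ n) F) ⊓ Subobject.mk ι)]
  refine mk_eq_mk_of_range_eq _ _ (fun x : t => ((Wx x.1).1 : X.Opens)) (fun x => (Wx x.1).2)
    ?_ ?_
  · intro x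
    obtain ⟨y, hy, hxy⟩ := Set.mem_iUnion₂.mp (ht (Set.mem_univ x))
    exact ⟨⟨y, hy⟩, hxy⟩
  · rintro ⟨y, hy⟩
    change LinearMap.range (appₗ _ (Wx y).1) = LinearMap.range (appₗ _ (Wx y).1)
    rw [range_appₗ_comp, range_idealMulι, Submodule.map_smul'', Submodule.map_top,
      range_inf_arrow, range_inf_arrow, range_idealMulι, range_idealMulι]
    have hle : kk (Wx y) ≤ c := Finset.le_sup (f := fun x => kk (Wx x)) hy
    exact (artinRees_of_le _ _ _ (hkk (Wx y)) c hle n hn).symm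

end Groth.Agent.Lib.Helper9.IdMul
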