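import Mathlib
import Groth.Prelude.Def_Dual3
import Groth.Agent.Lib.Helper9.IdMul6
import Groth.Agent.Lib.Helper9.CohGlue
import Groth.Agent.Lib.Helper3.ExtendLN2
import Groth.Agent.Lib.Helper29.CE1
import Groth.Agent.Lib.Helper12.FlatMod1

/-!
# Extending a morphism `G|_U → F|_U` to `IⁿG → F` (Deligne's formula, surjectivity) (helper9)
-/

set_option autoImplicit false
universe u
open CategoryTheory CategoryTheory.Limits AlgebraicGeometry TopologicalSpace Opposite TensorProduct

namespace Groth.Agent.Lib.Helper9.IdMul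

open Groth.Agent.Lib.Helper29.QCoh

variable {X : Scheme.{u}}

/-- The graph of `φ : G|_U → F|_U` extends to a coherent submodule of `G ⊞ F`: there are a
coherent `Q` with `a : Q → G`, `b : Q → F` such that `a|_U` is an isomorphism and
`a|_U ≫ φ = b|_U`. -/
theorem exists_graph_extension [IsNoetherian X] (F G : X.Modules) [F.IsQuasicoherent]
    [G.IsQuasicoherent] [G.IsFiniteType] (U : X.Opens)
    (φ : (Scheme.Modules.restrictFunctor U.ι).obj G ⟶
      (Scheme.Modules.restrictFunctor U.ι).obj F) :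
    ∃ (Q : X.Modules) (a : Q ⟶ G) (b : Q ⟶ F), Q.IsQuasicoherent ∧ Q.IsFiniteType ∧
      IsIso ((Scheme.Modules.restrictFunctor U.ι).map a) ∧
      (Scheme.Modules.restrictFunctor U.ι).map a ≫ φ =
        (Scheme.Modules.restrictFunctor U.ι).map b := by
  let R := Scheme.Modules.restrictFunctor U.ι
  have hX : ∀ x : X, ∃ V : X.Opens, x ∈ V ∧ NoetherianSpace (V : Set X) := fun x =>
    ⟨⊤, trivial, NoetherianSpace.set _⟩
  have hGF : (G ⊞ F).IsQuasicoherent := Groth.Agent.Lib.Helper9.CohGlue.isQuasicoherent_biprod G F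
  let i : R.obj G ⟶ R.obj (G ⊞ F) := R.map biprod.inl + φ ≫ R.map biprod.inr
  have hi1 : i ≫ R.map biprod.fst = 𝟙 _ := by
    simp only [i, Preadditive.add_comp, Category.assoc, ← R.map_comp, biprod.inl_fst,
      biprod.inr_fst, R.map_zero, comp_zero, add_zero, R.map_id]
  have hi2 : i ≫ R.map biprod.snd = φ := by
    simp only [i, Preadditive.add_comp, Category.assoc, ← R.map_comp, biprod.inl_snd,
      biprod.inr_snd, R.map_zero, zero_add, R.map_id]
    exact Category.comp_id φ
  have : Mono i := mono_of_mono_fac hi1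
  obtain ⟨Q, i', e, -, hQq, hQf, he⟩ :=
    Groth.Agent.Lib.Helper3.exists_finiteType_extension_of_locallyNoetherian hX U (G ⊞ F)
      (R.obj G) i
  refine ⟨Q, i' ≫ biprod.fst, i' ≫ biprod.snd, hQq, hQf, ?_, ?_⟩
  · have : R.map (i' ≫ biprod.fst) = e.hom := by
      rw [R.map_comp]
      change (Scheme.Modules.restrictFunctor U.ι).map i' ≫ _ = _
      rw [← he, Category.assoc, hi1, Category.comp_id]
    change IsIso (R.map (i' ≫ biprod.fst))
    rw [this]
    infer_instance
  · change R.map (i' ≫ biprod.fst) ≫ φ = R.map (i' ≫ biprod.snd)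
    rw [R.map_comp, R.map_comp]
    change ((Scheme.Modules.restrictFunctor U.ι).map i' ≫ _) ≫ φ =
      (Scheme.Modules.restrictFunctor U.ι).map i' ≫ _
    rw [← he]
    simp only [Category.assoc]
    rw [hi2, ← Category.assoc i, hi1, Category.id_comp]

end Groth.Agent.Lib.Helper9.IdMul
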