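import Mathlib
import Groth.Prelude.Def_Dual3
import Groth.Agent.Lib.Helper9.IdMul8

/-!
# Extending a morphism `G|_U → F|_U` to `IⁿG → F` (Deligne's formula, surjectivity), part 2
(helper9)
-/

set_option autoImplicit false
universe u
open CategoryTheory CategoryTheory.Limits AlgebraicGeometry TopologicalSpace Opposite TensorProduct

namespace Groth.Agent.Lib.Helper9.IdMul

open Groth.Agent.Lib.Helper29.QCoh

variable {X : Scheme.{u}}

/-- If `a : Q → G` is an isomorphism off `V(I)` (`Q`, `G` coherent), then on every affine open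
`W` high powers of `I` meet `ker a` trivially and some power of `I` maps `Γ(G, W)` into the
image of `a`. -/
theorem exists_local_constants [IsNoetherian X] (I : X.IdealSheafData) (U : X.Opens)
    (hU : (U : Set X) = (I.support : Set X)ᶜ) {Q G : X.Modules} [Q.IsQuasicoherent]
    [Q.IsFiniteType] [G.IsQuasicoherent] [G.IsFiniteType] (a : Q ⟶ G)
    (hiso : IsIso ((Scheme.Modules.restrictFunctor U.ι).map a)) (W : X.affineOpens) :
    ∃ d k : ℕ,
      (∀ n ≥ d, (I.ideal W) ^ n • (⊤ : Submodule Γ(X, W.1) Γ(Q, W.1)) ⊓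
        LinearMap.ker (appₗ a W.1) = ⊥) ∧
      (I.ideal W) ^ k • (⊤ : Submodule Γ(X, W.1) Γ(G, W.1)) ≤ LinearMap.range (appₗ a W.1) := by
  let R := Scheme.Modules.restrictFunctor U.ι
  have hκ : R.map (kernel.ι a) = 0 := by
    have : Mono (R.map a) := by infer_instance
    rw [← cancel_mono (R.map a), ← R.map_comp, kernel.condition, R.map_zero, zero_comp]
  have hπ : R.map (cokernel.π a) = 0 := by
    have : Epi (R.map a) := by infer_instance
    rw [← cancel_epi (R.map a), ← R.map_comp, cokernel.condition, R.map_zero, comp_zero]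
  have : (kernel a).IsFiniteType := isFiniteType_kernel a
  obtain ⟨kK, hkK⟩ := exists_pow_smul_app_eq_zero I (kernel.ι a) U hU hκ W
  obtain ⟨kC, hkC⟩ := exists_pow_smul_app_eq_zero I (cokernel.π a) U hU hπ W
  have : IsNoetherianRing Γ(X, W.1) := IsLocallyNoetherian.component_noetherian W
  have : Module.Finite Γ(X, W.1) Γ(Q, W.1) := module_finite_of_isFiniteType Q W.2
  obtain ⟨c₀, hc₀⟩ := Ideal.exists_pow_inf_eq_pow_smul (I.ideal W) (LinearMap.ker (appₗ a W.1))
  have hexk : Function.Exact ((kernel.ι a).app W.1) (a.app W.1) := app_exact_of_exact_of_mono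
    (ShortComplex.mk (kernel.ι a) a (kernel.condition _)) (ShortComplex.exact_kernel a) W.1
  have hexc : Function.Exact (a.app W.1) ((cokernel.π a).app W.1) :=
    app_exact_of_exact (ShortComplex.mk a (cokernel.π a) (cokernel.condition a))
      (ShortComplex.exact_cokernel a) W.2
  refine ⟨c₀ + kK, kC, ?_, ?_⟩
  · intro n hn
    rw [hc₀ n (by omega), eq_bot_iff]
    refine Submodule.smul_le.mpr ?_
    intro b hb t ht
    have ht' : t ∈ LinearMap.ker (appₗ a W.1) := ht.2
    have hz : appₗ a W.1 t = 0 := LinearMap.mem_ker.mp ht'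
    obtain ⟨p, rfl⟩ := (hexk t).mp hz
    have hb' : b ∈ (I.ideal W) ^ kK := Ideal.pow_le_pow_right (by omega) hb
    rw [Submodule.mem_bot]
    exact hkK b hb' p
  · refine Submodule.smul_le.mpr ?_
    intro b hb g _
    have h1 := hkC b hb g
    rw [← app_smul'] at h1
    obtain ⟨z, hz⟩ := (hexc _).mp h1
    exact ⟨z, hz⟩

theorem main9515 (X : Scheme.{u}) [IsNoetherian X] (F G : X.Modules)
    (hF : Coh.IsQCoh F) (hG : Coh.IsCoh G) (I : X.IdealSheafData)
    (U : X.Opens) (hU : (U : Set X) = (I.support : Set X)ᶜ)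
    (φ : (Scheme.Modules.restrictFunctor U.ι).obj G ⟶
      (Scheme.Modules.restrictFunctor U.ι).obj F) :
    ∃ (n : ℕ) (ψ : (Dual3.idealMul (I ^ n)).obj G ⟶ F),
      (Scheme.Modules.restrictFunctor U.ι).map ψ =
        (Scheme.Modules.restrictFunctor U.ι).map (Dual3.idealMulι (I ^ n) G) ≫ φ := by
  have : F.IsQuasicoherent := hF
  have : G.IsQuasicoherent := hG.1
  have : G.IsFiniteType := hG.2
  obtain ⟨Q, a, b, hQq, hQf, hiso, hab⟩ := exists_graph_extension F G U φ
  have hloc := fun W : X.affineOpens => exists_local_constants I U hU a hiso W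
  choose dd kk hdd hkk using hloc
  have hcov : ∀ x : X, ∃ W : X.affineOpens, x ∈ W.1 := by
    intro x
    obtain ⟨W, hW, hxW, -⟩ := Opens.isBasis_iff_nbhd.mp X.isBasis_affineOpens (Opens.mem_top x)
    exact ⟨⟨W, hW⟩, hxW⟩
  choose Wx hWx using hcov
  obtain ⟨t, ht⟩ := isCompact_univ.elim_finite_subcover (fun x : X => ((Wx x).1 : Set X))
    (fun x => (Wx x).1.isOpen) (fun x _ => Set.mem_iUnion.mpr ⟨x, hWx x⟩)
  have hcov' : ∀ x : X, ∃ y : t, x ∈ (Wx y.1).1 := by
    intro x
    obtain ⟨y, hy, hxy⟩ := Set.mem_iUnion₂.mp (ht (Set.mem_univ x))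
    exact ⟨⟨y, hy⟩, hxy⟩
  let n₀ : ℕ := t.sup fun x => dd (Wx x)
  let k : ℕ := t.sup fun x => kk (Wx x)
  let m : (Dual3.idealMul (I ^ n₀)).obj Q ⟶ G := Dual3.idealMulι (I ^ n₀) Q ≫ a
  have hm : Mono m := by
    refine Groth.Agent.Lib.Helper12.H12FlatLim.mono_of_app_injective_of_affine_cover m
      (fun y : t => ((Wx y.1).1 : X.Opens)) (fun y => (Wx y.1).2) hcov' ?_
    rintro ⟨y, hy⟩
    rw [injective_iff_map_eq_zero]
    intro z hz
    have h1 : (Dual3.idealMulι (I ^ n₀) Q).app (Wx y).1 z ∈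
        (I.ideal (Wx y)) ^ n₀ • (⊤ : Submodule Γ(X, (Wx y).1) Γ(Q, (Wx y).1)) := by
      have := idealMulι_app_mem (I ^ n₀) Q (Wx y) z
      rw [Scheme.IdealSheafData.ideal_pow] at this
      exact this
    have h2 : (Dual3.idealMulι (I ^ n₀) Q).app (Wx y).1 z ∈
        LinearMap.ker (appₗ a (Wx y).1) := LinearMap.mem_ker.mpr hz
    have hle : dd (Wx y) ≤ n₀ := Finset.le_sup (f := fun x => dd (Wx x)) hy
    have h3 : (Dual3.idealMulι (I ^ n₀) Q).app (Wx y).1 z ∈
        (⊥ : Submodule Γ(X, (Wx y).1) Γ(Q, (Wx y).1)) := by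
      rw [← hdd (Wx y) n₀ hle]
      exact ⟨h1, h2⟩
    rw [Submodule.mem_bot] at h3
    exact idealMulι_app_injective (I ^ n₀) Q (Wx y).1 (h3.trans (map_zero _).symm)
  have hle : Subobject.mk (Dual3.idealMulι (I ^ (n₀ + k)) G) ≤ Subobject.mk m := by
    refine mk_le_mk_of_range_le _ _ (fun y : t => ((Wx y.1).1 : X.Opens)) (fun y => (Wx y.1).2)
      hcov' ?_
    rintro ⟨y, hy⟩
    change LinearMap.range (appₗ _ (Wx y).1) ≤ LinearMap.range (appₗ m (Wx y).1)
    rw [range_idealMulι, range_appₗ_comp, range_idealMulι, Submodule.map_smul'',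
      Submodule.map_top, pow_add, Submodule.mul_smul]
    refine Submodule.smul_mono le_rfl ?_
    have hle : kk (Wx y) ≤ k := Finset.le_sup (f := fun x => kk (Wx x)) hy
    refine le_trans ?_ (hkk (Wx y))
    exact Submodule.smul_mono_left (Ideal.pow_le_pow_right hle)
  let ρ := Subobject.ofMkLEMk (Dual3.idealMulι (I ^ (n₀ + k)) G) m hle
  have hρ : ρ ≫ m = Dual3.idealMulι (I ^ (n₀ + k)) G := Subobject.ofMkLEMk_comp hle
  refine ⟨n₀ + k, ρ ≫ Dual3.idealMulι (I ^ n₀) Q ≫ b, ?_⟩
  rw [← hρ]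
  simp only [m, Functor.map_comp, Category.assoc]
  rw [hab]

end Groth.Agent.Lib.Helper9.IdMul
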