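import Groth.Agent.Lib.Helper9.AdicLimit
import Mathlib.Algebra.Module.Projective
import Mathlib.RingTheory.Finiteness.Cardinality
import Mathlib.RingTheory.Ideal.Quotient.PowTransition

/-!
# Projectivity of inverse limits of projective systems over adically complete rings
(helper9 library)
-/

set_option autoImplicit false

namespace Groth.Agent.Lib.Helper9

open Function

universe u v w

section Pi

variable {A : Type*} [CommRing A] (I : Ideal A)

theorem isHausdorff_pi {ι : Type*} [IsHausdorff I A] :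
    IsHausdorff I (ι → A) := by
  refine ⟨fun v hv => ?_⟩
  funext i
  apply IsHausdorff.haus ‹IsHausdorff I A›
  intro n
  have h1 : (I ^ n • ⊤ : Submodule A (ι → A)).map (LinearMap.proj i) ≤ I ^ n • ⊤ := by
    rw [Submodule.map_smul'']
    exact Submodule.smul_mono le_rfl le_top
  have h2 := (SModEq.sub_mem).mp (hv n)
  rw [sub_zero] at h2
  rw [SModEq.sub_mem, sub_zero]
  exact h1 ⟨v, h2, rfl⟩

theorem isAdicComplete_pi {ι : Type*} [Fintype ι] [DecidableEq ι] [IsAdicComplete I A] :
    IsAdicComplete I (ι → A) :=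
  { isHausdorff_pi I, isPrecomplete_pi I with }

end Pi

section Choice

theorem exists_compatible_seq {S : ℕ → Type*} (R : ∀ n, S (n + 1) → S n → Prop)
    (h0 : Nonempty (S 0)) (hstep : ∀ n (s : S n), ∃ s' : S (n + 1), R n s' s) :
    ∃ z : ∀ n, S n, ∀ n, R n (z (n + 1)) (z n) := by
  choose next hnext using hstep
  exact ⟨fun n => Nat.rec h0.some (fun n s => next n s) n, fun n => hnext n _⟩

end Choice

section Retract

variable {A : Type*} [CommRing A]

/-- Lifting property of `A`-linear retracts of finite free `A ⧸ J`-modules against maps out of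
modules killed by `J`. -/
theorem exists_lift_of_retract {J : Ideal A} {P : Type*} [AddCommGroup P] [Module A P]
    {m : ℕ} (i : P →ₗ[A] (Fin m → A ⧸ J)) (r : (Fin m → A ⧸ J) →ₗ[A] P)
    (hri : r ∘ₗ i = LinearMap.id)
    {N N' : Type*} [AddCommGroup N] [Module A N] [AddCommGroup N'] [Module A N']
    (hN : J • (⊤ : Submodule A N) = ⊥) (g : N →ₗ[A] N') (h : P →ₗ[A] N')
    (hgh : ∀ x, ∃ w, g w = h x) : ∃ h' : P →ₗ[A] N, g ∘ₗ h' = h := by
  classical
  choose w hw using fun j : Fin m => hgh (r (Pi.single j 1))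
  have hJ : ∀ (n : N) (a : A), a ∈ J → a • n = 0 := by
    intro n a ha
    have : a • n ∈ J • (⊤ : Submodule A N) := Submodule.smul_mem_smul ha trivial
    rw [hN] at this
    simpa using this
  let ψj : Fin m → ((A ⧸ J) →ₗ[A] N) := fun j =>
    Submodule.liftQ J (LinearMap.toSpanSingleton A N (w j)) (by
      intro a ha
      rw [LinearMap.mem_ker, LinearMap.toSpanSingleton_apply]
      exact hJ _ _ ha)
  have hψj : ∀ j (a : A), ψj j (Ideal.Quotient.mk J a) = a • w j := by
    intro j a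
    rfl
  let ψ : (Fin m → A ⧸ J) →ₗ[A] N := ∑ j, (ψj j) ∘ₗ LinearMap.proj j
  have hψ : g ∘ₗ ψ = h ∘ₗ r := by
    apply LinearMap.pi_ext
    intro j x
    obtain ⟨a, rfl⟩ := Ideal.Quotient.mk_surjective x
    have h1 : (Pi.single j (Ideal.Quotient.mk J a) : Fin m → A ⧸ J) = a • Pi.single j 1 := by
      funext k
      by_cases hk : k = j
      · subst hk
        simp [Algebra.smul_def]
      · simp [hk]
    have h2 : ψ (Pi.single j (Ideal.Quotient.mk J a)) = a • w j := by
      simp only [ψ, LinearMap.sum_apply, LinearMap.comp_apply, LinearMap.proj_apply]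
      rw [Finset.sum_eq_single j]
      · rw [Pi.single_eq_same, hψj]
      · intro k _ hk
        rw [Pi.single_eq_of_ne hk, map_zero]
      · intro hj
        exact absurd (Finset.mem_univ j) hj
    rw [LinearMap.comp_apply, h2, map_smul, hw, LinearMap.comp_apply, h1, map_smul, map_smul]
  refine ⟨ψ ∘ₗ i, ?_⟩
  rw [← LinearMap.comp_assoc, hψ, LinearMap.comp_assoc, hri, LinearMap.comp_id]

end Retract

section Main

variable {A : Type u} [CommRing A] (I : Ideal A)
  {M : ℕ → Type v} [∀ n, AddCommGroup (M n)] [∀ n, Module A (M n)]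
  (f : ∀ n, M (n + 1) →ₗ[A] M n)
  {L : Type w} [AddCommGroup L] [Module A L] (π : ∀ n, L →ₗ[A] M n)
  {F : Type*} [AddCommGroup F] [Module A F] (φ : F →ₗ[A] L)

theorem smul_top_quotient_eq_bot {R : Type*} [CommRing R] (J : Ideal R) (N : Type*)
    [AddCommGroup N] [Module R N] :
    J • (⊤ : Submodule R (N ⧸ (J • ⊤ : Submodule R N))) = ⊥ := by
  have h1 : (J • ⊤ : Submodule R N).map (Submodule.mkQ _) = ⊥ := Submodule.mkQ_map_self _
  rw [Submodule.map_smul'', Submodule.map_top, Submodule.range_mkQ] at h1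
  exact h1

include f in
/-- Existence of a section of a surjection `φ : F → L` from an adically complete module `F`
onto the limit `L` of a system `M n` of "projective" modules. -/
theorem exists_section_of_limit [IsAdicComplete I F]
    (hk : ∀ n, I ^ (n + 1) • (⊤ : Submodule A (M n)) = ⊥)
    (hker : ∀ n, LinearMap.ker (f n) = I ^ (n + 1) • (⊤ : Submodule A (M (n + 1))))
    (hπ : ∀ n, f n ∘ₗ π (n + 1) = π n)
    (hinj : ∀ x : L, (∀ n, π n x = 0) → x = 0)
    (hπφ : ∀ n, Surjective (π n ∘ₗ φ))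
    (hproj : ∀ n, ∃ (m : ℕ) (i : M n →ₗ[A] (Fin m → A ⧸ I ^ (n + 1)))
      (r : (Fin m → A ⧸ I ^ (n + 1)) →ₗ[A] M n), r ∘ₗ i = LinearMap.id) :
    ∃ σ : L →ₗ[A] F, φ ∘ₗ σ = LinearMap.id := by
  classical
  have hle : ∀ n, (I ^ (n + 1) • ⊤ : Submodule A F) ≤ LinearMap.ker (π n ∘ₗ φ) := by
    intro n x hx
    have h1 : (π n ∘ₗ φ) x ∈ (I ^ (n + 1) • ⊤ : Submodule A F).map (π n ∘ₗ φ) := ⟨x, hx, rfl⟩
    rw [Submodule.map_smul''] at h1
    have h3 := Submodule.smul_mono (le_refl (I ^ (n + 1)))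
      (le_top : Submodule.map (π n ∘ₗ φ) ⊤ ≤ ⊤) h1
    rw [hk n] at h3
    simpa using h3
  let φq : ∀ n, (F ⧸ (I ^ (n + 1) • ⊤ : Submodule A F)) →ₗ[A] M n :=
    fun n => Submodule.liftQ _ (π n ∘ₗ φ) (hle n)
  have hφq : ∀ n (x : F), φq n (Submodule.Quotient.mk x) = π n (φ x) := fun n x => rfl
  let p : ∀ n, (F ⧸ (I ^ (n + 1 + 1) • ⊤ : Submodule A F)) →ₗ[A]
      (F ⧸ (I ^ (n + 1) • ⊤ : Submodule A F)) :=
    fun n => Submodule.factorPow I F (Nat.le_succ (n + 1))
  have hp : ∀ n (x : F), p n (Submodule.Quotient.mk x) = Submodule.Quotient.mk x := fun n x => rfl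
  -- sections
  let S : ℕ → Type _ := fun n =>
    {s : M n →ₗ[A] (F ⧸ (I ^ (n + 1) • ⊤ : Submodule A F)) // φq n ∘ₗ s = LinearMap.id}
  let R : ∀ n, S (n + 1) → S n → Prop := fun n s' s => p n ∘ₗ s'.1 = s.1 ∘ₗ f n
  have h0 : Nonempty (S 0) := by
    obtain ⟨m, i, r, hri⟩ := hproj 0
    obtain ⟨s, hs⟩ := exists_lift_of_retract i r hri (smul_top_quotient_eq_bot (I ^ (0 + 1)) F)
      (φq 0) LinearMap.id (by
        intro x
        obtain ⟨y, hy⟩ := hπφ 0 x
        exact ⟨Submodule.Quotient.mk y, hy⟩)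
    exact ⟨⟨s, hs⟩⟩
  have hstep : ∀ n (s : S n), ∃ s' : S (n + 1), R n s' s := by
    intro n s
    obtain ⟨m, i, r, hri⟩ := hproj (n + 1)
    obtain ⟨s', hs'⟩ := exists_lift_of_retract i r hri
      (smul_top_quotient_eq_bot (I ^ (n + 1 + 1)) F)
      (LinearMap.prod (φq (n + 1)) (p n)) (LinearMap.prod LinearMap.id (s.1 ∘ₗ f n)) (by
        intro x
        obtain ⟨w, hw⟩ := Submodule.Quotient.mk_surjective _ (s.1 (f n x))
        have h1 : f n (x - π (n + 1) (φ w)) = 0 := by
          have h2 := congrArg (fun g => g (φ w)) (hπ n)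
          simp only [LinearMap.comp_apply] at h2
          have h3 := congrArg (fun g => g (f n x)) s.2
          simp only [LinearMap.comp_apply, LinearMap.id_apply] at h3
          rw [map_sub, h2, ← hφq, hw, h3, sub_self]
        have h4 : x - π (n + 1) (φ w) ∈ (I ^ (n + 1) • ⊤ : Submodule A F).map (π (n + 1) ∘ₗ φ) := by
          rw [Submodule.map_smul'', Submodule.map_top, LinearMap.range_eq_top.mpr (hπφ (n + 1)),
            ← hker n]
          exact h1
        obtain ⟨u, hu, hux⟩ := h4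
        refine ⟨Submodule.Quotient.mk (w + u), ?_⟩
        rw [LinearMap.prod_apply, LinearMap.prod_apply]
        refine Prod.ext ?_ ?_
        · show φq (n + 1) (Submodule.Quotient.mk (w + u)) = LinearMap.id x
          rw [hφq, map_add, map_add, LinearMap.id_apply]
          rw [LinearMap.comp_apply] at hux
          rw [hux]; abel
        · show p n (Submodule.Quotient.mk (w + u)) = (s.1 ∘ₗ f n) x
          rw [hp, LinearMap.comp_apply, ← hw, Submodule.Quotient.mk_add]
          have : (Submodule.Quotient.mk u : F ⧸ (I ^ (n + 1) • ⊤ : Submodule A F)) = 0 :=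
            (Submodule.Quotient.mk_eq_zero _).mpr hu
          rw [this, add_zero])
    have h5 : φq (n + 1) ∘ₗ s' = LinearMap.id := by
      have := congrArg (fun g => (LinearMap.fst A _ _) ∘ₗ g) hs'
      simp only [← LinearMap.comp_assoc, LinearMap.fst_prod] at this
      exact this
    refine ⟨⟨s', h5⟩, ?_⟩
    have := congrArg (fun g => (LinearMap.snd A _ _) ∘ₗ g) hs'
    simp only [← LinearMap.comp_assoc, LinearMap.snd_prod] at this
    exact this
  obtain ⟨z, hz⟩ := exists_compatible_seq R h0 hstep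
  let g : ∀ n, L →ₗ[A] (F ⧸ (I ^ (n + 1) • ⊤ : Submodule A F)) := fun n => (z n).1 ∘ₗ π n
  have ha : StrictMono (fun n : ℕ => n + 1) := fun a b h => Nat.succ_lt_succ h
  have hg : ∀ {m : ℕ}, Submodule.factorPow I F (ha.monotone m.le_succ) ∘ₗ g (m + 1) = g m := by
    intro m
    show p m ∘ₗ ((z (m + 1)).1 ∘ₗ π (m + 1)) = (z m).1 ∘ₗ π m
    rw [← LinearMap.comp_assoc, hz m, LinearMap.comp_assoc, hπ m]
  let σ : L →ₗ[A] F := IsAdicComplete.StrictMono.lift I ha g hg
  refine ⟨σ, ?_⟩
  ext x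
  rw [LinearMap.comp_apply, LinearMap.id_apply, ← sub_eq_zero]
  apply hinj
  intro n
  have h1 : (Submodule.Quotient.mk (σ x) : F ⧸ (I ^ (n + 1) • ⊤ : Submodule A F)) = g n x :=
    IsAdicComplete.StrictMono.mk_lift I ha g hg x
  rw [map_sub, sub_eq_zero, ← hφq, h1]
  show φq n ((z n).1 (π n x)) = π n x
  have := congrArg (fun g => g (π n x)) (z n).2
  simpa using this

end Main

end Groth.Agent.Lib.Helper9
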