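import Mathlib
import Groth.Prelude.Def_W4bk4boschfrg79
import Groth.Agent.Lib.Helper12.HensInt
import Groth.Agent.Lib.Helper15.RigClosed

set_option autoImplicit false
set_option linter.style.haveILetI false
set_option linter.unusedSectionVars false
set_option linter.unusedVariables false
universe u

/-! # Rigid points of admissible algebras over a complete height-one valuation ring (helper9)

Local domains of dimension one, topologically of finite type over a complete valuation ring `R` of
height one, are finite over `R`; their normalization is a valuation ring (Seidenberg's `u, u⁻¹`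
lemma plus henselianity of `R`). -/

namespace Groth.Agent.Lib.Helper9.RigPt

open IsLocalRing Polynomial



section BaseRing

variable (R : Type u) [CommRing R] [IsDomain R] [ValuationRing R] [Ring.KrullDimLE 1 R]
  (t : R) (ht : t ≠ 0) [IsAdicComplete (Ideal.span {t}) R]

theorem span_le_jacobson : Ideal.span {t} ≤ Ideal.jacobson (⊥ : Ideal R) :=
  IsAdicComplete.le_jacobson_bot (Ideal.span {t})

theorem t_mem_maximalIdeal : t ∈ maximalIdeal R := by
  have h := span_le_jacobson R t (Ideal.mem_span_singleton_self t)
  rwa [IsLocalRing.jacobson_eq_maximalIdeal ⊥ bot_ne_top] at h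

include ht in
theorem radical_span : (Ideal.span {t}).radical = maximalIdeal R := by
  apply le_antisymm
  · exact (Ideal.IsPrime.radical_le_iff inferInstance).2
      ((Ideal.span_singleton_le_iff_mem _).2 (t_mem_maximalIdeal R t))
  · rw [Ideal.radical_eq_sInf]
    refine le_sInf ?_
    rintro q ⟨hq, hqp⟩
    have hne : q ≠ ⊥ := by
      rintro rfl
      exact ht (by simpa using hq (Ideal.mem_span_singleton_self t))
    have := hqp.isMaximal_of_ne_bot hne
    rw [IsLocalRing.eq_maximalIdeal this]

include ht in
theorem henselianLocalRing : HenselianLocalRing R := by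
  haveI : HenselianRing R (maximalIdeal R) :=
    Groth.Agent.Lib.Helper12.HensRad.henselianRing_of_le_radical (Ideal.span {t}) _
      (radical_span R t ht).ge
  exact Groth.Agent.Lib.Helper12.HensInt.henselianLocalRing_of_henselianRing_maximalIdeal R

/-- A prime of `R` not containing `t` is zero. -/
theorem prime_eq_bot_of_notMem (p : Ideal R) [hp : p.IsPrime] (h : t ∉ p) : p = ⊥ := by
  by_contra hne
  have := hp.isMaximal_of_ne_bot hne
  rw [IsLocalRing.eq_maximalIdeal this] at h
  exact h (t_mem_maximalIdeal R t)

include ht in
theorem ringKrullDim_eq_one : ringKrullDim R = 1 := by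
  apply le_antisymm
  · exact Ring.krullDimLE_iff.mp inferInstance
  · have hlt : (⊥ : Ideal R) < maximalIdeal R := by
      refine lt_of_le_of_ne bot_le ?_
      intro h
      have := t_mem_maximalIdeal R t
      rw [← h] at this
      exact ht (by simpa using this)
    have : (1 : WithBot ℕ∞) ≤ ringKrullDim R := by
      rw [ringKrullDim]
      have h1 : (⟨⊥, Ideal.isPrime_bot⟩ : PrimeSpectrum R) < ⟨maximalIdeal R, inferInstance⟩ := hlt
      have := Order.one_le_krullDim_iff.mpr ⟨_, _, h1⟩
      exact_mod_cast this
    exact this

end BaseRing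




section LocalDomOne

variable (B : Type u) [CommRing B] [IsDomain B] [IsLocalRing B] (hdim : ringKrullDim B = 1)

include hdim in
theorem prime_eq_bot_or_eq_maximalIdeal (p : Ideal B) [hp : p.IsPrime] :
    p = ⊥ ∨ p = maximalIdeal B := by
  haveI : Ring.KrullDimLE 1 B := Ring.krullDimLE_iff.mpr hdim.le
  by_cases h : p = ⊥
  · exact Or.inl h
  · exact Or.inr (IsLocalRing.eq_maximalIdeal (hp.isMaximal_of_ne_bot h))

include hdim in
theorem radical_span_eq_maximalIdeal {x : B} (hx : x ≠ 0) (hxm : x ∈ maximalIdeal B) :
    (Ideal.span {x}).radical = maximalIdeal B := by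
  apply le_antisymm
  · exact (Ideal.IsPrime.radical_le_iff inferInstance).2
      ((Ideal.span_singleton_le_iff_mem _).2 hxm)
  · rw [Ideal.radical_eq_sInf]
    refine le_sInf ?_
    rintro q ⟨hq, hqp⟩
    haveI := hqp
    rcases prime_eq_bot_or_eq_maximalIdeal B hdim q with h | h
    · subst h
      exact absurd (by simpa using hq (Ideal.mem_span_singleton_self x)) hx
    · rw [h]

include hdim in
/-- A local domain of dimension one is separated for the `s`-adic topology, `s` in the maximal
ideal. -/
theorem isHausdorff_span {s : B} (hsm : s ∈ maximalIdeal B) :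
    IsHausdorff (Ideal.span {s}) B := by
  constructor
  intro y hy
  by_contra hy0
  have hy' : ∀ n : ℕ, y ∈ Ideal.span {s} ^ n := by
    intro n
    have := hy n
    rw [SModEq.zero, smul_eq_mul, Ideal.mul_top] at this
    exact this
  have hym : y ∈ maximalIdeal B := by
    have := hy' 1
    rw [pow_one] at this
    exact (Ideal.span_singleton_le_iff_mem _).2 hsm this
  have hy2 : y ^ 2 ≠ 0 := pow_ne_zero 2 hy0
  have hy2m : y ^ 2 ∈ maximalIdeal B := Ideal.pow_mem_of_mem _ hym 2 (by norm_num)
  have hrad := radical_span_eq_maximalIdeal B hdim hy2 hy2m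
  have hs : s ∈ (Ideal.span {y ^ 2}).radical := hrad ▸ hsm
  obtain ⟨n, hn⟩ := hs
  have h1 : Ideal.span {s} ^ n ≤ Ideal.span {y ^ 2} := by
    rw [Ideal.span_singleton_pow, Ideal.span_singleton_le_iff_mem]
    exact hn
  have h2 := h1 (hy' n)
  obtain ⟨b, hb⟩ := Ideal.mem_span_singleton'.mp h2
  -- y = b * y^2
  have h3 : y * (1 - b * y) = 0 := by linear_combination -hb
  rcases mul_eq_zero.mp h3 with h | h
  · exact hy0 h
  · have : IsUnit y := .of_mul_eq_one_right b (by linear_combination -h)
    exact (IsLocalRing.mem_maximalIdeal _).mp hym this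

end LocalDomOne

section KeyFinite

variable (R : Type u) [CommRing R] [IsDomain R] [ValuationRing R] [Ring.KrullDimLE 1 R]
  (t : R) (ht : t ≠ 0) [IsAdicComplete (Ideal.span {t}) R]
variable (B : Type u) [CommRing B] [IsDomain B] [IsLocalRing B] [Algebra R B]
  (hdim : ringKrullDim B = 1)

include hdim in
/-- Key finiteness: a one-dimensional local domain `B` over `R` with `t` a nonzero element of the
maximal ideal and `B/tB` of finite type over `R` is a finite `R`-module. -/
theorem finite_of_finiteType_quotient
    (radical_span : (Ideal.span {t}).radical = maximalIdeal R)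
    (htB : algebraMap R B t ≠ 0) (htm : algebraMap R B t ∈ maximalIdeal B)
    (hft : Algebra.FiniteType R (B ⧸ Ideal.span {algebraMap R B t})) :
    Module.Finite R B := by
  set t' := algebraMap R B t with ht'
  haveI : IsHausdorff (Ideal.span {t'}) B := isHausdorff_span B hdim htm
  -- the residue field is finite over R
  have hmapm : (maximalIdeal R).map (algebraMap R B) ≤ maximalIdeal B := by
    rw [Ideal.map_le_iff_le_comap, ← radical_span]
    refine (Ideal.IsPrime.radical_le_iff (Ideal.comap_isPrime _ _)).2 ?_
    rw [Ideal.span_singleton_le_iff_mem]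
    exact htm
  have hspan_le : Ideal.span {t'} ≤ maximalIdeal B := (Ideal.span_singleton_le_iff_mem _).2 htm
  haveI : Algebra.FiniteType R (B ⧸ maximalIdeal B) := by
    have : Function.Surjective (Ideal.Quotient.factorₐ R hspan_le) :=
      Ideal.Quotient.factor_surjective hspan_le
    exact hft.of_surjective _ this
  haveI : IsJacobsonRing (R ⧸ maximalIdeal R) := by
    letI : Field (R ⧸ maximalIdeal R) := Ideal.Quotient.field _
    infer_instance
  have hfin : Module.Finite R (B ⧸ maximalIdeal B) :=
    Groth.Agent.Lib.Helper15.finite_quotient_of_isJacobsonRing (maximalIdeal R) (maximalIdeal B)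
      hmapm
  -- B / t'B is integral over R
  have hrad := radical_span_eq_maximalIdeal B hdim htB htm
  have hint : Algebra.IsIntegral R (B ⧸ Ideal.span {t'}) := by
    constructor
    intro y
    obtain ⟨b, rfl⟩ := Ideal.Quotient.mk_surjective y
    have hb : IsIntegral R (Ideal.Quotient.mk (maximalIdeal B) b) :=
      (Algebra.IsIntegral.of_finite R (B ⧸ maximalIdeal B)).isIntegral _
    obtain ⟨P, hP, hPb⟩ := hb
    -- P(b) ∈ m_B
    have h1 : Polynomial.aeval b P ∈ maximalIdeal B := by
      rw [← Ideal.Quotient.eq_zero_iff_mem, ← Ideal.Quotient.mkₐ_eq_mk R, ← Polynomial.aeval_algHom_apply]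
      rw [Polynomial.aeval_def]
      exact hPb
    rw [← hrad] at h1
    obtain ⟨N, hN⟩ := h1
    by_cases hN0 : N = 0
    · subst hN0
      rw [pow_zero] at hN
      have : (Ideal.span {t'}) = ⊤ := Ideal.eq_top_of_isUnit_mem _ hN isUnit_one
      have : Subsingleton (B ⧸ Ideal.span {t'}) := by
        rw [this]; exact Ideal.Quotient.subsingleton_iff.mpr rfl
      refine ⟨1, monic_one, Subsingleton.elim _ _⟩
    refine ⟨P ^ N, hP.pow N, ?_⟩
    rw [← Polynomial.aeval_def, ← Ideal.Quotient.mkₐ_eq_mk R, Polynomial.aeval_algHom_apply,
      map_pow, Ideal.Quotient.mkₐ_eq_mk, Ideal.Quotient.eq_zero_iff_mem]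
    exact hN
  have hfinq : Module.Finite R (B ⧸ Ideal.span {t'}) :=
    Algebra.IsIntegral.finite
  have hmap : (Ideal.span {t}).map (algebraMap R B) = Ideal.span {t'} := by
    rw [Ideal.map_span, Set.image_singleton]
  haveI : IsHausdorff ((Ideal.span {t}).map (algebraMap R B)) B := by rw [hmap]; infer_instance
  apply Groth.Agent.Lib.Helper15.finite_of_finite_quotient_map (Ideal.span {t}) B
  rw [hmap]
  exact hfinq

end KeyFinite




section Compl

variable {R : Type u} [CommRing R] (t : R)
variable {P : Type u} [CommRing P] [Algebra R P] (J : Ideal P)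
  (hJ : J = Ideal.span {algebraMap R P t})

include hJ in
theorem map_J_eq : J.map (algebraMap P (AdicCompletion J P)) =
    Ideal.span {algebraMap R (AdicCompletion J P) t} := by
  rw [hJ, Ideal.map_span, Set.image_singleton]
  rfl

include hJ in
theorem J_fg : J.FG := by
  rw [hJ]; exact ⟨{algebraMap R P t}, by simp⟩

include hJ in
theorem isAdicComplete_cpl :
    IsAdicComplete (Ideal.span {algebraMap R (AdicCompletion J P) t}) (AdicCompletion J P) := by
  rw [← map_J_eq t J hJ, IsAdicComplete.map_algebraMap_iff]
  exact AdicCompletion.isAdicComplete (J_fg t J hJ)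

include hJ in
/-- density of `P` in its completion modulo `t`. -/
theorem exists_sub_mem (x : AdicCompletion J P) :
    ∃ p : P, x - AdicCompletion.of J P p ∈
      Ideal.span {algebraMap R (AdicCompletion J P) t} := by
  obtain ⟨p, hp⟩ := Ideal.Quotient.mk_surjective (AdicCompletion.evalOneₐ J x)
  refine ⟨p, ?_⟩
  rw [← map_J_eq t J hJ, ← AdicCompletion.ker_evalOneₐ_eq_map J (J_fg t J hJ)]
  rw [RingHom.mem_ker]
  simp only [AlgHom.toRingHom_eq_coe, RingHom.coe_coe, map_sub]
  rw [AdicCompletion.evalOneₐ_of, hp, sub_self]

include hJ in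
theorem t_mem_jacobson :
    algebraMap R (AdicCompletion J P) t ∈ Ideal.jacobson (⊥ : Ideal (AdicCompletion J P)) := by
  haveI := isAdicComplete_cpl t J hJ
  exact IsAdicComplete.le_jacobson_bot (Ideal.span {algebraMap R (AdicCompletion J P) t})
    (Ideal.mem_span_singleton_self _)

variable {A : Type u} [CommRing A] [Algebra R A] (φ : AdicCompletion J P →ₐ[R] A)
  (hφ : Function.Surjective φ)

include hJ hφ in
theorem finiteType_quotient [Algebra.FiniteType R P] :
    Algebra.FiniteType R (A ⧸ Ideal.span {algebraMap R A t}) := by
  let ofₐ : P →ₐ[R] AdicCompletion J P :=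
    { (algebraMap P (AdicCompletion J P)) with
      commutes' := fun r => rfl }
  have hof : ∀ p : P, ofₐ p = AdicCompletion.of J P p := fun p => rfl
  let ψ : P →ₐ[R] A ⧸ Ideal.span {algebraMap R A t} :=
    (Ideal.Quotient.mkₐ R _).comp (φ.comp ofₐ)
  have hψ : Function.Surjective ψ := by
    intro y
    obtain ⟨a, rfl⟩ := Ideal.Quotient.mk_surjective y
    obtain ⟨x, rfl⟩ := hφ a
    obtain ⟨p, hp⟩ := exists_sub_mem t J hJ x
    refine ⟨p, ?_⟩
    change Ideal.Quotient.mk _ (φ (ofₐ p)) = Ideal.Quotient.mk _ (φ x)
    rw [hof]
    rw [eq_comm, Ideal.Quotient.eq, ← map_sub]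
    obtain ⟨c, hc⟩ := Ideal.mem_span_singleton'.mp hp
    rw [← hc, map_mul, AlgHom.commutes]
    exact Ideal.mul_mem_left _ _ (Ideal.mem_span_singleton_self _)
  exact Algebra.FiniteType.of_surjective ψ hψ

include hJ hφ in
theorem algebraMap_t_mem_jacobson :
    algebraMap R A t ∈ Ideal.jacobson (⊥ : Ideal A) := by
  have h := t_mem_jacobson t J hJ
  rw [Ideal.mem_jacobson_bot] at h ⊢
  intro y
  obtain ⟨x, rfl⟩ := hφ y
  have := (h x).map φ
  simpa using this

end Compl




section LemmaU

variable {A : Type*} {L : Type*} [CommRing A] [IsDomain A] [IsLocalRing A] [Field L] [Algebra A L]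
  [IsIntegrallyClosedIn A L]

/-- Seidenberg's `u, u⁻¹` lemma: if `x` is a root of a polynomial over the local ring `A`
(integrally closed in the field `L`) having a unit coefficient then `x` or `x⁻¹` lies in `A`. -/
theorem mem_or_inv_mem_of_aeval_eq_zero (hinj : Function.Injective (algebraMap A L)) (x : L) :
    ∀ (n : ℕ) (Q : A[X]), Q.natDegree = n → aeval x Q = 0 → (∃ i, IsUnit (Q.coeff i)) →
      (∃ a, algebraMap A L a = x) ∨ (∃ a, algebraMap A L a = x⁻¹) := by
  intro n
  induction n using Nat.strong_induction_on with
  | _ n ih =>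
    intro Q hn hQ hu
    obtain ⟨i, hi⟩ := hu
    by_cases ha : IsUnit Q.leadingCoeff
    · left
      have hint : IsIntegral A x := by
        refine ⟨ha.unit⁻¹ • Q, Polynomial.monic_of_isUnit_leadingCoeff_inv_smul ha, ?_⟩
        rw [← Polynomial.aeval_def, Units.smul_def, map_smul, hQ, smul_zero]
      exact IsIntegrallyClosedIn.isIntegral_iff.mp hint
    · have hint : IsIntegral A (Q.leadingCoeff • x) := isIntegral_leadingCoeff_smul Q x hQ
      obtain ⟨y, hy⟩ := IsIntegrallyClosedIn.isIntegral_iff.mp hint
      by_cases hyu : IsUnit y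
      · right
        obtain ⟨y', hy'⟩ := hyu.exists_right_inv
        refine ⟨Q.leadingCoeff * y', ?_⟩
        have h1 : algebraMap A L y * algebraMap A L y' = 1 := by rw [← map_mul, hy', map_one]
        have hx0 : x ≠ 0 := by
          rintro rfl
          rw [smul_zero] at hy
          rw [hy, zero_mul] at h1
          exact zero_ne_one h1
        rw [hy, Algebra.smul_def] at h1
        rw [map_mul]
        field_simp
        linear_combination h1
      · -- reduce the degree
        have hin : i ≠ Q.natDegree := by
          rintro rfl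
          exact ha hi
        have hn0 : n ≠ 0 := by
          rintro rfl
          have : i = 0 := by
            by_contra h0
            have : Q.coeff i = 0 := Polynomial.coeff_eq_zero_of_natDegree_lt (by omega)
            rw [this] at hi
            exact not_isUnit_zero hi
          exact hin (by omega)
        set Q' : A[X] := Q.eraseLead + C y * X ^ (n - 1) with hQ'
        have hdeg : Q'.natDegree < n := by
          have h1 : Q.eraseLead.natDegree ≤ n - 1 := hn ▸ Polynomial.eraseLead_natDegree_le Q
          have h2 : (C y * X ^ (n - 1) : A[X]).natDegree ≤ n - 1 :=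
            Polynomial.natDegree_C_mul_X_pow_le y (n - 1)
          have := Polynomial.natDegree_add_le_of_degree_le h1 h2
          rw [hQ']
          omega
        have haev : aeval x Q' = 0 := by
          have h1 : aeval x Q = aeval x Q.eraseLead +
              algebraMap A L Q.leadingCoeff * x ^ Q.natDegree := by
            conv_lhs => rw [← Polynomial.eraseLead_add_C_mul_X_pow Q]
            simp only [map_add, map_mul, aeval_C, map_pow, aeval_X]
          rw [hQ'] 
          simp only [map_add, map_mul, aeval_C, map_pow, aeval_X]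
          rw [hy, Algebra.smul_def, mul_assoc, ← pow_succ', Nat.sub_add_cancel (by omega), ← hn,
            ← h1, hQ]
        have hunit : ∃ j, IsUnit (Q'.coeff j) := by
          refine ⟨i, ?_⟩
          rw [hQ', Polynomial.coeff_add, Polynomial.eraseLead_coeff_of_ne i hin,
            Polynomial.coeff_C_mul_X_pow]
          split_ifs with h
          · have hym : y ∈ maximalIdeal A := (IsLocalRing.mem_maximalIdeal _).mpr hyu
            by_contra hnu
            have h1 : Q.coeff i + y ∈ maximalIdeal A := (IsLocalRing.mem_maximalIdeal _).mpr hnu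
            have h2 : Q.coeff i ∈ maximalIdeal A := by
              have := Ideal.sub_mem _ h1 hym
              simpa using this
            exact (IsLocalRing.mem_maximalIdeal _).mp h2 hi
          · simpa using hi
        exact ih _ hdeg Q' rfl haev hunit

end LemmaU

section ValRing

variable (R : Type u) [CommRing R] [IsDomain R] [ValuationRing R]

/-- In a valuation ring, among finitely many elements one divides all others. -/
theorem exists_dvd_all {ι : Type*} (s : Finset ι) (hs : s.Nonempty) (f : ι → R) :
    ∃ i ∈ s, ∀ j ∈ s, f i ∣ f j := by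
  induction hs using Finset.Nonempty.cons_induction with
  | singleton a => exact ⟨a, by simp, by simp⟩
  | cons a s has hs ih =>
    obtain ⟨i, his, hi⟩ := ih
    rcases ValuationRing.dvd_total (f i) (f a) with h | h
    · refine ⟨i, by simp [his], ?_⟩
      intro j hj
      rcases Finset.mem_cons.mp hj with rfl | hj
      · exact h
      · exact hi j hj
    · refine ⟨a, by simp, ?_⟩
      intro j hj
      rcases Finset.mem_cons.mp hj with rfl | hj
      · exact dvd_rfl
      · exact h.trans (hi j hj)

variable {R}

/-- An element algebraic over a valuation ring is a root of a polynomial with a coefficient equal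
to one. -/
theorem exists_aeval_eq_zero_coeff_eq_one {L : Type*} [Field L] [Algebra R L]
    (hinj : Function.Injective (algebraMap R L)) {x : L} (hx : IsAlgebraic R x) :
    ∃ Q : R[X], aeval x Q = 0 ∧ ∃ i, Q.coeff i = 1 := by
  obtain ⟨Q, hQ0, hQ⟩ := hx
  have hs : Q.support.Nonempty := Polynomial.support_nonempty.mpr hQ0
  obtain ⟨i, his, hi⟩ := exists_dvd_all R Q.support hs Q.coeff
  have hc0 : Q.coeff i ≠ 0 := Polynomial.mem_support_iff.mp his
  have hdvd : C (Q.coeff i) ∣ Q := by
    rw [Polynomial.C_dvd_iff_dvd_coeff]
    intro j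
    by_cases hj : j ∈ Q.support
    · exact hi j hj
    · rw [Polynomial.notMem_support_iff.mp hj]; exact dvd_zero _
  obtain ⟨Q₁, hQ₁⟩ := hdvd
  refine ⟨Q₁, ?_, i, ?_⟩
  · have h1 : aeval x Q = algebraMap R L (Q.coeff i) * aeval x Q₁ := by
      conv_lhs => rw [hQ₁]
      simp
    rw [hQ] at h1
    have h2 : algebraMap R L (Q.coeff i) ≠ 0 := by
      intro h
      exact hc0 (hinj (by rw [h, map_zero]))
    rcases mul_eq_zero.mp h1.symm with h | h
    · exact absurd h h2
    · exact h
  · have h1 : Q.coeff i = Q.coeff i * Q₁.coeff i := by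
      conv_lhs => rw [hQ₁]
      rw [Polynomial.coeff_C_mul]
    have h2 : Q.coeff i * (Q₁.coeff i - 1) = 0 := by linear_combination -h1
    rcases mul_eq_zero.mp h2 with h | h
    · exact absurd h hc0
    · linear_combination h

variable (R)

/-- Abstract form: a local domain `C`, integral over the valuation ring `R` and integrally closed
in the field `L`, contains `x` or `x⁻¹` for every `x` algebraic over `R`. -/
theorem mem_or_inv_mem {C : Type*} {L : Type*} [CommRing C] [IsDomain C] [IsLocalRing C]
    [Field L] [Algebra R C] [Algebra C L] [Algebra R L] [IsScalarTower R C L]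
    [IsIntegrallyClosedIn C L]
    (hinj : Function.Injective (algebraMap R L)) (hinjC : Function.Injective (algebraMap C L))
    (x : L) (hx : IsAlgebraic R x) :
    (∃ a, algebraMap C L a = x) ∨ (∃ a, algebraMap C L a = x⁻¹) := by
  obtain ⟨Q, hQ, i, hi⟩ := exists_aeval_eq_zero_coeff_eq_one hinj hx
  refine mem_or_inv_mem_of_aeval_eq_zero hinjC x _ (Q.map (algebraMap R C)) rfl ?_ ⟨i, ?_⟩
  · rw [Polynomial.aeval_map_algebraMap, hQ]
  · rw [Polynomial.coeff_map, hi, map_one]
    exact isUnit_one

theorem valuationRing_of_integral {C : Type*} {L : Type*} [CommRing C] [IsDomain C]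
    [IsLocalRing C]
    [Field L] [Algebra R C] [Algebra C L] [Algebra R L] [IsScalarTower R C L]
    [IsIntegrallyClosedIn C L] [IsFractionRing C L] [Algebra.IsIntegral R C]
    (hinj : Function.Injective (algebraMap R L)) : ValuationRing C := by
  rw [ValuationRing.iff_isInteger_or_isInteger C L]
  intro x
  have hinjC : Function.Injective (algebraMap C L) := IsFractionRing.injective C L
  have halg : IsAlgebraic R x := by
    have : Algebra.IsAlgebraic C L := IsLocalization.isAlgebraic L (nonZeroDivisors C)
    haveI : Algebra.IsAlgebraic R C := inferInstance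
    have : Algebra.IsAlgebraic R L := Algebra.IsAlgebraic.trans R C L
    exact Algebra.IsAlgebraic.isAlgebraic x
  rcases mem_or_inv_mem R hinj hinjC x halg with ⟨a, ha⟩ | ⟨a, ha⟩
  · exact Or.inl ⟨a, ha⟩
  · exact Or.inr ⟨a, ha⟩

end ValRing


section Main41

variable (R : Type u) [CommRing R] [IsDomain R] [ValuationRing R] [Ring.KrullDimLE 1 R]
  (t : R) (ht : t ≠ 0) [IsAdicComplete (Ideal.span {t}) R]

theorem rpow_J_eq (n : ℕ) :
    (Ideal.span {t}).map (MvPolynomial.C : R →+* MvPolynomial (Fin n) R) =
      Ideal.span {algebraMap R (MvPolynomial (Fin n) R) t} := by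
  rw [Ideal.map_span, Set.image_singleton, MvPolynomial.algebraMap_eq]

variable (B : Type u) [CommRing B] [Algebra R B]

theorem algebraMap_t_ne_zero [Nontrivial B] (hnt : AdicRing.NoPowTorsion (Ideal.span {t}) B) :
    algebraMap R B t ≠ 0 := by
  intro h0
  have := hnt 1 1 (by
    intro a ha
    rw [pow_one] at ha
    obtain ⟨c, rfl⟩ := Ideal.mem_span_singleton'.mp ha
    rw [Algebra.smul_def, map_mul, h0, mul_zero, zero_mul])
  exact one_ne_zero this

theorem finiteType_quotient_of_topFiniteType
    (hB : AdicRing.TopFiniteType R (Ideal.span {t}) B) :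
    Algebra.FiniteType R (B ⧸ Ideal.span {algebraMap R B t}) := by
  obtain ⟨n, φ, hφ⟩ := hB
  exact finiteType_quotient t _ (rpow_J_eq R t n) φ hφ

theorem algebraMap_t_mem_jacobson_of_topFiniteType
    (hB : AdicRing.TopFiniteType R (Ideal.span {t}) B) :
    algebraMap R B t ∈ Ideal.jacobson (⊥ : Ideal B) := by
  obtain ⟨n, φ, hφ⟩ := hB
  exact algebraMap_t_mem_jacobson t _ (rpow_J_eq R t n) φ hφ

theorem topFiniteType_of_admissible (hB : AdicRing.Admissible R (Ideal.span {t}) B) :
    AdicRing.TopFiniteType R (Ideal.span {t}) B := by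
  obtain ⟨⟨n, φ, hφ, _⟩, _⟩ := hB
  exact ⟨n, φ, hφ⟩

variable [IsDomain B] [IsLocalRing B]

include ht in
/-- A local domain of dimension one, topologically of finite type over `R` and with `t ≠ 0`, is
finite over `R`. -/
theorem finite_of_topFiniteType (hB : AdicRing.TopFiniteType R (Ideal.span {t}) B)
    (htB : algebraMap R B t ≠ 0) (hdim : ringKrullDim B = 1) : Module.Finite R B := by
  have htm : algebraMap R B t ∈ maximalIdeal B := by
    have := algebraMap_t_mem_jacobson_of_topFiniteType R t B hB
    rwa [IsLocalRing.jacobson_eq_maximalIdeal ⊥ bot_ne_top] at this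
  exact finite_of_finiteType_quotient R t B hdim (radical_span R t ht) htB htm
    (finiteType_quotient_of_topFiniteType R t B hB)

include ht in
theorem injective_algebraMap_of_ne_zero (htB : algebraMap R B t ≠ 0) :
    Function.Injective (algebraMap R B) := by
  rw [RingHom.injective_iff_ker_eq_bot]
  haveI : (RingHom.ker (algebraMap R B)).IsPrime := RingHom.ker_isPrime _
  exact prime_eq_bot_of_notMem R t _ (by rwa [RingHom.mem_ker])

include ht in
/-- The integral closure of a domain `B` finite over `R` in its fraction field is a valuation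
ring. -/
theorem valuationRing_integralClosure [Module.Finite R B] (htB : algebraMap R B t ≠ 0) :
    ValuationRing (integralClosure B (FractionRing B)) := by
  haveI := henselianLocalRing R t ht
  have hinjB := injective_algebraMap_of_ne_zero R t ht B htB
  have hinj : Function.Injective (algebraMap R (FractionRing B)) := by
    rw [IsScalarTower.algebraMap_eq R B (FractionRing B)]
    exact (IsFractionRing.injective B (FractionRing B)).comp hinjB
  haveI : Algebra.IsIntegral R B := Algebra.IsIntegral.of_finite R B
  haveI : Algebra.IsIntegral R (integralClosure B (FractionRing B)) :=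
    Algebra.IsIntegral.trans (R := R) B
  haveI : IsLocalRing (integralClosure B (FractionRing B)) :=
    Groth.Agent.Lib.Helper12.HensInt.isLocalRing_of_isDomain_of_isIntegral R _
  haveI : Algebra.IsAlgebraic B (FractionRing B) :=
    IsLocalization.isAlgebraic (FractionRing B) (nonZeroDivisors B)
  haveI : IsFractionRing (integralClosure B (FractionRing B)) (FractionRing B) :=
    integralClosure.isFractionRing_of_algebraic (A := B) (L := FractionRing B)
      (fun x hx => IsFractionRing.injective B (FractionRing B) (by rw [hx, map_zero]))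
  exact valuationRing_of_integral R (C := integralClosure B (FractionRing B))
    (L := FractionRing B) hinj

include ht in
theorem main41 (hB : AdicRing.Admissible R (Ideal.span {t}) B) (hdim : ringKrullDim B = 1) :
    Module.Finite R B ∧ ValuationRing (integralClosure B (FractionRing B)) := by
  have htB := algebraMap_t_ne_zero R t B hB.2
  have hfin := finite_of_topFiniteType R t ht B (topFiniteType_of_admissible R t B hB) htB hdim
  exact ⟨hfin, valuationRing_integralClosure R t ht B htB⟩

end Main41


end Groth.Agent.Lib.Helper9.RigPt
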