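import Mathlib
import Groth.Agent.Lib.Helper9.RigPt
import Groth.Agent.Lib.Helper12.IntegralDim
import Groth.Agent.Lib.Helper18.CompleteNakayama
import Groth.Agent.S3866

set_option autoImplicit false
set_option linter.style.haveILetI false
set_option linter.unusedSectionVars false
set_option linter.unusedVariables false
universe u

namespace Groth.Agent.Lib.Helper9.RigPt3
open Groth.Agent.Lib.Helper9.RigPt
open IsLocalRing Polynomial

section Nakayama

variable {R : Type u} {M : Type*} [CommRing R] [AddCommGroup M] [Module R M] (I : Ideal R)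

theorem isHausdorff_submodule [IsHausdorff I M] (N : Submodule R M) : IsHausdorff I N := by
  constructor
  intro x hx
  apply Subtype.ext
  apply IsHausdorff.haus' (I := I)
  intro n
  have h1 := hx n
  rw [SModEq.zero] at h1 ⊢
  have h2 : (x : M) ∈ Submodule.map N.subtype (I ^ n • ⊤ : Submodule R N) :=
    Submodule.mem_map_of_mem h1
  rw [Submodule.map_smul''] at h2
  exact Submodule.smul_mono le_rfl le_top h2

/-- Complete Nakayama for submodules: over an `I`-adically precomplete ring, inside a Hausdorff
module, `N ≤ N₀ + I N` with `N₀ ≤ N` finitely generated implies `N ≤ N₀`. -/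
theorem le_of_le_sup_smul [IsPrecomplete I R] [IsHausdorff I M] (N₀ N : Submodule R M)
    (hfg : N₀.FG) (h0 : N₀ ≤ N) (h : N ≤ N₀ ⊔ I • N) : N ≤ N₀ := by
  obtain ⟨m, g, hg⟩ := Submodule.fg_iff_exists_fin_generating_family.mp hfg
  have hgN : ∀ i, g i ∈ N := fun i => h0 (hg ▸ Submodule.subset_span ⟨i, rfl⟩)
  let g' : Fin m → N := fun i => ⟨g i, hgN i⟩
  let f : (Fin m → R) →ₗ[R] N := Fintype.linearCombination R g'
  haveI : IsPrecomplete I (Fin m → R) := Groth.Agent.S3866.precomplete_pi R I m
  haveI : IsHausdorff I N := isHausdorff_submodule I N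
  have hcomp : N.subtype ∘ₗ f = Fintype.linearCombination R g := by
    apply LinearMap.ext
    intro c
    simp [f, g', Fintype.linearCombination_apply]
  have hrange : Submodule.map N.subtype (LinearMap.range f) = N₀ := by
    rw [← LinearMap.range_comp, hcomp, Fintype.range_linearCombination, hg]
  have hsurj : Function.Surjective f := by
    apply Groth.Agent.Lib.Helper18.surjective_of_isPrecomplete_of_isHausdorff I f
    rw [eq_top_iff]
    rw [← Submodule.map_le_map_iff_of_injective N.injective_subtype, Submodule.map_sup,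
      Submodule.map_smul'', hrange, Submodule.map_subtype_top]
    exact h
  intro y hy
  obtain ⟨c, hc⟩ := hsurj ⟨y, hy⟩
  have : y = N.subtype (f c) := by rw [hc]; rfl
  rw [this, ← hrange]
  exact Submodule.mem_map_of_mem (LinearMap.mem_range_self f c)

end Nakayama

section KerFG

variable {R : Type u} [CommRing R] (t : R)
variable {P : Type u} [CommRing P] [Algebra R P] (J : Ideal P)
  (hJ : J = Ideal.span {algebraMap R P t})
variable {B : Type u} [CommRing B] [Algebra R B] (ψ : AdicCompletion J P →ₐ[R] B)
  (hψ : Function.Surjective ψ)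

/-- The canonical algebra map into the completion. -/
noncomputable def ofₐ : P →ₐ[R] AdicCompletion J P :=
  { (algebraMap P (AdicCompletion J P)) with
    commutes' := fun r => rfl }

theorem ofₐ_apply (p : P) : ofₐ (R := R) J p = AdicCompletion.of J P p := rfl

/-- The induced map `P → B/tB`. -/
noncomputable def quotHom : P →ₐ[R] B ⧸ Ideal.span {algebraMap R B t} :=
  (Ideal.Quotient.mkₐ R _).comp (ψ.comp (ofₐ J))

theorem quotHom_apply (p : P) :
    quotHom t J ψ p = Ideal.Quotient.mk _ (ψ (AdicCompletion.of J P p)) := rfl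

include hJ hψ in
theorem quotHom_surjective : Function.Surjective (quotHom t J ψ) := by
  intro y
  obtain ⟨a, rfl⟩ := Ideal.Quotient.mk_surjective y
  obtain ⟨x, rfl⟩ := hψ a
  obtain ⟨p, hp⟩ := exists_sub_mem t J hJ x
  refine ⟨p, ?_⟩
  rw [quotHom_apply, eq_comm, Ideal.Quotient.eq, ← map_sub]
  obtain ⟨c, hc⟩ := Ideal.mem_span_singleton'.mp hp
  rw [← hc, map_mul, AlgHom.commutes]
  exact Ideal.mul_mem_left _ _ (Ideal.mem_span_singleton_self _)

include hJ hψ in
/-- If `B` has no `t`-torsion and the kernel of `P → B/tB` is finitely generated, then the kernel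
of `ψ : P̂ → B` is finitely generated. -/
theorem ker_fg (hreg : ∀ b : B, algebraMap R B t * b = 0 → b = 0)
    (hk : (RingHom.ker (quotHom t J ψ).toRingHom).FG) :
    (RingHom.ker ψ.toRingHom).FG := by
  classical
  set that : AdicCompletion J P := algebraMap R (AdicCompletion J P) t with hthat
  obtain ⟨S, hS⟩ := hk
  -- for each generator choose a correction
  have hcorr : ∀ s : P, s ∈ RingHom.ker (quotHom t J ψ).toRingHom →
      ∃ y : AdicCompletion J P, ψ (AdicCompletion.of J P s - that * y) = 0 := by
    intro s hs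
    rw [RingHom.mem_ker] at hs
    change quotHom t J ψ s = 0 at hs
    rw [quotHom_apply, Ideal.Quotient.eq_zero_iff_mem] at hs
    obtain ⟨b, hb⟩ := Ideal.mem_span_singleton'.mp hs
    obtain ⟨y, rfl⟩ := hψ b
    refine ⟨y, ?_⟩
    rw [map_sub, map_mul, hthat, AlgHom.commutes, ← hb]
    ring
  have hSker : ∀ s ∈ S, s ∈ RingHom.ker (quotHom t J ψ).toRingHom := by
    intro s hs
    rw [← hS]
    exact Ideal.subset_span hs
  let y : P → AdicCompletion J P := fun s =>
    if h : s ∈ RingHom.ker (quotHom t J ψ).toRingHom then (hcorr s h).choose else 0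
  have hy : ∀ s ∈ S, ψ (AdicCompletion.of J P s - that * y s) = 0 := by
    intro s hs
    have h := hSker s hs
    simp only [y, dif_pos h]
    exact (hcorr s h).choose_spec
  let c : P → AdicCompletion J P := fun s => AdicCompletion.of J P s - that * y s
  set N₀ : Ideal (AdicCompletion J P) := Ideal.span (c '' (S : Set P)) with hN₀
  set N : Ideal (AdicCompletion J P) := RingHom.ker ψ.toRingHom with hN
  have h0 : N₀ ≤ N := by
    rw [hN₀, Ideal.span_le]
    rintro _ ⟨s, hs, rfl⟩
    exact hy s hs
  -- N ≤ N₀ ⊔ (that)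
  have h1 : N ≤ N₀ ⊔ Ideal.span {that} := by
    intro x hx
    obtain ⟨p, hp⟩ := exists_sub_mem t J hJ x
    have hpk : p ∈ RingHom.ker (quotHom t J ψ).toRingHom := by
      rw [RingHom.mem_ker]
      change quotHom t J ψ p = 0
      rw [quotHom_apply, Ideal.Quotient.eq_zero_iff_mem]
      obtain ⟨z, hz⟩ := Ideal.mem_span_singleton'.mp hp
      have hx0 : ψ x = 0 := hx
      have : ψ (AdicCompletion.of J P p) = - (ψ z * algebraMap R B t) := by
        have h2 : AdicCompletion.of J P p = x - z * that := by rw [hz]; ring
        rw [h2, map_sub, hx0, map_mul, hthat, AlgHom.commutes]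
        ring
      rw [this]
      exact neg_mem (Ideal.mul_mem_left _ _ (Ideal.mem_span_singleton_self _))
    have hmap : Ideal.map (algebraMap P (AdicCompletion J P))
        (RingHom.ker (quotHom t J ψ).toRingHom) ≤ N₀ ⊔ Ideal.span {that} := by
      rw [← hS, Ideal.map_span, Ideal.span_le]
      rintro _ ⟨s, hs, rfl⟩
      have : algebraMap P (AdicCompletion J P) s = c s + that * y s := by
        simp only [c]
        change AdicCompletion.of J P s = _
        ring
      rw [this]
      refine Ideal.add_mem _ (Ideal.mem_sup_left (Ideal.subset_span ⟨s, hs, rfl⟩)) ?_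
      exact Ideal.mem_sup_right (Ideal.mul_mem_right _ _ (Ideal.mem_span_singleton_self _))
    have hofp : AdicCompletion.of J P p ∈ N₀ ⊔ Ideal.span {that} :=
      hmap (Ideal.mem_map_of_mem _ hpk)
    have : x = AdicCompletion.of J P p + (x - AdicCompletion.of J P p) := by ring
    rw [this]
    exact Ideal.add_mem _ hofp (Ideal.mem_sup_right hp)
  -- N ≤ N₀ ⊔ that • N
  have h2 : N ≤ N₀ ⊔ Ideal.span {that} • N := by
    intro x hx
    obtain ⟨a, ha, b, hb, rfl⟩ := Submodule.mem_sup.mp (h1 hx)
    obtain ⟨z, rfl⟩ := Ideal.mem_span_singleton'.mp hb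
    have hz : z ∈ N := by
      have hxa : ψ (a + z * that) = 0 := hx
      have ha0 : ψ a = 0 := h0 ha
      rw [map_add, ha0, zero_add, map_mul, hthat, AlgHom.commutes, mul_comm] at hxa
      exact hreg _ hxa
    refine Submodule.add_mem_sup ha ?_
    rw [mul_comm]
    exact Submodule.smul_mem_smul (Ideal.mem_span_singleton_self _) hz
  haveI := isAdicComplete_cpl t J hJ
  have hle := le_of_le_sup_smul (Ideal.span {that}) N₀ N
    ⟨(S.image c), by rw [hN₀, Finset.coe_image]⟩ h0 h2
  have heq : N = N₀ := le_antisymm hle h0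
  rw [heq]
  exact ⟨(S.image c), by rw [hN₀, Finset.coe_image]⟩

end KerFG

section Main47

variable (R : Type u) [CommRing R] [IsDomain R] [ValuationRing R] [Ring.KrullDimLE 1 R]
  (t : R) (ht : t ≠ 0) [IsAdicComplete (Ideal.span {t}) R]

include ht in
theorem injective_algebraMap_of_ne_zero' (B : Type u) [CommRing B] [IsDomain B] [Algebra R B]
    (htB : algebraMap R B t ≠ 0) : Function.Injective (algebraMap R B) := by
  rw [RingHom.injective_iff_ker_eq_bot]
  haveI : (RingHom.ker (algebraMap R B)).IsPrime := RingHom.ker_isPrime _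
  exact prime_eq_bot_of_notMem R t _ (by rwa [RingHom.mem_ker])

include ht in
/-- A domain finite over `R` with `t ≠ 0` is finitely presented as an `R`-module. -/
theorem finitePresentation_of_finite (B : Type u) [CommRing B] [IsDomain B] [Algebra R B]
    [Module.Finite R B] (htB : algebraMap R B t ≠ 0) : Module.FinitePresentation R B := by
  have hinj := injective_algebraMap_of_ne_zero' R t ht B htB
  haveI : Module.Flat R B := by
    rw [Module.Flat.flat_iff_torsion_eq_bot_of_isBezout, eq_bot_iff]
    rintro b ⟨⟨r, hr⟩, hrb⟩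
    have hr0 : r ≠ 0 := nonZeroDivisors.ne_zero hr
    change r • b = 0 at hrb
    rw [Algebra.smul_def] at hrb
    rcases mul_eq_zero.mp hrb with h | h
    · exact absurd (hinj (by rw [h, map_zero])) hr0
    · exact h
  haveI : Module.Free R B := Module.free_of_flat_of_isLocalRing
  exact Module.finitePresentation_of_projective R B

variable (A : Type u) [CommRing A] [Algebra R A]
variable (B : Type u) [CommRing B] [Algebra R B] [IsDomain B]
variable (B' : Type u) [CommRing B'] [Algebra R B'] [IsDomain B'] [IsLocalRing B']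

include ht in
theorem main47_abstract (hA : AdicRing.TopFiniteType R (Ideal.span {t}) A)
    (hB' : AdicRing.Admissible R (Ideal.span {t}) B') (hdim : ringKrullDim B' = 1)
    (π : A →ₐ[R] B) (hπ : Function.Surjective π) (j : B →ₐ[R] B') (hj : Function.Injective j) :
    AdicRing.Admissible R (Ideal.span {t}) B ∧ IsLocalRing B ∧ ringKrullDim B = 1 := by
  have htB' := algebraMap_t_ne_zero R t B' hB'.2
  haveI hfin' : Module.Finite R B' :=
    finite_of_topFiniteType R t ht B' (topFiniteType_of_admissible R t B' hB') htB' hdim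
  haveI := henselianLocalRing R t ht
  have htB : algebraMap R B t ≠ 0 := by
    intro h
    apply htB'
    rw [← j.commutes, h, map_zero]
  have hinjB := injective_algebraMap_of_ne_zero' R t ht B htB
  haveI : Algebra.IsIntegral R B' := Algebra.IsIntegral.of_finite R B'
  haveI : Algebra.IsIntegral R B := by
    constructor
    intro b
    exact (isIntegral_algHom_iff j hj).mp (Algebra.IsIntegral.isIntegral (j b))
  haveI hloc : IsLocalRing B :=
    Groth.Agent.Lib.Helper12.HensInt.isLocalRing_of_isDomain_of_isIntegral R B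
  have hdimB : ringKrullDim B = 1 := by
    rw [← Groth.Agent.Lib.Helper12.ringKrullDim_eq_of_isIntegral_of_injective R B hinjB]
    exact ringKrullDim_eq_one R t ht
  obtain ⟨n, φA, hφA⟩ := hA
  have hBtft : AdicRing.TopFiniteType R (Ideal.span {t}) B :=
    ⟨n, π.comp φA, hπ.comp hφA⟩
  haveI hfinB : Module.Finite R B := finite_of_topFiniteType R t ht B hBtft htB hdimB
  have hnt : AdicRing.NoPowTorsion (Ideal.span {t}) B := by
    intro x m hx
    apply hj
    rw [map_zero]
    apply hB'.2 (j x) m
    intro a ha
    rw [← map_smul, hx a ha, map_zero]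
  refine ⟨⟨⟨n, π.comp φA, hπ.comp hφA, ?_⟩, hnt⟩, hloc, hdimB⟩
  -- the kernel is finitely generated
  haveI := finitePresentation_of_finite R t ht B htB
  haveI : Algebra.FinitePresentation R B := inferInstance
  haveI : Algebra.FinitePresentation R (B ⧸ Ideal.span {algebraMap R B t}) :=
    Algebra.FinitePresentation.quotient ⟨{algebraMap R B t}, by simp⟩
  have hreg : ∀ b : B, algebraMap R B t * b = 0 → b = 0 := by
    intro b hb
    rcases mul_eq_zero.mp hb with h | h
    · exact absurd h htB
    · exact h
  refine ker_fg t _ (rpow_J_eq R t n) (π.comp φA) (hπ.comp hφA) hreg ?_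
  exact Algebra.FinitePresentation.ker_fG_of_surjective _
    (quotHom_surjective t _ (rpow_J_eq R t n) (π.comp φA) (hπ.comp hφA))

include ht in
theorem main47 (hA : AdicRing.Admissible R (Ideal.span {t}) A)
    (A' : Type u) [CommRing A'] [Algebra R A'] (φ : A →ₐ[R] A')
    (hB' : AdicRing.Admissible R (Ideal.span {t}) B') (hdim : ringKrullDim B' = 1)
    (u' : A' →ₐ[R] B') :
    AdicRing.Admissible R (Ideal.span {t}) ((u'.comp φ).range) ∧
      IsLocalRing ((u'.comp φ).range) ∧ ringKrullDim ((u'.comp φ).range) = 1 :=
  main47_abstract R t ht A ((u'.comp φ).range) B' (topFiniteType_of_admissible R t A hA) hB' hdim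
    (u'.comp φ).rangeRestrict (u'.comp φ).rangeRestrict_surjective
    ((u'.comp φ).range.val) Subtype.val_injective

end Main47

end Groth.Agent.Lib.Helper9.RigPt3
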