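import Mathlib
import Groth.Agent.Lib.Helper9.RigPt
import Groth.Agent.Lib.Helper12.IntegralDim
import Groth.Agent.S3866
import Groth.Agent.Lib.Helper15.RigClosed

set_option autoImplicit false
set_option linter.style.haveILetI false
set_option linter.unusedSectionVars false
set_option linter.unusedVariables false
universe u

namespace Groth.Agent.Lib.Helper9.RigPt4
open Groth.Agent.Lib.Helper9.RigPt
open IsLocalRing Polynomial

/-- The canonical algebra map into the completion. -/
noncomputable def ofₐ' {R : Type u} [CommRing R] {P : Type u} [CommRing P] [Algebra R P]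
    (J : Ideal P) : P →ₐ[R] AdicCompletion J P :=
  { (algebraMap P (AdicCompletion J P)) with
    commutes' := fun r => rfl }

theorem ofₐ'_apply {R : Type u} [CommRing R] {P : Type u} [CommRing P] [Algebra R P]
    (J : Ideal P) (p : P) : ofₐ' (R := R) J p = AdicCompletion.of J P p := rfl


section Extend

variable {R : Type u} [CommRing R] (t : R)
variable {P : Type u} [CommRing P] [Algebra R P] (J : Ideal P)
variable {B : Type u} [CommRing B] [Algebra R B] (I : Ideal B) [IsAdicComplete I B]
variable (g : P →ₐ[R] B) (hJI : J.map g ≤ I)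

include hJI in
theorem pow_le_comap (n : ℕ) : J ^ n ≤ (I ^ n).comap g := by
  rw [← Ideal.map_le_iff_le_comap, Ideal.map_pow]
  exact Ideal.pow_right_mono hJI n

instance : IsScalarTower R P (AdicCompletion J P) := IsScalarTower.of_algebraMap_eq fun _ => rfl

/-- The `n`-th level of the extension. -/
noncomputable def levelHom (n : ℕ) : AdicCompletion J P →ₐ[R] B ⧸ I ^ n :=
  (Ideal.quotientMapₐ (I ^ n) g (pow_le_comap J I g hJI n)).comp
    ((AdicCompletion.evalₐ J n).restrictScalars R)

theorem levelHom_mk (n : ℕ) (c : AdicCompletion.AdicCauchySequence J P) :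
    levelHom J I g hJI n (AdicCompletion.mk J P c) = Ideal.Quotient.mk (I ^ n) (g (c.val n)) := by
  simp only [levelHom, AlgHom.comp_apply, AlgHom.restrictScalars_apply]
  rw [AdicCompletion.evalₐ_mk]
  rfl

theorem levelHom_of (n : ℕ) (p : P) :
    levelHom J I g hJI n (AdicCompletion.of J P p) = Ideal.Quotient.mk (I ^ n) (g p) := by
  simp only [levelHom, AlgHom.comp_apply, AlgHom.restrictScalars_apply]
  rw [AdicCompletion.evalₐ_of]
  rfl

theorem levelHom_compat {m n : ℕ} (hle : m ≤ n) :
    (Ideal.Quotient.factorₐ R (Ideal.pow_le_pow_right hle)).comp (levelHom J I g hJI n) =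
      levelHom J I g hJI m := by
  apply AlgHom.ext
  intro x
  obtain ⟨c, rfl⟩ := AdicCompletion.mk_surjective J P x
  rw [AlgHom.comp_apply, levelHom_mk, levelHom_mk]
  change Ideal.Quotient.mk (I ^ m) (g (c.val n)) = _
  rw [Ideal.Quotient.eq, ← map_sub]
  have h1 : c.val m ≡ c.val n [SMOD (J ^ m • ⊤ : Submodule P P)] := c.property hle
  rw [SModEq.sub_mem, smul_eq_mul, Ideal.mul_top] at h1
  have h2 : c.val n - c.val m ∈ J ^ m := by
    rw [← neg_sub]; exact neg_mem h1
  exact pow_le_comap J I g hJI m h2

/-- Extension of an algebra map to the completion, when the target is complete. -/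
noncomputable def extend : AdicCompletion J P →ₐ[R] B :=
  IsAdicComplete.liftAlgHom I (levelHom J I g hJI) (fun hle => levelHom_compat J I g hJI hle)

theorem extend_of (p : P) : extend J I g hJI (AdicCompletion.of J P p) = g p := by
  rw [IsHausdorff.eq_iff_smodEq (I := I)]
  intro n
  rw [SModEq.sub_mem, smul_eq_mul, Ideal.mul_top, ← Ideal.Quotient.eq]
  rw [extend, IsAdicComplete.mk_liftAlgHom, levelHom_of]

end Extend



section FiniteComplete

variable (R : Type u) [CommRing R] [IsDomain R] [ValuationRing R] [Ring.KrullDimLE 1 R]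
  (t : R) (ht : t ≠ 0) [IsAdicComplete (Ideal.span {t}) R]
variable (B : Type u) [CommRing B] [IsDomain B] [Algebra R B] [Module.Finite R B]

include ht in
theorem injective_algebraMap_of_ne_zero'' (htB : algebraMap R B t ≠ 0) :
    Function.Injective (algebraMap R B) := by
  rw [RingHom.injective_iff_ker_eq_bot]
  haveI : (RingHom.ker (algebraMap R B)).IsPrime := RingHom.ker_isPrime _
  exact prime_eq_bot_of_notMem R t _ (by rwa [RingHom.mem_ker])

include ht in
/-- A domain finite over `R` (with `t ≠ 0`) is a local ring of dimension one. -/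
theorem isLocalRing_of_finite : IsLocalRing B := by
  haveI := henselianLocalRing R t ht
  haveI : Algebra.IsIntegral R B := Algebra.IsIntegral.of_finite R B
  exact Groth.Agent.Lib.Helper12.HensInt.isLocalRing_of_isDomain_of_isIntegral R B

include ht in
theorem ringKrullDim_of_finite (htB : algebraMap R B t ≠ 0) : ringKrullDim B = 1 := by
  haveI : Algebra.IsIntegral R B := Algebra.IsIntegral.of_finite R B
  rw [← Groth.Agent.Lib.Helper12.ringKrullDim_eq_of_isIntegral_of_injective R B
    (injective_algebraMap_of_ne_zero'' R t ht B htB)]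
  exact ringKrullDim_eq_one R t ht

include ht in
theorem algebraMap_t_mem_maximalIdeal [IsLocalRing B] (htB : algebraMap R B t ≠ 0) :
    algebraMap R B t ∈ maximalIdeal B := by
  haveI := henselianLocalRing R t ht
  haveI : Algebra.IsIntegral R B := Algebra.IsIntegral.of_finite R B
  haveI := Groth.Agent.Lib.Helper12.HensInt.isLocalHom_algebraMap_of_isIntegral R B
  rw [IsLocalRing.mem_maximalIdeal]
  intro hu
  have := isUnit_of_map_unit (algebraMap R B) t hu
  exact (IsLocalRing.mem_maximalIdeal _).mp (t_mem_maximalIdeal R t) this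

include ht in
theorem isAdicComplete_of_finite (htB : algebraMap R B t ≠ 0) :
    IsAdicComplete (Ideal.span {algebraMap R B t}) B := by
  haveI := isLocalRing_of_finite R t ht B
  have hdim := ringKrullDim_of_finite R t ht B htB
  have htm := algebraMap_t_mem_maximalIdeal R t ht B htB
  haveI hH : IsHausdorff (Ideal.span {algebraMap R B t}) B := isHausdorff_span B hdim htm
  obtain ⟨n, f, hf⟩ := Module.Finite.exists_fin' R B
  haveI h1 : IsPrecomplete (Ideal.span {t}) (Fin n → R) :=
    Groth.Agent.S3866.precomplete_pi R (Ideal.span {t}) n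
  have hP : IsPrecomplete (Ideal.span {t}) B :=
    Groth.Agent.S3866.precomplete_of_surjective (Ideal.span {t}) f hf
  have hmap : (Ideal.span {t}).map (algebraMap R B) = Ideal.span {algebraMap R B t} := by
    rw [Ideal.map_span, Set.image_singleton]
  have hP' : IsPrecomplete (Ideal.span {algebraMap R B t}) B := by
    rw [← hmap, IsPrecomplete.map_algebraMap_iff]
    exact hP
  exact { toIsHausdorff := hH, toIsPrecomplete := hP' }

end FiniteComplete

section AlgClosedResidue

/-- A local domain integrally closed in an algebraically closed field has algebraically closed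
residue field. -/
theorem isAlgClosed_quotient_maximalIdeal (C : Type u) (Ω : Type u) [CommRing C] [IsLocalRing C]
    [Field Ω] [IsAlgClosed Ω] [Algebra C Ω] [IsIntegrallyClosedIn C Ω] :
    letI : Field (C ⧸ maximalIdeal C) := Ideal.Quotient.field _
    IsAlgClosed (C ⧸ maximalIdeal C) := by
  letI : Field (C ⧸ maximalIdeal C) := Ideal.Quotient.field _
  apply IsAlgClosed.of_exists_root
  intro p hp hirr
  obtain ⟨q, hq, hqdeg, hqm⟩ := Polynomial.lifts_and_degree_eq_and_monic
    ((Polynomial.mem_lifts p).mpr (Polynomial.map_surjective _ Ideal.Quotient.mk_surjective p)) hp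
  have hdeg : (q.map (algebraMap C Ω)).degree ≠ 0 := by
    rw [hqm.degree_map, hqdeg]
    exact Polynomial.degree_pos_of_irreducible hirr |>.ne'
  obtain ⟨x, hx⟩ := IsAlgClosed.exists_root (q.map (algebraMap C Ω)) hdeg
  have hint : IsIntegral C x := ⟨q, hqm, by rwa [Polynomial.IsRoot, Polynomial.eval_map] at hx⟩
  obtain ⟨y, rfl⟩ := IsIntegrallyClosedIn.isIntegral_iff.mp hint
  refine ⟨Ideal.Quotient.mk _ y, ?_⟩
  rw [← hq, Polynomial.eval_map, Polynomial.eval₂_hom]
  have hinj : Function.Injective (algebraMap C Ω) := IsIntegralClosure.algebraMap_injective C C Ω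
  rw [Polynomial.IsRoot, Polynomial.eval_map, Polynomial.eval₂_hom] at hx
  have : q.eval y = 0 := hinj (by rw [hx, map_zero])
  rw [this, map_zero]

end AlgClosedResidue


section Lift

/-- Lifting lemma: a finite residue extension embeds into an algebraically closed residue field. -/
theorem nonempty_algHom_of_isAlgClosed (R : Type u) [CommRing R] [IsLocalRing R]
    (k' : Type u) [Field k'] [Algebra R k'] [Module.Finite R k']
    (h1 : ∀ a ∈ maximalIdeal R, algebraMap R k' a = 0)
    (κ' : Type u) [Field κ'] [Algebra R κ'] [IsAlgClosed κ']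
    (h2 : ∀ a ∈ maximalIdeal R, algebraMap R κ' a = 0) : Nonempty (k' →ₐ[R] κ') := by
  letI : Field (R ⧸ maximalIdeal R) := Ideal.Quotient.field _
  letI a1 : Algebra (R ⧸ maximalIdeal R) k' :=
    (Ideal.Quotient.lift _ (algebraMap R k') h1).toAlgebra
  letI a2 : Algebra (R ⧸ maximalIdeal R) κ' :=
    (Ideal.Quotient.lift _ (algebraMap R κ') h2).toAlgebra
  haveI : IsScalarTower R (R ⧸ maximalIdeal R) k' := IsScalarTower.of_algebraMap_eq fun r => by
    rw [RingHom.algebraMap_toAlgebra, Ideal.Quotient.algebraMap_eq, Ideal.Quotient.lift_mk]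
  haveI : IsScalarTower R (R ⧸ maximalIdeal R) κ' := IsScalarTower.of_algebraMap_eq fun r => by
    rw [RingHom.algebraMap_toAlgebra, Ideal.Quotient.algebraMap_eq, Ideal.Quotient.lift_mk]
  haveI : Module.Finite (R ⧸ maximalIdeal R) k' :=
    Module.Finite.of_restrictScalars_finite R (R ⧸ maximalIdeal R) k'
  haveI : Algebra.IsAlgebraic (R ⧸ maximalIdeal R) k' := Algebra.IsAlgebraic.of_finite _ _
  exact ⟨(IsAlgClosed.lift : k' →ₐ[R ⧸ maximalIdeal R] κ').restrictScalars R⟩

end Lift

section Main48

variable (R : Type u) [CommRing R] [IsDomain R] [ValuationRing R] [Ring.KrullDimLE 1 R]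
  (t : R) (ht : t ≠ 0) [IsAdicComplete (Ideal.span {t}) R]
variable (n : ℕ) (m : Ideal (AdicRing.RPow R (Ideal.span {t}) n)) [m.IsMaximal]

theorem t_mem_of_isMaximal : algebraMap R (AdicRing.RPow R (Ideal.span {t}) n) t ∈ m := by
  have h := t_mem_jacobson t _ (rpow_J_eq R t n)
  rw [Ideal.jacobson, Ideal.mem_sInf] at h
  exact h ⟨bot_le, inferInstance⟩

include ht in
theorem map_maximalIdeal_le :
    (maximalIdeal R).map (algebraMap R (AdicRing.RPow R (Ideal.span {t}) n)) ≤ m := by
  rw [Ideal.map_le_iff_le_comap, ← radical_span R t ht]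
  refine (Ideal.IsPrime.radical_le_iff (Ideal.comap_isPrime _ _)).2 ?_
  rw [Ideal.span_singleton_le_iff_mem]
  exact t_mem_of_isMaximal R t n m

include ht in
theorem finite_quotient_maximal :
    Module.Finite R (AdicRing.RPow R (Ideal.span {t}) n ⧸ m) := by
  have hft : Algebra.FiniteType R (AdicRing.RPow R (Ideal.span {t}) n ⧸
      Ideal.span {algebraMap R (AdicRing.RPow R (Ideal.span {t}) n) t}) :=
    finiteType_quotient t _ (rpow_J_eq R t n) (AlgHom.id R _) Function.surjective_id
  have hle : Ideal.span {algebraMap R (AdicRing.RPow R (Ideal.span {t}) n) t} ≤ m :=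
    (Ideal.span_singleton_le_iff_mem _).2 (t_mem_of_isMaximal R t n m)
  haveI : Algebra.FiniteType R (AdicRing.RPow R (Ideal.span {t}) n ⧸ m) :=
    hft.of_surjective (Ideal.Quotient.factorₐ R hle) (Ideal.Quotient.factor_surjective hle)
  haveI : IsJacobsonRing (R ⧸ maximalIdeal R) := by
    letI : Field (R ⧸ maximalIdeal R) := Ideal.Quotient.field _
    infer_instance
  exact Groth.Agent.Lib.Helper15.finite_quotient_of_isJacobsonRing (maximalIdeal R) m
    (map_maximalIdeal_le R t ht n m)

variable (C : Type u) [CommRing C] [IsDomain C] [IsLocalRing C] [Algebra R C]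
variable (B₀ : Type u) [CommRing B₀] [IsDomain B₀] [Algebra R B₀] [Module.Finite R B₀]

include ht in
theorem main48_core (htB₀ : algebraMap R B₀ t ≠ 0) (b : Fin n → B₀)
    (j : B₀ →ₐ[R] C) (h2 : algebraMap R C t ∈ maximalIdeal C)
    (σ : (AdicRing.RPow R (Ideal.span {t}) n ⧸ m) →ₐ[R] (C ⧸ maximalIdeal C))
    (hσ : ∀ i, Ideal.Quotient.mk (maximalIdeal C) (j (b i)) =
      σ (Ideal.Quotient.mk m (AdicCompletion.of _ _ (MvPolynomial.X i)))) :
    ∃ p : Ideal (AdicRing.RPow R (Ideal.span {t}) n), p.IsPrime ∧ p ≤ m ∧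
      algebraMap R (AdicRing.RPow R (Ideal.span {t}) n) t ∉ p ∧
      ringKrullDim (AdicRing.RPow R (Ideal.span {t}) n ⧸ p) = 1 := by
  set J : Ideal (MvPolynomial (Fin n) R) :=
    (Ideal.span {t}).map (MvPolynomial.C : R →+* MvPolynomial (Fin n) R) with hJdef
  have hJ := rpow_J_eq R t n
  haveI := isAdicComplete_of_finite R t ht B₀ htB₀
  let g : MvPolynomial (Fin n) R →ₐ[R] B₀ := MvPolynomial.aeval b
  have hJI : J.map g ≤ Ideal.span {algebraMap R B₀ t} := by
    rw [hJdef, hJ, Ideal.map_span, Set.image_singleton]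
    have : g (algebraMap R (MvPolynomial (Fin n) R) t) = algebraMap R B₀ t := g.commutes t
    change Ideal.span {g (algebraMap R (MvPolynomial (Fin n) R) t)} ≤ _
    rw [this]
  let ψ : AdicCompletion J (MvPolynomial (Fin n) R) →ₐ[R] B₀ := extend J _ g hJI
  have hψ : ∀ q, ψ (AdicCompletion.of J _ q) = g q := extend_of J _ g hJI
  refine ⟨RingHom.ker ψ, RingHom.ker_isPrime ψ, ?_, ?_, ?_⟩
  · -- ker ψ ≤ m
    letI : Field (C ⧸ maximalIdeal C) := Ideal.Quotient.field _
    let F₁ : AdicCompletion J (MvPolynomial (Fin n) R) →ₐ[R] (C ⧸ maximalIdeal C) :=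
      σ.comp (Ideal.Quotient.mkₐ R m)
    let F₂ : AdicCompletion J (MvPolynomial (Fin n) R) →ₐ[R] (C ⧸ maximalIdeal C) :=
      (Ideal.Quotient.mkₐ R (maximalIdeal C)).comp (j.comp ψ)
    have hF : ∀ x, F₁ x = F₂ x := by
      intro x
      obtain ⟨q, hq⟩ := exists_sub_mem t J hJ x
      obtain ⟨c, hc⟩ := Ideal.mem_span_singleton'.mp hq
      have hx : x = AdicCompletion.of J _ q + c * algebraMap R _ t := by rw [hc]; ring
      have ht0 : algebraMap R (C ⧸ maximalIdeal C) t = 0 := by
        rw [IsScalarTower.algebraMap_apply R C (C ⧸ maximalIdeal C), Ideal.Quotient.algebraMap_eq,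
          Ideal.Quotient.eq_zero_iff_mem]
        exact h2
      have hof : (F₁.comp (ofₐ' J)) = (F₂.comp (ofₐ' J)) := by
        apply MvPolynomial.algHom_ext
        intro i
        simp only [AlgHom.comp_apply, F₁, F₂]
        rw [ofₐ'_apply, hψ]
        simp only [Ideal.Quotient.mkₐ_eq_mk]
        rw [← hσ i]
        simp [g]
      have hofq : F₁ (AdicCompletion.of J _ q) = F₂ (AdicCompletion.of J _ q) := by
        have := congrArg (fun F => F q) hof
        simpa [ofₐ'_apply] using this
      rw [hx, map_add, map_add, map_mul, map_mul, AlgHom.commutes, AlgHom.commutes, ht0, hofq,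
        mul_zero, mul_zero]
    intro x hx
    have hx0 : ψ x = 0 := hx
    have h3 : F₂ x = 0 := by
      simp only [F₂, AlgHom.comp_apply, hx0, map_zero]
    rw [← hF x] at h3
    simp only [F₁, AlgHom.comp_apply, Ideal.Quotient.mkₐ_eq_mk] at h3
    letI : Field (AdicCompletion J (MvPolynomial (Fin n) R) ⧸ m) := Ideal.Quotient.field _
    have h4 : Ideal.Quotient.mk m x = 0 :=
      (σ : (AdicCompletion J (MvPolynomial (Fin n) R) ⧸ m) →+* (C ⧸ maximalIdeal C)).injective
        (by rw [RingHom.coe_coe, h3, map_zero])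
    exact Ideal.Quotient.eq_zero_iff_mem.mp h4
  · -- t ∉ ker ψ
    intro h
    have : ψ (algebraMap R _ t) = 0 := h
    rw [AlgHom.commutes] at this
    exact htB₀ this
  · -- dimension
    let ψbar := Ideal.kerLiftAlg ψ
    have hinj : Function.Injective ψbar := Ideal.kerLiftAlg_injective ψ
    haveI : Algebra.IsIntegral R B₀ := Algebra.IsIntegral.of_finite R B₀
    haveI : Algebra.IsIntegral R (AdicCompletion J (MvPolynomial (Fin n) R) ⧸ RingHom.ker ψ) := by
      constructor
      intro y
      exact (isIntegral_algHom_iff ψbar hinj).mp (Algebra.IsIntegral.isIntegral (ψbar y))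
    have hinjR : Function.Injective
        (algebraMap R (AdicCompletion J (MvPolynomial (Fin n) R) ⧸ RingHom.ker ψ)) := by
      have h1 := injective_algebraMap_of_ne_zero'' R t ht B₀ htB₀
      have h2 : (algebraMap R B₀ : R → B₀) = ψbar ∘ algebraMap R _ := by
        funext r
        simp only [Function.comp_apply, AlgHom.commutes]
      rw [h2] at h1
      exact Function.Injective.of_comp h1
    rw [← Groth.Agent.Lib.Helper12.ringKrullDim_eq_of_isIntegral_of_injective R _ hinjR]
    exact ringKrullDim_eq_one R t ht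

end Main48

section Main48Final

variable (R : Type u) [CommRing R] [IsDomain R] [ValuationRing R] [Ring.KrullDimLE 1 R]
  (t : R) (ht : t ≠ 0) [IsAdicComplete (Ideal.span {t}) R]
variable (n : ℕ) (m : Ideal (AdicRing.RPow R (Ideal.span {t}) n)) [m.IsMaximal]

include ht in
theorem main48_C (C : Type u) [CommRing C] [IsDomain C] [IsLocalRing C] [Algebra R C]
    [Algebra.IsIntegral R C] (hinjC : Function.Injective (algebraMap R C))
    (hAC : letI : Field (C ⧸ maximalIdeal C) := Ideal.Quotient.field _
      IsAlgClosed (C ⧸ maximalIdeal C)) :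
    ∃ p : Ideal (AdicRing.RPow R (Ideal.span {t}) n), p.IsPrime ∧ p ≤ m ∧
      algebraMap R (AdicRing.RPow R (Ideal.span {t}) n) t ∉ p ∧
      ringKrullDim (AdicRing.RPow R (Ideal.span {t}) n ⧸ p) = 1 := by
  classical
  haveI := henselianLocalRing R t ht
  haveI := Groth.Agent.Lib.Helper12.HensInt.isLocalHom_algebraMap_of_isIntegral R C
  have h2gen : ∀ a ∈ maximalIdeal R, algebraMap R C a ∈ maximalIdeal C := by
    intro a ha
    rw [IsLocalRing.mem_maximalIdeal] at ha ⊢
    intro hu
    exact ha (isUnit_of_map_unit (algebraMap R C) a hu)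
  letI : Field (C ⧸ maximalIdeal C) := Ideal.Quotient.field _
  haveI : IsAlgClosed (C ⧸ maximalIdeal C) := hAC
  letI : Field (AdicRing.RPow R (Ideal.span {t}) n ⧸ m) := Ideal.Quotient.field _
  haveI := finite_quotient_maximal R t ht n m
  have h1 : ∀ a ∈ maximalIdeal R,
      algebraMap R (AdicRing.RPow R (Ideal.span {t}) n ⧸ m) a = 0 := by
    intro a ha
    rw [IsScalarTower.algebraMap_apply R (AdicRing.RPow R (Ideal.span {t}) n) _,
      Ideal.Quotient.algebraMap_eq, Ideal.Quotient.eq_zero_iff_mem]
    exact map_maximalIdeal_le R t ht n m (Ideal.mem_map_of_mem _ ha)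
  have h2 : ∀ a ∈ maximalIdeal R, algebraMap R (C ⧸ maximalIdeal C) a = 0 := by
    intro a ha
    rw [IsScalarTower.algebraMap_apply R C _, Ideal.Quotient.algebraMap_eq,
      Ideal.Quotient.eq_zero_iff_mem]
    exact h2gen a ha
  obtain ⟨σ⟩ := nonempty_algHom_of_isAlgClosed R _ h1 (C ⧸ maximalIdeal C) h2
  have hβ : ∀ i : Fin n, ∃ c : C, Ideal.Quotient.mk (maximalIdeal C) c =
      σ (Ideal.Quotient.mk m (AdicCompletion.of _ _ (MvPolynomial.X i))) :=
    fun i => Ideal.Quotient.mk_surjective _
  choose β hβ' using hβ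
  let B₀ : Subalgebra R C := Algebra.adjoin R (Set.range β)
  haveI : Module.Finite R B₀ := Algebra.finite_adjoin_of_finite_of_isIntegral (Set.finite_range β)
    (fun x _ => Algebra.IsIntegral.isIntegral x)
  let b : Fin n → B₀ := fun i => ⟨β i, Algebra.subset_adjoin ⟨i, rfl⟩⟩
  have htB₀ : algebraMap R B₀ t ≠ 0 := by
    intro h
    have h3 : algebraMap R C t = 0 := by
      have := congrArg (B₀.val) h
      simpa using this
    exact ht (hinjC (by rw [h3, map_zero]))
  exact main48_core R t ht n m C B₀ htB₀ b B₀.val (h2gen t (t_mem_maximalIdeal R t)) σ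
    (fun i => hβ' i)

include ht in
theorem main48 :
    ∃ p : Ideal (AdicRing.RPow R (Ideal.span {t}) n), p.IsPrime ∧ p ≤ m ∧
      algebraMap R (AdicRing.RPow R (Ideal.span {t}) n) t ∉ p ∧
      ringKrullDim (AdicRing.RPow R (Ideal.span {t}) n ⧸ p) = 1 := by
  haveI := henselianLocalRing R t ht
  let Ω := AlgebraicClosure (FractionRing R)
  have hinjΩ : Function.Injective (algebraMap R Ω) := by
    rw [IsScalarTower.algebraMap_eq R (FractionRing R) Ω]
    exact (algebraMap (FractionRing R) Ω).injective.comp (IsFractionRing.injective R _)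
  haveI : IsLocalRing (integralClosure R Ω) :=
    Groth.Agent.Lib.Helper12.HensInt.isLocalRing_of_isDomain_of_isIntegral R _
  have hinjC : Function.Injective (algebraMap R (integralClosure R Ω)) := by
    intro x y hxy
    apply hinjΩ
    have := congrArg (algebraMap (integralClosure R Ω) Ω) hxy
    simpa [← IsScalarTower.algebraMap_apply] using this
  exact main48_C R t ht n m (integralClosure R Ω) hinjC
    (isAlgClosed_quotient_maximalIdeal (integralClosure R Ω) Ω)

end Main48Final

end Groth.Agent.Lib.Helper9.RigPt4
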