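import Mathlib
import Groth.Agent.Lib.Helper9.RigPt
import Groth.Agent.Lib.Helper9.RigPt4
import Groth.Agent.Lib.Helper12.IntegralDim
import Groth.Agent.Lib.Helper15.RigClosed
import Groth.Agent.S3866

set_option autoImplicit false
set_option linter.style.haveILetI false
set_option linter.unusedSectionVars false
set_option linter.unusedVariables false
universe u

namespace Groth.Agent.Lib.Helper9.RigPt5
open Groth.Agent.Lib.Helper9.RigPt
open IsLocalRing Polynomial TensorProduct


section Loc

variable {A : Type u} [CommRing A] (s : A) (S : Type u) [CommRing S] [Algebra A S]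
  [IsLocalization.Away s S]

theorem disjoint_powers_of_notMem (p : Ideal A) [hp : p.IsPrime] (hs : s ∉ p) :
    Disjoint (Submonoid.powers s : Set A) p := by
  rw [Set.disjoint_left]
  rintro _ ⟨n, rfl⟩ hn
  exact hs (hp.mem_of_pow_mem n hn)

theorem notMem_comap_of_ne_top (m : Ideal S) (hm : m ≠ ⊤) : s ∉ m.comap (algebraMap A S) := by
  intro h
  exact hm (Ideal.eq_top_of_isUnit_mem _ h (IsLocalization.Away.algebraMap_isUnit s))

/-- Part (1): primes `p` not containing `s` with `A/p` of dimension one extend to maximal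
ideals, when `s` lies in the Jacobson radical. -/
theorem locA (hjac : s ∈ Ideal.jacobson (⊥ : Ideal A)) (p : Ideal A) [hp : p.IsPrime]
    (hs : s ∉ p) (hdim : ringKrullDim (A ⧸ p) = 1) :
    (p.map (algebraMap A S)).IsMaximal ∧ (p.map (algebraMap A S)).comap (algebraMap A S) = p := by
  have hdisj := disjoint_powers_of_notMem s p hs
  have hcomap : (p.map (algebraMap A S)).comap (algebraMap A S) = p :=
    IsLocalization.under_map_of_isPrime_disjoint (Submonoid.powers s) S hp hdisj
  have hprime : (p.map (algebraMap A S)).IsPrime :=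
    IsLocalization.isPrime_of_isPrime_disjoint (Submonoid.powers s) S p hp hdisj
  refine ⟨?_, hcomap⟩
  obtain ⟨M, hM, hle⟩ := Ideal.exists_le_maximal _ hprime.ne_top
  set q := M.comap (algebraMap A S) with hq
  haveI hqp : q.IsPrime := Ideal.comap_isPrime _ _
  have hpq : p ≤ q := by
    rw [← hcomap]
    exact Ideal.comap_mono hle
  have hsq : s ∉ q := notMem_comap_of_ne_top s S M hM.ne_top
  have hMq : q.map (algebraMap A S) = M := IsLocalization.map_under (Submonoid.powers s) S M
  by_cases hpq' : p = q
  · rw [hpq', hMq]; exact hM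
  · exfalso
    -- q/p is a nonzero prime of A/p
    haveI : Ring.KrullDimLE 1 (A ⧸ p) := Ring.krullDimLE_iff.mpr hdim.le
    have hker : RingHom.ker (Ideal.Quotient.mk p) ≤ q := by rw [Ideal.mk_ker]; exact hpq
    have hqbar : (q.map (Ideal.Quotient.mk p)).IsPrime :=
      Ideal.map_isPrime_of_surjective Ideal.Quotient.mk_surjective hker
    have hne : q.map (Ideal.Quotient.mk p) ≠ ⊥ := by
      intro h
      rw [Ideal.map_eq_bot_iff_le_ker, Ideal.mk_ker] at h
      exact hpq' (le_antisymm hpq h)
    have hmax := hqbar.isMaximal_of_ne_bot hne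
    have hcm : (q.map (Ideal.Quotient.mk p)).comap (Ideal.Quotient.mk p) = q :=
      Ideal.comap_map_of_surjective' _ Ideal.Quotient.mk_surjective _ |>.trans (by
        rw [Ideal.mk_ker]; exact sup_eq_left.mpr hpq)
    have hqmax : q.IsMaximal := by
      rw [← hcm]
      exact Ideal.comap_isMaximal_of_surjective _ Ideal.Quotient.mk_surjective
    have : s ∈ q := by
      rw [Ideal.jacobson, Ideal.mem_sInf] at hjac
      exact hjac ⟨bot_le, hqmax⟩
    exact hsq this

/-- Part (2), formal half. -/
theorem locB (m : Ideal S) [hm : m.IsMaximal] :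
    s ∉ m.comap (algebraMap A S) ∧ (m.comap (algebraMap A S)).map (algebraMap A S) = m ∧
    ∀ q : Ideal (A ⧸ m.comap (algebraMap A S)), q.IsPrime → q ≠ ⊥ →
      Ideal.Quotient.mk (m.comap (algebraMap A S)) s ∈ q := by
  refine ⟨notMem_comap_of_ne_top s S m hm.ne_top,
    IsLocalization.map_under (Submonoid.powers s) S m, ?_⟩
  intro q hq hq0
  by_contra hsq
  haveI := hq
  have hq'prime : (q.comap (Ideal.Quotient.mk (m.comap (algebraMap A S)))).IsPrime :=
    Ideal.comap_isPrime _ _
  have hsq' : s ∉ q.comap (Ideal.Quotient.mk (m.comap (algebraMap A S))) := hsq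
  have hpq' : m.comap (algebraMap A S) ≤
      q.comap (Ideal.Quotient.mk (m.comap (algebraMap A S))) := by
    intro x hx
    change Ideal.Quotient.mk _ x ∈ q
    rw [Ideal.Quotient.eq_zero_iff_mem.mpr hx]
    exact q.zero_mem
  have hdisj := disjoint_powers_of_notMem s _ hsq'
  have hprime : ((q.comap (Ideal.Quotient.mk (m.comap (algebraMap A S)))).map
      (algebraMap A S)).IsPrime :=
    IsLocalization.isPrime_of_isPrime_disjoint (Submonoid.powers s) S _ hq'prime hdisj
  have hmle : m ≤ (q.comap (Ideal.Quotient.mk (m.comap (algebraMap A S)))).map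
      (algebraMap A S) := by
    conv_lhs => rw [← IsLocalization.map_under (Submonoid.powers s) S m]
    exact Ideal.map_mono hpq'
  have heq : m = (q.comap (Ideal.Quotient.mk (m.comap (algebraMap A S)))).map
      (algebraMap A S) := hm.eq_of_le hprime.ne_top hmle
  have hq'p : q.comap (Ideal.Quotient.mk (m.comap (algebraMap A S))) =
      m.comap (algebraMap A S) := by
    conv_rhs => rw [heq]
    exact (IsLocalization.under_map_of_isPrime_disjoint (Submonoid.powers s) S hq'prime
      hdisj).symm
  apply hq0
  rw [eq_bot_iff]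
  intro x hx
  obtain ⟨a, rfl⟩ := Ideal.Quotient.mk_surjective x
  have : a ∈ q.comap (Ideal.Quotient.mk (m.comap (algebraMap A S))) := hx
  rw [hq'p] at this
  rw [Ideal.mem_bot, Ideal.Quotient.eq_zero_iff_mem]
  exact this

end Loc

section FracAway

variable (R : Type u) [CommRing R] [IsDomain R] [ValuationRing R] [Ring.KrullDimLE 1 R]
  (t : R) (ht : t ≠ 0) [IsAdicComplete (Ideal.span {t}) R]

theorem exists_dvd_pow (r : R) (hr : r ≠ 0) : ∃ n : ℕ, r ∣ t ^ n := by
  by_cases hu : IsUnit r
  · exact ⟨0, hu.dvd⟩
  · have hrm : r ∈ maximalIdeal R := (IsLocalRing.mem_maximalIdeal _).mpr hu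
    have hrad : (Ideal.span {r}).radical = maximalIdeal R := by
      apply le_antisymm
      · exact (Ideal.IsPrime.radical_le_iff inferInstance).2
          ((Ideal.span_singleton_le_iff_mem _).2 hrm)
      · rw [Ideal.radical_eq_sInf]
        refine le_sInf ?_
        rintro q ⟨hq, hqp⟩
        have hne : q ≠ ⊥ := by
          rintro rfl
          exact hr (by simpa using hq (Ideal.mem_span_singleton_self r))
        have := hqp.isMaximal_of_ne_bot hne
        rw [IsLocalRing.eq_maximalIdeal this]
    have : t ∈ (Ideal.span {r}).radical := hrad ▸ t_mem_maximalIdeal R t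
    obtain ⟨n, hn⟩ := this
    exact ⟨n, Ideal.mem_span_singleton.mp hn⟩

include ht in
theorem isLocalization_away_fractionRing : IsLocalization.Away t (FractionRing R) := by
  have hle : Submonoid.powers t ≤ nonZeroDivisors R := by
    rintro _ ⟨n, rfl⟩
    exact pow_mem (mem_nonZeroDivisors_of_ne_zero ht) n
  refine (IsLocalization.iff_of_le_of_exists_dvd (Submonoid.powers t) (nonZeroDivisors R) hle
    ?_).mpr inferInstance
  intro r hr
  obtain ⟨n, hn⟩ := exists_dvd_pow R t r (nonZeroDivisors.ne_zero hr)
  exact ⟨t ^ n, ⟨n, rfl⟩, hn⟩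

include ht in
theorem isLocalization_away_tensor (A : Type u) [CommRing A] [Algebra R A] :
    IsLocalization.Away (algebraMap R A t) (A ⊗[R] FractionRing R) := by
  haveI := isLocalization_away_fractionRing R t ht
  have h := IsLocalization.tensor (S := A) (FractionRing R) (Submonoid.powers t)
  have hm : Algebra.algebraMapSubmonoid A (Submonoid.powers t) =
      Submonoid.powers (algebraMap R A t) := by
    rw [Algebra.algebraMapSubmonoid, Submonoid.map_powers]
  rw [hm] at h
  exact h

end FracAway



section C1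

variable (R : Type u) [CommRing R] [IsDomain R] [ValuationRing R] [Ring.KrullDimLE 1 R]
  (t : R) (ht : t ≠ 0) [IsAdicComplete (Ideal.span {t}) R]
variable (D : Type u) [CommRing D] [IsDomain D] [Algebra R D]

theorem not_isUnit_of_mem_jacobson {x : D} (hx : x ∈ Ideal.jacobson (⊥ : Ideal D)) :
    ¬ IsUnit x := by
  intro hu
  obtain ⟨y, hy⟩ := hu.exists_right_inv
  have := (Ideal.mem_jacobson_bot.mp hx) (-y)
  rw [mul_neg, hy, neg_add_cancel] at this
  exact not_isUnit_zero this

/-- If every nonzero prime of the domain `D` contains `s`, and `s` is in the Jacobson radical,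
then `D` is `s`-adically separated. -/
theorem isHausdorff_of_primes {s : D} (hs : s ∈ Ideal.jacobson (⊥ : Ideal D))
    (hpr : ∀ q : Ideal D, q.IsPrime → q ≠ ⊥ → s ∈ q) : IsHausdorff (Ideal.span {s}) D := by
  constructor
  intro x hx
  by_contra hx0
  have hx' : ∀ n : ℕ, x ∈ Ideal.span {s} ^ n := by
    intro n
    have := hx n
    rw [SModEq.zero, smul_eq_mul, Ideal.mul_top] at this
    exact this
  have hrad : s ∈ (Ideal.span {x}).radical := by
    rw [Ideal.radical_eq_sInf, Ideal.mem_sInf]
    rintro q ⟨hq, hqp⟩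
    apply hpr q hqp
    rintro rfl
    exact hx0 (by simpa using hq (Ideal.mem_span_singleton_self x))
  obtain ⟨m, hm⟩ := hrad
  obtain ⟨c, hc⟩ := Ideal.mem_span_singleton'.mp hm
  have h1 := hx' (m + 1)
  rw [Ideal.span_singleton_pow] at h1
  obtain ⟨e, he⟩ := Ideal.mem_span_singleton'.mp h1
  -- s^m = c * x = c * e * s^(m+1)
  have h2 : s ^ m * (1 - s * (c * e)) = 0 := by
    linear_combination (-1 : D) * hc - c * he
  have hs0 : s ≠ 0 := by
    rintro rfl
    apply hx0
    rw [← he, zero_pow (Nat.succ_ne_zero m), mul_zero]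
  rcases mul_eq_zero.mp h2 with h | h
  · exact hs0 (pow_eq_zero_iff (n := m) (by
      rintro rfl
      rw [pow_zero] at h
      exact one_ne_zero h) |>.mp h)
  · have : IsUnit s := .of_mul_eq_one (c * e) (by linear_combination -h)
    exact not_isUnit_of_mem_jacobson D hs this

theorem isPrecomplete_of_topFiniteType (hD : AdicRing.TopFiniteType R (Ideal.span {t}) D) :
    IsPrecomplete (Ideal.span {algebraMap R D t}) D := by
  obtain ⟨n, φ, hφ⟩ := hD
  haveI hc := isAdicComplete_cpl t _ (rpow_J_eq R t n)
  letI : Algebra (AdicRing.RPow R (Ideal.span {t}) n) D := φ.toRingHom.toAlgebra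
  have hsurj : Function.Surjective (Algebra.linearMap (AdicRing.RPow R (Ideal.span {t}) n) D) := hφ
  have h1 : IsPrecomplete (Ideal.span {algebraMap R (AdicRing.RPow R (Ideal.span {t}) n) t}) D :=
    Groth.Agent.S3866.precomplete_of_surjective _ _ hsurj
  have hmap : (Ideal.span {algebraMap R (AdicRing.RPow R (Ideal.span {t}) n) t}).map
      (algebraMap (AdicRing.RPow R (Ideal.span {t}) n) D) = Ideal.span {algebraMap R D t} := by
    rw [Ideal.map_span, Set.image_singleton]
    congr 2
    exact φ.commutes t
  rw [← hmap, IsPrecomplete.map_algebraMap_iff]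
  exact h1

end C1



section FINS

variable (R : Type u) [CommRing R] [IsDomain R] [ValuationRing R] [Ring.KrullDimLE 1 R]
  (t : R) (ht : t ≠ 0) [IsAdicComplete (Ideal.span {t}) R]
variable (D : Type u) [CommRing D] [Algebra R D]

include ht in
theorem map_maximalIdeal_le_radical :
    (maximalIdeal R).map (algebraMap R D) ≤ (Ideal.span {algebraMap R D t}).radical := by
  rw [← radical_span R t ht]
  refine (Ideal.map_radical_le _).trans ?_
  rw [Ideal.map_span, Set.image_singleton]

variable {L : Type u} [CommRing L] [Nontrivial L]   -- plays the role of k[y]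
variable (S : Type u) [CommRing S] [Algebra R S]
  [IsPrecomplete (Ideal.span {algebraMap R S t}) S]
  (θ : S →ₐ[R] D) (ev : S →+* L) (hev : Function.Surjective ev)
  (g : L →+* D ⧸ (maximalIdeal R).map (algebraMap R D)) (hg : g.IsIntegral)
  (hcompat : ∀ x, g (ev x) = Ideal.Quotient.mk _ (θ x))

include ht hev hg hcompat in
theorem exists_monic_eval₂_mem (x : D) :
    ∃ Q : S[X], Q.Monic ∧ Q.eval₂ (θ : S →+* D) x ∈ Ideal.span {algebraMap R D t} := by
  obtain ⟨Qb, hQb, hQbx⟩ := hg (Ideal.Quotient.mk _ x)
  obtain ⟨Q, hQ, hQdeg, hQm⟩ := Polynomial.lifts_and_degree_eq_and_monic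
    ((Polynomial.mem_lifts Qb).mpr (Polynomial.map_surjective _ hev Qb)) hQb
  have hcomp : (Ideal.Quotient.mk ((maximalIdeal R).map (algebraMap R D))).comp (θ : S →+* D) =
      g.comp ev := by
    ext y
    simp only [RingHom.comp_apply, RingHom.coe_coe]
    rw [hcompat]
  have h1 : Ideal.Quotient.mk ((maximalIdeal R).map (algebraMap R D))
      (Q.eval₂ (θ : S →+* D) x) = 0 := by
    rw [Polynomial.hom_eval₂, hcomp, ← Polynomial.eval₂_map, hQ]
    exact hQbx
  have h2 : Q.eval₂ (θ : S →+* D) x ∈ (Ideal.span {algebraMap R D t}).radical :=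
    map_maximalIdeal_le_radical R t ht D (Ideal.Quotient.eq_zero_iff_mem.mp h1)
  obtain ⟨N, hN⟩ := h2
  refine ⟨Q ^ N, hQm.pow N, ?_⟩
  rw [Polynomial.eval₂_pow]
  exact hN

include ht hev hg hcompat in
/-- Finiteness over `S`. -/
theorem finite_of_integral_mod [IsHausdorff (Ideal.span {algebraMap R D t}) D]
    (hft : Algebra.FiniteType R (D ⧸ Ideal.span {algebraMap R D t})) :
    (θ : S →+* D).Finite := by
  letI : Algebra S D := (θ : S →+* D).toAlgebra
  haveI : IsScalarTower R S D := IsScalarTower.of_algebraMap_eq fun r => (θ.commutes r).symm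
  change Module.Finite S D
  have hmap : (Ideal.span {algebraMap R S t}).map (algebraMap S D) =
      Ideal.span {algebraMap R D t} := by
    rw [Ideal.map_span, Set.image_singleton]
    congr 2
    exact θ.commutes t
  haveI : IsHausdorff ((Ideal.span {algebraMap R S t}).map (algebraMap S D)) D := by
    rw [hmap]; infer_instance
  apply Groth.Agent.Lib.Helper15.finite_of_finite_quotient_map (Ideal.span {algebraMap R S t}) D
  rw [hmap]
  haveI : Algebra.FiniteType S (D ⧸ Ideal.span {algebraMap R D t}) :=
    Algebra.FiniteType.of_restrictScalars_finiteType R S _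
  haveI : Algebra.IsIntegral S (D ⧸ Ideal.span {algebraMap R D t}) := by
    constructor
    intro y
    obtain ⟨x, rfl⟩ := Ideal.Quotient.mk_surjective y
    obtain ⟨Q, hQm, hQ⟩ := exists_monic_eval₂_mem R t ht D S θ ev hev g hg hcompat x
    refine ⟨Q, hQm, ?_⟩
    have : (algebraMap S (D ⧸ Ideal.span {algebraMap R D t})) =
        (Ideal.Quotient.mk _).comp (θ : S →+* D) := rfl
    rw [this, ← Polynomial.hom_eval₂, Ideal.Quotient.eq_zero_iff_mem]
    exact hQ
  exact Algebra.IsIntegral.finite

end FINS



section OfLemmas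

variable {R : Type u} [CommRing R] {P : Type u} [CommRing P] [Algebra R P] (J : Ideal P)

theorem of_mul' (a b : P) : AdicCompletion.of J P (a * b) =
    AdicCompletion.of J P a * AdicCompletion.of J P b :=
  map_mul (algebraMap P (AdicCompletion J P)) a b

theorem of_pow' (a : P) (n : ℕ) : AdicCompletion.of J P (a ^ n) = AdicCompletion.of J P a ^ n :=
  map_pow (algebraMap P (AdicCompletion J P)) a n

theorem of_algebraMap' (r : R) : AdicCompletion.of J P (algebraMap R P r) =
    algebraMap R (AdicCompletion J P) r := rfl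

theorem of_C' {σ : Type u} (J : Ideal (MvPolynomial σ R)) (r : R) :
    AdicCompletion.of J (MvPolynomial σ R) (MvPolynomial.C r) =
      algebraMap R (AdicCompletion J (MvPolynomial σ R)) r := rfl

theorem of_C'' {d : ℕ} (J : Ideal (MvPolynomial (Fin d) R)) (r : R) :
    AdicCompletion.of J (MvPolynomial (Fin d) R) (MvPolynomial.C r) =
      algebraMap R (AdicCompletion J (MvPolynomial (Fin d) R)) r := rfl

end OfLemmas

section SecT

variable (R : Type u) [CommRing R] [IsDomain R] [ValuationRing R] [Ring.KrullDimLE 1 R]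
  (t : R) (ht : t ≠ 0) [IsAdicComplete (Ideal.span {t}) R] (d : ℕ)

set_option quotPrecheck false in
local notation "PP" => MvPolynomial (Fin d) R
set_option quotPrecheck false in
local notation "JJ" => (Ideal.span {t}).map (MvPolynomial.C : R →+* MvPolynomial (Fin d) R)
set_option quotPrecheck false in
local notation "TT" => AdicRing.RPow R (Ideal.span {t}) d
set_option quotPrecheck false in
local notation "kk" => R ⧸ maximalIdeal R

/-- reduction of polynomials modulo the maximal ideal, on `P/J`. -/
noncomputable def redQ : PP ⧸ JJ →+* MvPolynomial (Fin d) kk :=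
  Ideal.Quotient.lift _ (MvPolynomial.map (Ideal.Quotient.mk (maximalIdeal R))) (by
    intro a ha
    rw [rpow_J_eq R t d] at ha
    obtain ⟨c, rfl⟩ := Ideal.mem_span_singleton'.mp ha
    rw [map_mul, MvPolynomial.algebraMap_eq, MvPolynomial.map_C,
      Ideal.Quotient.eq_zero_iff_mem.mpr (t_mem_maximalIdeal R t), map_zero, mul_zero])

/-- The reduction map `R⟨y⟩ → k[y]`. -/
noncomputable def evk : TT →+* MvPolynomial (Fin d) kk :=
  (redQ R t d).comp (AdicCompletion.evalOneₐ JJ).toRingHom

theorem evk_of (q : PP) :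
    evk R t d (AdicCompletion.of JJ PP q) =
      MvPolynomial.map (Ideal.Quotient.mk (maximalIdeal R)) q := by
  simp only [evk, RingHom.comp_apply, AlgHom.toRingHom_eq_coe, RingHom.coe_coe]
  rw [AdicCompletion.evalOneₐ_of]
  rfl

theorem evk_algebraMap (r : R) :
    evk R t d (algebraMap R TT r) = MvPolynomial.C (Ideal.Quotient.mk (maximalIdeal R) r) := by
  rw [AdicCompletion.algebraMap_apply, evk_of, MvPolynomial.algebraMap_eq, MvPolynomial.map_C]

theorem evk_surjective : Function.Surjective (evk R t d) := by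
  intro z
  obtain ⟨q, rfl⟩ := MvPolynomial.map_surjective (Ideal.Quotient.mk (maximalIdeal R))
    Ideal.Quotient.mk_surjective z
  exact ⟨AdicCompletion.of JJ PP q, evk_of R t d q⟩

theorem exists_level (N : ℕ) (h : TT) :
    ∃ (q : PP) (z : TT), h = AdicCompletion.of JJ PP q + algebraMap R TT t ^ N * z := by
  induction N with
  | zero => exact ⟨0, h, by simp⟩
  | succ N ih =>
    obtain ⟨q, z, hqz⟩ := ih
    obtain ⟨q', hq'⟩ := exists_sub_mem t JJ (rpow_J_eq R t d) z
    obtain ⟨z', hz'⟩ := Ideal.mem_span_singleton'.mp hq'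
    refine ⟨q + algebraMap R PP t ^ N * q', z', ?_⟩
    have hof : AdicCompletion.of JJ PP (q + algebraMap R PP t ^ N * q') =
        AdicCompletion.of JJ PP q + algebraMap R TT t ^ N * AdicCompletion.of JJ PP q' := by
      rw [map_add, of_mul', of_pow', of_algebraMap']
    rw [hof, hqz]
    have : z = AdicCompletion.of JJ PP q' + z' * algebraMap R TT t := by rw [hz']; ring
    rw [this]
    ring

include ht in
/-- Content lemma: a nonzero restricted power series is a nonzero constant times a series which
is nonzero modulo the maximal ideal. -/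
theorem exists_content (h : TT) (hh : h ≠ 0) :
    ∃ c : R, c ≠ 0 ∧ ∃ h' : TT, h = algebraMap R TT c * h' ∧ evk R t d h' ≠ 0 := by
  classical
  haveI hc := isAdicComplete_cpl t JJ (rpow_J_eq R t d)
  -- find N with h ∉ (t^N)
  have hN : ∃ N : ℕ, h ∉ Ideal.span {algebraMap R TT t} ^ N := by
    by_contra hcon
    push Not at hcon
    apply hh
    apply IsHausdorff.haus' (I := Ideal.span {algebraMap R TT t})
    intro n
    rw [SModEq.zero, smul_eq_mul, Ideal.mul_top]
    exact hcon n
  obtain ⟨N, hN⟩ := hN
  obtain ⟨q, z, hqz⟩ := exists_level R t d N h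
  -- not all coefficients of q are divisible by t^N
  have hq : ¬ (∀ s, t ^ N ∣ q.coeff s) := by
    intro hall
    apply hN
    have hdvd : MvPolynomial.C (t ^ N) ∣ q := MvPolynomial.C_dvd_iff_dvd_coeff _ _ |>.mpr hall
    obtain ⟨q'', hq''⟩ := hdvd
    rw [Ideal.span_singleton_pow, Ideal.mem_span_singleton']
    refine ⟨AdicCompletion.of JJ PP q'' + z, ?_⟩
    rw [hqz, hq'']
    have : AdicCompletion.of JJ PP (MvPolynomial.C (t ^ N) * q'') =
        algebraMap R TT t ^ N * AdicCompletion.of JJ PP q'' := by
      rw [of_mul', of_C'', map_pow]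
    rw [this]; ring
  have hq0 : q ≠ 0 := by
    rintro rfl
    exact hq (fun s => by simp)
  have hsupp : q.support.Nonempty := by
    rwa [Finset.nonempty_iff_ne_empty, Ne, MvPolynomial.support_eq_empty]
  obtain ⟨s₀, hs₀, hdiv⟩ := exists_dvd_all R q.support hsupp (fun s => q.coeff s)
  set c := q.coeff s₀ with hc_def
  have hc0 : c ≠ 0 := MvPolynomial.mem_support_iff.mp hs₀
  have hcall : ∀ s, c ∣ q.coeff s := by
    intro s
    by_cases hs : s ∈ q.support
    · exact hdiv s hs
    · rw [MvPolynomial.notMem_support_iff.mp hs]; exact dvd_zero _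
  have hctN : ¬ t ^ N ∣ c := fun h' => hq (fun s => h'.trans (hcall s))
  obtain ⟨c', hc'⟩ : c ∣ t ^ N := (ValuationRing.dvd_total c (t ^ N)).resolve_right hctN
  have hc'm : c' ∈ maximalIdeal R := by
    rw [IsLocalRing.mem_maximalIdeal]
    intro hu
    apply hctN
    obtain ⟨u, rfl⟩ := hu
    exact ⟨↑u⁻¹, by rw [hc']; simp [mul_assoc]⟩
  obtain ⟨q', hq'⟩ := (MvPolynomial.C_dvd_iff_dvd_coeff c q).mpr hcall
  have hq'coeff : q'.coeff s₀ = 1 := by
    have h1 : c = c * q'.coeff s₀ := by
      conv_lhs => rw [hc_def, hq', MvPolynomial.coeff_C_mul]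
    have h2 : c * (q'.coeff s₀ - 1) = 0 := by linear_combination -h1
    rcases mul_eq_zero.mp h2 with h3 | h3
    · exact absurd h3 hc0
    · linear_combination h3
  refine ⟨c, hc0, AdicCompletion.of JJ PP q' + algebraMap R TT c' * z, ?_, ?_⟩
  · rw [hqz, hq']
    have h1 : AdicCompletion.of JJ PP (MvPolynomial.C c * q') =
        algebraMap R TT c * AdicCompletion.of JJ PP q' := by
      rw [of_mul', of_C'']
    rw [h1, ← map_pow, hc', map_mul]
    ring
  · rw [map_add, map_mul, evk_of, evk_algebraMap,
      Ideal.Quotient.eq_zero_iff_mem.mpr hc'm, map_zero, zero_mul, add_zero]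
    intro h0
    have h10 := congrArg (MvPolynomial.coeff s₀) h0
    rw [MvPolynomial.coeff_map, hq'coeff, map_one, MvPolynomial.coeff_zero] at h10
    letI : Field (R ⧸ maximalIdeal R) := Ideal.Quotient.field _
    exact one_ne_zero (α := R ⧸ maximalIdeal R) h10

/-- Evaluation at the origin. -/
noncomputable def eps : TT →ₐ[R] R :=
  Groth.Agent.Lib.Helper9.RigPt4.extend JJ (Ideal.span {t})
    (MvPolynomial.aeval (fun _ : Fin d => (0 : R))) (by
      rw [rpow_J_eq R t d, Ideal.map_span, Set.image_singleton]
      have : (MvPolynomial.aeval (fun _ : Fin d => (0 : R))) (algebraMap R PP t) = t := by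
        rw [AlgHom.commutes]; rfl
      change Ideal.span {(MvPolynomial.aeval (fun _ : Fin d => (0 : R))) (algebraMap R PP t)} ≤ _
      rw [this])

theorem eps_of_X (i : Fin d) : eps R t d (AdicCompletion.of JJ PP (MvPolynomial.X i)) = 0 := by
  rw [eps, Groth.Agent.Lib.Helper9.RigPt4.extend_of, MvPolynomial.aeval_X]

end SecT



section Core

variable (R : Type u) [CommRing R] [IsDomain R] [ValuationRing R] [Ring.KrullDimLE 1 R]
  (t : R) (ht : t ≠ 0) [IsAdicComplete (Ideal.span {t}) R]
variable (D : Type u) [CommRing D] [IsDomain D] [Algebra R D]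

include ht in
theorem injective_algebraMap_of_ne_zero₅ (htD : algebraMap R D t ≠ 0) :
    Function.Injective (algebraMap R D) := by
  rw [RingHom.injective_iff_ker_eq_bot]
  haveI : (RingHom.ker (algebraMap R D)).IsPrime := RingHom.ker_isPrime _
  exact prime_eq_bot_of_notMem R t _ (by rwa [RingHom.mem_ker])

include ht in
/-- Core finiteness: a domain topologically of finite type over `R`, in which every nonzero prime
contains `t ≠ 0`, is finite over `R`. -/
theorem finite_of_primes (hD : AdicRing.TopFiniteType R (Ideal.span {t}) D)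
    (htD : algebraMap R D t ≠ 0)
    (hpr : ∀ q : Ideal D, q.IsPrime → q ≠ ⊥ → algebraMap R D t ∈ q) : Module.Finite R D := by
  classical
  have hjac : algebraMap R D t ∈ Ideal.jacobson (⊥ : Ideal D) :=
    algebraMap_t_mem_jacobson_of_topFiniteType R t D hD
  haveI hH : IsHausdorff (Ideal.span {algebraMap R D t}) D := isHausdorff_of_primes D hjac hpr
  haveI hP := isPrecomplete_of_topFiniteType R t D hD
  haveI hcD : IsAdicComplete (Ideal.span {algebraMap R D t}) D :=
    { toIsHausdorff := hH, toIsPrecomplete := hP }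
  have hft := finiteType_quotient_of_topFiniteType R t D hD
  have hinjD := injective_algebraMap_of_ne_zero₅ R t ht D htD
  letI : Field (R ⧸ maximalIdeal R) := Ideal.Quotient.field _
  -- the reduction
  have hmle : (maximalIdeal R).map (algebraMap R D) ≤ Ideal.jacobson (⊥ : Ideal D) := by
    refine (map_maximalIdeal_le_radical R t ht D).trans ?_
    rw [Ideal.radical_eq_sInf]
    refine le_sInf ?_
    rintro M ⟨_, hM⟩
    refine sInf_le ⟨?_, hM.isPrime⟩
    rw [Ideal.span_singleton_le_iff_mem]
    rw [Ideal.jacobson, Ideal.mem_sInf] at hjac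
    exact hjac ⟨bot_le, hM⟩
  have hmne : (maximalIdeal R).map (algebraMap R D) ≠ ⊤ := by
    intro h
    rw [h, top_le_iff] at hmle
    exact Ideal.jacobson_eq_top_iff.mp hmle |> fun h' => bot_ne_top h'
  haveI : Nontrivial (D ⧸ (maximalIdeal R).map (algebraMap R D)) :=
    Ideal.Quotient.nontrivial_iff.mpr hmne
  have hspan_le : Ideal.span {algebraMap R D t} ≤ (maximalIdeal R).map (algebraMap R D) := by
    rw [Ideal.span_singleton_le_iff_mem]
    exact Ideal.mem_map_of_mem _ (t_mem_maximalIdeal R t)
  haveI : Algebra.FiniteType R (D ⧸ (maximalIdeal R).map (algebraMap R D)) :=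
    hft.of_surjective (Ideal.Quotient.factorₐ R hspan_le)
      (Ideal.Quotient.factor_surjective hspan_le)
  haveI : Algebra.FiniteType (R ⧸ maximalIdeal R)
      (D ⧸ (maximalIdeal R).map (algebraMap R D)) :=
    Algebra.FiniteType.of_restrictScalars_finiteType R _ _
  obtain ⟨d, g, hginj, hgfin⟩ := exists_finite_inj_algHom_of_fg (R ⧸ maximalIdeal R)
    (D ⧸ (maximalIdeal R).map (algebraMap R D))
  have hgint : (g.toRingHom).IsIntegral := RingHom.Finite.to_isIntegral hgfin
  have hgC : ∀ r : R, g (MvPolynomial.C (Ideal.Quotient.mk (maximalIdeal R) r)) =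
      Ideal.Quotient.mk _ (algebraMap R D r) := by
    intro r
    rw [← MvPolynomial.algebraMap_eq, AlgHom.commutes]
    rfl
  rcases Nat.eq_zero_or_pos d with rfl | hd
  · -- d = 0
    haveI : IsPrecomplete (Ideal.span {algebraMap R R t}) R := by
      change IsPrecomplete (Ideal.span {t}) R
      infer_instance
    let ev₀ : R →+* MvPolynomial (Fin 0) (R ⧸ maximalIdeal R) :=
      MvPolynomial.C.comp (Ideal.Quotient.mk (maximalIdeal R))
    have hev₀ : Function.Surjective ev₀ :=
      (MvPolynomial.C_surjective (Fin 0)).comp Ideal.Quotient.mk_surjective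
    have hfin := finite_of_integral_mod R t ht D R (Algebra.ofId R D) ev₀ hev₀
      g.toRingHom hgint (fun x => hgC x) hft
    exact RingHom.finite_algebraMap.mp hfin
  · -- d ≥ 1 : contradiction
    exfalso
    have hy : ∀ i : Fin d, ∃ y : D, Ideal.Quotient.mk ((maximalIdeal R).map (algebraMap R D)) y =
        g (MvPolynomial.X i) := fun i => Ideal.Quotient.mk_surjective _
    choose y hy using hy
    have hJ := rpow_J_eq R t d
    have hJI : ((Ideal.span {t}).map (MvPolynomial.C : R →+* MvPolynomial (Fin d) R)).map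
        (MvPolynomial.aeval y : MvPolynomial (Fin d) R →ₐ[R] D) ≤
        Ideal.span {algebraMap R D t} := by
      rw [hJ, Ideal.map_span, Set.image_singleton]
      have : (MvPolynomial.aeval y : MvPolynomial (Fin d) R →ₐ[R] D)
          (algebraMap R (MvPolynomial (Fin d) R) t) = algebraMap R D t := AlgHom.commutes _ t
      change Ideal.span {(MvPolynomial.aeval y : MvPolynomial (Fin d) R →ₐ[R] D)
          (algebraMap R (MvPolynomial (Fin d) R) t)} ≤ _
      rw [this]
    let θ : AdicRing.RPow R (Ideal.span {t}) d →ₐ[R] D :=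
      Groth.Agent.Lib.Helper9.RigPt4.extend _ (Ideal.span {algebraMap R D t})
        (MvPolynomial.aeval y) hJI
    have hθ : ∀ q, θ (AdicCompletion.of _ _ q) = MvPolynomial.aeval y q :=
      Groth.Agent.Lib.Helper9.RigPt4.extend_of _ _ _ hJI
    have htm0 : Ideal.Quotient.mk ((maximalIdeal R).map (algebraMap R D)) (algebraMap R D t) = 0 :=
      Ideal.Quotient.eq_zero_iff_mem.mpr (hspan_le (Ideal.mem_span_singleton_self _))
    have hcompat : ∀ x, g (evk R t d x) = Ideal.Quotient.mk _ (θ x) := by
      intro x
      obtain ⟨q, hq⟩ := exists_sub_mem t _ hJ x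
      obtain ⟨c, hc⟩ := Ideal.mem_span_singleton'.mp hq
      have hx : x = AdicCompletion.of _ _ q + c * algebraMap R _ t := by rw [hc]; ring
      have hofq : g (MvPolynomial.map (Ideal.Quotient.mk (maximalIdeal R)) q) =
          Ideal.Quotient.mk _ (MvPolynomial.aeval y q) := by
        have : (g.toRingHom).comp
            (MvPolynomial.map (Ideal.Quotient.mk (maximalIdeal R))) =
            (Ideal.Quotient.mk ((maximalIdeal R).map (algebraMap R D))).comp
              (MvPolynomial.aeval y : MvPolynomial (Fin d) R →ₐ[R] D).toRingHom := by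
          apply MvPolynomial.ringHom_ext
          · intro r
            simp only [RingHom.comp_apply, MvPolynomial.map_C, RingHom.coe_coe,
              AlgHom.toRingHom_eq_coe]
            rw [hgC, ← MvPolynomial.algebraMap_eq, AlgHom.commutes]
          · intro i
            simp only [RingHom.comp_apply, MvPolynomial.map_X, RingHom.coe_coe,
              AlgHom.toRingHom_eq_coe, MvPolynomial.aeval_X]
            rw [hy]
        exact congrArg (fun F => F q) this
      have hL : g (evk R t d x) = g (MvPolynomial.map (Ideal.Quotient.mk (maximalIdeal R)) q) := by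
        rw [hx, map_add, map_mul, evk_of, evk_algebraMap,
          Ideal.Quotient.eq_zero_iff_mem.mpr (t_mem_maximalIdeal R t), map_zero, mul_zero,
          add_zero]
      have hR : Ideal.Quotient.mk ((maximalIdeal R).map (algebraMap R D)) (θ x) =
          Ideal.Quotient.mk _ (MvPolynomial.aeval y q) := by
        rw [hx, map_add, map_mul, hθ, AlgHom.commutes, map_add, map_mul, htm0, mul_zero, add_zero]
      rw [hL, hR, hofq]
    haveI hcT := isAdicComplete_cpl t _ hJ
    have hθfin := finite_of_integral_mod R t ht D (AdicRing.RPow R (Ideal.span {t}) d) θ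
      (evk R t d) (evk_surjective R t d)
      g.toRingHom hgint hcompat hft
    -- θ is injective
    have hθinj : Function.Injective θ := by
      rw [injective_iff_map_eq_zero]
      intro h hh0
      by_contra hne
      obtain ⟨c, hc0, h', hh', hev'⟩ := exists_content R t ht d h hne
      rw [hh', map_mul, AlgHom.commutes] at hh0
      rcases mul_eq_zero.mp hh0 with h1 | h1
      · exact hc0 (hinjD (by rw [h1, map_zero]))
      · apply hev'
        apply hginj
        rw [hcompat, h1, map_zero, map_zero]
    -- the contradiction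
    let i₀ : Fin d := ⟨0, hd⟩
    set Y : AdicRing.RPow R (Ideal.span {t}) d := AdicCompletion.of _ _ (MvPolynomial.X i₀) with hY
    have hY0 : Y ≠ 0 := by
      intro h0
      have := congrArg (evk R t d) h0
      rw [hY, evk_of, MvPolynomial.map_X, map_zero] at this
      exact MvPolynomial.X_ne_zero i₀ this
    have hy0 : θ Y ≠ 0 := fun h0 => hY0 (hθinj (by rw [h0, map_zero]))
    have hrad : algebraMap R D t ∈ (Ideal.span {θ Y}).radical := by
      rw [Ideal.radical_eq_sInf, Ideal.mem_sInf]
      rintro q ⟨hq, hqp⟩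
      apply hpr q hqp
      rintro rfl
      exact hy0 (by simpa using hq (Ideal.mem_span_singleton_self (θ Y)))
    obtain ⟨m, hm⟩ := hrad
    obtain ⟨w, hw⟩ := Ideal.mem_span_singleton'.mp hm
    obtain ⟨Q, hQm, hQw⟩ := RingHom.Finite.to_isIntegral hθfin w
    have h1 := Polynomial.scaleRoots_eval₂_eq_zero _ (s := Y) hQw
    have h2 : (θ : AdicRing.RPow R (Ideal.span {t}) d →+* D) Y * w =
        (θ : AdicRing.RPow R (Ideal.span {t}) d →+* D) (algebraMap R _ t ^ m) := by
      rw [RingHom.coe_coe, map_pow, AlgHom.commutes, ← hw, mul_comm]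
    rw [h2, Polynomial.eval₂_at_apply] at h1
    have h3 : Polynomial.eval (algebraMap R _ t ^ m) (Polynomial.scaleRoots Q Y) = 0 :=
      hθinj (by rw [← RingHom.coe_coe, h1, map_zero])
    have h4 := congrArg (eps R t d) h3
    rw [map_zero] at h4
    have h5 : eps R t d (Polynomial.eval (algebraMap R _ t ^ m) (Polynomial.scaleRoots Q Y)) =
        Polynomial.eval (t ^ m) ((Polynomial.scaleRoots Q Y).map (eps R t d : _ →+* R)) := by
      rw [Polynomial.eval_map, ← RingHom.coe_coe, Polynomial.eval, Polynomial.hom_eval₂]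
      simp only [RingHom.comp_id, RingHom.coe_coe, map_pow, AlgHom.commutes]
      rfl
    rw [h5, Polynomial.map_scaleRoots _ _ _ (by
      rw [hQm.leadingCoeff, map_one]; exact one_ne_zero)] at h4
    have h6 : (eps R t d : _ →+* R) Y = 0 := eps_of_X R t d i₀
    rw [h6, Polynomial.scaleRoots_zero, (hQm.map _).leadingCoeff, one_smul, Polynomial.eval_pow,
      Polynomial.eval_X] at h4
    exact ht (eq_zero_of_pow_eq_zero (eq_zero_of_pow_eq_zero h4))

end Core


section Main43

variable (R : Type u) [CommRing R] [IsDomain R] [ValuationRing R] [Ring.KrullDimLE 1 R]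
  (t : R) (ht : t ≠ 0) [IsAdicComplete (Ideal.span {t}) R]
variable (A : Type u) [CommRing A] [Algebra R A]

include ht in
theorem ringKrullDim_quotient_eq_one (hA : AdicRing.TopFiniteType R (Ideal.span {t}) A)
    (p : Ideal A) [p.IsPrime] (hs : algebraMap R A t ∉ p)
    (hpr : ∀ q : Ideal (A ⧸ p), q.IsPrime → q ≠ ⊥ →
      Ideal.Quotient.mk p (algebraMap R A t) ∈ q) : ringKrullDim (A ⧸ p) = 1 := by
  obtain ⟨n, φ, hφ⟩ := hA
  have hD : AdicRing.TopFiniteType R (Ideal.span {t}) (A ⧸ p) :=
    ⟨n, (Ideal.Quotient.mkₐ R p).comp φ, (Ideal.Quotient.mkₐ_surjective R p).comp hφ⟩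
  have htD : algebraMap R (A ⧸ p) t ≠ 0 := by
    intro h
    apply hs
    rw [IsScalarTower.algebraMap_apply R A (A ⧸ p), Ideal.Quotient.algebraMap_eq,
      Ideal.Quotient.eq_zero_iff_mem] at h
    exact h
  haveI := finite_of_primes R t ht (A ⧸ p) hD htD hpr
  haveI : Algebra.IsIntegral R (A ⧸ p) := Algebra.IsIntegral.of_finite R _
  rw [← Groth.Agent.Lib.Helper12.ringKrullDim_eq_of_isIntegral_of_injective R (A ⧸ p)
    (injective_algebraMap_of_ne_zero₅ R t ht (A ⧸ p) htD)]
  exact ringKrullDim_eq_one R t ht

include ht in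
theorem main43 (hA : AdicRing.Admissible R (Ideal.span {t}) A) :
    (∀ p : Ideal A, p.IsPrime → algebraMap R A t ∉ p → ringKrullDim (A ⧸ p) = 1 →
        (p.map (Algebra.TensorProduct.includeLeftRingHom :
          A →+* A ⊗[R] FractionRing R)).IsMaximal ∧
        (p.map (Algebra.TensorProduct.includeLeftRingHom :
          A →+* A ⊗[R] FractionRing R)).comap (Algebra.TensorProduct.includeLeftRingHom :
          A →+* A ⊗[R] FractionRing R) = p) ∧
      (∀ m : Ideal (A ⊗[R] FractionRing R), m.IsMaximal →
        algebraMap R A t ∉ m.comap (Algebra.TensorProduct.includeLeftRingHom :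
            A →+* A ⊗[R] FractionRing R) ∧
          ringKrullDim (A ⧸ m.comap (Algebra.TensorProduct.includeLeftRingHom :
            A →+* A ⊗[R] FractionRing R)) = 1 ∧
          (m.comap (Algebra.TensorProduct.includeLeftRingHom :
            A →+* A ⊗[R] FractionRing R)).map (Algebra.TensorProduct.includeLeftRingHom :
            A →+* A ⊗[R] FractionRing R) = m) := by
  haveI := isLocalization_away_tensor R t ht A
  have hι : (Algebra.TensorProduct.includeLeftRingHom : A →+* A ⊗[R] FractionRing R) =
      algebraMap A (A ⊗[R] FractionRing R) := rfl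
  have hAt := topFiniteType_of_admissible R t A hA
  have hjac := algebraMap_t_mem_jacobson_of_topFiniteType R t A hAt
  rw [hι]
  refine ⟨?_, ?_⟩
  · intro p hp hs hdim
    haveI := hp
    exact locA (algebraMap R A t) (A ⊗[R] FractionRing R) hjac p hs hdim
  · intro m hm
    haveI := hm
    obtain ⟨h1, h2, h3⟩ := locB (algebraMap R A t) (A ⊗[R] FractionRing R) m
    haveI : (m.comap (algebraMap A (A ⊗[R] FractionRing R))).IsPrime := Ideal.comap_isPrime _ _
    exact ⟨h1, ringKrullDim_quotient_eq_one R t ht A hAt _ h1 h3, h2⟩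

end Main43

end Groth.Agent.Lib.Helper9.RigPt5
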