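import Mathlib
import Groth.Agent.Lib.Helper9.RigPt3
import Groth.Agent.Lib.Helper9.RigPt5

set_option autoImplicit false
set_option linter.style.haveILetI false
set_option linter.unusedSectionVars false
set_option linter.unusedVariables false
universe u

namespace Groth.Agent.Lib.Helper9.RPowSat
open Groth.Agent.Lib.Helper9.RigPt Groth.Agent.Lib.Helper9.RigPt5
open IsLocalRing

section SecT

variable (R : Type u) [CommRing R] [IsDomain R] [ValuationRing R] [Ring.KrullDimLE 1 R]
  (t : R) (ht : t ≠ 0) [IsAdicComplete (Ideal.span {t}) R] (d : ℕ)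

set_option quotPrecheck false in
local notation "PP" => MvPolynomial (Fin d) R
set_option quotPrecheck false in
local notation "JJ" => (Ideal.span {t}).map (MvPolynomial.C : R →+* MvPolynomial (Fin d) R)
set_option quotPrecheck false in
local notation "TT" => AdicRing.RPow R (Ideal.span {t}) d
set_option quotPrecheck false in
local notation "kk" => R ⧸ maximalIdeal R

include ht in
theorem sat_of_ne_zero (𝔫 : Ideal TT) (hsat : ∀ x : TT, algebraMap R TT t * x ∈ 𝔫 → x ∈ 𝔫)
    (c : R) (hc : c ≠ 0) (x : TT) (h : algebraMap R TT c * x ∈ 𝔫) : x ∈ 𝔫 := by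
  obtain ⟨n, c', hc'⟩ := exists_dvd_pow R t c hc
  have h1 : algebraMap R TT t ^ n * x ∈ 𝔫 := by
    rw [← map_pow, hc', map_mul, mul_comm (algebraMap R TT c), mul_assoc]
    exact Ideal.mul_mem_left _ _ h
  clear h hc' c' hc c
  induction n with
  | zero => simpa using h1
  | succ n ih =>
    apply ih
    apply hsat
    rw [← mul_assoc, ← pow_succ']
    exact h1

variable (m : MonomialOrder (Fin d))

/-- lift of a nonzero polynomial over the residue field with the same support. -/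
theorem exists_unit_lift (g : MvPolynomial (Fin d) kk) (hg : g ≠ 0) :
    ∃ p : PP, MvPolynomial.map (Ideal.Quotient.mk (maximalIdeal R)) p = g ∧
      m.degree p = m.degree g ∧ IsUnit (m.leadingCoeff p) := by
  classical
  let σ : kk → R := Function.surjInv Ideal.Quotient.mk_surjective
  have hσ : ∀ x, Ideal.Quotient.mk (maximalIdeal R) (σ x) = x :=
    Function.surjInv_eq Ideal.Quotient.mk_surjective
  let p : PP := ∑ μ ∈ g.support, MvPolynomial.monomial μ (σ (g.coeff μ))
  have hcoeff : ∀ μ, p.coeff μ = if μ ∈ g.support then σ (g.coeff μ) else 0 := by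
    intro μ
    simp only [p, MvPolynomial.coeff_sum, MvPolynomial.coeff_monomial]
    rw [Finset.sum_ite_eq']
  have hmap : MvPolynomial.map (Ideal.Quotient.mk (maximalIdeal R)) p = g := by
    ext μ
    rw [MvPolynomial.coeff_map, hcoeff]
    split_ifs with h
    · exact hσ _
    · rw [map_zero]; exact (MvPolynomial.notMem_support_iff.mp h).symm
  have hsupp : p.support = g.support := by
    ext μ
    rw [MvPolynomial.mem_support_iff, hcoeff]
    split_ifs with h
    · simp only [h, iff_true]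
      intro h0
      have := hσ (g.coeff μ)
      rw [h0, map_zero] at this
      exact (MvPolynomial.mem_support_iff.mp h) this.symm
    · simp [h]
  have hdeg : m.degree p = m.degree g := by
    unfold MonomialOrder.degree
    rw [hsupp]
  refine ⟨p, hmap, hdeg, ?_⟩
  have hmem : m.degree g ∈ g.support := (m.degree_mem_support_iff g).mpr hg
  rw [MonomialOrder.leadingCoeff, hdeg, hcoeff, if_pos hmem]
  have hne : g.coeff (m.degree g) ≠ 0 := MvPolynomial.mem_support_iff.mp hmem
  by_contra hu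
  have : σ (g.coeff (m.degree g)) ∈ maximalIdeal R := (IsLocalRing.mem_maximalIdeal _).mpr hu
  have h0 := Ideal.Quotient.eq_zero_iff_mem.mpr this
  rw [hσ] at h0
  exact hne h0


/-- One step of division with error. -/
theorem div_step {ι : Type} [Fintype ι] (a : ι → TT) (p : ι → PP) (c : R) (w : ι → TT)
    (hp : ∀ i, IsUnit (m.leadingCoeff (p i)))
    (haw : ∀ i, a i = AdicCompletion.of JJ PP (p i) + algebraMap R TT c * w i) (f : TT) :
    ∃ (G : ι → TT) (ρ : PP) (f' z : TT),
      f = ∑ i, G i * a i + AdicCompletion.of JJ PP ρ + algebraMap R TT c * f' +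
        algebraMap R TT t * z ∧
      ∀ μ, (∃ i, m.degree (p i) ≤ μ) → ρ.coeff μ = 0 := by
  classical
  obtain ⟨q, z, hqz⟩ := exists_level R t d 1 f
  obtain ⟨g, r, hq, -, hr⟩ := m.div hp q
  refine ⟨fun i => AdicCompletion.of JJ PP (g i), r,
    - ∑ i, AdicCompletion.of JJ PP (g i) * w i, z, ?_, ?_⟩
  · rw [hqz, hq, Finsupp.linearCombination_apply, Finsupp.sum_fintype _ _ (by simp)]
    rw [map_add, map_sum, pow_one]
    have h1 : ∀ i, AdicCompletion.of JJ PP (g i • p i) =
        AdicCompletion.of JJ PP (g i) * a i -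
          algebraMap R TT c * (AdicCompletion.of JJ PP (g i) * w i) := by
      intro i
      rw [smul_eq_mul, of_mul', haw i]
      ring
    rw [Finset.sum_congr rfl (fun i _ => h1 i), Finset.sum_sub_distrib, ← Finset.mul_sum]
    ring
  · rintro μ ⟨i, hi⟩
    by_contra hne
    exact hr μ (MvPolynomial.mem_support_iff.mpr hne) i hi

theorem div_iter {ι : Type} [Fintype ι] (a : ι → TT) (p : ι → PP) (c : R) (w : ι → TT)
    (hp : ∀ i, IsUnit (m.leadingCoeff (p i)))
    (haw : ∀ i, a i = AdicCompletion.of JJ PP (p i) + algebraMap R TT c * w i) (j : ℕ) (f : TT) :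
    ∃ (G : ι → TT) (ρ : PP) (f' z : TT),
      f = ∑ i, G i * a i + AdicCompletion.of JJ PP ρ + algebraMap R TT (c ^ j) * f' +
        algebraMap R TT t * z ∧
      ∀ μ, (∃ i, m.degree (p i) ≤ μ) → ρ.coeff μ = 0 := by
  induction j with
  | zero => exact ⟨0, 0, f, 0, by simp, by simp⟩
  | succ j ih =>
    obtain ⟨G, ρ, f', z, hf, hρ⟩ := ih
    obtain ⟨G₁, ρ₁, f'', z₁, hf', hρ₁⟩ := div_step R t d m a p c w hp haw f'
    refine ⟨fun i => G i + algebraMap R TT (c ^ j) * G₁ i, ρ + MvPolynomial.C (c ^ j) * ρ₁, f'',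
      z + algebraMap R TT (c ^ j) * z₁, ?_, ?_⟩
    · rw [hf, hf', map_add, of_mul', of_C'', pow_succ, map_mul]
      simp only [add_mul, Finset.sum_add_distrib, mul_assoc, ← Finset.mul_sum]
      ring
    · intro μ hμ
      rw [MvPolynomial.coeff_add, MvPolynomial.coeff_C_mul, hρ μ hμ, hρ₁ μ hμ, mul_zero, add_zero]

include ht in
/-- A reduced polynomial which lies in `𝔫` modulo `t` has all coefficients divisible by `t`. -/
theorem reduced_dvd {ι : Type} [Fintype ι] (p : ι → PP) (𝔫 : Ideal TT)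
    (hsat : ∀ (c : R), c ≠ 0 → ∀ x : TT, algebraMap R TT c * x ∈ 𝔫 → x ∈ 𝔫)
    (H : ∀ x ∈ 𝔫, evk R t d x ≠ 0 → ∃ i, m.degree (p i) ≤ m.degree (evk R t d x))
    (ρ : PP) (hρ : ∀ μ, (∃ i, m.degree (p i) ≤ μ) → ρ.coeff μ = 0) (z : TT)
    (hmem : AdicCompletion.of JJ PP ρ + algebraMap R TT t * z ∈ 𝔫) : ∀ μ, t ∣ ρ.coeff μ := by
  classical
  by_contra hq
  have hq0 : ρ ≠ 0 := by
    rintro rfl
    exact hq (fun s => by simp)
  have hsupp : ρ.support.Nonempty := by
    rwa [Finset.nonempty_iff_ne_empty, Ne, MvPolynomial.support_eq_empty]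
  obtain ⟨s₀, hs₀, hdiv⟩ := exists_dvd_all R ρ.support hsupp (fun s => ρ.coeff s)
  set e := ρ.coeff s₀ with he_def
  have he0 : e ≠ 0 := MvPolynomial.mem_support_iff.mp hs₀
  have hcall : ∀ s, e ∣ ρ.coeff s := by
    intro s
    by_cases hs : s ∈ ρ.support
    · exact hdiv s hs
    · rw [MvPolynomial.notMem_support_iff.mp hs]; exact dvd_zero _
  have het : ¬ t ∣ e := fun h' => hq (fun s => h'.trans (hcall s))
  obtain ⟨e', he'⟩ : e ∣ t := (ValuationRing.dvd_total e t).resolve_right het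
  have he'm : e' ∈ maximalIdeal R := by
    rw [IsLocalRing.mem_maximalIdeal]
    intro hu
    apply het
    obtain ⟨u, rfl⟩ := hu
    exact ⟨↑u⁻¹, by rw [he']; simp [mul_assoc]⟩
  obtain ⟨ρ', hρ'⟩ := (MvPolynomial.C_dvd_iff_dvd_coeff e ρ).mpr hcall
  have hcoeff : ρ'.coeff s₀ = 1 := by
    have h1 : e = e * ρ'.coeff s₀ := by
      conv_lhs => rw [he_def, hρ', MvPolynomial.coeff_C_mul]
    have h2 : e * (ρ'.coeff s₀ - 1) = 0 := by linear_combination -h1
    rcases mul_eq_zero.mp h2 with h3 | h3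
    · exact absurd h3 he0
    · linear_combination h3
  have hh' : AdicCompletion.of JJ PP ρ' + algebraMap R TT e' * z ∈ 𝔫 := by
    apply hsat e he0
    have : algebraMap R TT e * (AdicCompletion.of JJ PP ρ' + algebraMap R TT e' * z) =
        AdicCompletion.of JJ PP ρ + algebraMap R TT t * z := by
      have htt : algebraMap R TT t = algebraMap R TT e * algebraMap R TT e' := by
        rw [← map_mul, ← he']
      rw [hρ', of_mul', of_C'', htt]
      ring
    rw [this]
    exact hmem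
  letI : Field kk := Ideal.Quotient.field _
  have hevk : evk R t d (AdicCompletion.of JJ PP ρ' + algebraMap R TT e' * z) =
      MvPolynomial.map (Ideal.Quotient.mk (maximalIdeal R)) ρ' := by
    rw [map_add, map_mul, evk_of, evk_algebraMap,
      Ideal.Quotient.eq_zero_iff_mem.mpr he'm, map_zero, zero_mul, add_zero]
  have hne : MvPolynomial.map (Ideal.Quotient.mk (maximalIdeal R)) ρ' ≠ 0 := by
    intro h0
    have h10 := congrArg (MvPolynomial.coeff s₀) h0
    rw [MvPolynomial.coeff_map, hcoeff, map_one, MvPolynomial.coeff_zero] at h10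
    exact one_ne_zero (α := kk) h10
  obtain ⟨i, hi⟩ := H _ hh' (by rw [hevk]; exact hne)
  rw [hevk] at hi
  set μ₁ := m.degree (MvPolynomial.map (Ideal.Quotient.mk (maximalIdeal R)) ρ') with hμ₁
  have hmem₁ : μ₁ ∈ (MvPolynomial.map (Ideal.Quotient.mk (maximalIdeal R)) ρ').support :=
    (m.degree_mem_support_iff _).mpr hne
  have hne₁ : ρ'.coeff μ₁ ≠ 0 := by
    intro h0
    have := MvPolynomial.mem_support_iff.mp hmem₁
    rw [MvPolynomial.coeff_map, h0, map_zero] at this
    exact this rfl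
  have h0 := hρ μ₁ ⟨i, hi⟩
  rw [hρ', MvPolynomial.coeff_C_mul] at h0
  rcases mul_eq_zero.mp h0 with h | h
  · exact he0 h
  · exact hne₁ h

include ht in
theorem core {ι : Type} [Fintype ι] (a : ι → TT) (p : ι → PP) (c : R) (w : ι → TT)
    (hp : ∀ i, IsUnit (m.leadingCoeff (p i)))
    (haw : ∀ i, a i = AdicCompletion.of JJ PP (p i) + algebraMap R TT c * w i)
    (hc : c ∈ maximalIdeal R) (𝔫 : Ideal TT)
    (hsat : ∀ (c : R), c ≠ 0 → ∀ x : TT, algebraMap R TT c * x ∈ 𝔫 → x ∈ 𝔫)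
    (ha : ∀ i, a i ∈ 𝔫)
    (H : ∀ x ∈ 𝔫, evk R t d x ≠ 0 → ∃ i, m.degree (p i) ≤ m.degree (evk R t d x)) :
    ∀ f ∈ 𝔫, ∃ z ∈ 𝔫, f - algebraMap R TT t * z ∈ Ideal.span (Set.range a) := by
  intro f hf
  -- a power of c divisible by t
  obtain ⟨l, e, hl⟩ : ∃ l : ℕ, t ∣ c ^ l := by
    have : c ∈ (Ideal.span {t}).radical := by rw [radical_span R t ht]; exact hc
    obtain ⟨l, hl⟩ := this
    exact ⟨l, Ideal.mem_span_singleton.mp hl⟩
  obtain ⟨G, ρ, f', z, hfe, hρ⟩ := div_iter R t d m a p c w hp haw l f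
  have hsum : ∑ i, G i * a i ∈ Ideal.span (Set.range a) :=
    Ideal.sum_mem _ (fun i _ => Ideal.mul_mem_left _ _ (Ideal.subset_span ⟨i, rfl⟩))
  have hsum𝔫 : ∑ i, G i * a i ∈ 𝔫 :=
    Ideal.sum_mem _ (fun i _ => Ideal.mul_mem_left _ _ (ha i))
  have hfe' : f = ∑ i, G i * a i + (AdicCompletion.of JJ PP ρ +
      algebraMap R TT t * (algebraMap R TT e * f' + z)) := by
    rw [hfe, hl, map_mul]; ring
  have hmem : AdicCompletion.of JJ PP ρ +
      algebraMap R TT t * (algebraMap R TT e * f' + z) ∈ 𝔫 := by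
    have : AdicCompletion.of JJ PP ρ + algebraMap R TT t * (algebraMap R TT e * f' + z) =
        f - ∑ i, G i * a i := by rw [hfe']; ring
    rw [this]
    exact 𝔫.sub_mem hf hsum𝔫
  have hdvd := reduced_dvd R t ht d m p 𝔫 hsat H ρ hρ _ hmem
  obtain ⟨ρ'', hρ''⟩ := (MvPolynomial.C_dvd_iff_dvd_coeff t ρ).mpr hdvd
  have hof : AdicCompletion.of JJ PP ρ = algebraMap R TT t * AdicCompletion.of JJ PP ρ'' := by
    rw [hρ'', of_mul', of_C'']
  refine ⟨AdicCompletion.of JJ PP ρ'' + (algebraMap R TT e * f' + z), ?_, ?_⟩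
  · apply hsat t ht
    rw [mul_add, ← hof]
    exact hmem
  · have : f - algebraMap R TT t * (AdicCompletion.of JJ PP ρ'' + (algebraMap R TT e * f' + z)) =
        ∑ i, G i * a i := by
      rw [mul_add, ← hof]
      conv_lhs => rw [hfe']
      ring
    rw [this]
    exact hsum

include ht in
/-- **Linchpin**: a `t`-saturated ideal of `R⟨ζ⟩` is finitely generated. -/
theorem sat_fg (𝔫 : Ideal TT) (hsat : ∀ x : TT, algebraMap R TT t * x ∈ 𝔫 → x ∈ 𝔫) : 𝔫.FG := by
  classical
  letI : Field kk := Ideal.Quotient.field _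
  let m : MonomialOrder (Fin d) := MonomialOrder.lex
  have hsat' := sat_of_ne_zero R t ht d 𝔫 hsat
  let L : Set (Fin d →₀ ℕ) := {μ | ∃ x ∈ 𝔫, evk R t d x ≠ 0 ∧ m.degree (evk R t d x) = μ}
  let fm : (Fin d →₀ ℕ) → MvPolynomial (Fin d) kk := fun s => MvPolynomial.monomial s 1
  have hfm : Function.Injective fm := MvPolynomial.monomial_left_injective one_ne_zero
  have hfg : (Ideal.span (fm '' L)).FG := IsNoetherian.noetherian _
  obtain ⟨L₀, hL₀sub, hL₀⟩ := (Submodule.fg_span_iff_fg_span_finset_subset _).mp hfg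
  let S₀ : Set (Fin d →₀ ℕ) := fm ⁻¹' ↑L₀
  have hS₀fin : S₀.Finite := L₀.finite_toSet.preimage hfm.injOn
  have hS₀L : S₀ ⊆ L := by
    intro μ hμ
    obtain ⟨ν, hν, hνμ⟩ := hL₀sub hμ
    rwa [← hfm hνμ]
  have himg : fm '' S₀ = ↑L₀ :=
    Set.image_preimage_eq_of_subset (hL₀sub.trans (Set.image_subset_range _ _))
  have hdom : ∀ μ ∈ L, ∃ ν ∈ S₀, ν ≤ μ := by
    intro μ hμ
    have h1 : fm μ ∈ Ideal.span (fm '' S₀) := by
      rw [himg]
      have : fm μ ∈ Ideal.span (fm '' L) := Ideal.subset_span ⟨μ, hμ, rfl⟩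
      have h2 : Ideal.span (fm '' L) = Ideal.span (↑L₀ : Set (MvPolynomial (Fin d) kk)) := hL₀
      rwa [h2] at this
    rw [MvPolynomial.mem_ideal_span_monomial_image] at h1
    exact h1 μ (by simp [fm, MvPolynomial.support_monomial])
  haveI : Fintype S₀ := hS₀fin.fintype
  have hch : ∀ ν : S₀, ∃ x ∈ 𝔫, evk R t d x ≠ 0 ∧ m.degree (evk R t d x) = ν := fun ν => hS₀L ν.2
  choose a ha hane hadeg using hch
  have hlift : ∀ ν : S₀, ∃ p : PP,
      MvPolynomial.map (Ideal.Quotient.mk (maximalIdeal R)) p = evk R t d (a ν) ∧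
      m.degree p = m.degree (evk R t d (a ν)) ∧ IsUnit (m.leadingCoeff p) :=
    fun ν => exists_unit_lift R d m _ (hane ν)
  choose p hpmap hpdeg hpunit using hlift
  have hdiff : ∀ ν : S₀, ∃ c ∈ maximalIdeal R, ∃ w : TT,
      a ν = AdicCompletion.of JJ PP (p ν) + algebraMap R TT c * w := by
    intro ν
    by_cases h0 : a ν - AdicCompletion.of JJ PP (p ν) = 0
    · exact ⟨0, zero_mem _, 0, by rw [map_zero, zero_mul, add_zero]; exact sub_eq_zero.mp h0⟩
    · obtain ⟨c, hc0, δ', hδ, hδ'⟩ := exists_content R t ht d _ h0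
      refine ⟨c, ?_, δ', ?_⟩
      · have h1 : evk R t d (a ν - AdicCompletion.of JJ PP (p ν)) = 0 := by
          rw [map_sub, evk_of, hpmap, sub_self]
        rw [hδ, map_mul, evk_algebraMap] at h1
        rcases mul_eq_zero.mp h1 with h2 | h2
        · rw [MvPolynomial.C_eq_zero] at h2
          exact Ideal.Quotient.eq_zero_iff_mem.mp h2
        · exact absurd h2 hδ'
      · rw [← hδ]; ring
  choose cν hcν wν hawν using hdiff
  obtain ⟨c, hc, w, haw⟩ : ∃ c ∈ maximalIdeal R, ∃ w : S₀ → TT,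
      ∀ ν, a ν = AdicCompletion.of JJ PP (p ν) + algebraMap R TT c * w ν := by
    by_cases hne : Nonempty S₀
    · obtain ⟨i₀, -, hi₀⟩ := exists_dvd_all R (Finset.univ : Finset S₀) Finset.univ_nonempty cν
      choose e he using fun ν => hi₀ ν (Finset.mem_univ ν)
      refine ⟨cν i₀, hcν i₀, fun ν => algebraMap R TT (e ν) * wν ν, fun ν => ?_⟩
      rw [hawν ν, he ν, map_mul]; ring
    · exact ⟨0, zero_mem _, fun _ => 0, fun ν => (hne ⟨ν⟩).elim⟩
  have H : ∀ x ∈ 𝔫, evk R t d x ≠ 0 → ∃ ν : S₀, m.degree (p ν) ≤ m.degree (evk R t d x) := by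
    intro x hx hx0
    obtain ⟨ν, hν, hle⟩ := hdom (m.degree (evk R t d x)) ⟨x, hx, hx0, rfl⟩
    refine ⟨⟨ν, hν⟩, ?_⟩
    rw [hpdeg, hadeg]
    exact hle
  have key := core R t ht d m a p c w hpunit haw hc 𝔫 hsat' ha H
  have h0 : Ideal.span (Set.range a) ≤ 𝔫 := Ideal.span_le.mpr (by rintro _ ⟨ν, rfl⟩; exact ha ν)
  have hfg' : (Ideal.span (Set.range a)).FG := ⟨(Set.finite_range a).toFinset, by simp⟩
  haveI hcpl := isAdicComplete_cpl t JJ (rpow_J_eq R t d)
  have hle : 𝔫 ≤ Ideal.span (Set.range a) := by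
    apply Groth.Agent.Lib.Helper9.RigPt3.le_of_le_sup_smul
      (Ideal.span {algebraMap R TT t}) (Ideal.span (Set.range a)) 𝔫 hfg' h0
    intro f hf
    obtain ⟨z, hz, hfz⟩ := key f hf
    have : f = (f - algebraMap R TT t * z) + algebraMap R TT t * z := by ring
    rw [this]
    refine Submodule.add_mem_sup hfz ?_
    have := Submodule.smul_mem_smul (Ideal.mem_span_singleton_self (algebraMap R TT t)) hz
    rwa [smul_eq_mul] at this
  rw [le_antisymm hle h0]
  exact hfg'

end SecT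

end Groth.Agent.Lib.Helper9.RPowSat
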