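import Mathlib
import Groth.Agent.Lib.Helper9.RPowSat
import Groth.Agent.Lib.Helper9.AdicProj
import Groth.Agent.Lib.Helper1.ArtFunQuotRing
import Groth.Agent.Lib.Helper18.CompleteNakayama
import Groth.Agent.S11546

set_option autoImplicit false
set_option linter.style.haveILetI false
set_option linter.unusedSectionVars false
set_option linter.unusedVariables false
universe u

namespace Groth.Agent.Lib.Helper9.RPowSatMod
open Groth.Agent.Lib.Helper9.RigPt Groth.Agent.Lib.Helper9.RigPt5 Groth.Agent.Lib.Helper9.RPowSat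
open IsLocalRing

section General

variable {A : Type*} [CommRing A] (I : Ideal A) {M N : Type*} [AddCommGroup M] [Module A M]
  [AddCommGroup N] [Module A N]

theorem isHausdorff_of_injective (f : M →ₗ[A] N) (hf : Function.Injective f) [IsHausdorff I N] :
    IsHausdorff I M := by
  refine ⟨fun x hx => ?_⟩
  apply hf
  rw [map_zero]
  apply IsHausdorff.haus' (I := I)
  intro n
  have := hx n
  rw [SModEq.zero] at this ⊢
  have h1 : f x ∈ (I ^ n • ⊤ : Submodule A M).map f := Submodule.mem_map_of_mem this
  rw [Submodule.map_smul''] at h1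
  exact Submodule.smul_mono le_rfl le_top h1

theorem isAdicComplete_of_linearEquiv (e : M ≃ₗ[A] N) [IsAdicComplete I M] : IsAdicComplete I N :=
  { isHausdorff_of_injective I e.symm.toLinearMap e.symm.injective,
    Groth.Agent.Lib.Helper1.ArtFunLib.isPrecomplete_of_surjective I e.toLinearMap e.surjective
    with }

end General

section TFT

variable (R : Type u) [CommRing R] (t : R) (B : Type u) [CommRing B] [Algebra R B]
  [IsAdicComplete (Ideal.span {algebraMap R B t}) B] (n : ℕ) (b : Fin n → B)

/-- Criterion for being topologically of finite type. -/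
theorem exists_surjective
    (hb : ∀ x : B, ∃ y ∈ Algebra.adjoin R (Set.range b),
      x - y ∈ Ideal.span {algebraMap R B t}) :
    ∃ φ : AdicRing.RPow R (Ideal.span {t}) n →ₐ[R] B, Function.Surjective φ ∧
      ∀ q : MvPolynomial (Fin n) R, φ (AdicCompletion.of _ _ q) = MvPolynomial.aeval b q := by
  set P := MvPolynomial (Fin n) R with hP
  set J : Ideal P := (Ideal.span {t}).map (MvPolynomial.C : R →+* P) with hJdef
  have hJ : J = Ideal.span {algebraMap R P t} := by
    rw [hJdef, Ideal.map_span, Set.image_singleton]; rfl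
  let g : P →ₐ[R] B := MvPolynomial.aeval b
  have hJI : J.map g ≤ Ideal.span {algebraMap R B t} := by
    rw [hJ, Ideal.map_span, Set.image_singleton]
    have : g (algebraMap R P t) = algebraMap R B t := g.commutes t
    change Ideal.span {g (algebraMap R P t)} ≤ _
    rw [this]
  let φ := Groth.Agent.Lib.Helper9.RigPt4.extend J (Ideal.span {algebraMap R B t}) g hJI
  have hφ : ∀ q : P, φ (AdicCompletion.of J P q) = g q :=
    Groth.Agent.Lib.Helper9.RigPt4.extend_of J (Ideal.span {algebraMap R B t}) g hJI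
  refine ⟨φ, ?_, hφ⟩
  -- completeness as R-modules
  have hJfg : J.FG := by rw [hJ]; exact ⟨{algebraMap R P t}, by simp⟩
  haveI h1 : IsAdicComplete J (AdicCompletion J P) := AdicCompletion.isAdicComplete hJfg
  haveI h2 : IsPrecomplete (Ideal.span {t}) (AdicCompletion J P) := by
    have h3 : IsPrecomplete ((Ideal.span {t}).map (algebraMap R P)) (AdicCompletion J P) := by
      have : (Ideal.span {t}).map (algebraMap R P) = J := by
        rw [hJ, Ideal.map_span, Set.image_singleton]
      rw [this]; infer_instance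
    exact IsPrecomplete.map_algebraMap_iff.mp h3
  haveI h4 : IsHausdorff (Ideal.span {t}) B := by
    have h5 : IsHausdorff ((Ideal.span {t}).map (algebraMap R B)) B := by
      rw [Ideal.map_span, Set.image_singleton]; infer_instance
    exact IsHausdorff.map_algebraMap_iff.mp h5
  apply Groth.Agent.Lib.Helper18.surjective_of_isPrecomplete_of_isHausdorff (Ideal.span {t})
    φ.toLinearMap
  rw [eq_top_iff]
  intro x _
  obtain ⟨y, hy, hxy⟩ := hb x
  rw [Algebra.adjoin_range_eq_range_aeval] at hy
  obtain ⟨q, rfl⟩ := hy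
  obtain ⟨z, hz⟩ := Ideal.mem_span_singleton'.mp hxy
  have hx : x = φ.toLinearMap (AdicCompletion.of J P q) + t • z := by
    rw [AlgHom.toLinearMap_apply, hφ, Algebra.smul_def, mul_comm, hz]
    change x = MvPolynomial.aeval b q + (x - MvPolynomial.aeval b q)
    ring
  rw [hx]
  exact Submodule.add_mem_sup (LinearMap.mem_range_self _ _)
    (Submodule.smul_mem_smul (Ideal.mem_span_singleton_self t) Submodule.mem_top)

end TFT

section SecT

variable (R : Type u) [CommRing R] [IsDomain R] [ValuationRing R] [Ring.KrullDimLE 1 R]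
  (t : R) (ht : t ≠ 0) [IsAdicComplete (Ideal.span {t}) R] (d s : ℕ)

set_option quotPrecheck false in
local notation "PP" => MvPolynomial (Fin d) R
set_option quotPrecheck false in
local notation "JJ" => (Ideal.span {t}).map (MvPolynomial.C : R →+* MvPolynomial (Fin d) R)
set_option quotPrecheck false in
local notation "TT" => AdicRing.RPow R (Ideal.span {t}) d
set_option quotPrecheck false in
local notation "T'" => TrivSqZeroExt (AdicRing.RPow R (Ideal.span {t}) d)
  (Fin s → AdicRing.RPow R (Ideal.span {t}) d)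

include ht in
theorem t_smul_eq_zero (x : TT) (h : algebraMap R TT t * x = 0) : x = 0 := by
  have hflat : Module.Flat R TT :=
    Groth.Agent.S11546.result R (Ideal.span {t})
      ⟨inferInstance, Or.inr ⟨inferInstance, inferInstance, inferInstance, t, ht, rfl⟩⟩ d
  have hreg : IsSMulRegular R t := (IsRegular.of_ne_zero ht).left.isSMulRegular
  have := IsSMulRegular.of_flat (S := TT) hreg
  apply this
  simp only [smul_eq_mul, mul_zero]
  exact h

/-- the linear equivalence `T ⋉ T^s ≃ T^{s+1}`. -/
noncomputable def tszeEquiv : (Fin (s + 1) → TT) ≃ₗ[TT] T' :=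
  (Fin.consLinearEquiv TT (fun _ : Fin (s + 1) => TT)).symm.trans
    { toFun := fun p => TrivSqZeroExt.inl p.1 + TrivSqZeroExt.inr p.2
      invFun := fun x => (x.fst, x.snd)
      map_add' := fun p q => by
        ext <;> simp
      map_smul' := fun c p => by
        ext <;> simp
      left_inv := fun p => by ext <;> simp
      right_inv := fun x => by ext <;> simp }

theorem isAdicComplete_tsze : IsAdicComplete (Ideal.span {algebraMap R T' t}) T' := by
  haveI h1 : IsAdicComplete (Ideal.span {algebraMap R TT t}) TT :=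
    isAdicComplete_cpl t JJ (rpow_J_eq R t d)
  classical
  haveI h2 : IsAdicComplete (Ideal.span {algebraMap R TT t}) (Fin (s + 1) → TT) :=
    Groth.Agent.Lib.Helper9.isAdicComplete_pi _
  have h3 : IsAdicComplete (Ideal.span {algebraMap R TT t}) T' :=
    isAdicComplete_of_linearEquiv _ (tszeEquiv R t d s)
  have h4 := (IsAdicComplete.map_algebraMap_iff (S := T') (M := T')
    (I := Ideal.span {algebraMap R TT t})).mpr h3
  have h5 : (Ideal.span {algebraMap R TT t}).map (algebraMap TT T') =
      Ideal.span {algebraMap R T' t} := by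
    rw [Ideal.map_span (algebraMap TT T') _, Set.image_singleton, TrivSqZeroExt.algebraMap_eq_inl,
      TrivSqZeroExt.algebraMap_eq_inl']
  rwa [h5] at h4

/-- generators of `T ⋉ T^s`. -/
noncomputable def gens : Fin (d + s) → T' :=
  Fin.addCases (fun i => TrivSqZeroExt.inl (AdicCompletion.of JJ PP (MvPolynomial.X i)))
    (fun j => TrivSqZeroExt.inr (Pi.single j 1))

theorem inl_of_mem (q : PP) :
    (TrivSqZeroExt.inl (AdicCompletion.of JJ PP q) : T') ∈
      Algebra.adjoin R (Set.range (gens R t d s)) := by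
  let Φ : PP →ₐ[R] T' := (TrivSqZeroExt.inlAlgHom R TT (Fin s → TT)).comp
    (Groth.Agent.Lib.Helper9.RigPt4.ofₐ' JJ)
  have h1 : Φ = MvPolynomial.aeval (Φ ∘ MvPolynomial.X) := MvPolynomial.aeval_unique Φ
  have h2 : Φ q ∈ Algebra.adjoin R (Set.range (Φ ∘ MvPolynomial.X)) := by
    rw [Algebra.adjoin_range_eq_range_aeval, ← h1]
    exact ⟨q, rfl⟩
  have h3 : Set.range (Φ ∘ MvPolynomial.X) ⊆ Set.range (gens R t d s) := by
    rintro _ ⟨i, rfl⟩
    refine ⟨Fin.castAdd s i, ?_⟩
    simp only [gens, Fin.addCases_left]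
    rfl
  exact Algebra.adjoin_mono h3 h2

theorem inr_single_mem (j : Fin s) :
    (TrivSqZeroExt.inr (Pi.single j 1) : T') ∈ Algebra.adjoin R (Set.range (gens R t d s)) := by
  apply Algebra.subset_adjoin
  refine ⟨Fin.natAdd d j, ?_⟩
  simp only [gens, Fin.addCases_right]

theorem gens_dense (x : T') : ∃ y ∈ Algebra.adjoin R (Set.range (gens R t d s)),
    x - y ∈ Ideal.span {algebraMap R T' t} := by
  classical
  obtain ⟨q₀, z₀, h₀⟩ := exists_level R t d 1 x.fst
  have hj : ∀ j : Fin s, ∃ (q : PP) (z : TT), x.snd j = AdicCompletion.of JJ PP q +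
      algebraMap R TT t ^ 1 * z := fun j => exists_level R t d 1 (x.snd j)
  choose q z hqz using hj
  refine ⟨TrivSqZeroExt.inl (AdicCompletion.of JJ PP q₀) +
    ∑ j, TrivSqZeroExt.inl (AdicCompletion.of JJ PP (q j)) * TrivSqZeroExt.inr (Pi.single j 1),
    ?_, ?_⟩
  · refine Subalgebra.add_mem _ (inl_of_mem R t d s q₀) (Subalgebra.sum_mem _ fun j _ => ?_)
    exact Subalgebra.mul_mem _ (inl_of_mem R t d s (q j)) (inr_single_mem R t d s j)
  · rw [Ideal.mem_span_singleton']
    refine ⟨TrivSqZeroExt.inl z₀ + TrivSqZeroExt.inr z, ?_⟩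
    rw [TrivSqZeroExt.algebraMap_eq_inl']
    apply TrivSqZeroExt.ext
    · simp only [TrivSqZeroExt.fst_mul, TrivSqZeroExt.fst_add, TrivSqZeroExt.fst_inl,
        TrivSqZeroExt.fst_inr, TrivSqZeroExt.fst_sub, TrivSqZeroExt.fst_sum, add_zero, mul_zero,
        Finset.sum_const_zero]
      rw [h₀]; ring
    · funext j
      simp only [TrivSqZeroExt.snd_mul, TrivSqZeroExt.snd_add, TrivSqZeroExt.snd_inl,
        TrivSqZeroExt.snd_inr, TrivSqZeroExt.snd_sub, TrivSqZeroExt.snd_sum,
        TrivSqZeroExt.fst_inl, TrivSqZeroExt.fst_inr, TrivSqZeroExt.fst_add, smul_zero, zero_add,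
        add_zero, MulOpposite.op_zero, zero_smul, Pi.add_apply, Pi.smul_apply, Pi.sub_apply,
        Finset.sum_apply, smul_eq_mul, MulOpposite.smul_eq_mul_unop, MulOpposite.unop_op, Pi.zero_apply,
        sub_zero]
      rw [hqz j]
      simp [Pi.single_apply, Finset.sum_ite_eq]
      ring

include ht in
/-- **Module linchpin**: a `t`-saturated submodule of `R⟨ζ⟩^s` is finitely generated. -/
theorem sat_fg_pi (N : Submodule TT (Fin s → TT))
    (hsat : ∀ x : Fin s → TT, algebraMap R TT t • x ∈ N → x ∈ N) : N.FG := by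
  classical
  haveI := isAdicComplete_tsze R t d s
  obtain ⟨ψ, hψ, -⟩ := exists_surjective R t T' (d + s) (gens R t d s) (gens_dense R t d s)
  -- the ideal `0 ⋉ N`
  let 𝔑 : Ideal T' :=
    { carrier := {x | x.fst = 0 ∧ x.snd ∈ N}
      add_mem' := by
        rintro x y ⟨hx1, hx2⟩ ⟨hy1, hy2⟩
        exact ⟨by rw [TrivSqZeroExt.fst_add, hx1, hy1, add_zero],
          by rw [TrivSqZeroExt.snd_add]; exact N.add_mem hx2 hy2⟩
      zero_mem' := ⟨rfl, N.zero_mem⟩
      smul_mem' := by
        rintro c x ⟨hx1, hx2⟩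
        refine ⟨by rw [smul_eq_mul, TrivSqZeroExt.fst_mul, hx1, mul_zero], ?_⟩
        rw [smul_eq_mul, TrivSqZeroExt.snd_mul, hx1, MulOpposite.op_zero, zero_smul, add_zero]
        exact N.smul_mem _ hx2 }
  have hmem : ∀ x : T', x ∈ 𝔑 ↔ x.fst = 0 ∧ x.snd ∈ N := fun x => Iff.rfl
  -- its preimage is saturated
  have hsat2 : ∀ x : AdicRing.RPow R (Ideal.span {t}) (d + s),
      algebraMap R (AdicRing.RPow R (Ideal.span {t}) (d + s)) t * x ∈ 𝔑.comap ψ →
        x ∈ 𝔑.comap ψ := by
    intro x hx
    rw [Ideal.mem_comap, map_mul, AlgHom.commutes, TrivSqZeroExt.algebraMap_eq_inl', hmem] at hx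
    rw [Ideal.mem_comap, hmem]
    obtain ⟨h1, h2⟩ := hx
    rw [TrivSqZeroExt.fst_mul, TrivSqZeroExt.fst_inl] at h1
    rw [TrivSqZeroExt.snd_mul, TrivSqZeroExt.fst_inl, TrivSqZeroExt.snd_inl, smul_zero,
      add_zero] at h2
    exact ⟨t_smul_eq_zero R t ht d _ h1, hsat _ h2⟩
  have hfg2 : (𝔑.comap ψ).FG := sat_fg R t ht (d + s) _ hsat2
  have hfg𝔑 : 𝔑.FG := by
    have := hfg2.map (ψ : AdicRing.RPow R (Ideal.span {t}) (d + s) →+* T')
    have h3 : Ideal.map (ψ : AdicRing.RPow R (Ideal.span {t}) (d + s) →+* T') (𝔑.comap ψ) = 𝔑 :=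
      Ideal.map_comap_of_surjective _ hψ 𝔑
    rwa [h3] at this
  obtain ⟨S, hS⟩ := hfg𝔑
  refine ⟨S.image TrivSqZeroExt.snd, ?_⟩
  apply le_antisymm
  · rw [Submodule.span_le]
    intro v hv
    rw [Finset.coe_image] at hv
    obtain ⟨x, hx, rfl⟩ := hv
    have : x ∈ 𝔑 := by rw [← hS]; exact Submodule.subset_span hx
    exact this.2
  · intro n hn
    have h1 : (TrivSqZeroExt.inr n : T') ∈ 𝔑 := ⟨by simp, by simpa using hn⟩
    rw [← hS] at h1
    have key : ∀ x ∈ Submodule.span T' (S : Set T'),
        x.fst = 0 ∧ x.snd ∈ Submodule.span TT ((S.image TrivSqZeroExt.snd : Finset _) : Set _) := by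
      intro x hx
      induction hx using Submodule.span_induction with
      | mem x hx =>
        have h2 : x ∈ 𝔑 := by rw [← hS]; exact Submodule.subset_span hx
        exact ⟨h2.1, Submodule.subset_span (by rw [Finset.coe_image]; exact ⟨x, hx, rfl⟩)⟩
      | zero => exact ⟨rfl, Submodule.zero_mem _⟩
      | add x y _ _ hx hy =>
        exact ⟨by rw [TrivSqZeroExt.fst_add, hx.1, hy.1, add_zero],
          by rw [TrivSqZeroExt.snd_add]; exact Submodule.add_mem _ hx.2 hy.2⟩
      | smul c x _ hx =>
        refine ⟨by rw [smul_eq_mul, TrivSqZeroExt.fst_mul, hx.1, mul_zero], ?_⟩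
        rw [smul_eq_mul, TrivSqZeroExt.snd_mul, hx.1, MulOpposite.op_zero, zero_smul, add_zero]
        exact Submodule.smul_mem _ _ hx.2
    have := (key _ h1).2
    simpa using this

end SecT

section Module

variable (R : Type u) [CommRing R] [IsDomain R] [ValuationRing R] [Ring.KrullDimLE 1 R]
  (t : R) (ht : t ≠ 0) [IsAdicComplete (Ideal.span {t}) R]

include ht in
/-- Saturated submodules of finite modules over algebras topologically of finite type over a
complete height one valuation ring are finitely generated. -/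
theorem sat_fg_module (A : Type u) [CommRing A] [Algebra R A]
    (hA : AdicRing.TopFiniteType R (Ideal.span {t}) A)
    (M : Type u) [AddCommGroup M] [Module A M] [Module.Finite A M] (N : Submodule A M)
    (hsat : ∀ x : M, algebraMap R A t • x ∈ N → x ∈ N) : N.FG := by
  obtain ⟨d, φ, hφ⟩ := hA
  set T := AdicRing.RPow R (Ideal.span {t}) d with hT
  letI : Algebra T A := φ.toRingHom.toAlgebra
  letI : Module T M := Module.compHom M (algebraMap T A)
  haveI : IsScalarTower T A M := IsScalarTower.of_algebraMap_smul fun _ _ => rfl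
  haveI : Module.Finite T A := Module.Finite.of_surjective (Algebra.linearMap T A) hφ
  haveI : Module.Finite T M := Module.Finite.trans A M
  obtain ⟨s, π, hπ⟩ := Module.Finite.exists_fin' T M
  have h1 : ((N.restrictScalars T).comap π).FG := by
    apply sat_fg_pi R t ht d s
    intro x hx
    rw [Submodule.mem_comap, map_smul] at hx
    rw [Submodule.mem_comap]
    apply hsat
    have : algebraMap R A t • π x = algebraMap R T t • π x := by
      rw [← algebraMap_smul A (algebraMap R T t) (π x)]
      congr 1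
      exact (φ.commutes t).symm
    rw [this]
    exact hx
  have h2 : (N.restrictScalars T).FG := by
    have := h1.map π
    rwa [Submodule.map_comap_eq_of_surjective hπ] at this
  exact Submodule.FG.of_restrictScalars T h2

end Module

end Groth.Agent.Lib.Helper9.RPowSatMod
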