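import Mathlib
import Groth.Agent.Lib.Helper9.RPowSatMod
import Groth.Agent.Lib.Helper21.AdicNoetherian

set_option autoImplicit false
set_option linter.style.haveILetI false
set_option linter.unusedSectionVars false
set_option linter.unusedVariables false
universe u

namespace Groth.Agent.Lib.Helper9.BoschV
open Groth.Agent.Lib.Helper9.RigPt Groth.Agent.Lib.Helper9.RigPt5 Groth.Agent.Lib.Helper9.RPowSat
  Groth.Agent.Lib.Helper9.RPowSatMod
open IsLocalRing AdicRing

section Noeth

variable (R : Type u) [CommRing R] (I : Ideal R) [IsNoetherianRing R]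

theorem isNoetherianRing_rpow (n : ℕ) : IsNoetherianRing (AdicRing.RPow R I n) :=
  Groth.Agent.Lib.Helper21.isNoetherianRing_adicCompletion_of_fg _ (IsNoetherian.noetherian _)

theorem isNoetherianRing_of_topFiniteType (A : Type u) [CommRing A] [Algebra R A]
    (hA : AdicRing.TopFiniteType R I A) : IsNoetherianRing A := by
  obtain ⟨n, φ, hφ⟩ := hA
  haveI := isNoetherianRing_rpow R I n
  exact isNoetherianRing_of_surjective _ _ φ.toRingHom hφ

end Noeth

section S27

/-- S11527 -/
theorem sat_fg (R : Type u) [CommRing R] (I : Ideal R) (hR : AdicRing.IsBase R I)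
    (A : Type u) [CommRing A] [Algebra R A] (hA : AdicRing.TopFiniteType R I A)
    (M : Type u) [AddCommGroup M] [Module A M] [Module R M] [IsScalarTower R A M]
    [Module.Finite A M] (N : Submodule A M)
    (hsat : ∀ (x : M) (n : ℕ), (∀ a ∈ I ^ n, a • x ∈ N) → x ∈ N) :
    N.FG := by
  obtain ⟨hc, h⟩ := hR
  rcases h with ⟨hN, -⟩ | ⟨hD, hV, hK, t, ht, rfl⟩
  · haveI := isNoetherianRing_of_topFiniteType R I A hA
    exact IsNoetherian.noetherian N
  · haveI hVR : ValuationRing R := { hV with }
    apply sat_fg_module R t ht A hA M N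
    intro x hx
    apply hsat x 1
    intro a ha
    rw [pow_one] at ha
    obtain ⟨r, rfl⟩ := Ideal.mem_span_singleton'.mp ha
    rw [mul_smul, ← algebraMap_smul A t x]
    rw [← algebraMap_smul A r]
    exact N.smul_mem _ hx

end S27

section S24

/-- S11524 -/
theorem fp_of_flat (R : Type u) [CommRing R] (I : Ideal R) (hR : AdicRing.IsBase R I)
    (A : Type u) [CommRing A] [Algebra R A] (hA : AdicRing.TopFiniteType R I A)
    (M : Type u) [AddCommGroup M] [Module A M] [Module R M] [IsScalarTower R A M]
    [Module.Finite A M] [Module.Flat R M] :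
    Module.FinitePresentation A M := by
  obtain ⟨hc, h⟩ := hR
  rcases h with ⟨hN, -⟩ | ⟨hD, hV, hK, t, ht, rfl⟩
  · haveI := isNoetherianRing_of_topFiniteType R I A hA
    exact Module.finitePresentation_of_finite A M
  · haveI hVR : ValuationRing R := { hV with }
    obtain ⟨s, π, hπ⟩ := Module.Finite.exists_fin' A M
    have hker : (LinearMap.ker π).FG := by
      apply sat_fg_module R t ht A hA (Fin s → A) _
      intro x hx
      rw [LinearMap.mem_ker, map_smul, algebraMap_smul] at hx
      rw [LinearMap.mem_ker]
      have hreg : IsSMulRegular M t :=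
        Module.Flat.isSMulRegular_of_isRegular (IsRegular.of_ne_zero ht)
      apply hreg
      simp only [smul_zero]
      exact hx
    exact Module.finitePresentation_of_surjective π hπ hker

end S24

section S25

/-- S11525 -/
theorem tfp_of_noPowTorsion (R : Type u) [CommRing R] (I : Ideal R) (hR : AdicRing.IsBase R I)
    (A : Type u) [CommRing A] [Algebra R A] (hA : AdicRing.TopFiniteType R I A)
    (hT : AdicRing.NoPowTorsion I A) :
    AdicRing.TopFinitePresentation R I A := by
  obtain ⟨hc, h⟩ := hR
  obtain ⟨n, φ, hφ⟩ := hA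
  refine ⟨n, φ, hφ, ?_⟩
  rcases h with ⟨hN, -⟩ | ⟨hD, hV, hK, t, ht, rfl⟩
  · haveI := isNoetherianRing_rpow R I n
    exact IsNoetherian.noetherian _
  · haveI hVR : ValuationRing R := { hV with }
    apply RPowSat.sat_fg R t ht n
    intro x hx
    rw [RingHom.mem_ker] at hx ⊢
    apply hT _ 1
    intro a ha
    rw [pow_one] at ha
    obtain ⟨r, rfl⟩ := Ideal.mem_span_singleton'.mp ha
    have h1 : φ.toRingHom (algebraMap R _ t * x) = t • φ.toRingHom x := by
      rw [map_mul, Algebra.smul_def]
      congr 1
      exact φ.commutes t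
    rw [mul_smul, ← h1, hx, smul_zero]

end S25

end Groth.Agent.Lib.Helper9.BoschV
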