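import Mathlib
import Groth.Agent.Lib.Helper9.BoschV

set_option autoImplicit false
set_option linter.style.haveILetI false
set_option linter.unusedSectionVars false
set_option linter.unusedVariables false
universe u

namespace Groth.Agent.Lib.Helper9.BoschV2
open Groth.Agent.Lib.Helper9.RigPt Groth.Agent.Lib.Helper9.RigPt5 Groth.Agent.Lib.Helper9.RPowSat
  Groth.Agent.Lib.Helper9.RPowSatMod Groth.Agent.Lib.Helper9.BoschV
open IsLocalRing AdicRing

section Sat

variable {R : Type u} [CommRing R] (t : R) {A : Type u} [CommRing A] [Algebra R A]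
  {M : Type u} [AddCommGroup M] [Module A M] [Module R M] [IsScalarTower R A M]

/-- the `t`-saturation of a submodule. -/
def saturation (N : Submodule A M) : Submodule A M where
  carrier := {x | ∃ n : ℕ, t ^ n • x ∈ N}
  add_mem' := by
    rintro x y ⟨n, hn⟩ ⟨m, hm⟩
    refine ⟨n + m, ?_⟩
    rw [smul_add]
    refine N.add_mem ?_ ?_
    · rw [pow_add, mul_comm, mul_smul, ← algebraMap_smul A (t ^ m)]
      exact N.smul_mem _ hn
    · rw [pow_add, mul_smul, ← algebraMap_smul A (t ^ n)]
      exact N.smul_mem _ hm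
  zero_mem' := ⟨0, by simp⟩
  smul_mem' := by
    rintro a x ⟨n, hn⟩
    refine ⟨n, ?_⟩
    rw [smul_comm]
    exact N.smul_mem _ hn

theorem mem_saturation (N : Submodule A M) (x : M) :
    x ∈ saturation t N ↔ ∃ n : ℕ, t ^ n • x ∈ N := Iff.rfl

theorem le_saturation (N : Submodule A M) : N ≤ saturation t N :=
  fun x hx => ⟨0, by simpa using hx⟩

theorem saturation_sat (N : Submodule A M) (x : M)
    (hx : algebraMap R A t • x ∈ saturation t N) : x ∈ saturation t N := by
  obtain ⟨n, hn⟩ := hx
  refine ⟨n + 1, ?_⟩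
  rw [algebraMap_smul, ← mul_smul, ← pow_succ] at hn
  exact hn

theorem exists_pow_smul_mem_of_fg (N : Submodule A M) (hfg : (saturation t N).FG) :
    ∃ n₀ : ℕ, ∀ x ∈ saturation t N, t ^ n₀ • x ∈ N := by
  classical
  obtain ⟨S, hS⟩ := hfg
  have h1 : ∀ s ∈ S, ∃ n : ℕ, t ^ n • s ∈ N := by
    intro s hs
    have : s ∈ saturation t N := by rw [← hS]; exact Submodule.subset_span hs
    exact this
  choose! e he using h1
  refine ⟨S.sup e, ?_⟩
  intro x hx
  rw [← hS] at hx
  induction hx using Submodule.span_induction with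
  | mem s hs =>
    have hle : e s ≤ S.sup e := Finset.le_sup hs
    obtain ⟨k, hk⟩ := Nat.exists_eq_add_of_le hle
    rw [hk, pow_add, mul_comm, mul_smul, ← algebraMap_smul A (t ^ k)]
    exact N.smul_mem _ (he s hs)
  | zero => simp
  | add x y _ _ hx hy => rw [smul_add]; exact N.add_mem hx hy
  | smul a x _ hx => rw [smul_comm]; exact N.smul_mem _ hx

end Sat

section S28

/-- S11528 -/
theorem artin_rees (R : Type u) [CommRing R] (I : Ideal R) (hR : AdicRing.IsBase R I)
    (A : Type u) [CommRing A] [Algebra R A] (hA : AdicRing.TopFiniteType R I A)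
    (M : Type u) [AddCommGroup M] [Module A M] [Module R M] [IsScalarTower R A M]
    [Module.Finite A M] (N : Submodule A M) :
    ∃ n₀ : ℕ, ∀ m : ℕ,
      (I ^ (m + n₀) • (⊤ : Submodule R M)) ⊓ N.restrictScalars R ≤ I ^ m • N.restrictScalars R := by
  obtain ⟨hc, h⟩ := hR
  rcases h with ⟨hN, -⟩ | ⟨hD, hV, hK, t, ht, rfl⟩
  · haveI := isNoetherianRing_of_topFiniteType R I A hA
    obtain ⟨k, hk⟩ := Ideal.exists_pow_inf_eq_pow_smul (I.map (algebraMap R A)) N
    refine ⟨k, fun m => ?_⟩
    have h1 := hk (m + k) (Nat.le_add_left _ _)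
    rw [Nat.add_sub_cancel] at h1
    have h2 : (I.map (algebraMap R A)) ^ (m + k) • (⊤ : Submodule A M) ⊓ N ≤
        (I.map (algebraMap R A)) ^ m • N := by
      rw [h1]
      exact Submodule.smul_mono le_rfl inf_le_right
    have h3 := Submodule.restrictScalars_mono R h2
    rw [← Ideal.map_pow, ← Ideal.map_pow, Ideal.smul_restrictScalars] at h3
    refine le_trans ?_ h3
    intro x hx
    change x ∈ ((I ^ (m + k)).map (algebraMap R A) • (⊤ : Submodule A M) ⊓ N)
    refine ⟨?_, hx.2⟩
    have h4 := Ideal.smul_restrictScalars (S := A) (I ^ (m + k)) (⊤ : Submodule A M)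
    have h5 : x ∈ (((I ^ (m + k)).map (algebraMap R A) • (⊤ : Submodule A M)).restrictScalars R) := by
      rw [h4]
      exact hx.1
    exact h5
  · haveI hVR : ValuationRing R := { hV with }
    have hfg : (saturation t N).FG :=
      sat_fg_module R t ht A hA M _ (saturation_sat t N)
    obtain ⟨n₀, hn₀⟩ := exists_pow_smul_mem_of_fg t N hfg
    refine ⟨n₀, fun m => ?_⟩
    rintro x ⟨hx1, hx2⟩
    rw [Ideal.span_singleton_pow, Submodule.ideal_span_singleton_smul] at hx1 ⊢
    obtain ⟨y, -, rfl⟩ := (Submodule.mem_smul_pointwise_iff_exists _ _ _).mp hx1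
    have hy : y ∈ saturation t N := ⟨m + n₀, hx2⟩
    have h1 := hn₀ y hy
    rw [pow_add, mul_smul]
    exact Submodule.smul_mem_pointwise_smul _ _ _ h1

end S28

end Groth.Agent.Lib.Helper9.BoschV2
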