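import Mathlib
import Groth.Agent.Lib.Helper9.BoschV2
import Groth.Agent.Lib.Helper9.AdicLimit

set_option autoImplicit false
set_option linter.style.haveILetI false
set_option linter.unusedSectionVars false
set_option linter.unusedVariables false
universe u

namespace Groth.Agent.Lib.Helper9.BoschV3
open Groth.Agent.Lib.Helper9.RigPt Groth.Agent.Lib.Helper9.RigPt5 Groth.Agent.Lib.Helper9.RPowSat
  Groth.Agent.Lib.Helper9.RPowSatMod Groth.Agent.Lib.Helper9.BoschV Groth.Agent.Lib.Helper9.BoschV2
open IsLocalRing AdicRing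

section Abstract

variable {T : Type*} [CommRing T] (τ : T) {E : Type*} [AddCommGroup E] [Module T E]

theorem mem_sup_pow (K : Submodule T E) (n : ℕ) (x : E) :
    x ∈ K ⊔ (Ideal.span {τ}) ^ n • (⊤ : Submodule T E) ↔ ∃ k ∈ K, ∃ w : E, x = k + τ ^ n • w := by
  rw [Submodule.mem_sup, Ideal.span_singleton_pow, Submodule.ideal_span_singleton_smul]
  constructor
  · rintro ⟨k, hk, z, hz, rfl⟩
    obtain ⟨w, -, rfl⟩ := (Submodule.mem_smul_pointwise_iff_exists _ _ _).mp hz
    exact ⟨k, hk, w, rfl⟩
  · rintro ⟨k, hk, w, rfl⟩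
    exact ⟨k, hk, τ ^ n • w, Submodule.smul_mem_pointwise_smul _ _ _ Submodule.mem_top, rfl⟩

/-- Saturated submodules are closed, when saturated submodules are finitely generated. -/
theorem closure_le (hτ : τ ∈ Ideal.jacobson (⊥ : Ideal T))
    (hfg : ∀ K' : Submodule T E, (∀ x, τ • x ∈ K' → x ∈ K') → K'.FG)
    (K : Submodule T E) (hK : ∀ x, τ • x ∈ K → x ∈ K) :
    (⨅ n : ℕ, K ⊔ (Ideal.span {τ}) ^ n • (⊤ : Submodule T E)) ≤ K := by
  set Kb := (⨅ n : ℕ, K ⊔ (Ideal.span {τ}) ^ n • (⊤ : Submodule T E)) with hKb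
  have hsat : ∀ x, τ • x ∈ Kb → x ∈ Kb := by
    intro x hx
    rw [hKb, Submodule.mem_iInf] at hx ⊢
    intro n
    obtain ⟨k, hk, w, hw⟩ := (mem_sup_pow τ K (n + 1) _).mp (hx (n + 1))
    have h1 : k = τ • (x - τ ^ n • w) := by
      rw [smul_sub, hw, ← mul_smul, ← pow_succ']
      abel
    rw [h1] at hk
    have h2 := hK _ hk
    rw [mem_sup_pow]
    exact ⟨_, h2, w, by abel⟩
  have hle : K ≤ Kb := le_iInf fun n => le_sup_left
  have hfgKb := hfg Kb hsat
  have hNak : Kb ≤ K ⊔ Ideal.span {τ} • Kb := by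
    intro x hx
    have h1 := hx
    rw [hKb, Submodule.mem_iInf] at h1
    obtain ⟨k, hk, w, hw⟩ := (mem_sup_pow τ K 1 _).mp (h1 1)
    rw [pow_one] at hw
    have hw' : w ∈ Kb := by
      apply hsat
      have : τ • w = x - k := by rw [hw]; abel
      rw [this]
      exact Kb.sub_mem hx (hle hk)
    rw [hw]
    exact Submodule.add_mem_sup hk
      (Submodule.smul_mem_smul (Ideal.mem_span_singleton_self τ) hw')
  exact Submodule.le_of_le_smul_of_le_jacobson_bot hfgKb
    (Ideal.span_le.mpr (Set.singleton_subset_iff.mpr hτ)) hNak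

theorem isHausdorff_of_surjective (hτ : τ ∈ Ideal.jacobson (⊥ : Ideal T))
    (hfg : ∀ K' : Submodule T E, (∀ x, τ • x ∈ K' → x ∈ K') → K'.FG)
    {M' : Type*} [AddCommGroup M'] [Module T M'] (π : E →ₗ[T] M') (hπ : Function.Surjective π)
    (htf : ∀ x : M', τ • x = 0 → x = 0) : IsHausdorff (Ideal.span {τ}) M' := by
  refine ⟨fun x hx => ?_⟩
  obtain ⟨v, rfl⟩ := hπ x
  have hK : ∀ y, τ • y ∈ LinearMap.ker π → y ∈ LinearMap.ker π := by
    intro y hy
    rw [LinearMap.mem_ker, map_smul] at hy
    exact LinearMap.mem_ker.mpr (htf _ hy)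
  have hv : v ∈ (⨅ n : ℕ, LinearMap.ker π ⊔ (Ideal.span {τ}) ^ n • (⊤ : Submodule T E)) := by
    rw [Submodule.mem_iInf]
    intro n
    have h1 := hx n
    rw [SModEq.zero] at h1
    have h2 : (Ideal.span {τ} ^ n • ⊤ : Submodule T M') =
        Submodule.map π (Ideal.span {τ} ^ n • ⊤ : Submodule T E) := by
      rw [Submodule.map_smul'', Submodule.map_top, LinearMap.range_eq_top.2 hπ]
    rw [h2] at h1
    obtain ⟨w, hw, hwv⟩ := h1
    have h3 : v - w ∈ LinearMap.ker π := by
      rw [LinearMap.mem_ker, map_sub, hwv, sub_self]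
    have : v = (v - w) + w := by abel
    rw [this]
    exact Submodule.add_mem_sup h3 hw
  exact LinearMap.mem_ker.mp (closure_le τ hτ hfg _ hK hv)

end Abstract

section Concrete

variable (R : Type u) [CommRing R] [IsDomain R] [ValuationRing R] [Ring.KrullDimLE 1 R]
  (t : R) (ht : t ≠ 0) [IsAdicComplete (Ideal.span {t}) R]

include ht in
theorem isHausdorff_of_torsionFree (A : Type u) [CommRing A] [Algebra R A]
    (hA : AdicRing.TopFiniteType R (Ideal.span {t}) A)
    (M : Type u) [AddCommGroup M] [Module A M] [Module R M] [IsScalarTower R A M]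
    [Module.Finite A M] (htf : ∀ x : M, t • x = 0 → x = 0) :
    IsHausdorff (Ideal.span {t}) M := by
  obtain ⟨d, φ, hφ⟩ := hA
  set T := AdicRing.RPow R (Ideal.span {t}) d with hT
  letI : Algebra T A := φ.toRingHom.toAlgebra
  letI : Module T M := Module.compHom M (algebraMap T A)
  haveI : IsScalarTower T A M := IsScalarTower.of_algebraMap_smul fun _ _ => rfl
  haveI : Module.Finite T A := Module.Finite.of_surjective (Algebra.linearMap T A) hφ
  haveI : Module.Finite T M := Module.Finite.trans A M
  have hsm : ∀ (r : R) (x : M), algebraMap R T r • x = r • x := by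
    intro r x
    rw [← algebraMap_smul A (algebraMap R T r) x, ← algebraMap_smul A r x]
    congr 1
    exact φ.commutes r
  haveI : IsScalarTower R T M := IsScalarTower.of_algebraMap_smul hsm
  obtain ⟨s, π, hπ⟩ := Module.Finite.exists_fin' T M
  have h1 : IsHausdorff (Ideal.span {algebraMap R T t}) M :=
    isHausdorff_of_surjective (algebraMap R T t)
      (t_mem_jacobson t _ (rpow_J_eq R t d))
      (fun K' h => sat_fg_pi R t ht d s K' h) π hπ
      (fun x hx => htf x (by rw [← hsm]; exact hx))
  have h2 : (Ideal.span {t}).map (algebraMap R T) = Ideal.span {algebraMap R T t} := by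
    rw [Ideal.map_span (algebraMap R T) _, Set.image_singleton]
  rw [← h2] at h1
  exact IsHausdorff.map_algebraMap_iff.mp h1

include ht in
theorem isHausdorff_of_finite (A : Type u) [CommRing A] [Algebra R A]
    (hA : AdicRing.TopFiniteType R (Ideal.span {t}) A)
    (M : Type u) [AddCommGroup M] [Module A M] [Module R M] [IsScalarTower R A M]
    [Module.Finite A M] : IsHausdorff (Ideal.span {t}) M := by
  -- the torsion submodule
  set Mt : Submodule A M := saturation t (⊥ : Submodule A M) with hMt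
  have hfg : Mt.FG := sat_fg_module R t ht A hA M _ (saturation_sat t ⊥)
  obtain ⟨n₀, hn₀⟩ := exists_pow_smul_mem_of_fg t (⊥ : Submodule A M) hfg
  -- the quotient is torsion free hence Hausdorff
  have htf : ∀ x : M ⧸ Mt, t • x = 0 → x = 0 := by
    intro x hx
    obtain ⟨y, rfl⟩ := Submodule.Quotient.mk_surjective _ x
    rw [← Submodule.Quotient.mk_smul, Submodule.Quotient.mk_eq_zero] at hx
    rw [Submodule.Quotient.mk_eq_zero]
    apply saturation_sat t ⊥
    rw [algebraMap_smul]
    exact hx
  haveI hH : IsHausdorff (Ideal.span {t}) (M ⧸ Mt) :=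
    isHausdorff_of_torsionFree R t ht A hA (M ⧸ Mt) htf
  refine ⟨fun x hx => ?_⟩
  have hxt : x ∈ Mt := by
    rw [← Submodule.Quotient.mk_eq_zero]
    apply IsHausdorff.haus' (I := Ideal.span {t})
    intro n
    have h1 := hx n
    rw [SModEq.zero] at h1 ⊢
    have h2 : (Mt.mkQ.restrictScalars R) x ∈
        Submodule.map (Mt.mkQ.restrictScalars R) (Ideal.span {t} ^ n • ⊤ : Submodule R M) :=
      Submodule.mem_map_of_mem h1
    rw [Submodule.map_smul''] at h2
    exact Submodule.smul_mono le_rfl le_top h2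
  have h3 := hx n₀
  rw [SModEq.zero, Ideal.span_singleton_pow, Submodule.ideal_span_singleton_smul] at h3
  obtain ⟨y, -, rfl⟩ := (Submodule.mem_smul_pointwise_iff_exists _ _ _).mp h3
  obtain ⟨k, hk⟩ := hxt
  have hy : y ∈ Mt := ⟨k + n₀, by rw [pow_add, mul_smul]; exact hk⟩
  have := hn₀ y hy
  rwa [Submodule.mem_bot] at this

end Concrete

section Precomplete

theorem isPrecomplete_of_finite (R : Type u) [CommRing R] (I : Ideal R) (hI : I.FG)
    (A : Type u) [CommRing A] [Algebra R A] (hA : AdicRing.TopFiniteType R I A)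
    (M : Type u) [AddCommGroup M] [Module A M] [Module R M] [IsScalarTower R A M]
    [Module.Finite A M] : IsPrecomplete I M := by
  classical
  obtain ⟨d, φ, hφ⟩ := hA
  set P := MvPolynomial (Fin d) R with hP
  set J : Ideal P := I.map (MvPolynomial.C : R →+* P) with hJ
  set T := AdicRing.RPow R I d with hT
  have hJfg : J.FG := hI.map _
  have h1 : IsAdicComplete (J.map (algebraMap P T)) T := AdicCompletion.isAdicComplete_self J hJfg
  have h2 : J.map (algebraMap P T) = I.map (algebraMap R T) := by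
    rw [hJ, Ideal.map_map]
    rfl
  rw [h2] at h1
  haveI h3 : IsPrecomplete (I.map (algebraMap R T)) T := h1.toIsPrecomplete
  obtain ⟨s, π, hπ⟩ := Module.Finite.exists_fin' A M
  haveI h4 : IsPrecomplete (I.map (algebraMap R T)) (Fin s → T) :=
    Groth.Agent.Lib.Helper9.isPrecomplete_pi _
  haveI h5 : IsPrecomplete I (Fin s → T) := IsPrecomplete.map_algebraMap_iff.mp h4
  let f : (Fin s → T) →ₗ[R] M :=
    (π.restrictScalars R) ∘ₗ (LinearMap.pi fun i => (φ.toLinearMap ∘ₗ LinearMap.proj i))
  have hf : Function.Surjective f := by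
    intro m
    obtain ⟨v, rfl⟩ := hπ m
    choose w hw using fun i => hφ (v i)
    refine ⟨w, ?_⟩
    simp only [f, LinearMap.comp_apply, LinearMap.restrictScalars_apply]
    congr 1
    funext i
    simp [hw]
  exact Groth.Agent.Lib.Helper1.ArtFunLib.isPrecomplete_of_surjective I f hf

end Precomplete

section S29

theorem jacobson_of_topFiniteType (R : Type u) [CommRing R] (I : Ideal R) (hI : I.FG)
    (A : Type u) [CommRing A] [Algebra R A] (hA : AdicRing.TopFiniteType R I A) :
    I.map (algebraMap R A) ≤ Ideal.jacobson (⊥ : Ideal A) := by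
  obtain ⟨d, φ, hφ⟩ := hA
  set P := MvPolynomial (Fin d) R with hP
  set J : Ideal P := I.map (MvPolynomial.C : R →+* P) with hJ
  set T := AdicRing.RPow R I d with hT
  have hJfg : J.FG := hI.map _
  haveI h1 : IsAdicComplete (J.map (algebraMap P T)) T := AdicCompletion.isAdicComplete_self J hJfg
  have h2 : J.map (algebraMap P T) = I.map (algebraMap R T) := by
    rw [hJ, Ideal.map_map]
    rfl
  have h3 : I.map (algebraMap R T) ≤ Ideal.jacobson (⊥ : Ideal T) := by
    rw [← h2]; exact IsAdicComplete.le_jacobson_bot _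
  have h4 : I.map (algebraMap R A) = (I.map (algebraMap R T)).map φ.toRingHom := by
    rw [Ideal.map_map]
    congr 1
    ext r
    exact (φ.commutes r).symm
  rw [h4]
  rw [Ideal.map_le_iff_le_comap]
  intro x hx
  have h5 := h3 hx
  rw [Ideal.mem_comap]
  rw [Ideal.mem_jacobson_bot] at h5 ⊢
  intro y
  obtain ⟨y', rfl⟩ := hφ y
  have := (h5 y').map φ.toRingHom
  simpa using this

/-- S11529 -/
theorem isAdicComplete_of_finite (R : Type u) [CommRing R] (I : Ideal R)
    (hR : AdicRing.IsBase R I)
    (A : Type u) [CommRing A] [Algebra R A] (hA : AdicRing.TopFiniteType R I A)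
    (M : Type u) [AddCommGroup M] [Module A M] [Module R M] [IsScalarTower R A M]
    [Module.Finite A M] :
    IsAdicComplete I M := by
  obtain ⟨hc, h⟩ := hR
  rcases h with ⟨hN, -⟩ | ⟨hD, hV, hK, t, ht, rfl⟩
  · have hI : I.FG := IsNoetherian.noetherian I
    haveI := isNoetherianRing_of_topFiniteType R I A hA
    haveI hp := isPrecomplete_of_finite R I hI A hA M
    haveI hh : IsHausdorff I M := by
      have : IsHausdorff (I.map (algebraMap R A)) M :=
        IsHausdorff.of_le_jacobson _ _ (jacobson_of_topFiniteType R I hI A hA)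
      exact IsHausdorff.map_algebraMap_iff.mp this
    exact { hh, hp with }
  · haveI hVR : ValuationRing R := { hV with }
    have hI : (Ideal.span {t}).FG := ⟨{t}, by simp⟩
    haveI hp := isPrecomplete_of_finite R _ hI A hA M
    haveI hh := isHausdorff_of_finite R t ht A hA M
    exact { hh, hp with }

end S29

end Groth.Agent.Lib.Helper9.BoschV3
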