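import Mathlib
import Groth.Agent.Lib.Helper9.BoschV3

set_option autoImplicit false
set_option linter.style.haveILetI false
set_option linter.unusedSectionVars false
set_option linter.unusedVariables false
universe u

namespace Groth.Agent.Lib.Helper9.BoschV4
open Groth.Agent.Lib.Helper9.RigPt Groth.Agent.Lib.Helper9.RigPt5 Groth.Agent.Lib.Helper9.RPowSat
  Groth.Agent.Lib.Helper9.RPowSatMod Groth.Agent.Lib.Helper9.BoschV Groth.Agent.Lib.Helper9.BoschV2
open IsLocalRing AdicRing

section Coherent

variable (R : Type u) [CommRing R] [IsDomain R] [ValuationRing R] [Ring.KrullDimLE 1 R]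
  (t : R) (ht : t ≠ 0) [IsAdicComplete (Ideal.span {t}) R]

include ht in
theorem ker_linearCombination_fg (A : Type u) [CommRing A] [Algebra R A]
    (hA : AdicRing.TopFinitePresentation R (Ideal.span {t}) A) (r : ℕ) (x : Fin r → A) :
    (LinearMap.ker (Fintype.linearCombination A x)).FG := by
  classical
  obtain ⟨d, φ, hφ, hker⟩ := hA
  set T := AdicRing.RPow R (Ideal.span {t}) d with hT
  obtain ⟨m, a, ha⟩ := Submodule.fg_iff_exists_fin_generating_family.mp hker
  choose xt hxt using fun i => hφ (x i)
  let y : Fin (r + m) → T := Fin.addCases xt a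
  let Pl : (Fin (r + m) → T) →ₗ[T] T := Fintype.linearCombination T y
  have hKfg : (LinearMap.ker Pl).FG := by
    apply sat_fg_pi R t ht d (r + m)
    intro w hw
    rw [LinearMap.mem_ker, map_smul, smul_eq_mul] at hw
    exact LinearMap.mem_ker.mpr (t_smul_eq_zero R t ht d _ hw)
  have hak : ∀ j, φ (a j) = 0 := by
    intro j
    have : a j ∈ RingHom.ker φ.toRingHom := by
      rw [← ha]; exact Submodule.subset_span ⟨j, rfl⟩
    exact this
  letI : Algebra T A := φ.toRingHom.toAlgebra
  have halg : ∀ z : T, algebraMap T A z = φ z := fun z => rfl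
  let ρ : (Fin (r + m) → T) →ₗ[T] (Fin r → A) :=
    LinearMap.pi fun i => (Algebra.linearMap T A) ∘ₗ LinearMap.proj (Fin.castAdd m i)
  have hρ : ∀ w i, ρ w i = φ (w (Fin.castAdd m i)) := fun w i => rfl
  have hPl : ∀ w, Pl w = ∑ i, w (Fin.castAdd m i) * xt i + ∑ j, w (Fin.natAdd r j) * a j := by
    intro w
    simp only [Pl, Fintype.linearCombination_apply, Fin.sum_univ_add, y, Fin.addCases_left,
      Fin.addCases_right, smul_eq_mul]
  have hkerA : (LinearMap.ker (Fintype.linearCombination A x)).restrictScalars T =
      Submodule.map ρ (LinearMap.ker Pl) := by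
    ext v
    rw [Submodule.restrictScalars_mem, LinearMap.mem_ker, Fintype.linearCombination_apply]
    constructor
    · intro hv
      choose vt hvt using fun i => hφ (v i)
      have hz : ∑ i, vt i * xt i ∈ RingHom.ker φ.toRingHom := by
        rw [RingHom.mem_ker]
        change φ (∑ i, vt i * xt i) = 0
        rw [map_sum, ← hv]
        refine Finset.sum_congr rfl fun i _ => ?_
        rw [map_mul, hvt, hxt, smul_eq_mul]
      rw [← ha] at hz
      obtain ⟨u, hu⟩ := (Submodule.mem_span_range_iff_exists_fun T).mp hz
      refine ⟨Fin.addCases vt (fun j => - u j), ?_, ?_⟩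
      · rw [SetLike.mem_coe, LinearMap.mem_ker, hPl]
        simp only [Fin.addCases_left, Fin.addCases_right]
        rw [← hu]
        simp only [smul_eq_mul]
        rw [← Finset.sum_add_distrib]
        apply Finset.sum_eq_zero
        intro j _
        ring
      · funext i
        rw [hρ, Fin.addCases_left, hvt]
    · rintro ⟨w, hw, rfl⟩
      rw [SetLike.mem_coe, LinearMap.mem_ker, hPl] at hw
      have h1 : φ (∑ i, w (Fin.castAdd m i) * xt i + ∑ j, w (Fin.natAdd r j) * a j) = 0 := by
        rw [hw, map_zero]
      rw [map_add, map_sum, map_sum] at h1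
      have h2 : ∑ j, φ (w (Fin.natAdd r j) * a j) = 0 := by
        apply Finset.sum_eq_zero
        intro j _
        rw [map_mul, hak, mul_zero]
      rw [h2, add_zero] at h1
      rw [← h1]
      refine Finset.sum_congr rfl fun i _ => ?_
      rw [hρ, map_mul, hxt, smul_eq_mul]
  have h3 : ((LinearMap.ker (Fintype.linearCombination A x)).restrictScalars T).FG := by
    rw [hkerA]
    exact hKfg.map ρ
  exact Submodule.FG.of_restrictScalars T h3

include ht in
theorem coherent_V (A : Type u) [CommRing A] [Algebra R A]
    (hA : AdicRing.TopFinitePresentation R (Ideal.span {t}) A) (J : Ideal A) (hJ : J.FG) :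
    Module.FinitePresentation A J := by
  obtain ⟨r, x, hx⟩ := Submodule.fg_iff_exists_fin_generating_family.mp hJ
  have hrange : LinearMap.range (Fintype.linearCombination A x) = J := by
    rw [Fintype.range_linearCombination, hx]
  let π : (Fin r → A) →ₗ[A] J :=
    (Fintype.linearCombination A x).codRestrict J (fun v => by
      rw [← hrange]; exact LinearMap.mem_range_self _ v)
  have hsurj : Function.Surjective π := by
    rintro ⟨j, hj⟩
    rw [← hrange] at hj
    obtain ⟨v, rfl⟩ := hj
    exact ⟨v, rfl⟩
  have hkerπ : LinearMap.ker π = LinearMap.ker (Fintype.linearCombination A x) :=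
    LinearMap.ker_codRestrict _ _ _
  have hfg : (LinearMap.ker π).FG := by
    rw [hkerπ]
    exact ker_linearCombination_fg R t ht A hA r x
  exact Module.finitePresentation_of_surjective π hsurj hfg

end Coherent

section S26

/-- S11526 -/
theorem coherent (R : Type u) [CommRing R] (I : Ideal R) (hR : AdicRing.IsBase R I)
    (A : Type u) [CommRing A] [Algebra R A] (hA : AdicRing.TopFinitePresentation R I A)
    (J : Ideal A) (hJ : J.FG) :
    Module.FinitePresentation A J := by
  obtain ⟨hc, h⟩ := hR
  rcases h with ⟨hN, -⟩ | ⟨hD, hV, hK, t, ht, rfl⟩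
  · have hA' : AdicRing.TopFiniteType R I A := by
      obtain ⟨n, φ, hφ, -⟩ := hA
      exact ⟨n, φ, hφ⟩
    haveI := isNoetherianRing_of_topFiniteType R I A hA'
    haveI : Module.Finite A J := Module.Finite.iff_fg.mpr hJ
    exact Module.finitePresentation_of_finite A J
  · haveI hVR : ValuationRing R := { hV with }
    exact coherent_V R t ht A hA J hJ

end S26

end Groth.Agent.Lib.Helper9.BoschV4
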