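import Mathlib
import Groth.Agent.Lib.Helper9.BoschV4

set_option autoImplicit false
set_option linter.style.haveILetI false
set_option linter.unusedSectionVars false
set_option linter.unusedVariables false
universe u

namespace Groth.Agent.Lib.Helper9.BoschV5
open Groth.Agent.Lib.Helper9.RigPt Groth.Agent.Lib.Helper9.RigPt5 Groth.Agent.Lib.Helper9.RPowSat
  Groth.Agent.Lib.Helper9.RPowSatMod Groth.Agent.Lib.Helper9.BoschV Groth.Agent.Lib.Helper9.BoschV2
open IsLocalRing AdicRing

section Gen

variable (R : Type u) [CommRing R] (I : Ideal R) (hI : I.FG) (d : ℕ)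

set_option quotPrecheck false in
local notation "PP" => MvPolynomial (Fin d) R
set_option quotPrecheck false in
local notation "JJ" => I.map (MvPolynomial.C : R →+* MvPolynomial (Fin d) R)
set_option quotPrecheck false in
local notation "TT" => AdicRing.RPow R I d

theorem J_pow_map (k : ℕ) :
    (JJ ^ k).map (algebraMap PP TT) = (I ^ k).map (algebraMap R TT) := by
  rw [← Ideal.map_pow, Ideal.map_map]
  rfl

include hI in
theorem exists_level (k : ℕ) (x : TT) :
    ∃ p : PP, x - AdicCompletion.of JJ PP p ∈ (I ^ k).map (algebraMap R TT) := by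
  have hJfg : (JJ).FG := hI.map _
  obtain ⟨p, hp⟩ := Submodule.Quotient.mk_surjective _ (AdicCompletion.eval JJ PP k x)
  refine ⟨p, ?_⟩
  have h1 : x - AdicCompletion.of JJ PP p ∈ LinearMap.ker (AdicCompletion.eval JJ PP k) := by
    rw [LinearMap.mem_ker, map_sub, AdicCompletion.eval_of, ← hp, Submodule.mkQ_apply, sub_self]
  rw [← AdicCompletion.pow_smul_top_eq_ker_eval hJfg] at h1
  rw [← J_pow_map]
  refine Submodule.smul_induction_on h1 ?_ ?_
  · intro j hj y _
    rw [Algebra.smul_def]
    exact Ideal.mul_mem_right _ _ (Ideal.mem_map_of_mem _ hj)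
  · intro a b ha hb
    exact Ideal.add_mem _ ha hb

include hI in
theorem mem_pow_of_of_mem (k : ℕ) (p : PP)
    (hp : AdicCompletion.of JJ PP p ∈ (I ^ k).map (algebraMap R TT)) : p ∈ JJ ^ k := by
  have hJfg : (JJ).FG := hI.map _
  rw [← J_pow_map] at hp
  have h1 : AdicCompletion.of JJ PP p ∈ (JJ ^ k • ⊤ : Submodule PP TT) := by
    have h2 : ((JJ ^ k).map (algebraMap PP TT) : Set TT) ⊆ (JJ ^ k • ⊤ : Submodule PP TT) := by
      intro y hy
      have h3 := Ideal.smul_top_eq_map (R := PP) (S := TT) (JJ ^ k)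
      rw [h3]
      exact hy
    exact h2 hp
  rw [AdicCompletion.pow_smul_top_eq_ker_eval hJfg, LinearMap.mem_ker, AdicCompletion.eval_of,
    Submodule.mkQ_apply, Submodule.Quotient.mk_eq_zero, smul_eq_mul, Ideal.mul_top] at h1
  exact h1

include hI in
/-- Criterion for being topologically of finite type, general ideal. -/
theorem exists_surjective_gen (B : Type u) [CommRing B] [Algebra R B]
    [IsAdicComplete (I.map (algebraMap R B)) B] (b : Fin d → B)
    (hb : ∀ x : B, ∃ y ∈ Algebra.adjoin R (Set.range b), x - y ∈ I.map (algebraMap R B)) :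
    ∃ φ : TT →ₐ[R] B, Function.Surjective φ ∧
      ∀ q : PP, φ (AdicCompletion.of _ _ q) = MvPolynomial.aeval b q := by
  have hJfg : (JJ).FG := hI.map _
  let g : PP →ₐ[R] B := MvPolynomial.aeval b
  have hJI : (JJ).map g ≤ I.map (algebraMap R B) := by
    rw [Ideal.map_le_iff_le_comap, Ideal.map_le_iff_le_comap]
    intro r hr
    rw [Ideal.mem_comap, Ideal.mem_comap]
    have : g (MvPolynomial.C r) = algebraMap R B r := by simp [g]
    rw [this]
    exact Ideal.mem_map_of_mem _ hr
  let φ := Groth.Agent.Lib.Helper9.RigPt4.extend JJ (I.map (algebraMap R B)) g hJI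
  have hφ : ∀ q : PP, φ (AdicCompletion.of JJ PP q) = g q :=
    Groth.Agent.Lib.Helper9.RigPt4.extend_of JJ (I.map (algebraMap R B)) g hJI
  refine ⟨φ, ?_, hφ⟩
  haveI h1 : IsAdicComplete JJ TT := AdicCompletion.isAdicComplete hJfg
  haveI h2 : IsPrecomplete I TT := by
    have h3 : IsPrecomplete (I.map (algebraMap R PP)) TT := by
      change IsPrecomplete JJ TT
      infer_instance
    exact IsPrecomplete.map_algebraMap_iff.mp h3
  haveI h4 : IsHausdorff I B := by
    have h5 : IsHausdorff (I.map (algebraMap R B)) B := inferInstance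
    exact (IsHausdorff.map_algebraMap_iff (S := B)).mp h5
  apply Groth.Agent.Lib.Helper18.surjective_of_isPrecomplete_of_isHausdorff I φ.toLinearMap
  rw [eq_top_iff]
  intro x _
  obtain ⟨y, hy, hxy⟩ := hb x
  rw [Algebra.adjoin_range_eq_range_aeval] at hy
  obtain ⟨q, rfl⟩ := hy
  have hx : x = φ.toLinearMap (AdicCompletion.of JJ PP q) + (x - MvPolynomial.aeval b q) := by
    rw [AlgHom.toLinearMap_apply, hφ]
    change x = MvPolynomial.aeval b q + (x - MvPolynomial.aeval b q)
    ring
  rw [hx]
  refine Submodule.add_mem_sup (LinearMap.mem_range_self _ _) ?_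
  rw [Ideal.smul_top_eq_map]
  exact hxy

end Gen

section Trunc

variable (R : Type u) [CommRing R] (I : Ideal R) (hI : I.FG)
  (A : Type u) [CommRing A] [Algebra R A]

theorem map_mem (d : ℕ) (φ : AdicRing.RPow R I d →ₐ[R] A) (k : ℕ) (y : AdicRing.RPow R I d)
    (hy : y ∈ (I ^ k).map (algebraMap R (AdicRing.RPow R I d))) :
    φ y ∈ (I ^ k).map (algebraMap R A) := by
  have h1 : (I ^ k).map (algebraMap R (AdicRing.RPow R I d)) ≤
      ((I ^ k).map (algebraMap R A)).comap φ := by
    rw [Ideal.map_le_iff_le_comap]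
    intro r hr
    rw [Ideal.mem_comap, Ideal.mem_comap, φ.commutes]
    exact Ideal.mem_map_of_mem _ hr
  exact h1 hy

theorem exists_preimage (d : ℕ) (φ : AdicRing.RPow R I d →ₐ[R] A) (hφ : Function.Surjective φ)
    (k : ℕ) (z : A) (hz : z ∈ (I ^ k).map (algebraMap R A)) :
    ∃ y ∈ (I ^ k).map (algebraMap R (AdicRing.RPow R I d)), φ y = z := by
  have h1 : (I ^ k).map (algebraMap R A) =
      ((I ^ k).map (algebraMap R (AdicRing.RPow R I d))).map (φ : AdicRing.RPow R I d →+* A) := by
    rw [Ideal.map_map]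
    congr 1
    ext r
    exact (φ.commutes r).symm
  rw [h1] at hz
  obtain ⟨y, hy, hyz⟩ := (Ideal.mem_map_iff_of_surjective (φ : AdicRing.RPow R I d →+* A) hφ).mp hz
  exact ⟨y, hy, hyz⟩

/-- The truncation map from the polynomial ring. -/
noncomputable def psi (d : ℕ) (φ : AdicRing.RPow R I d →ₐ[R] A) (k : ℕ) :
    MvPolynomial (Fin d) R →ₐ[R] A ⧸ (I ^ k).map (algebraMap R A) :=
  (Ideal.Quotient.mkₐ R _).comp (φ.comp (Groth.Agent.Lib.Helper9.RigPt4.ofₐ' _))

theorem psi_apply (d : ℕ) (φ : AdicRing.RPow R I d →ₐ[R] A) (k : ℕ) (q : MvPolynomial (Fin d) R) :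
    psi R I A d φ k q = Ideal.Quotient.mk _ (φ (AdicCompletion.of _ _ q)) := rfl

theorem psi_eq_zero_iff (d : ℕ) (φ : AdicRing.RPow R I d →ₐ[R] A) (k : ℕ)
    (q : MvPolynomial (Fin d) R) :
    psi R I A d φ k q = 0 ↔ φ (AdicCompletion.of _ _ q) ∈ (I ^ k).map (algebraMap R A) := by
  rw [psi_apply, Ideal.Quotient.eq_zero_iff_mem]

include hI in
theorem psi_surjective (d : ℕ) (φ : AdicRing.RPow R I d →ₐ[R] A) (hφ : Function.Surjective φ)
    (k : ℕ) : Function.Surjective (psi R I A d φ k) := by
  intro z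
  obtain ⟨a, rfl⟩ := Ideal.Quotient.mk_surjective z
  obtain ⟨x, rfl⟩ := hφ a
  obtain ⟨q, hq⟩ := exists_level R I hI d k x
  refine ⟨q, ?_⟩
  rw [psi_apply, Ideal.Quotient.eq, ← map_sub, ← neg_sub, map_neg]
  exact Ideal.neg_mem_iff _ |>.mpr (map_mem R I A d φ k _ hq)

include hI in
/-- (=>) of S11530 -/
theorem fp_trunc (hA : AdicRing.TopFinitePresentation R I A) (k : ℕ) :
    Algebra.FinitePresentation R (A ⧸ (I ^ k).map (algebraMap R A)) := by
  classical
  obtain ⟨d, φ, hφ, hker⟩ := hA
  set T := AdicRing.RPow R I d with hT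
  set P := MvPolynomial (Fin d) R with hP
  set J : Ideal P := I.map (MvPolynomial.C : R →+* P) with hJ
  obtain ⟨m, a, ha⟩ := Submodule.fg_iff_exists_fin_generating_family.mp hker
  choose p hp using fun i => exists_level R I hI d k (a i)
  have hak : ∀ i, φ (a i) = 0 := by
    intro i
    have : a i ∈ RingHom.ker φ.toRingHom := by rw [← ha]; exact Submodule.subset_span ⟨i, rfl⟩
    exact this
  have hkerψ : RingHom.ker (psi R I A d φ k).toRingHom = J ^ k ⊔ Ideal.span (Set.range p) := by
    apply le_antisymm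
    · intro q hq
      rw [RingHom.mem_ker] at hq
      have hq' : φ (AdicCompletion.of J P q) ∈ (I ^ k).map (algebraMap R A) :=
        (psi_eq_zero_iff R I A d φ k q).mp hq
      obtain ⟨y, hy, hyq⟩ := exists_preimage R I A d φ hφ k _ hq'
      have h1 : AdicCompletion.of J P q - y ∈ RingHom.ker φ.toRingHom := by
        rw [RingHom.mem_ker]
        change φ (AdicCompletion.of J P q - y) = 0
        rw [map_sub, hyq, sub_self]
      rw [← ha] at h1
      obtain ⟨c, hc⟩ := (Submodule.mem_span_range_iff_exists_fun T).mp h1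
      choose c' hc' using fun i => exists_level R I hI d k (c i)
      have h2 : AdicCompletion.of J P (q - ∑ i, c' i * p i) ∈
          (I ^ k).map (algebraMap R T) := by
        have h3 : AdicCompletion.of J P (q - ∑ i, c' i * p i) =
            y + ∑ i, (c i * (a i - AdicCompletion.of J P (p i)) +
              (c i - AdicCompletion.of J P (c' i)) * AdicCompletion.of J P (p i)) := by
          rw [map_sub, map_sum]
          have h4 : AdicCompletion.of J P q = y + ∑ i, c i • a i := by rw [hc]; ring
          rw [h4]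
          simp only [smul_eq_mul, Finset.sum_add_distrib]
          have h5 : ∀ i, AdicCompletion.of J P (c' i * p i) =
              AdicCompletion.of J P (c' i) * AdicCompletion.of J P (p i) := fun i => of_mul' _ _ _
          simp only [h5, mul_sub, sub_mul, Finset.sum_sub_distrib]
          ring
        rw [h3]
        refine Ideal.add_mem _ hy (Ideal.sum_mem _ fun i _ => Ideal.add_mem _ ?_ ?_)
        · exact Ideal.mul_mem_left _ _ (hp i)
        · exact Ideal.mul_mem_right _ _ (hc' i)
      have h6 := mem_pow_of_of_mem R I hI d k _ h2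
      have : q = (q - ∑ i, c' i * p i) + ∑ i, c' i * p i := by ring
      rw [this]
      refine Submodule.add_mem_sup h6 (Ideal.sum_mem _ fun i _ => ?_)
      exact Ideal.mul_mem_left _ _ (Ideal.subset_span ⟨i, rfl⟩)
    · rw [sup_le_iff]
      constructor
      · intro j hj
        rw [RingHom.mem_ker]
        apply (psi_eq_zero_iff R I A d φ k j).mpr
        apply map_mem R I A d φ k
        rw [← J_pow_map]
        exact Ideal.mem_map_of_mem _ hj
      · rw [Ideal.span_le]
        rintro _ ⟨i, rfl⟩
        rw [SetLike.mem_coe, RingHom.mem_ker]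
        apply (psi_eq_zero_iff R I A d φ k (p i)).mpr
        have h1 : φ (AdicCompletion.of J P (p i)) = - φ (a i - AdicCompletion.of J P (p i)) := by
          rw [map_sub, hak]; ring
        rw [h1]
        exact Ideal.neg_mem_iff _ |>.mpr (map_mem R I A d φ k _ (hp i))
  have hfg : (RingHom.ker (psi R I A d φ k).toRingHom).FG := by
    rw [hkerψ]
    exact Submodule.FG.sup (Ideal.FG.pow (hI.map _)) (Submodule.fg_span (Set.finite_range p))
  exact Algebra.FinitePresentation.of_surjective (psi_surjective R I hI A d φ hφ k) hfg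

theorem fp_quotientMap (k : ℕ)
    (h : Algebra.FinitePresentation R (A ⧸ (I ^ k).map (algebraMap R A))) :
    (Ideal.quotientMap ((I ^ k).map (algebraMap R A)) (algebraMap R A)
      Ideal.le_comap_map).FinitePresentation := by
  apply RingHom.FinitePresentation.of_comp_finiteType (Ideal.Quotient.mk (I ^ k)) _
    (RingHom.FiniteType.of_surjective _ Ideal.Quotient.mk_surjective)
  rw [Ideal.quotientMap_comp_mk]
  have : (Ideal.Quotient.mk ((I ^ k).map (algebraMap R A))).comp (algebraMap R A) =
      algebraMap R (A ⧸ (I ^ k).map (algebraMap R A)) := rfl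
  rw [this, RingHom.finitePresentation_algebraMap]
  exact h

include hI in
theorem fp_of_quotientMap (k : ℕ)
    (h : (Ideal.quotientMap ((I ^ k).map (algebraMap R A)) (algebraMap R A)
      Ideal.le_comap_map).FinitePresentation) :
    Algebra.FinitePresentation R (A ⧸ (I ^ k).map (algebraMap R A)) := by
  have h1 : (Ideal.Quotient.mk (I ^ k)).FinitePresentation :=
    RingHom.FinitePresentation.of_surjective _ Ideal.Quotient.mk_surjective
      (by rw [Ideal.mk_ker]; exact Ideal.FG.pow hI)
  have h2 := h.comp h1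
  rw [Ideal.quotientMap_comp_mk] at h2
  have : (Ideal.Quotient.mk ((I ^ k).map (algebraMap R A))).comp (algebraMap R A) =
      algebraMap R (A ⧸ (I ^ k).map (algebraMap R A)) := rfl
  rw [this, RingHom.finitePresentation_algebraMap] at h2
  exact h2

include hI in
theorem tft_of_trunc [IsAdicComplete (I.map (algebraMap R A)) A]
    (h : Algebra.FiniteType R (A ⧸ (I ^ (0 + 1)).map (algebraMap R A))) :
    AdicRing.TopFiniteType R I A := by
  obtain ⟨d, f, hf⟩ := Algebra.FiniteType.iff_quotient_mvPolynomial''.mp h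
  choose b hb using fun i => Ideal.Quotient.mk_surjective (f (MvPolynomial.X i))
  have hfb : f = MvPolynomial.aeval (fun i => Ideal.Quotient.mkₐ R _ (b i)) := by
    rw [MvPolynomial.aeval_unique f]
    congr 1
    funext i
    exact (hb i).symm
  obtain ⟨φ, hφ, -⟩ := exists_surjective_gen R I hI d A b (by
    intro x
    obtain ⟨q, hq⟩ := hf (Ideal.Quotient.mk _ x)
    refine ⟨MvPolynomial.aeval b q, ?_, ?_⟩
    · rw [Algebra.adjoin_range_eq_range_aeval]
      exact ⟨q, rfl⟩
    · rw [hfb, ← MvPolynomial.comp_aeval] at hq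
      have h1 : Ideal.Quotient.mk ((I ^ (0 + 1)).map (algebraMap R A)) (MvPolynomial.aeval b q) =
          Ideal.Quotient.mk _ x := hq
      rw [eq_comm, Ideal.Quotient.eq] at h1
      simpa using h1)
  exact ⟨d, φ, hφ⟩

end Trunc

section StepV

variable (R : Type u) [CommRing R] [IsDomain R] [ValuationRing R] [Ring.KrullDimLE 1 R]
  (t : R) (ht : t ≠ 0) [IsAdicComplete (Ideal.span {t}) R]
  (A : Type u) [CommRing A] [Algebra R A]

include ht in
theorem tfp_of_trunc_V (hA : AdicRing.TopFiniteType R (Ideal.span {t}) A)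
    (h : ∀ n : ℕ, Algebra.FinitePresentation R
      (A ⧸ ((Ideal.span {t}) ^ (n + 1)).map (algebraMap R A))) :
    AdicRing.TopFinitePresentation R (Ideal.span {t}) A := by
  classical
  have hI : (Ideal.span {t}).FG := ⟨{t}, by simp⟩
  obtain ⟨d, φ, hφ⟩ := hA
  refine ⟨d, φ, hφ, ?_⟩
  set T := AdicRing.RPow R (Ideal.span {t}) d with hT
  set P := MvPolynomial (Fin d) R with hP
  set J : Ideal P := (Ideal.span {t}).map (MvPolynomial.C : R →+* P) with hJ
  set 𝔞 : Ideal T := RingHom.ker φ.toRingHom with h𝔞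
  set 𝔟 : Ideal T := saturation t 𝔞 with h𝔟
  have hfg𝔟 : 𝔟.FG := by
    apply RPowSat.sat_fg R t ht d 𝔟
    intro x hx
    apply saturation_sat t 𝔞 x
    rw [smul_eq_mul]
    exact hx
  obtain ⟨n₀, hn₀⟩ := exists_pow_smul_mem_of_fg t 𝔞 hfg𝔟
  set k := n₀ + 1 with hk
  have hn₀' : ∀ x ∈ 𝔟, algebraMap R T (t ^ k) * x ∈ 𝔞 := by
    intro x hx
    have h1 := hn₀ x hx
    rw [hk, pow_succ, map_mul, mul_comm (algebraMap R T (t ^ n₀)), mul_assoc]
    refine Ideal.mul_mem_left _ _ ?_
    rw [← Algebra.smul_def]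
    exact h1
  haveI := h n₀
  have hψs := psi_surjective R (Ideal.span {t}) hI A d φ hφ k
  have hkψ : (RingHom.ker (psi R (Ideal.span {t}) A d φ k).toRingHom).FG :=
    Algebra.FinitePresentation.ker_fG_of_surjective _ hψs
  obtain ⟨s, p, hp⟩ := Submodule.fg_iff_exists_fin_generating_family.mp hkψ
  have hpk : ∀ i, φ (AdicCompletion.of J P (p i)) ∈
      ((Ideal.span {t}) ^ k).map (algebraMap R A) := by
    intro i
    apply (psi_eq_zero_iff R _ A d φ k (p i)).mp
    have : p i ∈ RingHom.ker (psi R (Ideal.span {t}) A d φ k).toRingHom := by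
      rw [← hp]; exact Submodule.subset_span ⟨i, rfl⟩
    exact this
  choose y hy hyp using fun i => exists_preimage R _ A d φ hφ k _ (hpk i)
  let c : Fin s → T := fun i => AdicCompletion.of J P (p i) - y i
  have hc : ∀ i, c i ∈ 𝔞 := by
    intro i
    rw [h𝔞, RingHom.mem_ker]
    change φ (AdicCompletion.of J P (p i) - y i) = 0
    rw [map_sub, hyp, sub_self]
  have hIk : ((Ideal.span {t}) ^ k).map (algebraMap R T) = Ideal.span {algebraMap R T (t ^ k)} := by
    rw [Ideal.span_singleton_pow, Ideal.map_span (algebraMap R T) _, Set.image_singleton]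
  have heq : 𝔞 = Ideal.span (Set.range c) ⊔ Ideal.span {algebraMap R T (t ^ k)} * 𝔟 := by
    apply le_antisymm
    · intro x hx
      obtain ⟨q, hq⟩ := exists_level R (Ideal.span {t}) hI d k x
      have hqk : q ∈ RingHom.ker (psi R (Ideal.span {t}) A d φ k).toRingHom := by
        rw [RingHom.mem_ker]
        apply (psi_eq_zero_iff R _ A d φ k q).mpr
        have hx0 : φ x = 0 := hx
        have h1 : φ (AdicCompletion.of J P q) = - φ (x - AdicCompletion.of J P q) := by
          rw [map_sub, hx0]; ring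
        rw [h1]
        exact Ideal.neg_mem_iff _ |>.mpr (map_mem R _ A d φ k _ hq)
      rw [← hp] at hqk
      obtain ⟨g, hg⟩ := (Submodule.mem_span_range_iff_exists_fun P).mp hqk
      -- x = Σ of(g i) c i + w with w ∈ (t^k)
      set w := x - ∑ i, AdicCompletion.of J P (g i) * c i with hw
      have hw𝔞 : w ∈ 𝔞 := 𝔞.sub_mem hx (Ideal.sum_mem _ fun i _ => Ideal.mul_mem_left _ _ (hc i))
      have hwk : w ∈ ((Ideal.span {t}) ^ k).map (algebraMap R T) := by
        have h2 : w = (x - AdicCompletion.of J P q) + ∑ i, AdicCompletion.of J P (g i) * y i := by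
          rw [hw, ← hg, map_sum]
          simp only [c, mul_sub, Finset.sum_sub_distrib, smul_eq_mul]
          have h5 : ∀ i, AdicCompletion.of J P (g i * p i) =
              AdicCompletion.of J P (g i) * AdicCompletion.of J P (p i) := fun i => of_mul' _ _ _
          simp only [h5]
          ring
        rw [h2]
        exact Ideal.add_mem _ hq (Ideal.sum_mem _ fun i _ => Ideal.mul_mem_left _ _ (hy i))
      rw [hIk] at hwk
      obtain ⟨w', hw'⟩ := Ideal.mem_span_singleton'.mp hwk
      have hw'𝔟 : w' ∈ 𝔟 := by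
        refine ⟨k, ?_⟩
        rw [Algebra.smul_def, mul_comm, hw']
        exact hw𝔞
      have : x = ∑ i, AdicCompletion.of J P (g i) * c i + w := by rw [hw]; ring
      rw [this]
      refine Submodule.add_mem_sup (Ideal.sum_mem _ fun i _ =>
        Ideal.mul_mem_left _ _ (Ideal.subset_span ⟨i, rfl⟩)) ?_
      rw [← hw']
      rw [mul_comm w']
      exact Ideal.mul_mem_mul (Ideal.mem_span_singleton_self _) hw'𝔟
    · rw [sup_le_iff]
      constructor
      · rw [Ideal.span_le]
        rintro _ ⟨i, rfl⟩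
        exact hc i
      · rw [Ideal.mul_le]
        intro r hr x hx
        obtain ⟨r', rfl⟩ := Ideal.mem_span_singleton'.mp hr
        rw [mul_assoc]
        exact Ideal.mul_mem_left _ _ (hn₀' x hx)
  rw [heq]
  exact Submodule.FG.sup (Submodule.fg_span (Set.finite_range c))
    (Ideal.FG.mul (Submodule.fg_span (Set.finite_singleton _)) hfg𝔟)

end StepV

section S30

/-- S11530 -/
theorem tfp_iff_trunc (R : Type u) [CommRing R] (I : Ideal R) (hR : AdicRing.IsBase R I)
    (A : Type u) [CommRing A] [Algebra R A] [IsAdicComplete (I.map (algebraMap R A)) A] :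
    AdicRing.TopFinitePresentation R I A ↔
      ∀ n : ℕ, (Ideal.quotientMap ((I ^ (n + 1)).map (algebraMap R A)) (algebraMap R A)
        Ideal.le_comap_map).FinitePresentation := by
  obtain ⟨hc, h⟩ := hR
  have hI : I.FG := by
    rcases h with ⟨hN, -⟩ | ⟨hD, hV, hK, t, ht, rfl⟩
    · exact IsNoetherian.noetherian I
    · exact ⟨{t}, by simp⟩
  constructor
  · intro hA n
    exact fp_quotientMap R I A (n + 1) (fp_trunc R I hI A hA (n + 1))
  · intro hq
    have hfp : ∀ n : ℕ, Algebra.FinitePresentation R (A ⧸ (I ^ (n + 1)).map (algebraMap R A)) :=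
      fun n => fp_of_quotientMap R I hI A (n + 1) (hq n)
    have hft : AdicRing.TopFiniteType R I A := by
      apply tft_of_trunc R I hI A
      haveI := hfp 0
      infer_instance
    rcases h with ⟨hN, -⟩ | ⟨hD, hV, hK, t, ht, rfl⟩
    · obtain ⟨d, φ, hφ⟩ := hft
      haveI := isNoetherianRing_rpow R I d
      exact ⟨d, φ, hφ, IsNoetherian.noetherian _⟩
    · haveI hVR : ValuationRing R := { hV with }
      exact tfp_of_trunc_V R t ht A hft hfp

end S30

end Groth.Agent.Lib.Helper9.BoschV5
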