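import Mathlib
import Groth.Agent.Lib.Helper9.BoschV5
import Groth.Agent.Lib.Helper9.FlatCrit2

set_option autoImplicit false
set_option linter.style.haveILetI false
set_option linter.unusedSectionVars false
set_option linter.unusedVariables false
universe u v

namespace Groth.Agent.Lib.Helper9.BoschV6
open Groth.Agent.Lib.Helper9
open TensorProduct Function AdicRing

section Crit

variable {R : Type u} [CommRing R] {M : Type v} [AddCommGroup M] [Module R M]

/-- Local criterion of flatness with Artin–Rees and separatedness as hypotheses. -/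
theorem flat_of_injOnTorsion_pow_gen (I : Ideal R)
    (hAR : ∀ J : Ideal R, J.FG → ∃ k : ℕ, ∀ n : ℕ,
      I ^ (n + k) • (⊤ : Submodule R R) ⊓ J ≤ I ^ n • (J : Submodule R R))
    (hsep : ∀ J : Ideal R, J.FG → IsHausdorff I (M ⊗[R] J))
    (hI : ∀ n : ℕ, 0 < n → InjOnTorsion R (I ^ n) M) :
    Module.Flat R M := by
  rw [Module.Flat.iff_lTensor_injective]
  intro J hJ
  rw [injective_iff_map_eq_zero]
  intro x hx
  obtain ⟨k, hk⟩ := hAR J hJ
  have key : ∀ n : ℕ, x ∈ (I ^ n) • (⊤ : Submodule R (M ⊗[R] J)) := by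
    intro n
    set N := n + k + 1 with hN
    let JN : Submodule R J := Submodule.comap J.subtype (I ^ N)
    let j : (J ⧸ JN) →ₗ[R] (R ⧸ I ^ N) := JN.mapQ (I ^ N) J.subtype le_rfl
    have hj : Injective j := by
      rw [← LinearMap.ker_eq_bot, Submodule.ker_mapQ]
      exact Submodule.mkQ_map_self JN
    have hRN : Module.IsTorsionBySet R (R ⧸ I ^ N) ((I ^ N : Ideal R) : Set R) := by
      rintro y ⟨a, ha⟩
      obtain ⟨r, rfl⟩ := Ideal.Quotient.mk_surjective y
      change Ideal.Quotient.mk (I ^ N) (a • r) = 0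
      rw [Ideal.Quotient.eq_zero_iff_mem]
      exact Ideal.mul_mem_right _ _ ha
    have hJN : Module.IsTorsionBySet R (J ⧸ JN) ((I ^ N : Ideal R) : Set R) := by
      rw [Module.isTorsionBySet_quotient_iff]
      intro y r hr
      change ((r • y : J) : R) ∈ I ^ N
      exact Ideal.mul_mem_right _ _ hr
    have hjM' : Injective (j.lTensor M) := hI N (Nat.succ_pos _) _ _ hJN hRN j hj
    have hsq : j ∘ₗ JN.mkQ = (I ^ N).mkQ ∘ₗ J.subtype := rfl
    have h1 : JN.mkQ.lTensor M x = 0 := by
      apply hjM'
      rw [← LinearMap.lTensor_comp_apply, hsq, LinearMap.lTensor_comp_apply, hx, map_zero, map_zero]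
    have h2 : ∀ y : M ⊗[R] JN, JN.subtype.lTensor M y ∈ (I ^ n) • (⊤ : Submodule R (M ⊗[R] J)) := by
      intro y
      induction y using TensorProduct.induction_on with
      | zero => simp
      | add y z hy hz =>
        rw [map_add]
        exact Submodule.add_mem _ hy hz
      | tmul m b => ?_
      rw [LinearMap.lTensor_tmul]
      apply tmul_mem_smul_top
      rw [Submodule.mem_smul_top_iff]
      have hb : ((b : J) : R) ∈ I ^ (n + k) • (⊤ : Submodule R R) ⊓ J := by
        refine ⟨?_, (b : J).2⟩
        have hb' : ((b : J) : R) ∈ I ^ N := b.2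
        have h3 : I ^ N ≤ I ^ (n + k) := Ideal.pow_le_pow_right (by omega)
        rw [smul_eq_mul, Ideal.mul_top]
        exact h3 hb'
      exact hk n hb
    obtain ⟨y, rfl⟩ := (lTensor_exact M (LinearMap.exact_subtype_mkQ JN) JN.mkQ_surjective _).mp h1
    exact h2 y
  refine (hsep J hJ).haus' _ fun n => ?_
  rw [SModEq.zero]
  exact key n

end Crit

section S31

variable (R : Type u) [CommRing R] (I : Ideal R) (hR : AdicRing.IsBase R I)
    (A : Type u) [CommRing A] [Algebra R A] (hA : AdicRing.TopFiniteType R I A)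
    (B : Type u) [CommRing B] [Algebra R B] [Algebra A B] [IsScalarTower R A B]
    (hB : AdicRing.TopFiniteType R I B)
    (M : Type u) [AddCommGroup M] [Module B M] [Module A M] [IsScalarTower A B M]
    [Module.Finite B M]

include hR hA in
theorem artin_rees_ideal (J : Ideal A) :
    ∃ k : ℕ, ∀ n : ℕ, (I.map (algebraMap R A)) ^ (n + k) • (⊤ : Submodule A A) ⊓ J ≤
      (I.map (algebraMap R A)) ^ n • (J : Submodule A A) := by
  obtain ⟨k, hk⟩ := BoschV2.artin_rees R I hR A hA A J
  refine ⟨k, fun n => ?_⟩
  intro x hx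
  have h1 : x ∈ (I ^ (n + k) • (⊤ : Submodule R A)) ⊓ (J : Submodule A A).restrictScalars R := by
    refine ⟨?_, hx.2⟩
    have h2 := Ideal.smul_restrictScalars (S := A) (I ^ (n + k)) (⊤ : Submodule A A)
    have h3 : x ∈ (((I ^ (n + k)).map (algebraMap R A) • (⊤ : Submodule A A)).restrictScalars R) := by
      rw [Ideal.map_pow]
      exact hx.1
    rw [h2] at h3
    exact h3
  have h4 := hk n h1
  have h5 := Ideal.smul_restrictScalars (S := A) (I ^ n) (J : Submodule A A)
  rw [← h5, Ideal.map_pow] at h4
  exact h4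

include hR hB in
theorem isHausdorff_tensor (J : Ideal A) (hJ : J.FG) :
    IsHausdorff (I.map (algebraMap R A)) (M ⊗[A] J) := by
  haveI : Module.Finite A J := Module.Finite.iff_fg.mpr hJ
  haveI : Module.Finite B (M ⊗[A] J) := finite_tensorProduct_of_finite J
  letI : Module R (M ⊗[A] J) := Module.compHom (M ⊗[A] J) (algebraMap R B)
  haveI : IsScalarTower R B (M ⊗[A] J) := IsScalarTower.of_algebraMap_smul fun _ _ => rfl
  haveI : IsScalarTower R A (M ⊗[A] J) := by
    apply IsScalarTower.of_algebraMap_smul
    intro r x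
    change algebraMap R A r • x = algebraMap R B r • x
    rw [IsScalarTower.algebraMap_apply R A B, algebraMap_smul B (algebraMap R A r) x]
  have h1 : IsAdicComplete I (M ⊗[A] J) :=
    BoschV3.isAdicComplete_of_finite R I hR B hB (M ⊗[A] J)
  exact (IsHausdorff.map_algebraMap_iff (S := A)).mpr h1.toIsHausdorff

include hR hA hB in
/-- S11531 -/
theorem flat_iff_trunc :
    Module.Flat A M ↔
      ∀ n : ℕ, Module.Flat (AdicRing.trunc A I n) ((AdicRing.trunc A I n) ⊗[A] M) := by
  constructor
  · intro h n
    infer_instance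
  · intro h
    apply flat_of_injOnTorsion_pow_gen (I.map (algebraMap R A))
    · intro J _
      exact artin_rees_ideal R I hR A hA J
    · intro J hJ
      exact isHausdorff_tensor R I hR A B hB M J hJ
    · intro n hn
      obtain ⟨m, rfl⟩ := Nat.exists_eq_succ_of_ne_zero hn.ne'
      haveI := h m
      have h1 : InjOnTorsion A ((I ^ (m + 1)).map (algebraMap R A)) M := injOnTorsion_of_flat
      exact injOnTorsion_congr (Ideal.map_pow _ _ _) h1

end S31

section S32

variable (R : Type u) [CommRing R] (I : Ideal R) (hR : AdicRing.IsBase R I)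
    (A : Type u) [CommRing A] [Algebra R A] (hA : AdicRing.TopFiniteType R I A)
    (B : Type u) [CommRing B] [Algebra R B] [Algebra A B] [IsScalarTower R A B]
    (hB : AdicRing.TopFiniteType R I B)
    (M : Type u) [AddCommGroup M] [Module B M] [Module A M] [IsScalarTower A B M]
    [Module.Finite B M]

include hR in
theorem isBase_fg : I.FG := by
  obtain ⟨hc, h⟩ := hR
  rcases h with ⟨hN, -⟩ | ⟨hD, hV, hK, t, ht, rfl⟩
  · exact IsNoetherian.noetherian I
  · exact ⟨{t}, by simp⟩

include hR hA hB in
/-- S11532 -/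
theorem faithfullyFlat_iff_trunc :
    Module.FaithfullyFlat A M ↔
      ∀ n : ℕ, Module.FaithfullyFlat (AdicRing.trunc A I n) ((AdicRing.trunc A I n) ⊗[A] M) := by
  constructor
  · intro h n
    infer_instance
  · intro h
    have hflat : Module.Flat A M :=
      (flat_iff_trunc R I hR A hA B hB M).mpr fun n => (h n).toFlat
    refine ⟨fun 𝔪 h𝔪 htop => ?_⟩
    have hI : I.FG := isBase_fg R I hR
    have hjac := BoschV3.jacobson_of_topFiniteType R I hI A hA
    set K : Ideal A := (I ^ (0 + 1)).map (algebraMap R A) with hK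
    have hK𝔪 : K ≤ 𝔪 := by
      have h1 : K = I.map (algebraMap R A) := by rw [hK, zero_add, pow_one]
      rw [h1]
      refine hjac.trans ?_
      exact sInf_le ⟨bot_le, h𝔪⟩
    have h𝔪₀ : 𝔪.map (Ideal.Quotient.mk K) ≠ ⊤ := by
      intro h1
      have h2 := congrArg (Ideal.comap (Ideal.Quotient.mk K)) h1
      rw [Ideal.comap_map_of_surjective _ Ideal.Quotient.mk_surjective, Ideal.comap_top,
        ← RingHom.ker_eq_comap_bot, Ideal.mk_ker, sup_eq_left.mpr hK𝔪] at h2
      exact h𝔪.ne_top h2
    have h3 := ((Module.FaithfullyFlat.iff_flat_and_proper_ideal _ _).mp (h 0)).2 _ h𝔪₀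
    apply h3
    rw [eq_top_iff]
    intro z hz
    clear hz
    induction z using TensorProduct.induction_on with
    | zero => exact Submodule.zero_mem _
    | add x y hx hy => exact Submodule.add_mem _ hx hy
    | tmul a m =>
      have hm : m ∈ 𝔪 • (⊤ : Submodule A M) := by rw [htop]; trivial
      induction hm using Submodule.smul_induction_on' with
      | smul r hr m' _ =>
        have h4 : a ⊗ₜ[A] (r • m') = (Ideal.Quotient.mk K r) • (a ⊗ₜ[A] m') := by
          rw [TensorProduct.smul_tmul', ← TensorProduct.smul_tmul]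
          congr 1
        rw [h4]
        exact Submodule.smul_mem_smul (Ideal.mem_map_of_mem _ hr) Submodule.mem_top
      | add x hx y hy ihx ihy =>
        rw [TensorProduct.tmul_add]
        exact Submodule.add_mem _ ihx ihy

end S32

end Groth.Agent.Lib.Helper9.BoschV6
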