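import Mathlib
import Groth.Agent.Lib.Helper9.BoschV6

set_option autoImplicit false
set_option linter.style.haveILetI false
set_option linter.unusedSectionVars false
set_option linter.unusedVariables false
universe u v

namespace Groth.Agent.Lib.Helper9.BoschV7
open Groth.Agent.Lib.Helper9 Groth.Agent.Lib.Helper9.BoschV5
open TensorProduct Function AdicRing

section Tower

variable {R : Type u} [CommRing R] {A : Type u} [CommRing A] [Algebra R A]
  {C : Type u} [CommRing C] [Algebra R C] [Algebra A C] [IsScalarTower R A C] (𝔍 : Ideal C)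

instance : IsScalarTower R C (AdicCompletion 𝔍 C) :=
  IsScalarTower.of_algebraMap_eq fun _ => rfl

instance towerRAC : IsScalarTower R A (AdicCompletion 𝔍 C) :=
  IsScalarTower.of_algebraMap_eq fun r => by
    change AdicCompletion.of 𝔍 C (algebraMap R C r) =
      AdicCompletion.of 𝔍 C (algebraMap A C (algebraMap R A r))
    rw [← IsScalarTower.algebraMap_apply R A C]

end Tower

section TFTcpl

variable (R : Type u) [CommRing R] (I : Ideal R) (hI : I.FG)
  (A : Type u) [CommRing A] [Algebra R A] (hA : AdicRing.TopFiniteType R I A)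
  (C : Type u) [CommRing C] [Algebra R C] [Algebra A C] [IsScalarTower R A C]
  [Algebra.FiniteType A C]

include hI in
theorem isAdicComplete_cplC :
    IsAdicComplete (I.map (algebraMap R (AdicCompletion (I.map (algebraMap R C)) C)))
      (AdicCompletion (I.map (algebraMap R C)) C) := by
  have h1 := AdicCompletion.isAdicComplete_self (I.map (algebraMap R C)) (hI.map _)
  have h2 : (I.map (algebraMap R C)).map (algebraMap C (AdicCompletion (I.map (algebraMap R C)) C)) =
      I.map (algebraMap R (AdicCompletion (I.map (algebraMap R C)) C)) := by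
    rw [Ideal.map_map]
    rfl
  rwa [h2] at h1

include hI in
theorem exists_sub_mem_cplC (k : ℕ) (x : AdicCompletion (I.map (algebraMap R C)) C) :
    ∃ c : C, x - AdicCompletion.of _ _ c ∈
      (I ^ k).map (algebraMap R (AdicCompletion (I.map (algebraMap R C)) C)) := by
  have h𝔍fg : (I.map (algebraMap R C)).FG := hI.map _
  have key : ∀ z ∈ ((I.map (algebraMap R C)) ^ k • ⊤ :
      Submodule C (AdicCompletion (I.map (algebraMap R C)) C)),
      z ∈ (I ^ k).map (algebraMap R (AdicCompletion (I.map (algebraMap R C)) C)) := by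
    intro z hz
    refine Submodule.smul_induction_on hz ?_ ?_
    · intro j hj y _
      rw [Algebra.smul_def]
      refine Ideal.mul_mem_right _ _ ?_
      have h2 : (I ^ k).map (algebraMap R (AdicCompletion (I.map (algebraMap R C)) C)) =
          ((I.map (algebraMap R C)) ^ k).map
            (algebraMap C (AdicCompletion (I.map (algebraMap R C)) C)) := by
        rw [← Ideal.map_pow, Ideal.map_map]
        rfl
      rw [h2]
      exact Ideal.mem_map_of_mem _ hj
    · intro a b ha hb
      exact Ideal.add_mem _ ha hb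
  obtain ⟨c, hc⟩ := Submodule.Quotient.mk_surjective _
    (AdicCompletion.eval (I.map (algebraMap R C)) C k x)
  refine ⟨c, key _ ?_⟩
  rw [AdicCompletion.pow_smul_top_eq_ker_eval h𝔍fg]
  rw [LinearMap.mem_ker, map_sub, AdicCompletion.eval_of, ← hc, Submodule.mkQ_apply, sub_self]

include hI hA in
/-- The completion of a finite type algebra over an algebra topologically of finite type is
topologically of finite type. -/
theorem tft_completion :
    AdicRing.TopFiniteType R I (AdicCompletion (I.map (algebraMap R C)) C) := by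
  set 𝔍 := I.map (algebraMap R C) with h𝔍
  set Ch := AdicCompletion 𝔍 C with hCh
  haveI := isAdicComplete_cplC R I hI C
  apply tft_of_trunc R I hI Ch
  set Q := Ch ⧸ (I ^ (0 + 1)).map (algebraMap R Ch) with hQ
  set K : Ideal A := (I ^ 1).map (algebraMap R A) with hK
  haveI hAK : Algebra.FiniteType R (A ⧸ K) := by
    obtain ⟨d, φ, hφ⟩ := hA
    exact Algebra.FiniteType.of_surjective (psi R I A d φ 1) (psi_surjective R I hI A d φ hφ 1)
  haveI h1 : Algebra.FiniteType (A ⧸ K) ((A ⧸ K) ⊗[A] C) := inferInstance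
  haveI h2 : Algebra.FiniteType R ((A ⧸ K) ⊗[A] C) := Algebra.FiniteType.trans hAK h1
  have hkill : ∀ a ∈ K, algebraMap A Q a = 0 := by
    intro a ha
    have h3 : algebraMap A Q a = Ideal.Quotient.mk _ (algebraMap A Ch a) := rfl
    rw [h3, Ideal.Quotient.eq_zero_iff_mem]
    have h4 : K.map (algebraMap A Ch) ≤ (I ^ (0 + 1)).map (algebraMap R Ch) := by
      rw [hK, Ideal.map_map, ← IsScalarTower.algebraMap_eq R A Ch, zero_add]
    exact h4 (Ideal.mem_map_of_mem _ ha)
  let f₁ : A ⧸ K →ₐ[A] Q := Ideal.Quotient.liftₐ K (Algebra.ofId A Q) hkill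
  let f₂ : C →ₐ[A] Q := (Ideal.Quotient.mkₐ A _).comp (IsScalarTower.toAlgHom A C Ch)
  let Ψ₀ : (A ⧸ K) ⊗[A] C →ₐ[A] Q := Algebra.TensorProduct.lift f₁ f₂ (fun _ _ => Commute.all _ _)
  let Ψ : (A ⧸ K) ⊗[A] C →ₐ[R] Q := Ψ₀.restrictScalars R
  have hΨ : Function.Surjective Ψ := by
    intro q
    obtain ⟨x, rfl⟩ := Ideal.Quotient.mk_surjective q
    obtain ⟨c, hc⟩ := exists_sub_mem_cplC R I hI C (0 + 1) x
    refine ⟨1 ⊗ₜ c, ?_⟩
    change Ψ₀ (1 ⊗ₜ c) = _
    rw [Algebra.TensorProduct.lift_tmul, map_one, one_mul]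
    change Ideal.Quotient.mk _ (AdicCompletion.of 𝔍 C c) = _
    rw [eq_comm, Ideal.Quotient.eq]
    exact hc
  exact Algebra.FiniteType.of_surjective Ψ hΨ

end TFTcpl

section S37

variable (R : Type u) [CommRing R] (I : Ideal R) (hR : AdicRing.IsBase R I)
  (A : Type u) [CommRing A] [Algebra R A] (hA : AdicRing.TopFiniteType R I A)
  (B : Type u) [CommRing B] [Algebra R B] [Algebra A B] [IsScalarTower R A B]
  [Algebra.FiniteType A B]
  (M : Type u) [AddCommGroup M] [Module B M] [Module.Finite B M]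

theorem smul_top_le (k : ℕ) (n : ℕ)
    (z : AdicCompletion (I.map (algebraMap R B)) (Fin n → B))
    (hz : z ∈ ((I.map (algebraMap R B)) ^ k • ⊤ :
      Submodule B (AdicCompletion (I.map (algebraMap R B)) (Fin n → B)))) :
    z ∈ ((I.map (algebraMap R (AdicCompletion (I.map (algebraMap R B)) B))) ^ k • ⊤ :
      Submodule (AdicCompletion (I.map (algebraMap R B)) B)
        (AdicCompletion (I.map (algebraMap R B)) (Fin n → B))) := by
  refine Submodule.smul_induction_on hz ?_ ?_
  · intro j hj e _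
    rw [← algebraMap_smul (AdicCompletion (I.map (algebraMap R B)) B) j e]
    refine Submodule.smul_mem_smul ?_ Submodule.mem_top
    have h2 : (I.map (algebraMap R (AdicCompletion (I.map (algebraMap R B)) B))) ^ k =
        ((I.map (algebraMap R B)) ^ k).map
          (algebraMap B (AdicCompletion (I.map (algebraMap R B)) B)) := by
      rw [← Ideal.map_pow, ← Ideal.map_pow, Ideal.map_map]
      rfl
    rw [h2]
    exact Ideal.mem_map_of_mem _ hj
  · intro a b ha hb
    exact Submodule.add_mem _ ha hb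

include hR hA in
/-- S11537 -/
theorem ofTensorProduct_bijective :
    Function.Bijective (AdicCompletion.ofTensorProduct (I.map (algebraMap R B)) M) := by
  classical
  have hI : I.FG := BoschV6.isBase_fg R I hR
  set 𝔍 := I.map (algebraMap R B) with h𝔍
  have h𝔍fg : 𝔍.FG := hI.map _
  set Bh := AdicCompletion 𝔍 B with hBh
  have hBhT : AdicRing.TopFiniteType R I Bh := tft_completion R I hI A hA B
  refine ⟨?_, AdicCompletion.ofTensorProduct_surjective_of_finite 𝔍 M⟩
  obtain ⟨n, f, hf⟩ := Module.Finite.exists_fin' B M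
  set E := AdicCompletion 𝔍 (Fin n → B) with hE
  have hbij := AdicCompletion.ofTensorProduct_bijective_of_pi_of_fintype 𝔍 (Fin n)
  haveI hEfin : Module.Finite Bh E :=
    Module.Finite.of_surjective (AdicCompletion.ofTensorProduct 𝔍 (Fin n → B)) hbij.2
  let K := LinearMap.ker f
  let W : Submodule Bh E := Submodule.span Bh ((AdicCompletion.of 𝔍 (Fin n → B)) '' (K : Set (Fin n → B)))
  -- Hausdorffness of E / W
  letI : Module R (E ⧸ W) := Module.compHom (E ⧸ W) (algebraMap R Bh)
  haveI : IsScalarTower R Bh (E ⧸ W) := IsScalarTower.of_algebraMap_smul fun _ _ => rfl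
  have hcpl : IsAdicComplete I (E ⧸ W) := BoschV3.isAdicComplete_of_finite R I hR Bh hBhT (E ⧸ W)
  have hH : IsHausdorff (I.map (algebraMap R Bh)) (E ⧸ W) :=
    (IsHausdorff.map_algebraMap_iff (S := Bh)).mpr hcpl.toIsHausdorff
  -- closedness
  have hclosed : ∀ β : E, AdicCompletion.map 𝔍 f β = 0 → β ∈ W := by
    intro β hβ
    rw [← Submodule.Quotient.mk_eq_zero]
    apply hH.haus'
    intro k
    rw [SModEq.zero]
    obtain ⟨b, hb⟩ := Submodule.Quotient.mk_surjective _ (AdicCompletion.eval 𝔍 (Fin n → B) k β)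
    have h1 : β - AdicCompletion.of 𝔍 _ b ∈ (𝔍 ^ k • ⊤ : Submodule B E) := by
      rw [AdicCompletion.pow_smul_top_eq_ker_eval h𝔍fg]
      rw [LinearMap.mem_ker, map_sub, AdicCompletion.eval_of, ← hb, Submodule.mkQ_apply, sub_self]
    have h2 : f b ∈ (𝔍 ^ k • ⊤ : Submodule B M) := by
      have h3 : (AdicCompletion.map 𝔍 f β).val k = 0 := by rw [hβ]; rfl
      rw [AdicCompletion.map_val_apply] at h3
      have h4 : β.val k = Submodule.Quotient.mk b := by
        rw [hb]; rfl
      rw [h4] at h3
      have h5 : (f.reduceModIdeal (𝔍 ^ k)) (Submodule.Quotient.mk b) =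
          Submodule.Quotient.mk (f b) := rfl
      rw [h5, Submodule.Quotient.mk_eq_zero] at h3
      exact h3
    have h6 : (𝔍 ^ k • ⊤ : Submodule B M) = Submodule.map f (𝔍 ^ k • ⊤ : Submodule B (Fin n → B)) := by
      rw [Submodule.map_smul'', Submodule.map_top, LinearMap.range_eq_top.2 hf]
    rw [h6] at h2
    obtain ⟨j, hj, hjb⟩ := h2
    have hκ : b - j ∈ K := by
      rw [LinearMap.mem_ker, map_sub, hjb, sub_self]
    have h7 : AdicCompletion.of 𝔍 (Fin n → B) j ∈ (𝔍 ^ k • ⊤ : Submodule B E) := by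
      have : AdicCompletion.of 𝔍 (Fin n → B) j ∈
          Submodule.map (AdicCompletion.of 𝔍 (Fin n → B)) (𝔍 ^ k • ⊤ : Submodule B (Fin n → B)) :=
        Submodule.mem_map_of_mem hj
      rw [Submodule.map_smul''] at this
      exact Submodule.smul_mono le_rfl le_top this
    have h8 : β - AdicCompletion.of 𝔍 (Fin n → B) (b - j) ∈ (𝔍 ^ k • ⊤ : Submodule B E) := by
      have : β - AdicCompletion.of 𝔍 (Fin n → B) (b - j) =
          (β - AdicCompletion.of 𝔍 _ b) + AdicCompletion.of 𝔍 _ j := by
        rw [map_sub]; abel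
      rw [this]
      exact Submodule.add_mem _ h1 h7
    have h9 := smul_top_le R I B k n _ h8
    have h10 : (Submodule.Quotient.mk β : E ⧸ W) =
        Submodule.Quotient.mk (β - AdicCompletion.of 𝔍 (Fin n → B) (b - j)) := by
      rw [eq_comm, Submodule.Quotient.eq]
      have : β - AdicCompletion.of 𝔍 (Fin n → B) (b - j) - β =
          - AdicCompletion.of 𝔍 (Fin n → B) (b - j) := by abel
      rw [this]
      exact W.neg_mem (Submodule.subset_span ⟨_, hκ, rfl⟩)
    rw [h10]
    have h11 : W.mkQ (β - AdicCompletion.of 𝔍 (Fin n → B) (b - j)) ∈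
        Submodule.map W.mkQ ((I.map (algebraMap R Bh)) ^ k • ⊤ : Submodule Bh E) :=
      Submodule.mem_map_of_mem h9
    rw [Submodule.map_smul''] at h11
    exact Submodule.smul_mono le_rfl le_top h11
  -- W is the image of `Bh ⊗ K`
  have hW : ∀ w ∈ W, ∃ θ : Bh ⊗[B] K,
      AdicCompletion.ofTensorProduct 𝔍 (Fin n → B)
        (TensorProduct.AlgebraTensorModule.map (LinearMap.id : Bh →ₗ[Bh] Bh) K.subtype θ) = w := by
    intro w hw
    induction hw using Submodule.span_induction with
    | mem w hw =>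
      obtain ⟨κ, hκ, rfl⟩ := hw
      refine ⟨1 ⊗ₜ ⟨κ, hκ⟩, ?_⟩
      rw [TensorProduct.AlgebraTensorModule.map_tmul, AdicCompletion.ofTensorProduct_tmul]
      simp
    | zero => exact ⟨0, by simp⟩
    | add x y _ _ hx hy =>
      obtain ⟨θ₁, h1⟩ := hx
      obtain ⟨θ₂, h2⟩ := hy
      exact ⟨θ₁ + θ₂, by rw [map_add, map_add, h1, h2]⟩
    | smul c x _ hx =>
      obtain ⟨θ, h1⟩ := hx
      exact ⟨c • θ, by rw [map_smul, map_smul, h1]⟩
  rw [injective_iff_map_eq_zero]
  intro ξ hξ
  obtain ⟨η, rfl⟩ : ∃ η : Bh ⊗[B] (Fin n → B),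
      TensorProduct.AlgebraTensorModule.map (LinearMap.id : Bh →ₗ[Bh] Bh) f η = ξ :=
    LinearMap.lTensor_surjective Bh hf ξ
  have hnat := AdicCompletion.ofTensorProduct_naturality 𝔍 f
  have h1 : AdicCompletion.map 𝔍 f (AdicCompletion.ofTensorProduct 𝔍 (Fin n → B) η) = 0 := by
    have := LinearMap.congr_fun hnat η
    rw [LinearMap.comp_apply, LinearMap.comp_apply] at this
    rw [this, hξ]
  have h3 : ∀ θ : Bh ⊗[B] K,
      TensorProduct.AlgebraTensorModule.map (LinearMap.id : Bh →ₗ[Bh] Bh) f
      (TensorProduct.AlgebraTensorModule.map (LinearMap.id : Bh →ₗ[Bh] Bh) K.subtype θ) = 0 := by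
    intro θ
    induction θ using TensorProduct.induction_on with
    | zero => simp
    | add x y hx hy => rw [map_add, map_add, hx, hy, add_zero]
    | tmul c κ =>
      simp only [TensorProduct.AlgebraTensorModule.map_tmul, LinearMap.id_apply,
        Submodule.subtype_apply]
      rw [LinearMap.mem_ker.mp κ.2, TensorProduct.tmul_zero]
  obtain ⟨θ, hθ⟩ := hW _ (hclosed _ h1)
  have h2 := hbij.1 hθ
  rw [← h2]
  exact h3 θ

end S37

end Groth.Agent.Lib.Helper9.BoschV7
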