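import Mathlib
import Groth.Agent.Lib.Helper9.BoschV7

set_option autoImplicit false
set_option linter.style.haveILetI false
set_option linter.unusedSectionVars false
set_option linter.unusedVariables false
universe u v

namespace Groth.Agent.Lib.Helper9.BoschV8
open Groth.Agent.Lib.Helper9 Groth.Agent.Lib.Helper9.BoschV5 Groth.Agent.Lib.Helper9.BoschV7
open TensorProduct Function AdicRing

section Chi

variable (R : Type u) [CommRing R] (I : Ideal R) (hI : I.FG)
  (A : Type u) [CommRing A] [Algebra R A] (f : A) (k : ℕ)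

/-- the localization of the truncation. -/
abbrev Lk : Type u :=
  Localization.Away (Ideal.Quotient.mk ((I ^ k).map (algebraMap R A)) f)

/-- `A → (A/I^k A)_f`. -/
noncomputable def gk : A →+* Lk R I A f k :=
  (algebraMap (A ⧸ (I ^ k).map (algebraMap R A)) (Lk R I A f k)).comp
    (Ideal.Quotient.mk ((I ^ k).map (algebraMap R A)))

theorem gk_isUnit : IsUnit (gk R I A f k f) :=
  IsLocalization.Away.algebraMap_isUnit (Ideal.Quotient.mk ((I ^ k).map (algebraMap R A)) f)

theorem gk_eq_zero_of_mem (a : A) (ha : a ∈ (I ^ k).map (algebraMap R A)) : gk R I A f k a = 0 := by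
  rw [gk, RingHom.comp_apply, Ideal.Quotient.eq_zero_iff_mem.mpr ha, map_zero]

/-- `A_f → (A/I^k A)_f`. -/
noncomputable def lam : Localization.Away f →+* Lk R I A f k :=
  IsLocalization.Away.lift f (gk_isUnit R I A f k)

theorem lam_algebraMap (a : A) : lam R I A f k (algebraMap A (Localization.Away f) a) =
    gk R I A f k a :=
  IsLocalization.Away.lift_eq f (gk_isUnit R I A f k) a

theorem lam_kills (c : Localization.Away f)
    (hc : c ∈ (I.map (algebraMap R (Localization.Away f))) ^ k) : lam R I A f k c = 0 := by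
  rw [← Ideal.map_pow] at hc
  have h1 : (I ^ k).map (algebraMap R (Localization.Away f)) ≤ RingHom.ker (lam R I A f k) := by
    rw [Ideal.map_le_iff_le_comap]
    intro r hr
    rw [Ideal.mem_comap, RingHom.mem_ker, IsScalarTower.algebraMap_apply R A (Localization.Away f),
      lam_algebraMap]
    exact gk_eq_zero_of_mem R I A f k _ (Ideal.mem_map_of_mem _ hr)
  exact h1 hc

/-- `A⟨f⁻¹⟩ → (A/I^k A)_f`. -/
noncomputable def chi : AdicRing.CLoc I f →+* Lk R I A f k :=
  (Ideal.Quotient.lift ((I.map (algebraMap R (Localization.Away f))) ^ k) (lam R I A f k)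
    (lam_kills R I A f k)).comp
    (AdicCompletion.evalₐ (I.map (algebraMap R (Localization.Away f))) k).toRingHom

theorem chi_of (c : Localization.Away f) :
    chi R I A f k (AdicCompletion.of _ _ c) = lam R I A f k c := by
  simp only [chi, RingHom.comp_apply, AlgHom.toRingHom_eq_coe, RingHom.coe_coe]
  rw [AdicCompletion.evalₐ_of, Ideal.Quotient.lift_mk]

theorem chi_algebraMap (a : A) :
    chi R I A f k (algebraMap A (AdicRing.CLoc I f) a) = gk R I A f k a := by
  have : algebraMap A (AdicRing.CLoc I f) a =
      AdicCompletion.of _ _ (algebraMap A (Localization.Away f) a) := rfl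
  rw [this, chi_of, lam_algebraMap]

theorem chi_algebraMap_R (r : R) :
    chi R I A f k (algebraMap R (AdicRing.CLoc I f) r) = gk R I A f k (algebraMap R A r) := by
  rw [IsScalarTower.algebraMap_apply R A (AdicRing.CLoc I f), chi_algebraMap]

theorem lam_surjective : Function.Surjective (lam R I A f k) := by
  intro y
  obtain ⟨n, a', h⟩ := IsLocalization.Away.surj
    (Ideal.Quotient.mk ((I ^ k).map (algebraMap R A)) f) y
  obtain ⟨a, rfl⟩ := Ideal.Quotient.mk_surjective a'
  refine ⟨IsLocalization.mk' (Localization.Away f) a (⟨f ^ n, n, rfl⟩ : Submonoid.powers f), ?_⟩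
  have hu : IsUnit ((gk R I A f k f) ^ n) := (gk_isUnit R I A f k).pow n
  apply hu.mul_right_cancel
  have h1 : lam R I A f k (IsLocalization.mk' (Localization.Away f) a
      (⟨f ^ n, n, rfl⟩ : Submonoid.powers f)) * (gk R I A f k f) ^ n = gk R I A f k a := by
    rw [← lam_algebraMap, ← map_pow, ← lam_algebraMap, ← map_mul, ← map_pow]
    congr 1
    exact IsLocalization.mk'_spec (Localization.Away f) a (⟨f ^ n, n, rfl⟩ : Submonoid.powers f)
  rw [h1]
  exact h.symm

theorem chi_surjective : Function.Surjective (chi R I A f k) := by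
  intro y
  obtain ⟨c, rfl⟩ := lam_surjective R I A f k y
  exact ⟨AdicCompletion.of _ _ c, chi_of R I A f k c⟩

theorem chi_eq_zero_of_mem (x : AdicRing.CLoc I f)
    (hx : x ∈ (I ^ k).map (algebraMap R (AdicRing.CLoc I f))) : chi R I A f k x = 0 := by
  have h1 : (I ^ k).map (algebraMap R (AdicRing.CLoc I f)) ≤ RingHom.ker (chi R I A f k) := by
    rw [Ideal.map_le_iff_le_comap]
    intro r hr
    rw [Ideal.mem_comap, RingHom.mem_ker, chi_algebraMap_R]
    exact gk_eq_zero_of_mem R I A f k _ (Ideal.mem_map_of_mem _ hr)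
  exact h1 hx

theorem lam_eq_zero (c : Localization.Away f) (hc : lam R I A f k c = 0) :
    c ∈ (I ^ k).map (algebraMap R (Localization.Away f)) := by
  obtain ⟨a, s, rfl⟩ := IsLocalization.exists_mk'_eq (Submonoid.powers f) c
  have h1 : gk R I A f k a = 0 := by
    have h2 := IsLocalization.mk'_spec (Localization.Away f) a s
    have h3 := congrArg (lam R I A f k) h2
    rw [map_mul, hc, zero_mul, lam_algebraMap] at h3
    exact h3.symm
  rw [gk, RingHom.comp_apply, IsLocalization.map_eq_zero_iff
    (Submonoid.powers (Ideal.Quotient.mk ((I ^ k).map (algebraMap R A)) f))] at h1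
  obtain ⟨⟨_, m, rfl⟩, hm⟩ := h1
  simp only at hm
  rw [← map_pow, ← map_mul, Ideal.Quotient.eq_zero_iff_mem] at hm
  -- f^m a ∈ I^k A
  have h4 : algebraMap A (Localization.Away f) (f ^ m * a) ∈
      (I ^ k).map (algebraMap R (Localization.Away f)) := by
    have h5 : ((I ^ k).map (algebraMap R A)).map (algebraMap A (Localization.Away f)) =
        (I ^ k).map (algebraMap R (Localization.Away f)) := by
      rw [Ideal.map_map, ← IsScalarTower.algebraMap_eq]
    rw [← h5]
    exact Ideal.mem_map_of_mem _ hm
  have hu : IsUnit (algebraMap A (Localization.Away f) ((s : A) * f ^ m)) := by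
    rw [map_mul, map_pow]
    exact (IsLocalization.map_units _ s).mul ((IsLocalization.Away.algebraMap_isUnit f).pow m)
  obtain ⟨u, hu⟩ := hu
  have h6 : IsLocalization.mk' (Localization.Away f) a s * ↑u =
      algebraMap A (Localization.Away f) (f ^ m * a) := by
    rw [hu, map_mul, ← mul_assoc, IsLocalization.mk'_spec, ← map_mul, mul_comm]
  have h7 : IsLocalization.mk' (Localization.Away f) a s =
      algebraMap A (Localization.Away f) (f ^ m * a) * ↑u⁻¹ := by
    rw [← h6, mul_assoc, Units.mul_inv, mul_one]
  rw [h7]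
  exact Ideal.mul_mem_right _ _ h4

include hI in
theorem chi_eq_zero_iff (x : AdicRing.CLoc I f) :
    chi R I A f k x = 0 ↔ x ∈ (I ^ k).map (algebraMap R (AdicRing.CLoc I f)) := by
  refine ⟨fun hx => ?_, chi_eq_zero_of_mem R I A f k x⟩
  obtain ⟨c, hc⟩ := exists_sub_mem_cplC R I hI (Localization.Away f) k x
  have h1 : lam R I A f k c = 0 := by
    have h2 := chi_eq_zero_of_mem R I A f k _ hc
    rw [map_sub, hx, zero_sub, neg_eq_zero, chi_of] at h2
    exact h2
  have h3 := lam_eq_zero R I A f k c h1
  have h4 : AdicCompletion.of _ _ c ∈ (I ^ k).map (algebraMap R (AdicRing.CLoc I f)) := by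
    have h5 : ((I ^ k).map (algebraMap R (Localization.Away f))).map
        (algebraMap (Localization.Away f) (AdicRing.CLoc I f)) =
        (I ^ k).map (algebraMap R (AdicRing.CLoc I f)) := by
      rw [Ideal.map_map]
      rfl
    rw [← h5]
    exact Ideal.mem_map_of_mem _ h3
  have : x = (x - AdicCompletion.of _ _ c) + AdicCompletion.of _ _ c := by ring
  rw [this]
  exact Ideal.add_mem _ hc h4

/-- The induced map on the truncation. -/
noncomputable def chiBar :
    AdicRing.CLoc I f ⧸ (I ^ k).map (algebraMap R (AdicRing.CLoc I f)) →+* Lk R I A f k :=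
  Ideal.Quotient.lift _ (chi R I A f k) (chi_eq_zero_of_mem R I A f k)

include hI in
theorem chiBar_bijective : Function.Bijective (chiBar R I A f k) := by
  constructor
  · rw [injective_iff_map_eq_zero]
    intro y hy
    obtain ⟨x, rfl⟩ := Ideal.Quotient.mk_surjective y
    rw [chiBar, Ideal.Quotient.lift_mk] at hy
    rw [Ideal.Quotient.eq_zero_iff_mem]
    exact (chi_eq_zero_iff R I hI A f k x).mp hy
  · intro y
    obtain ⟨x, rfl⟩ := chi_surjective R I A f k y
    exact ⟨Ideal.Quotient.mk _ x, by rw [chiBar, Ideal.Quotient.lift_mk]⟩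

theorem chiBar_comp :
    (chiBar R I A f k).comp (algebraMap R
      (AdicRing.CLoc I f ⧸ (I ^ k).map (algebraMap R (AdicRing.CLoc I f)))) =
    (algebraMap (A ⧸ (I ^ k).map (algebraMap R A)) (Lk R I A f k)).comp
      (algebraMap R (A ⧸ (I ^ k).map (algebraMap R A))) := by
  ext r
  simp only [RingHom.comp_apply]
  have h1 : algebraMap R (AdicRing.CLoc I f ⧸ (I ^ k).map (algebraMap R (AdicRing.CLoc I f))) r =
      Ideal.Quotient.mk _ (algebraMap R (AdicRing.CLoc I f) r) := rfl
  rw [h1, chiBar, Ideal.Quotient.lift_mk, chi_algebraMap_R]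
  rfl

end Chi

section S34

variable (R : Type u) [CommRing R] (I : Ideal R) (hR : AdicRing.IsBase R I)
  (A : Type u) [CommRing A] [Algebra R A]
  (r : ℕ) (f : Fin r → A) (hf : Ideal.span (Set.range f) = ⊤)

include hf in
theorem span_range_mk (K : Ideal A) :
    Ideal.span (Set.range fun i => Ideal.Quotient.mk K (f i)) = ⊤ := by
  have h1 : (Set.range fun i => Ideal.Quotient.mk K (f i)) = (Ideal.Quotient.mk K) '' Set.range f := by
    ext x
    simp [Set.mem_image]
  rw [h1, ← Ideal.map_span, hf, Ideal.map_top]

include hR hf in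
/-- S11534 -/
theorem tft_iff_cloc [IsAdicComplete (I.map (algebraMap R A)) A] :
    AdicRing.TopFiniteType R I A ↔ ∀ i, AdicRing.TopFiniteType R I (AdicRing.CLoc I (f i)) := by
  have hI : I.FG := BoschV6.isBase_fg R I hR
  constructor
  · intro hA i
    exact tft_completion R I hI A hA (Localization.Away (f i))
  · intro h
    apply tft_of_trunc R I hI A
    rw [← RingHom.finiteType_algebraMap]
    apply RingHom.finiteType_ofLocalizationSpanTarget _
      (Set.range fun i => Ideal.Quotient.mk ((I ^ (0 + 1)).map (algebraMap R A)) (f i))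
      (span_range_mk A r f hf _)
    rintro ⟨_, i, rfl⟩
    obtain ⟨d, φ, hφ⟩ := h i
    have hψ := psi_surjective R I hI (AdicRing.CLoc I (f i)) d φ hφ (0 + 1)
    haveI : Algebra.FiniteType R
        (AdicRing.CLoc I (f i) ⧸ (I ^ (0 + 1)).map (algebraMap R (AdicRing.CLoc I (f i)))) :=
      Algebra.FiniteType.of_surjective (psi R I (AdicRing.CLoc I (f i)) d φ (0 + 1)) hψ
    have e1 := chiBar_comp R I A (f i) (0 + 1)
    change ((algebraMap (A ⧸ (I ^ (0 + 1)).map (algebraMap R A)) (Lk R I A (f i) (0 + 1))).comp
      (algebraMap R (A ⧸ (I ^ (0 + 1)).map (algebraMap R A)))).FiniteType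
    rw [← e1]
    exact RingHom.FiniteType.comp
      (RingHom.FiniteType.of_surjective _ (chiBar_bijective R I hI A (f i) (0 + 1)).2)
      (RingHom.finiteType_algebraMap.mpr inferInstance)

include hR hf in
/-- S11535 -/
theorem tfp_iff_cloc [IsAdicComplete (I.map (algebraMap R A)) A] :
    AdicRing.TopFinitePresentation R I A ↔
      ∀ i, AdicRing.TopFinitePresentation R I (AdicRing.CLoc I (f i)) := by
  have hI : I.FG := BoschV6.isBase_fg R I hR
  constructor
  · intro hA i
    haveI := isAdicComplete_cplC R I hI (Localization.Away (f i))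
    apply (tfp_iff_trunc R I hR (AdicRing.CLoc I (f i))).mpr
    intro n
    apply fp_quotientMap R I (AdicRing.CLoc I (f i)) (n + 1)
    rw [← RingHom.finitePresentation_algebraMap]
    let e := RingEquiv.ofBijective (chiBar R I A (f i) (n + 1))
      (chiBar_bijective R I hI A (f i) (n + 1))
    have e1 := chiBar_comp R I A (f i) (n + 1)
    have e2 : algebraMap R (AdicRing.CLoc I (f i) ⧸
        (I ^ (n + 1)).map (algebraMap R (AdicRing.CLoc I (f i)))) =
        (e.symm : _ →+* _).comp
          ((algebraMap (A ⧸ (I ^ (n + 1)).map (algebraMap R A)) (Lk R I A (f i) (n + 1))).comp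
            (algebraMap R (A ⧸ (I ^ (n + 1)).map (algebraMap R A)))) := by
      rw [← e1]
      ext x
      simp only [RingHom.comp_apply, RingHom.coe_coe]
      exact (e.symm_apply_apply _).symm
    rw [e2]
    haveI := fp_trunc R I hI A hA (n + 1)
    refine RingHom.FinitePresentation.comp (RingHom.FinitePresentation.of_bijective e.symm.bijective)
      (RingHom.FinitePresentation.comp ?_ (RingHom.finitePresentation_algebraMap.mpr inferInstance))
    exact RingHom.finitePresentation_algebraMap.mpr
      (IsLocalization.Away.finitePresentation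
        (Ideal.Quotient.mk ((I ^ (n + 1)).map (algebraMap R A)) (f i)))
  · intro h
    apply (tfp_iff_trunc R I hR A).mpr
    intro n
    apply fp_quotientMap R I A (n + 1)
    rw [← RingHom.finitePresentation_algebraMap]
    apply RingHom.finitePresentation_ofLocalizationSpanTarget _
      (Set.range fun i => Ideal.Quotient.mk ((I ^ (n + 1)).map (algebraMap R A)) (f i))
      (span_range_mk A r f hf _)
    rintro ⟨_, i, rfl⟩
    haveI := fp_trunc R I hI (AdicRing.CLoc I (f i)) (h i) (n + 1)
    have e1 := chiBar_comp R I A (f i) (n + 1)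
    change ((algebraMap (A ⧸ (I ^ (n + 1)).map (algebraMap R A)) (Lk R I A (f i) (n + 1))).comp
      (algebraMap R (A ⧸ (I ^ (n + 1)).map (algebraMap R A)))).FinitePresentation
    rw [← e1]
    exact RingHom.FinitePresentation.comp
      (RingHom.FinitePresentation.of_bijective (chiBar_bijective R I hI A (f i) (n + 1)))
      (RingHom.finitePresentation_algebraMap.mpr inferInstance)

end S34

end Groth.Agent.Lib.Helper9.BoschV8
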