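import Mathlib
import Groth.Agent.Lib.Helper9.BoschV8

set_option autoImplicit false
set_option linter.style.haveILetI false
set_option linter.unusedSectionVars false
set_option linter.unusedVariables false
universe u v

namespace Groth.Agent.Lib.Helper9.BoschV9
open Groth.Agent.Lib.Helper9 Groth.Agent.Lib.Helper9.BoschV5 Groth.Agent.Lib.Helper9.BoschV7
  Groth.Agent.Lib.Helper9.BoschV8
open TensorProduct Function AdicRing

section Abstract

variable {A : Type u} [CommRing A] (K : Ideal A) (B : Type u) [CommRing B] [Algebra A B]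
    (L : Type u) [CommRing L] [Algebra (A ⧸ K) L] [Algebra A L] [IsScalarTower A (A ⧸ K) L]

theorem exists_one_tmul (z : (A ⧸ K) ⊗[A] B) : ∃ b : B, z = 1 ⊗ₜ[A] b := by
  induction z using TensorProduct.induction_on with
  | zero => exact ⟨0, by simp⟩
  | tmul x b =>
    obtain ⟨a, rfl⟩ := Ideal.Quotient.mk_surjective x
    refine ⟨a • b, ?_⟩
    rw [← TensorProduct.smul_tmul]
    congr 1
    rw [Algebra.smul_def, mul_one]
    rfl
  | add x y hx hy =>
    obtain ⟨b1, rfl⟩ := hx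
    obtain ⟨b2, rfl⟩ := hy
    exact ⟨b1 + b2, by rw [TensorProduct.tmul_add]⟩

theorem one_tmul_eq_zero (b : B) (hb : b ∈ K.map (algebraMap A B)) :
    (1 : A ⧸ K) ⊗ₜ[A] b = 0 := by
  have h1 : K.map (algebraMap A B) ≤
      RingHom.ker (Algebra.TensorProduct.includeRight : B →ₐ[A] (A ⧸ K) ⊗[A] B).toRingHom := by
    rw [Ideal.map_le_iff_le_comap]
    intro a ha
    rw [Ideal.mem_comap, RingHom.mem_ker]
    change (1 : A ⧸ K) ⊗ₜ[A] (algebraMap A B a) = 0
    rw [Algebra.algebraMap_eq_smul_one, ← TensorProduct.smul_tmul]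
    have : a • (1 : A ⧸ K) = 0 := by
      rw [Algebra.smul_def, mul_one]
      exact Ideal.Quotient.eq_zero_iff_mem.mpr ha
    rw [this, TensorProduct.zero_tmul]
  exact h1 hb

theorem flat_quot_tensor [Module.Flat (A ⧸ K) L] (χ : B →ₐ[A] L) (hs : Surjective χ)
    (hk : ∀ b, χ b = 0 → b ∈ K.map (algebraMap A B)) :
    Module.Flat (A ⧸ K) ((A ⧸ K) ⊗[A] B) := by
  let g : (A ⧸ K) ⊗[A] B →ₐ[A ⧸ K] L :=
    Algebra.TensorProduct.lift (Algebra.ofId (A ⧸ K) L) χ (fun _ _ => Commute.all _ _)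
  have hg : ∀ b, g (1 ⊗ₜ[A] b) = χ b := by
    intro b
    simp [g]
  have hbij : Bijective g.toLinearMap := by
    constructor
    · rw [injective_iff_map_eq_zero]
      intro z hz
      obtain ⟨b, rfl⟩ := exists_one_tmul K B z
      rw [AlgHom.toLinearMap_apply, hg] at hz
      exact one_tmul_eq_zero K B b (hk b hz)
    · intro y
      obtain ⟨b, rfl⟩ := hs y
      exact ⟨1 ⊗ₜ b, hg b⟩
  exact Module.Flat.of_linearEquiv (LinearEquiv.ofBijective g.toLinearMap hbij)

end Abstract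

section S33

variable (R : Type u) [CommRing R] (I : Ideal R) (hR : AdicRing.IsBase R I)
  (A : Type u) [CommRing A] [Algebra R A] (hA : AdicRing.TopFiniteType R I A)

/-- `chi` as an `A`-algebra hom. -/
noncomputable def chiA (f : A) (k : ℕ) : AdicRing.CLoc I f →ₐ[A] Lk R I A f k :=
  { chi R I A f k with
    commutes' := fun a => by
      change chi R I A f k (algebraMap A (AdicRing.CLoc I f) a) = _
      rw [chi_algebraMap]
      rfl }

include hR hA in
theorem flat_cloc (f : A) : Module.Flat A (AdicRing.CLoc I f) := by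
  have hI : I.FG := BoschV6.isBase_fg R I hR
  have hB : AdicRing.TopFiniteType R I (AdicRing.CLoc I f) :=
    tft_completion R I hI A hA (Localization.Away f)
  apply (BoschV6.flat_iff_trunc R I hR A hA (AdicRing.CLoc I f) hB (AdicRing.CLoc I f)).mpr
  intro n
  apply flat_quot_tensor ((I ^ (n + 1)).map (algebraMap R A)) (AdicRing.CLoc I f)
    (Lk R I A f (n + 1)) (chiA R I A f (n + 1))
  · exact chi_surjective R I A f (n + 1)
  · intro b hb
    have h1 := (chi_eq_zero_iff R I hI A f (n + 1) b).mp hb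
    rw [Ideal.map_map, ← IsScalarTower.algebraMap_eq]
    exact h1

/-- ring hom `CLoc I f → A/𝔪` for a maximal ideal not containing `f`. -/
theorem exists_hom_residue (hI : I.FG) (f : A) (𝔪 : Ideal A) [h𝔪 : 𝔪.IsMaximal] (hf : f ∉ 𝔪)
    (hI𝔪 : I.map (algebraMap R A) ≤ 𝔪) :
    ∃ ψ : AdicRing.CLoc I f →+* A ⧸ 𝔪, ∀ a, ψ (algebraMap A (AdicRing.CLoc I f) a) =
      Ideal.Quotient.mk 𝔪 a := by
  have hK : (I ^ 1).map (algebraMap R A) ≤ 𝔪 := by rwa [pow_one]
  let q : A ⧸ (I ^ 1).map (algebraMap R A) →+* A ⧸ 𝔪 := Ideal.Quotient.factor hK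
  letI : Field (A ⧸ 𝔪) := Ideal.Quotient.field 𝔪
  have hu : IsUnit (q (Ideal.Quotient.mk ((I ^ 1).map (algebraMap R A)) f)) := by
    rw [Ideal.Quotient.factor_mk, isUnit_iff_ne_zero, Ne, Ideal.Quotient.eq_zero_iff_mem]
    exact hf
  let l : Lk R I A f 1 →+* A ⧸ 𝔪 :=
    IsLocalization.Away.lift (Ideal.Quotient.mk ((I ^ 1).map (algebraMap R A)) f) hu
  refine ⟨l.comp (chi R I A f 1), fun a => ?_⟩
  rw [RingHom.comp_apply, chi_algebraMap, gk, RingHom.comp_apply]
  have : l (algebraMap _ (Lk R I A f 1) (Ideal.Quotient.mk ((I ^ 1).map (algebraMap R A)) a)) =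
      q (Ideal.Quotient.mk ((I ^ 1).map (algebraMap R A)) a) :=
    IsLocalization.Away.lift_eq (Ideal.Quotient.mk ((I ^ 1).map (algebraMap R A)) f) hu
      (Ideal.Quotient.mk ((I ^ 1).map (algebraMap R A)) a)
  rw [this, Ideal.Quotient.factor_mk]

include hR hA in
theorem faithfullyFlat_pi_cloc (r : ℕ) (f : Fin r → A) (hf : Ideal.span (Set.range f) = ⊤) :
    Module.FaithfullyFlat A (∀ i, AdicRing.CLoc I (f i)) := by
  have hI : I.FG := BoschV6.isBase_fg R I hR
  haveI : ∀ i, Module.Flat A (AdicRing.CLoc I (f i)) := fun i => flat_cloc R I hR A hA (f i)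
  haveI hflat : Module.Flat A (∀ i, AdicRing.CLoc I (f i)) :=
    Module.Flat.of_linearEquiv
      (DirectSum.linearEquivFunOnFintype A (Fin r) (fun i => AdicRing.CLoc I (f i))).symm
  refine ⟨fun 𝔪 h𝔪 htop => ?_⟩
  have hjac := BoschV3.jacobson_of_topFiniteType R I hI A hA
  have hI𝔪 : I.map (algebraMap R A) ≤ 𝔪 :=
    hjac.trans (sInf_le ⟨bot_le, h𝔪⟩)
  obtain ⟨i, hi⟩ : ∃ i, f i ∉ 𝔪 := by
    by_contra hcon
    push Not at hcon
    have h1 : Ideal.span (Set.range f) ≤ 𝔪 := by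
      rw [Ideal.span_le]
      rintro _ ⟨i, rfl⟩
      exact hcon i
    rw [hf] at h1
    exact h𝔪.ne_top (top_le_iff.mp h1)
  obtain ⟨ψ, hψ⟩ := exists_hom_residue R I A hI (f i) 𝔪 hi hI𝔪
  let π : (∀ i, AdicRing.CLoc I (f i)) →ₗ[A] AdicRing.CLoc I (f i) := LinearMap.proj i
  have hπ : Surjective π := LinearMap.proj_surjective i
  have h1 : 𝔪 • (⊤ : Submodule A (AdicRing.CLoc I (f i))) = ⊤ := by
    have h2 := congrArg (Submodule.map π) htop
    rw [Submodule.map_smul'', Submodule.map_top, LinearMap.range_eq_top.mpr hπ] at h2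
    exact h2
  have h3 : ∀ x ∈ 𝔪 • (⊤ : Submodule A (AdicRing.CLoc I (f i))), ψ x = 0 := by
    intro x hx
    refine Submodule.smul_induction_on hx ?_ ?_
    · intro a ha b _
      rw [Algebra.smul_def, map_mul, hψ, Ideal.Quotient.eq_zero_iff_mem.mpr ha, zero_mul]
    · intro x y hx hy
      rw [map_add, hx, hy, add_zero]
  have h4 := h3 1 (by rw [h1]; trivial)
  rw [map_one] at h4
  haveI : Nontrivial (A ⧸ 𝔪) := Ideal.Quotient.nontrivial_iff.mpr h𝔪.ne_top
  exact one_ne_zero h4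

include hR hA in
/-- S11533 -/
theorem flat_and_faithfullyFlat (r : ℕ) (f : Fin r → A) (hf : Ideal.span (Set.range f) = ⊤) :
    (∀ i, Module.Flat A (AdicRing.CLoc I (f i))) ∧
      Module.FaithfullyFlat A (∀ i, AdicRing.CLoc I (f i)) :=
  ⟨fun i => flat_cloc R I hR A hA (f i), faithfullyFlat_pi_cloc R I hR A hA r f hf⟩

end S33

end Groth.Agent.Lib.Helper9.BoschV9
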