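import Mathlib
import Groth.Agent.Lib.Helper9.BoschV9

set_option autoImplicit false
set_option linter.style.haveILetI false
set_option linter.unusedSectionVars false
set_option linter.unusedVariables false
universe u v

namespace Groth.Agent.Lib.Helper9.BoschV10
open Groth.Agent.Lib.Helper9 Groth.Agent.Lib.Helper9.BoschV5 Groth.Agent.Lib.Helper9.BoschV7
  Groth.Agent.Lib.Helper9.BoschV8 Groth.Agent.Lib.Helper9.BoschV9
open TensorProduct Function AdicRing

section NPT

variable (R : Type u) [CommRing R] (I : Ideal R) (hI : I.FG)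
  (A : Type u) [CommRing A] [Algebra R A]
  (B : Type u) [CommRing B] [Algebra R B] [Algebra A B] [IsScalarTower R A B]

include hI in
/-- absence of `I`-power torsion ascends along flat maps. -/
theorem noPowTorsion_of_flat [Module.Flat A B] (h : NoPowTorsion I A) : NoPowTorsion I B := by
  classical
  intro b n hb
  obtain ⟨s, hs⟩ := hI.pow (n := n)
  let φ : A →ₗ[A] (s → A) := LinearMap.pi (fun j => (algebraMap R A j.1) • LinearMap.id)
  have hφ : Injective φ := by
    rw [injective_iff_map_eq_zero]
    intro a ha
    apply h a n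
    intro r hr
    rw [← hs] at hr
    refine Submodule.span_induction ?_ ?_ ?_ ?_ hr
    · intro j hj
      have := congrFun ha ⟨j, hj⟩
      simp only [φ, LinearMap.pi_apply, LinearMap.smul_apply, LinearMap.id_apply,
        Pi.zero_apply] at this
      rw [Algebra.smul_def, ← smul_eq_mul]
      exact this
    · rw [zero_smul]
    · intro x y _ _ hx hy
      rw [add_smul, hx, hy, add_zero]
    · intro c x _ hx
      rw [smul_eq_mul, mul_smul, hx, smul_zero]
  have h1 := Module.Flat.lTensor_preserves_injective_linearMap (M := B) φ hφ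
  have h2 : φ.lTensor B (b ⊗ₜ[A] (1 : A)) = 0 := by
    rw [LinearMap.lTensor_tmul]
    have h3 : φ 1 = ∑ j : s, (algebraMap R A j.1) • (Pi.single j (1 : A) : s → A) := by
      ext j
      simp only [φ, LinearMap.pi_apply, LinearMap.smul_apply, LinearMap.id_apply,
        Finset.sum_apply, Pi.smul_apply, smul_eq_mul]
      rw [Finset.sum_eq_single j]
      · simp
      · intro i _ hij
        rw [Pi.single_eq_of_ne hij.symm, mul_zero]
      · intro hj
        exact absurd (Finset.mem_univ j) hj
    rw [h3, TensorProduct.tmul_sum]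
    apply Finset.sum_eq_zero
    intro j _
    rw [← TensorProduct.smul_tmul, algebraMap_smul, hb j.1 (by rw [← hs]; exact Ideal.subset_span j.2),
      TensorProduct.zero_tmul]
  have h3 : b ⊗ₜ[A] (1 : A) = 0 := h1 (by rw [h2, map_zero])
  have h4 := congrArg (TensorProduct.rid A B) h3
  simpa using h4

/-- absence of `I`-power torsion descends along injective maps. -/
theorem noPowTorsion_of_injective (hinj : Injective (algebraMap A B)) (h : NoPowTorsion I B) :
    NoPowTorsion I A := by
  intro a n ha
  apply hinj
  rw [map_zero]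
  apply h _ n
  intro r hr
  rw [← algebraMap_smul A r (algebraMap A B a), Algebra.smul_def, ← map_mul, ← Algebra.smul_def,
    ha r hr, map_zero]

end NPT

section S36

variable (R : Type u) [CommRing R] (I : Ideal R) (hR : AdicRing.IsBase R I)
  (A : Type u) [CommRing A] [Algebra R A]
  (r : ℕ) (f : Fin r → A) (hf : Ideal.span (Set.range f) = ⊤)

theorem tft_of_tfp (h : AdicRing.TopFinitePresentation R I A) : AdicRing.TopFiniteType R I A := by
  obtain ⟨n, φ, hφ, -⟩ := h
  exact ⟨n, φ, hφ⟩

include hR hf in
/-- S11536 -/
theorem admissible_iff_cloc [IsAdicComplete (I.map (algebraMap R A)) A] :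
    AdicRing.Admissible R I A ↔ ∀ i, AdicRing.Admissible R I (AdicRing.CLoc I (f i)) := by
  have hI : I.FG := BoschV6.isBase_fg R I hR
  constructor
  · rintro ⟨h1, h2⟩ i
    refine ⟨(tfp_iff_cloc R I hR A r f hf).mp h1 i, ?_⟩
    haveI : Module.Flat A (AdicRing.CLoc I (f i)) :=
      flat_cloc R I hR A (tft_of_tfp R I A h1) (f i)
    exact noPowTorsion_of_flat R I hI A (AdicRing.CLoc I (f i)) h2
  · intro h
    have h1 : AdicRing.TopFinitePresentation R I A :=
      (tfp_iff_cloc R I hR A r f hf).mpr fun i => (h i).1
    refine ⟨h1, ?_⟩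
    haveI : Module.FaithfullyFlat A (∀ i, AdicRing.CLoc I (f i)) :=
      faithfullyFlat_pi_cloc R I hR A (tft_of_tfp R I A h1) r f hf
    have hinj : Injective (algebraMap A (∀ i, AdicRing.CLoc I (f i))) :=
      FaithfulSMul.algebraMap_injective A _
    intro a n ha
    apply hinj
    rw [map_zero]
    funext i
    change algebraMap A (AdicRing.CLoc I (f i)) a = 0
    apply (h i).2 _ n
    intro x hx
    rw [← algebraMap_smul A x (algebraMap A (AdicRing.CLoc I (f i)) a), Algebra.smul_def,
      ← map_mul, ← Algebra.smul_def, ha x hx, map_zero]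

end S36

end Groth.Agent.Lib.Helper9.BoschV10
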