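import Mathlib
import Groth.Agent.Lib.Helper9.BoschV10

set_option autoImplicit false
set_option linter.style.haveILetI false
set_option linter.unusedSectionVars false
set_option linter.unusedVariables false
universe u v

namespace Groth.Agent.Lib.Helper9.BoschV11
open Groth.Agent.Lib.Helper9 Groth.Agent.Lib.Helper9.BoschV5 Groth.Agent.Lib.Helper9.BoschV7
open Groth.Agent.Lib.Helper9.BoschV2
open TensorProduct Function AdicRing IsLocalRing MvPolynomial

section Dehom

variable {A : Type u} [CommRing A] (m : ℕ)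

/-- dehomogenization `x₀ ↦ 1`. -/
noncomputable def dehom : MvPolynomial (Fin (m + 1)) A →ₐ[A] MvPolynomial (Fin m) A :=
  MvPolynomial.aeval (Fin.cases 1 MvPolynomial.X)

theorem dehom_X_zero : dehom (A := A) m (X 0) = 1 := by
  simp [dehom]

theorem dehom_rename_succ (q : MvPolynomial (Fin m) A) :
    dehom m (rename Fin.succ q) = q := by
  rw [dehom, aeval_rename]
  have : (Fin.cases (1 : MvPolynomial (Fin m) A) X ∘ Fin.succ) = X := by
    funext i
    simp
  rw [this, aeval_X_left, AlgHom.id_apply]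

theorem exists_hom (e : ℕ) (p : MvPolynomial (Fin m) A)
    (hp : p ∈ restrictTotalDegree (Fin m) A e) :
    ∃ F ∈ homogeneousSubmodule (Fin (m + 1)) A e, dehom m F = p := by
  rw [restrictTotalDegree, restrictSupport_eq_span] at hp
  induction hp using Submodule.span_induction with
  | mem x hx =>
    obtain ⟨α, hα, rfl⟩ := hx
    have hα' : α.degree ≤ e := by
      have : (α.sum fun _ e => e) ≤ e := hα
      rwa [Finsupp.degree_apply]
    refine ⟨X 0 ^ (e - α.degree) * rename Fin.succ (monomial α (1 : A)), ?_, ?_⟩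
    · rw [mem_homogeneousSubmodule]
      have h1 : (X (0 : Fin (m + 1)) ^ (e - α.degree) : MvPolynomial (Fin (m + 1)) A).IsHomogeneous
          (e - α.degree) := isHomogeneous_X_pow _ _
      have h2 : (rename Fin.succ (monomial α (1 : A)) :
          MvPolynomial (Fin (m + 1)) A).IsHomogeneous α.degree :=
        (isHomogeneous_monomial _ rfl).rename_isHomogeneous
      have := h1.mul h2
      rwa [Nat.sub_add_cancel hα'] at this
    · rw [map_mul, map_pow, dehom_X_zero, one_pow, one_mul, dehom_rename_succ]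
  | zero => exact ⟨0, Submodule.zero_mem _, map_zero _⟩
  | add x y _ _ hx hy =>
    obtain ⟨F, hF, rfl⟩ := hx
    obtain ⟨G, hG, rfl⟩ := hy
    exact ⟨F + G, Submodule.add_mem _ hF hG, map_add _ _ _⟩
  | smul a x _ hx =>
    obtain ⟨F, hF, rfl⟩ := hx
    exact ⟨a • F, Submodule.smul_mem _ _ hF, map_smul _ _ _⟩

end Dehom

section VDiv

variable {R : Type u} [CommRing R] [IsDomain R] [ValuationRing R]
  {M : Type v} [AddCommGroup M] [Module R M]

/-- over a valuation ring every element of `J • N` is a single multiple `r • w`. -/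
theorem exists_eq_smul_of_mem_smul (J : Ideal R) (N : Submodule R M) (u : M) (hu : u ∈ J • N) :
    ∃ r ∈ J, ∃ w ∈ N, u = r • w := by
  induction hu using Submodule.smul_induction_on' with
  | smul r hr n hn => exact ⟨r, hr, n, hn, rfl⟩
  | add x _ y _ hx hy =>
    obtain ⟨r1, hr1, w1, hw1, rfl⟩ := hx
    obtain ⟨r2, hr2, w2, hw2, rfl⟩ := hy
    rcases ValuationRing.dvd_total r1 r2 with ⟨c, rfl⟩ | ⟨c, rfl⟩
    · exact ⟨r1, hr1, w1 + c • w2, N.add_mem hw1 (N.smul_mem _ hw2), by
        rw [smul_add, mul_smul]⟩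
    · exact ⟨r2, hr2, c • w1 + w2, N.add_mem (N.smul_mem _ hw1) hw2, by
        rw [smul_add, mul_smul]⟩

end VDiv

section Jac

variable (R : Type u) [CommRing R] [IsDomain R] [ValuationRing R] [Ring.KrullDimLE 1 R]
  (t : R) (ht : t ≠ 0) [IsAdicComplete (Ideal.span {t}) R]
  (A : Type u) [CommRing A] [Algebra R A] (hA : AdicRing.TopFiniteType R (Ideal.span {t}) A)

include ht hA in
theorem maximalIdeal_map_le_jacobson :
    (maximalIdeal R).map (algebraMap R A) ≤ Ideal.jacobson (⊥ : Ideal A) := by
  have hjac := BoschV3.jacobson_of_topFiniteType R (Ideal.span {t}) ⟨{t}, by simp⟩ A hA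
  rw [Ideal.map_le_iff_le_comap]
  intro c hc
  rw [Ideal.mem_comap]
  rw [← RigPt.radical_span R t ht] at hc
  obtain ⟨n, hn⟩ := hc
  have h1 : algebraMap R A c ^ n ∈ Ideal.jacobson (⊥ : Ideal A) := by
    rw [← map_pow]
    exact hjac (Ideal.mem_map_of_mem _ hn)
  rw [Ideal.jacobson, Ideal.mem_sInf] at h1 ⊢
  intro 𝔭 h𝔭
  haveI : 𝔭.IsMaximal := h𝔭.2
  exact Ideal.IsPrime.mem_of_pow_mem inferInstance n (h1 h𝔭)

include ht hA in
/-- the reduction of a finite type `A`-algebra modulo the maximal ideal of `R` is Noetherian. -/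
theorem isNoetherianRing_quot (S : Type u) [CommRing S] [Algebra A S] [Algebra.FiniteType A S] :
    IsNoetherianRing (S ⧸ ((maximalIdeal R).map (algebraMap R A)).map (algebraMap A S)) := by
  set 𝔐 : Ideal A := (maximalIdeal R).map (algebraMap R A) with h𝔐
  have hI : (Ideal.span {t}).FG := ⟨{t}, by simp⟩
  letI : Field (R ⧸ maximalIdeal R) := Ideal.Quotient.field _
  -- A / 𝔐 is of finite type over R
  have h1 : Algebra.FiniteType R (A ⧸ 𝔐) := by
    obtain ⟨d, φ, hφ⟩ := hA
    have hle : (Ideal.span {t} ^ 1).map (algebraMap R A) ≤ 𝔐 := by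
      rw [pow_one]
      apply Ideal.map_mono
      rw [Ideal.span_singleton_le_iff_mem]
      exact RigPt.t_mem_maximalIdeal R t
    exact Algebra.FiniteType.of_surjective
      ((Ideal.Quotient.factorₐ R hle).comp (psi R (Ideal.span {t}) A d φ 1))
      ((Ideal.Quotient.factor_surjective hle).comp
        (psi_surjective R (Ideal.span {t}) hI A d φ hφ 1))
  have h2 : Algebra.FiniteType (R ⧸ maximalIdeal R) (A ⧸ 𝔐) :=
    Algebra.FiniteType.of_restrictScalars_finiteType R _ _
  haveI h3 : IsNoetherianRing (A ⧸ 𝔐) := Algebra.FiniteType.isNoetherianRing (R ⧸ maximalIdeal R) _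
  have h4 : Algebra.FiniteType A (S ⧸ 𝔐.map (algebraMap A S)) :=
    Algebra.FiniteType.of_surjective (Ideal.Quotient.mkₐ A _) Ideal.Quotient.mk_surjective
  have h5 : Algebra.FiniteType (A ⧸ 𝔐) (S ⧸ 𝔐.map (algebraMap A S)) :=
    Algebra.FiniteType.of_restrictScalars_finiteType A _ _
  exact Algebra.FiniteType.isNoetherianRing (A ⧸ 𝔐) _

end Jac

section Main

variable (R : Type u) [CommRing R] [IsDomain R] [ValuationRing R] [Ring.KrullDimLE 1 R]
  (t : R) (ht : t ≠ 0) [IsAdicComplete (Ideal.span {t}) R]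
  (A : Type u) [CommRing A] [Algebra R A] (hA : AdicRing.TopFiniteType R (Ideal.span {t}) A)
  (m : ℕ) (𝔞 : Ideal (MvPolynomial (Fin m) A))

/-- the saturation of `𝔞`, an ideal. -/
noncomputable def sat : Ideal (MvPolynomial (Fin m) A) :=
  saturation (R := R) t (A := MvPolynomial (Fin m) A) (M := MvPolynomial (Fin m) A) 𝔞

theorem mem_sat (p : MvPolynomial (Fin m) A) : p ∈ sat R t A m 𝔞 ↔ ∃ n : ℕ, t ^ n • p ∈ 𝔞 :=
  Iff.rfl

include ht in
theorem sat_smul (r : R) (hr : r ≠ 0) (y : MvPolynomial (Fin m) A)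
    (h : r • y ∈ sat R t A m 𝔞) : y ∈ sat R t A m 𝔞 := by
  obtain ⟨n, c, hc⟩ := RigPt5.exists_dvd_pow R t r hr
  obtain ⟨n', hn'⟩ := h
  refine ⟨n' + n, ?_⟩
  have : t ^ (n' + n) • y = c • (t ^ n' • r • y) := by
    rw [pow_add, hc, ← mul_smul, ← mul_smul]
    congr 1
    ring
  rw [this]
  exact Submodule.smul_of_tower_mem _ c hn'

/-- the degree `e` part of the homogenized saturation. -/
noncomputable def Ne (e : ℕ) : Submodule A (MvPolynomial (Fin (m + 1)) A) :=
  homogeneousSubmodule (Fin (m + 1)) A e ⊓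
    ((sat R t A m 𝔞).restrictScalars A).comap (dehom m).toLinearMap

theorem mem_Ne (e : ℕ) (F : MvPolynomial (Fin (m + 1)) A) :
    F ∈ Ne R t A m 𝔞 e ↔ F ∈ homogeneousSubmodule (Fin (m + 1)) A e ∧
      dehom m F ∈ sat R t A m 𝔞 := Iff.rfl

include ht hA in
theorem Ne_fg (e : ℕ) : (Ne R t A m 𝔞 e).FG := by
  haveI : Module.Finite A (homogeneousSubmodule (Fin (m + 1)) A e) :=
    Module.Finite.iff_fg.mpr (homogeneousSubmodule_fg (Fin (m + 1)) A e)
  set N : Submodule A (homogeneousSubmodule (Fin (m + 1)) A e) :=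
    (((sat R t A m 𝔞).restrictScalars A).comap (dehom m).toLinearMap).comap
      (homogeneousSubmodule (Fin (m + 1)) A e).subtype with hN
  have hsat : ∀ x : homogeneousSubmodule (Fin (m + 1)) A e,
      algebraMap R A t • x ∈ N → x ∈ N := by
    intro x hx
    change dehom m ((algebraMap R A t • x : homogeneousSubmodule (Fin (m + 1)) A e) :
      MvPolynomial (Fin (m + 1)) A) ∈ sat R t A m 𝔞 at hx
    change dehom m (x : MvPolynomial (Fin (m + 1)) A) ∈ sat R t A m 𝔞
    rw [Submodule.coe_smul, map_smul, algebraMap_smul] at hx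
    exact sat_smul R t ht A m 𝔞 t ht _ hx
  have h1 : N.FG := RPowSatMod.sat_fg_module R t ht A hA _ N hsat
  have h2 := h1.map (homogeneousSubmodule (Fin (m + 1)) A e).subtype
  rw [hN, Submodule.map_comap_subtype] at h2
  exact h2

theorem homogeneousComponent_mem_smul {σ : Type} (𝔐 : Ideal A) (e : ℕ) (z : MvPolynomial σ A)
    (hz : z ∈ 𝔐.map (algebraMap A (MvPolynomial σ A))) :
    homogeneousComponent e z ∈ 𝔐 • homogeneousSubmodule σ A e := by
  classical
  rw [algebraMap_eq, mem_map_C_iff] at hz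
  rw [homogeneousComponent_apply]
  apply Submodule.sum_mem
  intro d hd
  have h1 : monomial d (coeff d z) = coeff d z • monomial d (1 : A) := by
    rw [smul_monomial, smul_eq_mul, mul_one]
  rw [h1]
  refine Submodule.smul_mem_smul (hz d) ?_
  rw [mem_homogeneousSubmodule]
  exact isHomogeneous_monomial _ (Finset.mem_filter.mp hd).2

/-- homogeneous component of a product with a homogeneous element. -/
theorem homogeneousComponent_mul_mem {σ : Type} (e e' : ℕ) (G H : MvPolynomial σ A)
    (hH : H ∈ homogeneousSubmodule σ A e') (W : Submodule A (MvPolynomial σ A))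
    (hW : ∀ a, ∀ F ∈ homogeneousSubmodule σ A a, a + e' = e → F * H ∈ W) :
    homogeneousComponent e (G * H) ∈ W := by
  classical
  have h0 : G * H = ∑ a ∈ Finset.range (G.totalDegree + 1), homogeneousComponent a G * H := by
    rw [← Finset.sum_mul, sum_homogeneousComponent]
  rw [h0, map_sum]
  apply Submodule.sum_mem
  intro a _
  have h1 : homogeneousComponent a G * H ∈ homogeneousSubmodule σ A (a + e') := by
    rw [mem_homogeneousSubmodule]
    exact (homogeneousComponent_isHomogeneous a G).mul hH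
  rw [homogeneousComponent_of_mem h1]
  split_ifs with h
  · exact hW a _ (homogeneousComponent_isHomogeneous a G) h.symm
  · exact Submodule.zero_mem _

include ht hA in
/-- **bounded torsion**: the `t`-power torsion of any quotient of a polynomial ring over an
algebra topologically of finite type is killed by a fixed power of `t`. -/
theorem bounded_torsion : ∃ k : ℕ, ∀ p ∈ sat R t A m 𝔞, t ^ k • p ∈ 𝔞 := by
  classical
  set 𝔐 : Ideal A := (maximalIdeal R).map (algebraMap R A) with h𝔐
  set 𝔐S : Ideal (MvPolynomial (Fin (m + 1)) A) :=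
    𝔐.map (algebraMap A (MvPolynomial (Fin (m + 1)) A)) with h𝔐S
  haveI : IsNoetherianRing (MvPolynomial (Fin (m + 1)) A ⧸ 𝔐S) :=
    isNoetherianRing_quot R t ht A hA (MvPolynomial (Fin (m + 1)) A)
  let G : Set (MvPolynomial (Fin (m + 1)) A) := {F | ∃ e, F ∈ Ne R t A m 𝔞 e}
  have hfg : (Ideal.span ((Ideal.Quotient.mk 𝔐S) '' G)).FG := IsNoetherian.noetherian _
  obtain ⟨s', hs'G, hs'⟩ := (Submodule.fg_span_iff_fg_span_finset_subset _).mp hfg
  have hlift : ∀ y ∈ s', ∃ F, (∃ e, F ∈ Ne R t A m 𝔞 e) ∧ Ideal.Quotient.mk 𝔐S F = y :=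
    fun y hy => hs'G hy
  choose! H hHG hHy using hlift
  choose! ee hee using hHG
  have hexp : ∀ y ∈ s', ∃ n, t ^ n • dehom m (H y) ∈ 𝔞 := fun y hy => (hee y hy).2
  choose! nn hnn using hexp
  -- the span of multiples of the `H y` in degree `e`
  let W : ℕ → Submodule A (MvPolynomial (Fin (m + 1)) A) := fun e =>
    Submodule.span A {x | ∃ y ∈ s', ∃ a, ∃ F ∈ homogeneousSubmodule (Fin (m + 1)) A a,
      a + ee y = e ∧ x = F * H y}
  have hWN : ∀ e, W e ≤ Ne R t A m 𝔞 e := by
    intro e
    apply Submodule.span_le.mpr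
    rintro x ⟨y, hy, a, F, hF, hae, rfl⟩
    refine ⟨?_, ?_⟩
    · rw [← hae]
      exact (show F.IsHomogeneous a from hF).mul (hee y hy).1
    · change dehom m (F * H y) ∈ sat R t A m 𝔞
      rw [map_mul]
      exact Ideal.mul_mem_left _ _ (hee y hy).2
  have hjac := maximalIdeal_map_le_jacobson R t ht A hA
  have key : ∀ e, Ne R t A m 𝔞 e ≤ W e := by
    intro e
    refine Submodule.le_of_le_smul_of_le_jacobson_bot (Ne_fg R t ht A hA m 𝔞 e) hjac ?_
    intro F hF
    -- reduce modulo 𝔐S
    have h1 : Ideal.Quotient.mk 𝔐S F ∈ Submodule.span (MvPolynomial (Fin (m + 1)) A ⧸ 𝔐S)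
        (↑s' : Set (MvPolynomial (Fin (m + 1)) A ⧸ 𝔐S)) := by
      rw [← hs']
      exact Submodule.subset_span ⟨F, ⟨e, hF⟩, rfl⟩
    obtain ⟨c, -, hc⟩ := Submodule.mem_span_finset.mp h1
    let g : (MvPolynomial (Fin (m + 1)) A ⧸ 𝔐S) → MvPolynomial (Fin (m + 1)) A :=
      fun y => Function.surjInv Ideal.Quotient.mk_surjective (c y)
    have hg : ∀ y, Ideal.Quotient.mk 𝔐S (g y) = c y :=
      fun y => Function.surjInv_eq Ideal.Quotient.mk_surjective (c y)
    set z := F - ∑ y ∈ s', g y * H y with hz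
    have hzmem : z ∈ 𝔐S := by
      rw [← Ideal.Quotient.eq_zero_iff_mem, hz, map_sub, map_sum, ← hc, sub_eq_zero]
      apply Finset.sum_congr rfl
      intro y hy
      rw [map_mul, hg, hHy y hy, smul_eq_mul]
    have hF1 : F = ∑ y ∈ s', homogeneousComponent e (g y * H y) + homogeneousComponent e z := by
      rw [← map_sum, ← map_add, hz, add_sub_cancel, homogeneousComponent_of_mem hF.1, if_pos rfl]
    have hA1 : ∀ y ∈ s', homogeneousComponent e (g y * H y) ∈ W e := by
      intro y hy
      apply homogeneousComponent_mul_mem A e (ee y) (g y) (H y) (hee y hy).1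
      intro a F' hF' hae
      exact Submodule.subset_span ⟨y, hy, a, F', hF', hae, rfl⟩
    have hsum : ∑ y ∈ s', homogeneousComponent e (g y * H y) ∈ W e :=
      Submodule.sum_mem _ hA1
    have hu1 : homogeneousComponent e z ∈ Ne R t A m 𝔞 e := by
      have : homogeneousComponent e z = F - ∑ y ∈ s', homogeneousComponent e (g y * H y) :=
        eq_sub_of_add_eq' hF1.symm
      rw [this]
      exact Submodule.sub_mem _ hF (hWN e hsum)
    have hu2 : homogeneousComponent e z ∈ 𝔐 • homogeneousSubmodule (Fin (m + 1)) A e :=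
      homogeneousComponent_mem_smul A 𝔐 e z hzmem
    have hu3 : homogeneousComponent e z ∈ 𝔐 • Ne R t A m 𝔞 e := by
      have h2 : homogeneousComponent e z ∈
          maximalIdeal R • (homogeneousSubmodule (Fin (m + 1)) A e).restrictScalars R := by
        rw [← Ideal.smul_restrictScalars]
        exact hu2
      obtain ⟨r, hr, w, hw, huw⟩ := exists_eq_smul_of_mem_smul _ _ _ h2
      by_cases hr0 : r = 0
      · rw [huw, hr0, zero_smul]
        exact Submodule.zero_mem _
      · have hw' : w ∈ Ne R t A m 𝔞 e := by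
          refine ⟨hw, ?_⟩
          change dehom m w ∈ sat R t A m 𝔞
          apply sat_smul R t ht A m 𝔞 r hr0
          have := hu1.2
          change dehom m (homogeneousComponent e z) ∈ sat R t A m 𝔞 at this
          rw [huw, ← algebraMap_smul A r w, map_smul, algebraMap_smul] at this
          exact this
        rw [huw, ← algebraMap_smul A r w]
        exact Submodule.smul_mem_smul (Ideal.mem_map_of_mem _ hr) hw'
    rw [hF1]
    exact Submodule.add_mem_sup hsum hu3
  refine ⟨s'.sup nn, ?_⟩
  intro p hp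
  obtain ⟨F, hF, hFp⟩ := exists_hom m p.totalDegree p
    ((mem_restrictTotalDegree _ _ _).mpr le_rfl)
  have hFN : F ∈ Ne R t A m 𝔞 p.totalDegree := ⟨hF, by
    change dehom m F ∈ sat R t A m 𝔞
    rw [hFp]
    exact hp⟩
  have hFW := key _ hFN
  have : ∀ x ∈ W p.totalDegree, t ^ (s'.sup nn) • dehom m x ∈ 𝔞 := by
    intro x hx
    induction hx using Submodule.span_induction with
    | mem x hx =>
      obtain ⟨y, hy, a, F', hF', hae, rfl⟩ := hx
      rw [map_mul, ← mul_smul_comm]
      apply Ideal.mul_mem_left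
      obtain ⟨j, hj⟩ := Nat.exists_eq_add_of_le (Finset.le_sup (f := nn) hy)
      rw [hj, pow_add, mul_comm, mul_smul]
      exact Submodule.smul_of_tower_mem _ _ (hnn y hy)
    | zero => simp
    | add x y _ _ hx hy =>
      rw [map_add, smul_add]
      exact Ideal.add_mem _ hx hy
    | smul a x _ hx =>
      rw [map_smul, smul_comm]
      exact Submodule.smul_of_tower_mem _ _ hx
  rw [← hFp]
  exact this F hFW

end Main

section AR

variable (R : Type u) [CommRing R] [IsDomain R] [ValuationRing R] [Ring.KrullDimLE 1 R]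
  (t : R) (ht : t ≠ 0) [IsAdicComplete (Ideal.span {t}) R]
  (A : Type u) [CommRing A] [Algebra R A] (hA : AdicRing.TopFiniteType R (Ideal.span {t}) A)
  (C : Type u) [CommRing C] [Algebra R C] [Algebra A C] [IsScalarTower R A C]
  [Algebra.FiniteType A C]

include ht hA in
/-- bounded `t`-power torsion modulo any ideal of a finite type algebra. -/
theorem bounded_torsion_ft (J : Ideal C) :
    ∃ k : ℕ, ∀ (c : C) (n : ℕ), t ^ n • c ∈ J → t ^ k • c ∈ J := by
  obtain ⟨m, π, hπ⟩ := Algebra.FiniteType.iff_quotient_mvPolynomial''.mp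
    (inferInstance : Algebra.FiniteType A C)
  obtain ⟨k, hk⟩ := bounded_torsion R t ht A hA m (J.comap π)
  refine ⟨k, fun c n hc => ?_⟩
  obtain ⟨p, rfl⟩ := hπ c
  have h1 : p ∈ sat R t A m (J.comap π) := by
    refine ⟨n, ?_⟩
    rw [Ideal.mem_comap, ← algebraMap_smul A (t ^ n) p, map_smul, algebraMap_smul]
    exact hc
  have h2 := hk p h1
  rw [Ideal.mem_comap, ← algebraMap_smul A (t ^ k) p, map_smul, algebraMap_smul] at h2
  exact h2

include ht hA in
/-- Artin–Rees for ideals of finite type algebras. -/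
theorem artin_rees_ft (J : Ideal C) :
    ∃ k : ℕ, ∀ n : ℕ, ((Ideal.span {t}).map (algebraMap R C)) ^ (n + k) • (⊤ : Submodule C C) ⊓ J ≤
      ((Ideal.span {t}).map (algebraMap R C)) ^ n • (J : Submodule C C) := by
  obtain ⟨k, hk⟩ := bounded_torsion_ft R t ht A hA C J
  refine ⟨k, fun n x hx => ?_⟩
  obtain ⟨hx1, hx2⟩ := hx
  rw [Ideal.map_span, Set.image_singleton, Ideal.span_singleton_pow, smul_eq_mul, Ideal.mul_top,
    SetLike.mem_coe, Ideal.mem_span_singleton'] at hx1
  obtain ⟨c, rfl⟩ := hx1
  have h1 : t ^ (n + k) • c ∈ J := by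
    rw [Algebra.smul_def, map_pow, mul_comm]
    exact hx2
  have h2 := hk c (n + k) h1
  have h3 : c * algebraMap R C t ^ (n + k) = algebraMap R C t ^ n • (t ^ k • c) := by
    rw [smul_eq_mul, Algebra.smul_def (t ^ k) c, map_pow, pow_add]
    ring
  rw [h3]
  refine Submodule.smul_mem_smul ?_ h2
  rw [Ideal.map_span, Set.image_singleton, Ideal.span_singleton_pow]
  exact Ideal.mem_span_singleton_self _

end AR

section Flat

variable (R : Type u) [CommRing R] (I : Ideal R) (hR : AdicRing.IsBase R I)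
  (A : Type u) [CommRing A] [Algebra R A] (hA : AdicRing.TopFiniteType R I A)
  (C : Type u) [CommRing C] [Algebra R C] [Algebra A C] [IsScalarTower R A C]
  [Algebra.FiniteType A C]

theorem evalₐ_eq_zero (hI : I.FG) (n : ℕ) (x : AdicCompletion (I.map (algebraMap R C)) C)
    (hx : AdicCompletion.evalₐ (I.map (algebraMap R C)) n x = 0) :
    x ∈ ((I.map (algebraMap R C)) ^ n).map
      (algebraMap C (AdicCompletion (I.map (algebraMap R C)) C)) := by
  obtain ⟨c, hc⟩ := exists_sub_mem_cplC R I hI C n x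
  have hmap : (I ^ n).map (algebraMap R (AdicCompletion (I.map (algebraMap R C)) C)) =
      ((I.map (algebraMap R C)) ^ n).map
        (algebraMap C (AdicCompletion (I.map (algebraMap R C)) C)) := by
    rw [← Ideal.map_pow, Ideal.map_map, ← IsScalarTower.algebraMap_eq]
  have hker : ∀ z ∈ ((I.map (algebraMap R C)) ^ n).map
      (algebraMap C (AdicCompletion (I.map (algebraMap R C)) C)),
      AdicCompletion.evalₐ (I.map (algebraMap R C)) n z = 0 := by
    intro z hz
    have h1 : ((I.map (algebraMap R C)) ^ n).map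
        (algebraMap C (AdicCompletion (I.map (algebraMap R C)) C)) ≤
        RingHom.ker (AdicCompletion.evalₐ (I.map (algebraMap R C)) n).toRingHom := by
      rw [Ideal.map_le_iff_le_comap]
      intro c' hc'
      rw [Ideal.mem_comap, RingHom.mem_ker]
      change AdicCompletion.evalₐ (I.map (algebraMap R C)) n
        (AdicCompletion.of _ _ c') = 0
      rw [AdicCompletion.evalₐ_of]
      exact Ideal.Quotient.eq_zero_iff_mem.mpr hc'
    exact h1 hz
  rw [hmap] at hc
  have h2 := hker _ hc
  rw [map_sub, hx, zero_sub, neg_eq_zero, AdicCompletion.evalₐ_of,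
    Ideal.Quotient.eq_zero_iff_mem] at h2
  have h3 : AdicCompletion.of (I.map (algebraMap R C)) C c ∈
      ((I.map (algebraMap R C)) ^ n).map
        (algebraMap C (AdicCompletion (I.map (algebraMap R C)) C)) :=
    Ideal.mem_map_of_mem _ h2
  have := Ideal.add_mem _ hc h3
  rwa [sub_add_cancel] at this

include hR hA in
/-- S11539 -/
theorem flat_completion : Module.Flat C (AdicCompletion (I.map (algebraMap R C)) C) := by
  have hI : I.FG := BoschV6.isBase_fg R I hR
  have hR' := hR
  obtain ⟨hc, h⟩ := hR'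
  rcases h with ⟨hN, -⟩ | ⟨hD, hV, hK, t, ht, rfl⟩
  · haveI : IsNoetherianRing A := BoschV.isNoetherianRing_of_topFiniteType R I A hA
    haveI : IsNoetherianRing C := Algebra.FiniteType.isNoetherianRing A C
    infer_instance
  · haveI hVR : ValuationRing R := { hV with }
    have hĈ : AdicRing.TopFiniteType R (Ideal.span {t})
        (AdicCompletion ((Ideal.span {t}).map (algebraMap R C)) C) :=
      tft_completion R (Ideal.span {t}) hI A hA C
    apply BoschV6.flat_of_injOnTorsion_pow_gen ((Ideal.span {t}).map (algebraMap R C))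
    · intro J _
      exact artin_rees_ft R t ht A hA C J
    · intro J hJ
      exact BoschV6.isHausdorff_tensor R (Ideal.span {t}) hR C
        (AdicCompletion ((Ideal.span {t}).map (algebraMap R C)) C) hĈ
        (AdicCompletion ((Ideal.span {t}).map (algebraMap R C)) C) J hJ
    · intro n hn
      haveI : Module.Flat (C ⧸ ((Ideal.span {t}).map (algebraMap R C)) ^ n)
          ((C ⧸ ((Ideal.span {t}).map (algebraMap R C)) ^ n) ⊗[C]
            (AdicCompletion ((Ideal.span {t}).map (algebraMap R C)) C)) := by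
        apply BoschV9.flat_quot_tensor (((Ideal.span {t}).map (algebraMap R C)) ^ n)
          (AdicCompletion ((Ideal.span {t}).map (algebraMap R C)) C)
          (C ⧸ ((Ideal.span {t}).map (algebraMap R C)) ^ n)
          (AdicCompletion.evalₐ ((Ideal.span {t}).map (algebraMap R C)) n)
        · exact AdicCompletion.surjective_evalₐ _ n
        · intro b hb
          exact evalₐ_eq_zero R (Ideal.span {t}) C hI n b hb
      exact injOnTorsion_of_flat

end Flat

end Groth.Agent.Lib.Helper9.BoschV11
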