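import Mathlib
import Groth.Agent.Lib.Helper9.BoschV11

set_option autoImplicit false
set_option linter.style.haveILetI false
set_option linter.unusedSectionVars false
set_option linter.unusedVariables false
universe u v

namespace Groth.Agent.Lib.Helper9.ValSat
open Groth.Agent.Lib.Helper9.BoschV11
open Function IsLocalRing MvPolynomial

section Fin

variable (R : Type u) [CommRing R] [IsDomain R] [ValuationRing R]

/-- a saturated submodule of a finite module over a valuation ring is finitely generated. -/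
theorem fg_of_saturated (M : Type v) [AddCommGroup M] [Module R M] [Module.Finite R M]
    (N : Submodule R M) (hsat : ∀ r : R, r ≠ 0 → ∀ x : M, r • x ∈ N → x ∈ N) : N.FG := by
  haveI : Module.Flat R (M ⧸ N) := by
    rw [Module.Flat.flat_iff_torsion_eq_bot_of_isBezout, Submodule.eq_bot_iff]
    intro y hy
    obtain ⟨x, rfl⟩ := N.mkQ_surjective y
    rw [Submodule.mem_torsion_iff] at hy
    obtain ⟨⟨a, ha⟩, hax⟩ := hy
    have ha0 : a ≠ 0 := nonZeroDivisors.ne_zero ha
    change a • N.mkQ x = 0 at hax
    rw [← map_smul, Submodule.mkQ_apply, Submodule.Quotient.mk_eq_zero] at hax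
    rw [Submodule.mkQ_apply, Submodule.Quotient.mk_eq_zero]
    exact hsat a ha0 x hax
  haveI : Module.Free R (M ⧸ N) := Module.free_of_flat_of_isLocalRing
  haveI : Module.FinitePresentation R (M ⧸ N) := Module.finitePresentation_of_projective _ _
  have := Module.FinitePresentation.fg_ker N.mkQ N.mkQ_surjective
  rwa [Submodule.ker_mkQ] at this

end Fin

section Main

variable (R : Type u) [CommRing R] [IsDomain R] [ValuationRing R]
  (m : ℕ) (𝔟 : Ideal (MvPolynomial (Fin m) R))

theorem isNoetherianRing_quot (σ : Type) [Finite σ] :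
    IsNoetherianRing (MvPolynomial σ R ⧸ (maximalIdeal R).map (C : R →+* MvPolynomial σ R)) := by
  letI := Ideal.Quotient.field (maximalIdeal R)
  haveI : IsNoetherianRing (MvPolynomial σ (R ⧸ maximalIdeal R)) := MvPolynomial.isNoetherianRing
  exact isNoetherianRing_of_ringEquiv _
    (quotientEquivQuotientMvPolynomial (σ := σ) (maximalIdeal R)).toRingEquiv

/-- the degree `e` part of the homogenization of `𝔟`. -/
noncomputable def Ne (e : ℕ) : Submodule R (MvPolynomial (Fin (m + 1)) R) :=
  homogeneousSubmodule (Fin (m + 1)) R e ⊓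
    (𝔟.restrictScalars R).comap (dehom m).toLinearMap

theorem mem_Ne (e : ℕ) (F : MvPolynomial (Fin (m + 1)) R) :
    F ∈ Ne R m 𝔟 e ↔ F ∈ homogeneousSubmodule (Fin (m + 1)) R e ∧ dehom m F ∈ 𝔟 := Iff.rfl

variable (hsat : ∀ r : R, r ≠ 0 → ∀ p : MvPolynomial (Fin m) R, r • p ∈ 𝔟 → p ∈ 𝔟)

include hsat in
theorem Ne_fg (e : ℕ) : (Ne R m 𝔟 e).FG := by
  haveI : Module.Finite R (homogeneousSubmodule (Fin (m + 1)) R e) :=
    Module.Finite.iff_fg.mpr (homogeneousSubmodule_fg (Fin (m + 1)) R e)
  set N : Submodule R (homogeneousSubmodule (Fin (m + 1)) R e) :=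
    ((𝔟.restrictScalars R).comap (dehom m).toLinearMap).comap
      (homogeneousSubmodule (Fin (m + 1)) R e).subtype with hN
  have hsat' : ∀ r : R, r ≠ 0 → ∀ x : homogeneousSubmodule (Fin (m + 1)) R e,
      r • x ∈ N → x ∈ N := by
    intro r hr x hx
    change dehom m ((r • x : homogeneousSubmodule (Fin (m + 1)) R e) :
      MvPolynomial (Fin (m + 1)) R) ∈ 𝔟 at hx
    change dehom m (x : MvPolynomial (Fin (m + 1)) R) ∈ 𝔟
    rw [Submodule.coe_smul, map_smul] at hx
    exact hsat r hr _ hx
  have h1 : N.FG := fg_of_saturated R _ N hsat'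
  have h2 := h1.map (homogeneousSubmodule (Fin (m + 1)) R e).subtype
  rw [hN, Submodule.map_comap_subtype] at h2
  exact h2

include hsat in
/-- **valuation ring linchpin**: a saturated ideal of a polynomial ring over a valuation ring is
finitely generated. -/
theorem sat_fg : 𝔟.FG := by
  classical
  set 𝔐 : Ideal R := maximalIdeal R with h𝔐
  set 𝔐S : Ideal (MvPolynomial (Fin (m + 1)) R) :=
    𝔐.map (algebraMap R (MvPolynomial (Fin (m + 1)) R)) with h𝔐S
  haveI : IsNoetherianRing (MvPolynomial (Fin (m + 1)) R ⧸ 𝔐S) :=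
    isNoetherianRing_quot R (Fin (m + 1))
  let G : Set (MvPolynomial (Fin (m + 1)) R) := {F | ∃ e, F ∈ Ne R m 𝔟 e}
  have hfg : (Ideal.span ((Ideal.Quotient.mk 𝔐S) '' G)).FG := IsNoetherian.noetherian _
  obtain ⟨s', hs'G, hs'⟩ := (Submodule.fg_span_iff_fg_span_finset_subset _).mp hfg
  have hlift : ∀ y ∈ s', ∃ F, (∃ e, F ∈ Ne R m 𝔟 e) ∧ Ideal.Quotient.mk 𝔐S F = y :=
    fun y hy => hs'G hy
  choose! H hHG hHy using hlift
  choose! ee hee using hHG
  let W : ℕ → Submodule R (MvPolynomial (Fin (m + 1)) R) := fun e =>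
    Submodule.span R {x | ∃ y ∈ s', ∃ a, ∃ F ∈ homogeneousSubmodule (Fin (m + 1)) R a,
      a + ee y = e ∧ x = F * H y}
  have hWN : ∀ e, W e ≤ Ne R m 𝔟 e := by
    intro e
    apply Submodule.span_le.mpr
    rintro x ⟨y, hy, a, F, hF, hae, rfl⟩
    refine ⟨?_, ?_⟩
    · rw [← hae]
      exact (show F.IsHomogeneous a from hF).mul (hee y hy).1
    · change dehom m (F * H y) ∈ 𝔟
      rw [map_mul]
      exact Ideal.mul_mem_left _ _ (hee y hy).2
  have hjac : 𝔐 ≤ Ideal.jacobson ⊥ := IsLocalRing.maximalIdeal_le_jacobson _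
  have key : ∀ e, Ne R m 𝔟 e ≤ W e := by
    intro e
    refine Submodule.le_of_le_smul_of_le_jacobson_bot (Ne_fg R m 𝔟 hsat e) hjac ?_
    intro F hF
    have h1 : Ideal.Quotient.mk 𝔐S F ∈ Submodule.span (MvPolynomial (Fin (m + 1)) R ⧸ 𝔐S)
        (↑s' : Set (MvPolynomial (Fin (m + 1)) R ⧸ 𝔐S)) := by
      rw [← hs']
      exact Submodule.subset_span ⟨F, ⟨e, hF⟩, rfl⟩
    obtain ⟨c, -, hc⟩ := Submodule.mem_span_finset.mp h1
    let g : (MvPolynomial (Fin (m + 1)) R ⧸ 𝔐S) → MvPolynomial (Fin (m + 1)) R :=
      fun y => Function.surjInv Ideal.Quotient.mk_surjective (c y)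
    have hg : ∀ y, Ideal.Quotient.mk 𝔐S (g y) = c y :=
      fun y => Function.surjInv_eq Ideal.Quotient.mk_surjective (c y)
    set z := F - ∑ y ∈ s', g y * H y with hz
    have hzmem : z ∈ 𝔐S := by
      rw [← Ideal.Quotient.eq_zero_iff_mem, hz, map_sub, map_sum, ← hc, sub_eq_zero]
      apply Finset.sum_congr rfl
      intro y hy
      rw [map_mul, hg, hHy y hy, smul_eq_mul]
    have hF1 : F = ∑ y ∈ s', homogeneousComponent e (g y * H y) + homogeneousComponent e z := by
      rw [← map_sum, ← map_add, hz, add_sub_cancel, homogeneousComponent_of_mem hF.1, if_pos rfl]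
    have hA1 : ∀ y ∈ s', homogeneousComponent e (g y * H y) ∈ W e := by
      intro y hy
      apply homogeneousComponent_mul_mem R e (ee y) (g y) (H y) (hee y hy).1
      intro a F' hF' hae
      exact Submodule.subset_span ⟨y, hy, a, F', hF', hae, rfl⟩
    have hsum : ∑ y ∈ s', homogeneousComponent e (g y * H y) ∈ W e :=
      Submodule.sum_mem _ hA1
    have hu1 : homogeneousComponent e z ∈ Ne R m 𝔟 e := by
      have : homogeneousComponent e z = F - ∑ y ∈ s', homogeneousComponent e (g y * H y) :=
        eq_sub_of_add_eq' hF1.symm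
      rw [this]
      exact Submodule.sub_mem _ hF (hWN e hsum)
    have hu2 : homogeneousComponent e z ∈ 𝔐 • homogeneousSubmodule (Fin (m + 1)) R e :=
      homogeneousComponent_mem_smul R 𝔐 e z hzmem
    have hu3 : homogeneousComponent e z ∈ 𝔐 • Ne R m 𝔟 e := by
      obtain ⟨r, hr, w, hw, huw⟩ := exists_eq_smul_of_mem_smul _ _ _ hu2
      by_cases hr0 : r = 0
      · rw [huw, hr0, zero_smul]
        exact Submodule.zero_mem _
      · have hw' : w ∈ Ne R m 𝔟 e := by
          refine ⟨hw, ?_⟩
          apply hsat r hr0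
          have := hu1.2
          change dehom m (homogeneousComponent e z) ∈ 𝔟 at this
          rw [huw, map_smul] at this
          exact this
        rw [huw]
        exact Submodule.smul_mem_smul hr hw'
    rw [hF1]
    exact Submodule.add_mem_sup hsum hu3
  -- conclusion
  have hle : 𝔟 ≤ Ideal.span ((s'.image fun y => dehom m (H y) : Finset _) : Set _) := by
    intro p hp
    obtain ⟨F, hF, hFp⟩ := exists_hom m p.totalDegree p
      ((mem_restrictTotalDegree _ _ _).mpr le_rfl)
    have hFN : F ∈ Ne R m 𝔟 p.totalDegree := ⟨hF, by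
      change dehom m F ∈ 𝔟
      rw [hFp]
      exact hp⟩
    have hFW := key _ hFN
    have : ∀ x ∈ W p.totalDegree,
        dehom m x ∈ Ideal.span ((s'.image fun y => dehom m (H y) : Finset _) : Set _) := by
      intro x hx
      induction hx using Submodule.span_induction with
      | mem x hx =>
        obtain ⟨y, hy, a, F', hF', hae, rfl⟩ := hx
        rw [map_mul]
        apply Ideal.mul_mem_left
        apply Ideal.subset_span
        rw [Finset.coe_image]
        exact ⟨y, hy, rfl⟩
      | zero => simp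
      | add x y _ _ hx hy =>
        rw [map_add]
        exact Ideal.add_mem _ hx hy
      | smul a x _ hx =>
        rw [map_smul]
        exact Submodule.smul_of_tower_mem _ _ hx
    rw [← hFp]
    exact this F hFW
  have hge : Ideal.span ((s'.image fun y => dehom m (H y) : Finset _) : Set _) ≤ 𝔟 := by
    rw [Ideal.span_le]
    intro x hx
    rw [Finset.coe_image] at hx
    obtain ⟨y, hy, rfl⟩ := hx
    exact (hee y hy).2
  rw [le_antisymm hle hge]
  exact ⟨_, rfl⟩

end Main

section Mod

variable (R : Type u) [CommRing R] [IsDomain R] [ValuationRing R] (d s : ℕ)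

set_option quotPrecheck false in
local notation "PP" => MvPolynomial (Fin d) R
set_option quotPrecheck false in
local notation "T'" => TrivSqZeroExt (MvPolynomial (Fin d) R) (Fin s → MvPolynomial (Fin d) R)

theorem smul_eq_zero_poly {σ : Type} (r : R) (hr : r ≠ 0) (p : MvPolynomial σ R)
    (h : r • p = 0) : p = 0 := by
  ext n
  have := congrArg (coeff n) h
  rw [coeff_smul, coeff_zero, smul_eq_mul] at this
  rw [coeff_zero]
  exact (mul_eq_zero.mp this).resolve_left hr

/-- generators of `P ⋉ P^s`. -/
noncomputable def gens : Fin (d + s) → T' :=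
  Fin.addCases (fun i => TrivSqZeroExt.inl (MvPolynomial.X i))
    (fun j => TrivSqZeroExt.inr (Pi.single j 1))

theorem inl_mem (q : PP) :
    (TrivSqZeroExt.inl q : T') ∈ Algebra.adjoin R (Set.range (gens R d s)) := by
  let Φ : PP →ₐ[R] T' := TrivSqZeroExt.inlAlgHom R PP (Fin s → PP)
  have h1 : Φ = MvPolynomial.aeval (Φ ∘ MvPolynomial.X) := MvPolynomial.aeval_unique Φ
  have h2 : Φ q ∈ Algebra.adjoin R (Set.range (Φ ∘ MvPolynomial.X)) := by
    rw [Algebra.adjoin_range_eq_range_aeval, ← h1]
    exact ⟨q, rfl⟩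
  have h3 : Set.range (Φ ∘ MvPolynomial.X) ⊆ Set.range (gens R d s) := by
    rintro _ ⟨i, rfl⟩
    refine ⟨Fin.castAdd s i, ?_⟩
    simp only [gens, Fin.addCases_left]
    rfl
  exact Algebra.adjoin_mono h3 h2

theorem inr_single_mem (j : Fin s) :
    (TrivSqZeroExt.inr (Pi.single j 1) : T') ∈ Algebra.adjoin R (Set.range (gens R d s)) := by
  apply Algebra.subset_adjoin
  refine ⟨Fin.natAdd d j, ?_⟩
  simp only [gens, Fin.addCases_right]

theorem gens_top (x : T') : x ∈ Algebra.adjoin R (Set.range (gens R d s)) := by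
  classical
  have hx : x = TrivSqZeroExt.inl x.fst +
      ∑ j, TrivSqZeroExt.inl (x.snd j) * TrivSqZeroExt.inr (Pi.single j 1) := by
    apply TrivSqZeroExt.ext
    · simp only [TrivSqZeroExt.fst_mul, TrivSqZeroExt.fst_add, TrivSqZeroExt.fst_inl,
        TrivSqZeroExt.fst_inr, TrivSqZeroExt.fst_sum, add_zero, mul_zero,
        Finset.sum_const_zero]
    · funext j
      simp only [TrivSqZeroExt.snd_mul, TrivSqZeroExt.snd_add, TrivSqZeroExt.snd_inl,
        TrivSqZeroExt.snd_inr, TrivSqZeroExt.snd_sum,
        TrivSqZeroExt.fst_inl, TrivSqZeroExt.fst_inr, smul_zero, zero_add,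
        add_zero, MulOpposite.op_zero, zero_smul, Pi.add_apply, Pi.smul_apply,
        Finset.sum_apply, smul_eq_mul, Pi.zero_apply]
      simp [Pi.single_apply, Finset.sum_ite_eq]
  rw [hx]
  refine Subalgebra.add_mem _ (inl_mem R d s _) (Subalgebra.sum_mem _ fun j _ => ?_)
  exact Subalgebra.mul_mem _ (inl_mem R d s _) (inr_single_mem R d s j)

/-- **Module linchpin**: a saturated submodule of `P^s`, `P` a polynomial ring over a valuation
ring, is finitely generated. -/
theorem sat_fg_pi (N : Submodule PP (Fin s → PP))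
    (hsat : ∀ r : R, r ≠ 0 → ∀ x : Fin s → PP, r • x ∈ N → x ∈ N) : N.FG := by
  classical
  let ψ : MvPolynomial (Fin (d + s)) R →ₐ[R] T' := MvPolynomial.aeval (gens R d s)
  have hψ : Function.Surjective ψ := by
    intro x
    have := gens_top R d s x
    rw [Algebra.adjoin_range_eq_range_aeval] at this
    exact this
  let 𝔑 : Ideal T' :=
    { carrier := {x | x.fst = 0 ∧ x.snd ∈ N}
      add_mem' := by
        rintro x y ⟨hx1, hx2⟩ ⟨hy1, hy2⟩
        exact ⟨by rw [TrivSqZeroExt.fst_add, hx1, hy1, add_zero],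
          by rw [TrivSqZeroExt.snd_add]; exact N.add_mem hx2 hy2⟩
      zero_mem' := ⟨rfl, N.zero_mem⟩
      smul_mem' := by
        rintro c x ⟨hx1, hx2⟩
        refine ⟨by rw [smul_eq_mul, TrivSqZeroExt.fst_mul, hx1, mul_zero], ?_⟩
        rw [smul_eq_mul, TrivSqZeroExt.snd_mul, hx1, MulOpposite.op_zero, zero_smul, add_zero]
        exact N.smul_mem _ hx2 }
  have hmem : ∀ x : T', x ∈ 𝔑 ↔ x.fst = 0 ∧ x.snd ∈ N := fun x => Iff.rfl
  have hsat2 : ∀ r : R, r ≠ 0 → ∀ x : MvPolynomial (Fin (d + s)) R,
      r • x ∈ 𝔑.comap ψ → x ∈ 𝔑.comap ψ := by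
    intro r hr x hx
    rw [Ideal.mem_comap, map_smul, hmem] at hx
    rw [Ideal.mem_comap, hmem]
    obtain ⟨h1, h2⟩ := hx
    rw [TrivSqZeroExt.fst_smul] at h1
    rw [TrivSqZeroExt.snd_smul] at h2
    exact ⟨smul_eq_zero_poly R r hr _ h1, hsat r hr _ h2⟩
  have hfg2 : (𝔑.comap ψ).FG := sat_fg R (d + s) _ hsat2
  have hfg𝔑 : 𝔑.FG := by
    have := hfg2.map (ψ : MvPolynomial (Fin (d + s)) R →+* T')
    have h3 : Ideal.map (ψ : MvPolynomial (Fin (d + s)) R →+* T') (𝔑.comap ψ) = 𝔑 :=
      Ideal.map_comap_of_surjective _ hψ 𝔑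
    rwa [h3] at this
  obtain ⟨S, hS⟩ := hfg𝔑
  refine ⟨S.image TrivSqZeroExt.snd, ?_⟩
  apply le_antisymm
  · rw [Submodule.span_le]
    intro v hv
    rw [Finset.coe_image] at hv
    obtain ⟨x, hx, rfl⟩ := hv
    have : x ∈ 𝔑 := by rw [← hS]; exact Submodule.subset_span hx
    exact this.2
  · intro n hn
    have h1 : (TrivSqZeroExt.inr n : T') ∈ 𝔑 := ⟨by simp, by simpa using hn⟩
    rw [← hS] at h1
    have key : ∀ x ∈ Submodule.span T' (S : Set T'),
        x.fst = 0 ∧ x.snd ∈ Submodule.span PP ((S.image TrivSqZeroExt.snd : Finset _) : Set _) := by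
      intro x hx
      induction hx using Submodule.span_induction with
      | mem x hx =>
        have h2 : x ∈ 𝔑 := by rw [← hS]; exact Submodule.subset_span hx
        exact ⟨h2.1, Submodule.subset_span (by rw [Finset.coe_image]; exact ⟨x, hx, rfl⟩)⟩
      | zero => exact ⟨rfl, Submodule.zero_mem _⟩
      | add x y _ _ hx hy =>
        exact ⟨by rw [TrivSqZeroExt.fst_add, hx.1, hy.1, add_zero],
          by rw [TrivSqZeroExt.snd_add]; exact Submodule.add_mem _ hx.2 hy.2⟩
      | smul c x _ hx =>
        refine ⟨by rw [smul_eq_mul, TrivSqZeroExt.fst_mul, hx.1, mul_zero], ?_⟩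
        rw [smul_eq_mul, TrivSqZeroExt.snd_mul, hx.1, MulOpposite.op_zero, zero_smul, add_zero]
        exact Submodule.smul_mem _ _ hx.2
    have := (key _ h1).2
    simpa using this

end Mod

section FP

theorem eq_zero_of_smul_eq_zero {A M : Type u} [CommRing A] [IsDomain A] [AddCommGroup M]
    [Module A M] [Module.Flat A M] (a : A) (ha : a ≠ 0) (x : M) (h : a • x = 0) : x = 0 := by
  have h1 : Module.IsTorsionFree A M := Module.Flat.isTorsionFree
  have h2 : IsSMulRegular M a := h1.isSMulRegular (IsRegular.of_ne_zero ha)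
  apply h2
  simpa using h

/-- **Raynaud–Gruson over a valuation ring**: a finite module over an algebra essentially of
finite type over a valuation ring `A` which is flat over `A` is finitely presented. -/
theorem finitePresentation_of_flat (A B M : Type u) [CommRing A] [IsDomain A] [ValuationRing A]
    [CommRing B] [Algebra A B] [Algebra.EssFiniteType A B] [AddCommGroup M] [Module B M]
    [Module A M] [IsScalarTower A B M] [Module.Finite B M] [Module.Flat A M] :
    Module.FinitePresentation B M := by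
  classical
  let C := Algebra.EssFiniteType.subalgebra A B
  let Mo := Algebra.EssFiniteType.submonoid A B
  haveI : IsLocalization Mo B := inferInstance
  obtain ⟨n, φ, hφ⟩ := Algebra.FiniteType.iff_quotient_mvPolynomial''.mp
    (inferInstance : Algebra.FiniteType A C)
  let θ : MvPolynomial (Fin n) A →ₐ[A] B := C.val.comp φ
  obtain ⟨r, f, hf⟩ := Module.Finite.exists_fin' B M
  have hfA : ∀ (a : A) (w : Fin r → B), f (a • w) = a • f w := by
    intro a w
    rw [← algebraMap_smul B a w, map_smul, algebraMap_smul]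
  let L : Submodule (MvPolynomial (Fin n) A) (Fin r → MvPolynomial (Fin n) A) :=
    { carrier := {v | f (fun i => θ (v i)) = 0}
      add_mem' := by
        intro v w hv hw
        change f (fun i => θ (v i + w i)) = 0
        have : (fun i => θ (v i + w i)) = (fun i => θ (v i)) + (fun i => θ (w i)) := by
          funext i; simp
        rw [this, map_add, hv, hw, add_zero]
      zero_mem' := by
        change f (fun i => θ 0) = 0
        have : (fun _ : Fin r => θ (0 : MvPolynomial (Fin n) A)) = 0 := by
          funext i; simp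
        rw [this, map_zero]
      smul_mem' := by
        intro p v hv
        change f (fun i => θ (p * v i)) = 0
        have : (fun i => θ (p * v i)) = θ p • (fun i => θ (v i)) := by
          funext i; simp
        rw [this, map_smul, hv, smul_zero] }
  have hL : ∀ v, v ∈ L ↔ f (fun i => θ (v i)) = 0 := fun v => Iff.rfl
  have hLsat : ∀ a : A, a ≠ 0 → ∀ v : Fin r → MvPolynomial (Fin n) A, a • v ∈ L → v ∈ L := by
    intro a ha v hv
    rw [hL] at hv ⊢
    have : (fun i => θ ((a • v) i)) = a • (fun i => θ (v i)) := by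
      funext i; simp
    rw [this, hfA] at hv
    exact eq_zero_of_smul_eq_zero a ha _ hv
  obtain ⟨SL, hSL⟩ := sat_fg_pi A n r L hLsat
  let τ : (Fin r → MvPolynomial (Fin n) A) → (Fin r → B) := fun v i => θ (v i)
  have hτ : ∀ v ∈ L, τ v ∈ Submodule.span B (τ '' (SL : Set _)) := by
    intro v hv
    rw [← hSL] at hv
    induction hv using Submodule.span_induction with
    | mem x hx => exact Submodule.subset_span ⟨x, hx, rfl⟩
    | zero =>
      have : τ 0 = 0 := by funext i; simp [τ]
      rw [this]; exact Submodule.zero_mem _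
    | add x y _ _ hx hy =>
      have : τ (x + y) = τ x + τ y := by funext i; simp [τ]
      rw [this]; exact Submodule.add_mem _ hx hy
    | smul p x _ hx =>
      have : τ (p • x) = θ p • τ x := by funext i; simp [τ]
      rw [this]; exact Submodule.smul_mem _ _ hx
  have hker : LinearMap.ker f = Submodule.span B (τ '' (SL : Set _)) := by
    apply le_antisymm
    · intro w hw
      rw [LinearMap.mem_ker] at hw
      obtain ⟨b, hb⟩ := IsLocalization.exist_integer_multiples Mo (Finset.univ : Finset (Fin r)) w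
      have hb' : ∀ i, ∃ p : MvPolynomial (Fin n) A, θ p = (b : C) • w i := by
        intro i
        obtain ⟨c, hc⟩ := hb i (Finset.mem_univ i)
        obtain ⟨p, hp⟩ := hφ c
        refine ⟨p, ?_⟩
        change (φ p : B) = _
        rw [hp]
        exact hc
      choose v hv using hb'
      have hvL : v ∈ L := by
        rw [hL]
        have : (fun i => θ (v i)) = (algebraMap C B (b : C)) • w := by
          funext i
          rw [hv i, Pi.smul_apply, Algebra.smul_def, smul_eq_mul]
        rw [this, map_smul, hw, smul_zero]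
      have hu : IsUnit (algebraMap C B (b : C)) := IsLocalization.map_units B b
      obtain ⟨u, hu'⟩ := hu
      have hw2 : w = (↑u⁻¹ : B) • τ v := by
        funext i
        change w i = (↑u⁻¹ : B) * θ (v i)
        rw [hv i, Algebra.smul_def, ← hu', ← mul_assoc, Units.inv_mul, one_mul]
      rw [hw2]
      exact Submodule.smul_mem _ _ (hτ v hvL)
    · rw [Submodule.span_le]
      rintro _ ⟨v, hv, rfl⟩
      have hvL : v ∈ L := by
        rw [← hSL]; exact Submodule.subset_span hv
      exact (hL v).mp hvL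
  refine Module.finitePresentation_of_surjective f hf ?_
  rw [hker]
  exact ⟨SL.image τ, by rw [Finset.coe_image]⟩

end FP

end Groth.Agent.Lib.Helper9.ValSat
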