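import Groth.Agent.Lib.Helper9.FlatArtin
import Groth.Agent.Lib.Helper9.QuotTensor
import Groth.Agent.Lib.Helper9.FlatCrit

/-!
# Free covers of modules that are free modulo a nilpotent ideal (helper9 library)
-/

set_option autoImplicit false

namespace Groth.Agent.Lib.Helper9.FreeCover

open TensorProduct Function Groth.Agent.Lib.Helper9

section Inj

variable {S : Type*} [CommRing S] {P N : Type*} [AddCommGroup P] [Module S P]
  [AddCommGroup N] [Module S N]

theorem map_mem_smul_top (I' : Ideal S) (g : P →ₗ[S] N) {z : P}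
    (hz : z ∈ I' • (⊤ : Submodule S P)) : g z ∈ I' • (⊤ : Submodule S N) := by
  have h1 : g z ∈ (I' • (⊤ : Submodule S P)).map g := Submodule.mem_map_of_mem hz
  rw [Submodule.map_smul''] at h1
  exact Submodule.smul_mono le_rfl le_top h1

/-- A surjection onto a flat module which is injective modulo a nilpotent ideal is injective. -/
theorem injective_of_flat_of_nilpotent (I' : Ideal S) (hnil : IsNilpotent I') [Module.Flat S N]
    (φ : P →ₗ[S] N) (hs : Surjective φ)
    (hmod : ∀ x : P, φ x ∈ I' • (⊤ : Submodule S N) → x ∈ I' • (⊤ : Submodule S P)) :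
    Injective φ := by
  have h1 := lTensor_ker_subtype_injective_of_flat φ hs I'
  rw [QuotTensor.lTensor_quot_injective_iff] at h1
  have h2 : (⊤ : Submodule S (LinearMap.ker φ)) ≤ I' • ⊤ := by
    intro x _
    apply h1
    apply hmod
    rw [Submodule.subtype_apply, LinearMap.mem_ker.mp x.2]
    exact Submodule.zero_mem _
  have h3 : (⊥ : Submodule S (LinearMap.ker φ)) = ⊤ :=
    eq_top_of_sup_smul_top_eq_top I' hnil ⊥ (by rw [bot_sup_eq]; exact top_le_iff.mp h2)
  have h4 : Subsingleton (LinearMap.ker φ) :=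
    (Submodule.subsingleton_iff S).mp (subsingleton_of_bot_eq_top h3)
  rw [injective_iff_map_eq_zero]
  intro x hx
  have : (⟨x, hx⟩ : LinearMap.ker φ) = 0 := Subsingleton.elim _ _
  exact congrArg Subtype.val this

end Inj

section Cover

universe u

variable {A : Type u} [CommRing A] (J : Ideal A) {M : Type u} [AddCommGroup M] [Module A M]

theorem smul_eq_zero_of_mem {F : Type*} [AddCommGroup F] [Module A F] {r : A} (hr : r ∈ J)
    (t : (A ⧸ J) ⊗[A] F) : r • t = 0 := by
  induction t using TensorProduct.induction_on with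
  | zero => simp
  | tmul c f =>
    rw [smul_tmul']
    have : r • c = 0 := by
      rw [Algebra.smul_def, Ideal.Quotient.algebraMap_eq, Ideal.Quotient.eq_zero_iff_mem.mpr hr,
        zero_mul]
    rw [this, zero_tmul]
  | add a b ha hb => rw [smul_add, ha, hb, add_zero]

theorem smul_eq_zero_of_mem' {S : Type*} [CommRing S] [Algebra A S] {F : Type*} [AddCommGroup F]
    [Module A F] {r : A} (hr : r ∈ J) (n : S ⊗[A] ((A ⧸ J) ⊗[A] F)) : r • n = 0 := by
  induction n using TensorProduct.induction_on with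
  | zero => simp
  | tmul s t => rw [← tmul_smul, smul_eq_zero_of_mem J hr, tmul_zero]
  | add a b ha hb => rw [smul_add, ha, hb, add_zero]

theorem exists_free_cover (hJ : IsNilpotent J) [Module.Free (A ⧸ J) ((A ⧸ J) ⊗[A] M)] :
    ∃ (ι : Type u) (φ : (ι →₀ A) →ₗ[A] M), Surjective φ ∧
      ∀ (S : Type u) [CommRing S] [Algebra A S], Module.Flat S (S ⊗[A] M) →
        ∀ x : ι →₀ A, φ x = 0 → (1 : S) ⊗ₜ[A] x = 0 := by
  classical
  let k := A ⧸ J
  let ι := Module.Free.ChooseBasisIndex k (k ⊗[A] M)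
  let w : Module.Basis ι k (k ⊗[A] M) := Module.Free.chooseBasis k (k ⊗[A] M)
  have ⟨v, hv⟩ := (TensorProduct.mk_surjective A M k Ideal.Quotient.mk_surjective).comp_left w
  have hv' : ∀ i, (1 : k) ⊗ₜ[A] v i = w i := fun i => congrFun hv i
  let φ : (ι →₀ A) →ₗ[A] M := Finsupp.linearCombination A v
  have hφs : Surjective φ := by
    rw [← LinearMap.range_eq_top, Finsupp.range_linearCombination]
    refine eq_top_of_sup_smul_top_eq_top _ hJ _ ?_
    have h1 : (Submodule.span A (Set.range v)).map (TensorProduct.mk A k M 1) = ⊤ := by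
      rw [Submodule.map_span, ← Submodule.restrictScalars_span A k Ideal.Quotient.mk_surjective,
        Submodule.restrictScalars_eq_top_iff, ← w.span_eq, ← Set.range_comp, ← hv]
    have h2 := Submodule.comap_map_eq (TensorProduct.mk A k M 1) (Submodule.span A (Set.range v))
    rw [h1, Submodule.comap_top] at h2
    have h3 : LinearMap.ker (TensorProduct.mk A k M 1) = J • ⊤ :=
      LinearMap.ker_tensorProductMk (Q := M) (I := J)
    rw [h3] at h2
    exact h2.symm
  let b : Module.Basis ι k (k ⊗[A] (ι →₀ A)) := (Finsupp.basisSingleOne).baseChange k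
  have hb1 : φ.baseChange k = (b.equiv w (Equiv.refl ι)).toLinearMap := by
    refine b.ext fun i => ?_
    have h2 : b i = (1 : k) ⊗ₜ[A] Finsupp.single i (1 : A) := by
      simp [b]
    rw [LinearEquiv.coe_coe, Module.Basis.equiv_apply, h2, LinearMap.baseChange_tmul,
      Equiv.refl_apply, ← hv' i]
    congr 1
    exact (Finsupp.linearCombination_single A 1 i).trans (one_smul _ _)
  let ψ : k ⊗[A] (ι →₀ A) ≃ₗ[k] k ⊗[A] M := b.equiv w (Equiv.refl ι)
  let σ : M →ₗ[A] k ⊗[A] (ι →₀ A) :=
    (ψ.symm.toLinearMap.restrictScalars A) ∘ₗ (TensorProduct.mk A k M 1)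
  have hσ : σ ∘ₗ φ = TensorProduct.mk A k (ι →₀ A) 1 := by
    apply LinearMap.ext
    intro f
    change ψ.symm ((1 : k) ⊗ₜ[A] φ f) = (1 : k) ⊗ₜ[A] f
    rw [LinearEquiv.symm_apply_eq]
    change _ = (b.equiv w (Equiv.refl ι)).toLinearMap ((1 : k) ⊗ₜ[A] f)
    rw [← hb1, LinearMap.baseChange_tmul]
  refine ⟨ι, φ, hφs, ?_⟩
  intro S _ _ hflat x hx
  let φS : S ⊗[A] (ι →₀ A) →ₗ[S] S ⊗[A] M := φ.baseChange S
  have hφSs : Surjective φS := LinearMap.lTensor_surjective S hφs
  let I' : Ideal S := J.map (algebraMap A S)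
  have hI'nil : IsNilpotent I' := by
    obtain ⟨n, hn⟩ := hJ
    exact ⟨n, by rw [← Ideal.map_pow, hn, Ideal.zero_eq_bot, Ideal.map_bot]; rfl⟩
  have e2 : ∀ z ∈ I' • (⊤ : Submodule S (S ⊗[A] (k ⊗[A] (ι →₀ A)))), z = 0 := by
    intro z hz
    rw [← QuotTensor.mem_smul_top_iff_mem_map_smul_top J] at hz
    induction hz using Submodule.smul_induction_on' with
    | smul r hr n _ => exact smul_eq_zero_of_mem' J hr n
    | add x hx y hy ihx ihy => rw [ihx, ihy, add_zero]
  have hex : Function.Exact (J • (⊤ : Submodule A (ι →₀ A))).subtype (TensorProduct.mk A k (ι →₀ A) 1) := by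
    rw [LinearMap.exact_iff, LinearMap.ker_tensorProductMk, Submodule.range_subtype]
  have hsurj : Surjective (TensorProduct.mk A k (ι →₀ A) 1) :=
    TensorProduct.mk_surjective A (ι →₀ A) k Ideal.Quotient.mk_surjective
  have hrange : ∀ z : S ⊗[A] ↥(J • (⊤ : Submodule A (ι →₀ A))),
      (J • (⊤ : Submodule A (ι →₀ A))).subtype.lTensor S z ∈
        J • (⊤ : Submodule A (S ⊗[A] (ι →₀ A))) := by
    intro z
    induction z using TensorProduct.induction_on with
    | zero => simp
    | tmul s c =>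
      rw [LinearMap.lTensor_tmul]
      exact tmul_mem_smul_top J s c.1 c.2
    | add a b ha hb =>
      rw [map_add]
      exact add_mem ha hb
  have hmod : ∀ y : S ⊗[A] (ι →₀ A), φS y ∈ I' • (⊤ : Submodule S (S ⊗[A] M)) →
      y ∈ I' • (⊤ : Submodule S (S ⊗[A] (ι →₀ A))) := by
    intro y hy
    have e1 : σ.baseChange S (φS y) = (TensorProduct.mk A k (ι →₀ A) 1).baseChange S y := by
      rw [← LinearMap.comp_apply, ← LinearMap.baseChange_comp, hσ]
    have e3 : (TensorProduct.mk A k (ι →₀ A) 1).lTensor S y = 0 := by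
      change (TensorProduct.mk A k (ι →₀ A) 1).baseChange S y = 0
      rw [← e1]
      exact e2 _ (map_mem_smul_top I' (σ.baseChange S) hy)
    obtain ⟨z, rfl⟩ := (lTensor_exact (M := ↥(J • (⊤ : Submodule A (ι →₀ A)))) S hex hsurj y).mp e3
    rw [← QuotTensor.mem_smul_top_iff_mem_map_smul_top J]
    exact hrange z
  have hinj := injective_of_flat_of_nilpotent I' hI'nil φS hφSs hmod
  apply hinj
  rw [map_zero]
  change φ.baseChange S ((1 : S) ⊗ₜ[A] x) = 0
  rw [LinearMap.baseChange_tmul, hx, tmul_zero]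

end Cover

end Groth.Agent.Lib.Helper9.FreeCover
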