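import Mathlib.CategoryTheory.Monoidal.Cartesian.Over
import Mathlib.CategoryTheory.Monoidal.Cartesian.Grp
import Mathlib.AlgebraicGeometry.Morphisms.UniversallyOpen
import Mathlib.AlgebraicGeometry.Fiber

/-!
# Shear isomorphisms of group objects; multiplication of a group scheme is a base change of the
structure morphism (helper9 library)
-/

set_option autoImplicit false

open CategoryTheory CategoryTheory.Limits MonoidalCategory CartesianMonoidalCategory MonObj GrpObj

namespace Groth.Agent.Lib.Helper9

section Abstract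

variable {C : Type*} [Category C] [CartesianMonoidalCategory C] (G : C) [GrpObj G]

/-- The shear isomorphism `(a, b) ↦ (a, a * b)`. -/
def shearFst : G ⊗ G ≅ G ⊗ G where
  hom := lift (fst G G) μ
  inv := lift (fst G G) (lift (fst G G ≫ ι) (snd G G) ≫ μ)
  hom_inv_id := by
    rw [comp_lift, lift_fst, comp_lift_assoc, ← Category.assoc, lift_fst, lift_snd]
    have h2 : lift (fst G G ≫ ι) (μ : G ⊗ G ⟶ G) ≫ μ = snd G G := by
      calc lift (fst G G ≫ ι) (μ : G ⊗ G ⟶ G) ≫ μ
          = lift (fst G G ≫ ι) (lift (fst G G) (snd G G) ≫ μ) ≫ μ := by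
            rw [lift_fst_snd, Category.id_comp]
        _ = lift (lift (fst G G ≫ ι) (fst G G) ≫ μ) (snd G G) ≫ μ := (lift_lift_assoc _ _ _).symm
        _ = snd G G := by rw [lift_comp_inv_left, lift_comp_one_left]
    rw [h2, lift_fst_snd]
  inv_hom_id := by
    rw [comp_lift, lift_fst, ← lift_lift_assoc, lift_comp_inv_right, lift_comp_one_left,
      lift_fst_snd]

/-- The shear isomorphism `(a, b) ↦ (a * b, b)`. -/
def shearSnd : G ⊗ G ≅ G ⊗ G where
  hom := lift μ (snd G G)
  inv := lift (lift (fst G G) (snd G G ≫ ι) ≫ μ) (snd G G)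
  hom_inv_id := by
    rw [comp_lift, lift_snd, comp_lift_assoc, ← Category.assoc, lift_snd, lift_fst]
    have h2 : lift (μ : G ⊗ G ⟶ G) (snd G G ≫ ι) ≫ μ = fst G G := by
      calc lift (μ : G ⊗ G ⟶ G) (snd G G ≫ ι) ≫ μ
          = lift (lift (fst G G) (snd G G) ≫ μ) (snd G G ≫ ι) ≫ μ := by
            rw [lift_fst_snd, Category.id_comp]
        _ = lift (fst G G) (lift (snd G G) (snd G G ≫ ι) ≫ μ) ≫ μ := lift_lift_assoc _ _ _
        _ = fst G G := by rw [lift_comp_inv_right, lift_comp_one_right]
    rw [h2, lift_fst_snd]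
  inv_hom_id := by
    rw [comp_lift, lift_snd, lift_lift_assoc, lift_comp_inv_left, lift_comp_one_right,
      lift_fst_snd]

end Abstract

section Scheme

open AlgebraicGeometry

universe u

variable {S : Scheme.{u}} (G : Over S) [GrpObj G]

/-- The multiplication of a group scheme `G/S` is (isomorphic to) a base change of `G → S`:
the square `(μ, pr₁)` over `(G → S, G → S)` is cartesian. -/
theorem isPullback_mul_fst :
    IsPullback μ[G].left (pullback.fst G.hom G.hom) G.hom G.hom := by
  have h := (IsPullback.of_hasPullback G.hom G.hom).flip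
  let e : (G ⊗ G).left ≅ (G ⊗ G).left := (Over.forget S).mapIso (shearFst G)
  have he1 : e.hom ≫ pullback.fst G.hom G.hom = pullback.fst G.hom G.hom := by
    simp only [shearFst, e, Functor.mapIso_hom, Over.forget_map, Over.lift_left]
    exact pullback.lift_fst _ _ _
  have he2 : e.hom ≫ pullback.snd G.hom G.hom = μ[G].left := by
    simp only [shearFst, e, Functor.mapIso_hom, Over.forget_map, Over.lift_left]
    exact pullback.lift_snd _ _ _
  refine IsPullback.of_iso h e.symm (Iso.refl _) (Iso.refl _) (Iso.refl _) ?_ ?_ ?_ ?_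
  · simp only [Iso.refl_hom, Category.comp_id, Iso.symm_hom]
    rw [← he2, Iso.inv_hom_id_assoc]
  · simp only [Iso.refl_hom, Category.comp_id, Iso.symm_hom]
    rw [← he1, Iso.inv_hom_id_assoc, he1]
  · simp
  · simp

theorem isPullback_mul_snd :
    IsPullback μ[G].left (pullback.snd G.hom G.hom) G.hom G.hom := by
  have h := (IsPullback.of_hasPullback G.hom G.hom)
  let e : (G ⊗ G).left ≅ (G ⊗ G).left := (Over.forget S).mapIso (shearSnd G)
  have he1 : e.hom ≫ pullback.fst G.hom G.hom = μ[G].left := by
    simp only [shearSnd, e, Functor.mapIso_hom, Over.forget_map, Over.lift_left]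
    exact pullback.lift_fst _ _ _
  have he2 : e.hom ≫ pullback.snd G.hom G.hom = pullback.snd G.hom G.hom := by
    simp only [shearSnd, e, Functor.mapIso_hom, Over.forget_map, Over.lift_left]
    exact pullback.lift_snd _ _ _
  refine IsPullback.of_iso h e.symm (Iso.refl _) (Iso.refl _) (Iso.refl _) ?_ ?_ ?_ ?_
  · simp only [Iso.refl_hom, Category.comp_id, Iso.symm_hom]
    rw [← he1, Iso.inv_hom_id_assoc]
  · simp only [Iso.refl_hom, Category.comp_id, Iso.symm_hom]
    rw [← he2, Iso.inv_hom_id_assoc, he2]
  · simp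
  · simp

end Scheme

end Groth.Agent.Lib.Helper9
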