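import Mathlib

set_option autoImplicit false

namespace Groth.Agent.Lib.Helper9.FibreDim

open TensorProduct

universe u v w

variable {A : Type u} [CommRing A]

/-- the dimension of the fibre of `W` at `x`. -/
noncomputable def fibreDim (W : Type v) [AddCommGroup W] [Module A W] (x : PrimeSpectrum A) : ℕ :=
  Module.finrank x.asIdeal.ResidueField (x.asIdeal.ResidueField ⊗[A] W)

lemma span_one_tmul_eq_top (κ : Type w) [Field κ] [Algebra A κ] (W : Type v) [AddCommGroup W]
    [Module A W] :
    Submodule.span κ (Set.range (fun w : W => (1 : κ) ⊗ₜ[A] w)) = ⊤ := by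
  rw [eq_top_iff]
  rintro z -
  induction z using TensorProduct.induction_on with
  | zero => exact Submodule.zero_mem _
  | tmul c w =>
    have : c ⊗ₜ[A] w = c • ((1 : κ) ⊗ₜ[A] w) := by
      rw [TensorProduct.smul_tmul', smul_eq_mul, mul_one]
    rw [this]
    exact Submodule.smul_mem _ _ (Submodule.subset_span ⟨w, rfl⟩)
  | add x y hx hy => exact Submodule.add_mem _ hx hy

/-- if `κ ⊗ coker g = 0` then `dim κ ⊗ W ≤ n` for `g : A^n → W`. -/
lemma finrank_le_of_subsingleton_coker (κ : Type w) [Field κ] [Algebra A κ] (W : Type v)
    [AddCommGroup W] [Module A W] {n : Type} [Fintype n] [DecidableEq n] (g : (n → A) →ₗ[A] W)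
    (h : Subsingleton (κ ⊗[A] (W ⧸ LinearMap.range g))) :
    Module.finrank κ (κ ⊗[A] W) ≤ Fintype.card n := by
  have hex := lTensor_exact κ (LinearMap.exact_map_mkQ_range g) (Submodule.mkQ_surjective _)
  have hsurj : Function.Surjective (g.baseChange κ) := by
    intro z
    have : (LinearMap.lTensor κ (LinearMap.range g).mkQ) z = 0 := Subsingleton.elim _ _
    obtain ⟨y, hy⟩ := (hex z).mp this
    exact ⟨y, hy⟩
  have h1 := LinearMap.finrank_le_finrank_of_surjective hsurj
  have : Nontrivial A := (algebraMap A κ).domain_nontrivial
  have h2 : Module.finrank κ (κ ⊗[A] (n → A)) = Fintype.card n := by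
    rw [Module.finrank_baseChange, Module.finrank_pi]
  omega

lemma subsingleton_coker_of_surjective (κ : Type w) [Field κ] [Algebra A κ] (W : Type v)
    [AddCommGroup W] [Module A W] {n : Type} (g : (n → A) →ₗ[A] W)
    (h : Function.Surjective (g.baseChange κ)) :
    Subsingleton (κ ⊗[A] (W ⧸ LinearMap.range g)) := by
  refine subsingleton_of_forall_eq 0 fun z => ?_
  obtain ⟨z', rfl⟩ := LinearMap.lTensor_surjective κ
    (Submodule.mkQ_surjective (LinearMap.range g)) z
  obtain ⟨z'', rfl⟩ := h z'
  have h0 : (LinearMap.range g).mkQ ∘ₗ g = 0 := LinearMap.range_mkQ_comp g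
  have : (LinearMap.lTensor κ (LinearMap.range g).mkQ) ((LinearMap.lTensor κ g) z'') = 0 := by
    rw [← LinearMap.comp_apply, ← LinearMap.lTensor_comp, h0, LinearMap.lTensor_zero,
      LinearMap.zero_apply]
  exact this

lemma baseChange_linearCombination_single (κ : Type w) [Field κ] [Algebra A κ] (W : Type v)
    [AddCommGroup W] [Module A W] {n : Type} [Fintype n] [DecidableEq n] (wv : n → W) (v : n) :
    ((Fintype.linearCombination A wv).baseChange κ) ((1 : κ) ⊗ₜ[A] (Pi.single v (1 : A))) =
      (1 : κ) ⊗ₜ[A] wv v := by
  rw [LinearMap.baseChange_tmul, Fintype.linearCombination_apply_single, one_smul]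

lemma exists_surjective_baseChange (κ : Type w) [Field κ] [Algebra A κ] (W : Type v)
    [AddCommGroup W] [Module A W] [Module.Finite A W] :
    ∃ (n : ℕ) (g : (Fin n → A) →ₗ[A] W),
      n = Module.finrank κ (κ ⊗[A] W) ∧ Function.Surjective (g.baseChange κ) := by
  classical
  obtain ⟨b, hbt, hbspan, hbli⟩ := exists_linearIndependent κ
    (Set.range (fun w : W => (1 : κ) ⊗ₜ[A] w))
  rw [span_one_tmul_eq_top] at hbspan
  have hbfin : b.Finite := hbli.setFinite
  have : Fintype b := hbfin.fintype
  have hcard : Fintype.card b = Module.finrank κ (κ ⊗[A] W) := by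
    have h1 := finrank_span_set_eq_card hbli
    rw [hbspan, finrank_top, Set.toFinset_card] at h1
    exact h1.symm
  choose wv hwv using fun v : b => hbt v.2
  let e : b ≃ Fin (Fintype.card b) := Fintype.equivFin b
  refine ⟨Fintype.card b, Fintype.linearCombination A (fun i => wv (e.symm i)), hcard, ?_⟩
  rw [← LinearMap.range_eq_top, eq_top_iff, ← hbspan, Submodule.span_le]
  rintro z hz
  refine ⟨(1 : κ) ⊗ₜ[A] (Pi.single (e ⟨z, hz⟩) (1 : A)), ?_⟩
  rw [baseChange_linearCombination_single, Equiv.symm_apply_apply]
  exact hwv ⟨z, hz⟩

/-- upper semicontinuity of the fibre dimension of a finite module. -/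
theorem fibreDim_eventually_le (W : Type v) [AddCommGroup W] [Module A W] [Module.Finite A W]
    (x : PrimeSpectrum A) : ∀ᶠ x' in nhds x, fibreDim W x' ≤ fibreDim W x := by
  obtain ⟨n, g, hcard, hsurj⟩ := exists_surjective_baseChange (A := A) x.asIdeal.ResidueField W
  have hsub := subsingleton_coker_of_surjective x.asIdeal.ResidueField W g hsurj
  have hx : x ∉ Module.support A (W ⧸ LinearMap.range g) := by
    rw [Module.mem_support_iff_nontrivial_residueField_tensorProduct]
    exact not_nontrivial_iff_subsingleton.mpr hsub
  have hcl : IsClosed (Module.support A (W ⧸ LinearMap.range g)) := Module.isClosed_support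
  filter_upwards [hcl.isOpen_compl.mem_nhds hx] with x' hx'
  have hsub' : Subsingleton (x'.asIdeal.ResidueField ⊗[A] (W ⧸ LinearMap.range g)) := by
    rw [← not_nontrivial_iff_subsingleton,
      ← Module.mem_support_iff_nontrivial_residueField_tensorProduct]
    exact hx'
  have := finrank_le_of_subsingleton_coker x'.asIdeal.ResidueField W g hsub'
  rw [Fintype.card_fin] at this
  unfold fibreDim
  omega

/-- the fibre dimension of a finite flat module over a Noetherian ring is locally constant. -/
theorem fibreDim_eventually_eq [IsNoetherianRing A] (W : Type v) [AddCommGroup W] [Module A W]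
    [Module.Finite A W] [Module.Flat A W] (x : PrimeSpectrum A) :
    ∀ᶠ x' in nhds x, fibreDim W x' = fibreDim W x := by
  have : Module.FinitePresentation A W := Module.finitePresentation_of_finite A W
  have h : (fibreDim W : PrimeSpectrum A → ℕ) = Module.rankAtStalk (R := A) W := by
    funext y
    exact (Module.rankAtStalk_eq y).symm
  rw [h]
  exact (Module.isLocallyConstant_rankAtStalk (R := A) (M := W)).eventually_eq x

section Rank

variable (κ : Type w) [Field κ] [Algebra A κ] {M : Type v} {F : Type v} [AddCommGroup M]
  [Module A M] [AddCommGroup F] [Module A F] (δ : M →ₗ[A] F)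

/-- `rank (δ ⊗ κ) + dim κ ⊗ coker δ = dim κ ⊗ F`. -/
theorem finrank_range_baseChange_add [Module.Finite A F] :
    Module.finrank κ (LinearMap.range (δ.baseChange κ)) +
      Module.finrank κ (κ ⊗[A] (F ⧸ LinearMap.range δ)) = Module.finrank κ (κ ⊗[A] F) := by
  have hex := lTensor_exact κ (LinearMap.exact_map_mkQ_range δ) (Submodule.mkQ_surjective _)
  let π : κ ⊗[A] F →ₗ[κ] κ ⊗[A] (F ⧸ LinearMap.range δ) :=
    (LinearMap.range δ).mkQ.baseChange κ
  have hπ : Function.Surjective π := by
    rw [LinearMap.baseChange_eq_ltensor]
    exact LinearMap.lTensor_surjective κ (Submodule.mkQ_surjective _)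
  have hker : LinearMap.ker π = LinearMap.range (δ.baseChange κ) := by
    ext z
    rw [LinearMap.mem_ker, LinearMap.mem_range]
    have := hex z
    rw [← LinearMap.baseChange_eq_ltensor, ← LinearMap.baseChange_eq_ltensor] at this
    exact this
  have h1 := LinearMap.finrank_range_add_finrank_ker π
  rw [LinearMap.range_eq_top.mpr hπ, finrank_top, hker] at h1
  omega

/-- `dim ker (δ ⊗ κ) + dim κ ⊗ F = dim κ ⊗ M + dim κ ⊗ coker δ`. -/
theorem finrank_ker_baseChange_add [Module.Finite A F] [Module.Finite A M] :
    Module.finrank κ (LinearMap.ker (δ.baseChange κ)) + Module.finrank κ (κ ⊗[A] F) =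
      Module.finrank κ (κ ⊗[A] M) + Module.finrank κ (κ ⊗[A] (F ⧸ LinearMap.range δ)) := by
  have h1 := finrank_range_baseChange_add κ δ
  have h2 := LinearMap.finrank_range_add_finrank_ker (δ.baseChange κ)
  omega

end Rank

section Projective

/-- A finitely presented module over a reduced ring with locally constant fibre dimension is
projective. -/
theorem projective_of_fibreDim_locallyConstant [IsReduced A] (C : Type v) [AddCommGroup C]
    [Module A C] [Module.FinitePresentation A C]
    (h : ∀ x : PrimeSpectrum A, ∀ᶠ x' in nhds x, fibreDim C x' = fibreDim C x) :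
    Module.Projective A C := by
  classical
  rw [← Module.freeLocus_eq_univ_iff, Set.eq_univ_iff_forall]
  intro x
  rw [Module.mem_freeLocus]
  set p := x.asIdeal with hp
  obtain ⟨n, g, hn, hsurj⟩ := exists_surjective_baseChange (A := A) p.ResidueField C
  have hsub := subsingleton_coker_of_surjective p.ResidueField C g hsurj
  have hx : x ∉ Module.support A (C ⧸ LinearMap.range g) := by
    rw [Module.mem_support_iff_nontrivial_residueField_tensorProduct]
    exact not_nontrivial_iff_subsingleton.mpr hsub
  have hcl : IsClosed (Module.support A (C ⧸ LinearMap.range g)) := Module.isClosed_support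
  -- an open neighbourhood on which everything is good
  obtain ⟨U, hUsub, hUo, hxU⟩ := mem_nhds_iff.mp
    (Filter.inter_mem (h x) (hcl.isOpen_compl.mem_nhds hx))
  let gp := LocalizedModule.map p.primeCompl g
  have hgsurj : Function.Surjective gp := by
    rw [LinearMap.localizedMap_surjective_iff_subsingleton_localized_coker]
    exact Module.notMem_support_iff.mp hx
  have hginj : Function.Injective gp := by
    rw [injective_iff_map_eq_zero]
    intro z hz
    induction z using LocalizedModule.induction_on with
    | _ a s =>
      rw [LocalizedModule.map_mk] at hz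
      rw [← LocalizedModule.zero_mk s, LocalizedModule.mk_eq] at hz
      obtain ⟨t', ht'⟩ := hz
      rw [smul_zero, smul_zero] at ht'
      obtain ⟨t, ht⟩ : ∃ t : p.primeCompl, (t : A) • g a = 0 :=
        ⟨t' * s, by rw [Submonoid.coe_mul, mul_smul]; exact ht'⟩
      -- each coordinate of `a` lies in every prime contained in `p`
      have hcoord : ∀ i : Fin n, algebraMap A (Localization.AtPrime p) (a i) = 0 := by
        intro i
        have hnil : algebraMap A (Localization.AtPrime p) (a i) ∈
            nilradical (Localization.AtPrime p) := by
          rw [nilradical_eq_sInf, Ideal.mem_sInf]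
          intro P hP
          have hPprime : P.IsPrime := hP
          let q : PrimeSpectrum A := ⟨P.comap (algebraMap A (Localization.AtPrime p)), inferInstance⟩
          have hqp : q ≤ x := by
            change P.comap _ ≤ p
            intro b hb
            by_contra hbp
            have hu : IsUnit (algebraMap A (Localization.AtPrime p) b) :=
              IsLocalization.map_units (Localization.AtPrime p) (⟨b, hbp⟩ : p.primeCompl)
            exact hPprime.ne_top (Ideal.eq_top_of_isUnit_mem _ hb hu)
          have hqU : q ∈ U :=
            ((PrimeSpectrum.le_iff_specializes q x).mp hqp).mem_open hUo hxU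
          obtain ⟨hq1, hq2⟩ := hUsub hqU
          have hq1 : fibreDim C q = fibreDim C x := hq1
          have hq2 : q ∉ Module.support A (C ⧸ LinearMap.range g) := hq2
          have hsubq : Subsingleton (q.asIdeal.ResidueField ⊗[A] (C ⧸ LinearMap.range g)) := by
            rw [← not_nontrivial_iff_subsingleton,
              ← Module.mem_support_iff_nontrivial_residueField_tensorProduct]
            exact hq2
          -- `g ⊗ κ(q)` is surjective between spaces of the same dimension
          have hex := lTensor_exact q.asIdeal.ResidueField (LinearMap.exact_map_mkQ_range g)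
            (Submodule.mkQ_surjective _)
          have hsq : Function.Surjective (g.baseChange q.asIdeal.ResidueField) := by
            intro z
            have : (LinearMap.lTensor q.asIdeal.ResidueField (LinearMap.range g).mkQ) z = 0 :=
              Subsingleton.elim _ _
            obtain ⟨y, hy⟩ := (hex z).mp this
            exact ⟨y, hy⟩
          have hdim : Module.finrank q.asIdeal.ResidueField
              (q.asIdeal.ResidueField ⊗[A] (Fin n → A)) =
              Module.finrank q.asIdeal.ResidueField (q.asIdeal.ResidueField ⊗[A] C) := by
            have : Nontrivial A := (algebraMap A q.asIdeal.ResidueField).domain_nontrivial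
            rw [Module.finrank_baseChange, Module.finrank_pi, Fintype.card_fin, hn]
            exact hq1.symm
          have hinjq : Function.Injective (g.baseChange q.asIdeal.ResidueField) :=
            (LinearMap.injective_iff_surjective_of_finrank_eq_finrank hdim).mpr hsq
          have h0 : (g.baseChange q.asIdeal.ResidueField)
              ((1 : q.asIdeal.ResidueField) ⊗ₜ[A] ((t : A) • a)) = 0 := by
            rw [LinearMap.baseChange_tmul, map_smul]
            rw [ht, tmul_zero]
          have h1 : (1 : q.asIdeal.ResidueField) ⊗ₜ[A] ((t : A) • a) = 0 :=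
            hinjq (by rw [h0, map_zero])
          have h2 := congrArg
            (TensorProduct.piScalarRight A q.asIdeal.ResidueField q.asIdeal.ResidueField (Fin n)) h1
          rw [TensorProduct.piScalarRight_apply, TensorProduct.piScalarRightHom_tmul, map_zero] at h2
          have h3 := congrFun h2 i
          simp only [Pi.smul_apply, Pi.zero_apply, smul_eq_mul] at h3
          have h4 : (t : A) * a i ∈ q.asIdeal := by
            rw [← Ideal.algebraMap_residueField_eq_zero]
            simpa [Algebra.smul_def] using h3
          have h5 : a i ∈ q.asIdeal :=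
            (q.2.mem_or_mem h4).resolve_left (fun htq => t.2 (hqp htq))
          exact h5
        exact (nilradical_eq_zero (Localization.AtPrime p) ▸ hnil : _ ∈ (⊥ : Ideal _))
      -- hence `a` is killed by an element outside `p`
      have hazero : LocalizedModule.mk a s = 0 := by
        have hai : ∀ i : Fin n, ∃ c : p.primeCompl, (c : A) * a i = 0 := by
          intro i
          have := hcoord i
          rw [IsLocalization.map_eq_zero_iff p.primeCompl] at this
          exact this
        choose c hc using hai
        have : (∏ i, c i) • a = 0 := by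
          funext i
          change (((∏ i, c i : p.primeCompl)) : A) * a i = 0
          rw [Submonoid.coe_finsetProd, ← Finset.mul_prod_erase _ _ (Finset.mem_univ i),
            mul_comm ((c i : A)), mul_assoc, hc i, mul_zero]
        rw [← LocalizedModule.zero_mk s, LocalizedModule.mk_eq]
        refine ⟨∏ i, c i, ?_⟩
        rw [smul_zero, smul_zero, smul_comm, this, smul_zero]
      exact hazero
  let e : LocalizedModule p.primeCompl (Fin n → A) ≃ₗ[Localization.AtPrime p]
      LocalizedModule p.primeCompl C := LinearEquiv.ofBijective gp ⟨hginj, hgsurj⟩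
  have hfree : Module.Free (Localization.AtPrime p) (LocalizedModule p.primeCompl (Fin n → A)) :=
    Module.Free.of_basis ((Pi.basisFun A (Fin n)).ofIsLocalizedModule (Localization.AtPrime p)
      p.primeCompl (LocalizedModule.mkLinearMap p.primeCompl (Fin n → A)))
  exact Module.Free.of_equiv e

end Projective

end Groth.Agent.Lib.Helper9.FibreDim
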