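import Mathlib
import Groth.Agent.Lib.Helper17.CotFibre
import Groth.Agent.Lib.Helper7.DimFT
import Groth.Agent.Lib.Helper18.FamCyc3
import Groth.Agent.Lib.Helper9.FibreDim

/-!
# Closed points of finite type algebras over an algebraically closed field (helper9)

* `bijective_algebraMap_residueField`: Nullstellensatz, `κ(m) = k`.
* `finrank_fibre_eq_finrank_cotangentSpace`: `dim κ(m) ⊗ Ω_{A/k} = dim m/m²` at a `k`-rational point.
* `height_eq_ringKrullDim_of_isMaximal`: all maximal ideals of an irreducible finite type algebra have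
  height `dim A`.
* `fibreDim_le_of_le`: fibre dimension of a finite module does not drop under specialization.
-/

set_option autoImplicit false
universe u

namespace Groth.Agent.Lib.Helper9.SmoothPt

open TensorProduct KaehlerDifferential IsLocalRing

section Null

variable (k : Type u) [Field k] [IsAlgClosed k] (A : Type u) [CommRing A] [Algebra k A]
  [Algebra.FiniteType k A]

/-- Nullstellensatz: the residue field at a maximal ideal of a finite type algebra over an
algebraically closed field is the base field. -/
theorem bijective_algebraMap_residueField (m : Ideal A) [hm : m.IsMaximal] :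
    Function.Bijective (algebraMap k m.ResidueField) := by
  let _ : Field (A ⧸ m) := Ideal.Quotient.field m
  have hft : Algebra.FiniteType k (A ⧸ m) := inferInstance
  have hfin : Module.Finite k (A ⧸ m) := finite_of_finite_type_of_isJacobsonRing k (A ⧸ m)
  have hint : Algebra.IsIntegral k (A ⧸ m) := Algebra.IsIntegral.of_finite k (A ⧸ m)
  have h1 : Function.Bijective (algebraMap k (A ⧸ m)) :=
    IsAlgClosed.algebraMap_bijective_of_isIntegral
  have h2 := m.bijective_algebraMap_quotient_residueField
  have : algebraMap k m.ResidueField = (algebraMap (A ⧸ m) m.ResidueField).comp (algebraMap k (A ⧸ m)) :=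
    IsScalarTower.algebraMap_eq k (A ⧸ m) m.ResidueField
  rw [this]
  exact h2.comp h1

end Null

section K1

variable (k : Type u) [Field k] (A : Type u) [CommRing A] [Algebra k A] [IsNoetherianRing A]

theorem finrank_fibre_eq_finrank_cotangentSpace (m : Ideal A) [hm : m.IsPrime]
    (hB : Function.Bijective (algebraMap k m.ResidueField)) :
    Module.finrank m.ResidueField (m.ResidueField ⊗[A] Ω[A⁄k]) =
      Module.finrank (ResidueField (Localization.AtPrime m))
        (CotangentSpace (Localization.AtPrime m)) := by
  set B := Localization.AtPrime m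
  have hnoeth : IsNoetherianRing B := IsLocalization.isNoetherianRing m.primeCompl _ inferInstance
  have hle : maximalIdeal k ≤ Ideal.comap (IsScalarTower.toAlgHom k k B) (maximalIdeal B) := by
    rw [IsLocalRing.maximalIdeal_eq_bot]; exact bot_le
  have hA : Function.Bijective (algebraMap k (ResidueField k)) :=
    ⟨(algebraMap k (ResidueField k)).injective, IsLocalRing.residue_surjective⟩
  have hmain := Groth.Agent.Lib.Helper17.CotFibre.main k k B hle hA hB
  have hrange : Module.finrank k
      ↥(LinearMap.range (Groth.Agent.Lib.Helper17.CotFibre.phi k k B hle)) = 0 := by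
    have hsub : ∀ x : (maximalIdeal k).Cotangent, x = 0 := by
      intro x
      obtain ⟨y, rfl⟩ := Ideal.toCotangent_surjective _ x
      have hy : y = 0 := by
        apply Subtype.ext
        have h1 : (y : k) ∈ maximalIdeal k := y.2
        have h2 : maximalIdeal k = ⊥ := IsLocalRing.maximalIdeal_eq_bot
        have h3 : (y : k) ∈ (⊥ : Ideal k) := h2 ▸ h1
        exact h3
      rw [hy, map_zero]
    have : LinearMap.range (Groth.Agent.Lib.Helper17.CotFibre.phi k k B hle) = ⊥ := by
      rw [eq_bot_iff]
      rintro _ ⟨x, rfl⟩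
      rw [hsub x, map_zero]
      exact Submodule.zero_mem _
    rw [this, finrank_bot]
  rw [hrange, add_zero, Groth.Agent.Lib.Helper17.CotFibre.finrank_eq_of_tower k B hB] at hmain
  rw [← hmain]
  have : Algebra.FormallyEtale A B := Algebra.FormallyEtale.of_isLocalization m.primeCompl
  let e1 : B ⊗[A] Ω[A⁄k] ≃ₗ[B] Ω[B⁄k] := KaehlerDifferential.tensorKaehlerEquivOfFormallyEtale k A B
  let e2 : ResidueField B ⊗[B] (B ⊗[A] Ω[A⁄k]) ≃ₗ[ResidueField B] ResidueField B ⊗[B] Ω[B⁄k] :=
    AlgebraTensorModule.congr (LinearEquiv.refl (ResidueField B) (ResidueField B)) e1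
  let e3 : ResidueField B ⊗[B] (B ⊗[A] Ω[A⁄k]) ≃ₗ[ResidueField B] ResidueField B ⊗[A] Ω[A⁄k] :=
    AlgebraTensorModule.cancelBaseChange A B (ResidueField B) (ResidueField B) (Ω[A⁄k])
  exact (e3.symm.trans e2).finrank_eq

end K1

section K2

theorem height_le_height_comap {A D : Type*} [CommRing A] [CommRing D] (f : A →+* D)
    (hf : Function.Surjective f) (P : Ideal D) [hP : P.IsPrime] :
    P.height ≤ (P.comap f).height := by
  have hψ : StrictMono (PrimeSpectrum.comap f) := by
    intro q₁ q₂ h
    refine lt_of_le_of_ne ?_ ?_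
    · exact Ideal.comap_mono (f := f) h.le
    · intro heq
      exact h.ne (PrimeSpectrum.comap_injective_of_surjective f hf heq)
  have h3 := Order.height_le_height_apply_of_strictMono (PrimeSpectrum.comap f) hψ ⟨P, hP⟩
  have e1 := PrimeSpectrum.height_eq_orderHeight (⟨P, hP⟩ : PrimeSpectrum D)
  have e2 := PrimeSpectrum.height_eq_orderHeight (PrimeSpectrum.comap f ⟨P, hP⟩)
  change P.height = _ at e1
  change (P.comap f).height = _ at e2
  rw [e1, e2]
  exact h3

variable (k : Type u) [Field k] (A : Type u) [CommRing A] [Algebra k A] [Algebra.FiniteType k A]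

include k in
/-- heights of maximal ideals agree with the dimension of the reduction -/
theorem height_eq_ringKrullDim_quotient_nilradical (hirr : (nilradical A).IsPrime) (m : Ideal A)
    [hm : m.IsMaximal] : (m.height : WithBot ℕ∞) = ringKrullDim (A ⧸ nilradical A) := by
  set N := nilradical A with hN
  have hdom : IsDomain (A ⧸ N) := Ideal.Quotient.isDomain N
  have hNm : N ≤ m := nilradical_le_prime m
  have hker : RingHom.ker (Ideal.Quotient.mk N) ≤ m := by rw [Ideal.mk_ker]; exact hNm
  have hm' : (m.map (Ideal.Quotient.mk N)).IsMaximal :=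
    Ideal.IsMaximal.map_of_surjective_of_ker_le Ideal.Quotient.mk_surjective hker
  have hm'p : (m.map (Ideal.Quotient.mk N)).IsPrime := hm'.isPrime
  have h1 : m.height ≤ (m.map (Ideal.Quotient.mk N)).height :=
    Groth.Agent.Lib.Helper18.FamCyc.height_le_height_map_mk N le_rfl m
  have h2 := height_le_height_comap (Ideal.Quotient.mk N) Ideal.Quotient.mk_surjective
    (m.map (Ideal.Quotient.mk N))
  have hcm : (m.map (Ideal.Quotient.mk N)).comap (Ideal.Quotient.mk N) = m := by
    rw [Ideal.comap_map_of_surjective _ Ideal.Quotient.mk_surjective, ← RingHom.ker_eq_comap_bot]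
    exact sup_eq_left.mpr hker
  rw [hcm] at h2
  rw [le_antisymm h1 h2]
  exact Groth.Agent.Lib.Helper7.DimFT.height_eq_ringKrullDim_of_isMaximal k (A ⧸ N) _

include k in
/-- In a finite type algebra over a field with irreducible spectrum every maximal ideal has height
the Krull dimension. -/
theorem height_eq_ringKrullDim_of_isMaximal (hirr : (nilradical A).IsPrime) (m : Ideal A)
    [hm : m.IsMaximal] : (m.height : WithBot ℕ∞) = ringKrullDim A := by
  have hkey : ∀ m : Ideal A, m.IsMaximal →
      (m.height : WithBot ℕ∞) = ringKrullDim (A ⧸ nilradical A) := fun m hm =>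
    height_eq_ringKrullDim_quotient_nilradical k A hirr m
  have hnt : Nontrivial A := by
    by_contra h
    rw [not_nontrivial_iff_subsingleton] at h
    exact hirr.ne_top (Subsingleton.elim _ _)
  have heq : ∀ Q : Ideal A, Q.IsMaximal → Q.height = m.height := by
    intro Q hQ
    have := (hkey Q hQ).trans (hkey m hm).symm
    exact_mod_cast this
  rw [← Ideal.sup_isMaximal_height_eq_ringKrullDim, WithBot.coe_inj]
  apply le_antisymm
  · exact le_iSup₂_of_le m hm le_rfl
  · exact iSup₂_le fun Q hQ => (heq Q hQ).le

include k in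
theorem ringKrullDim_quotient_nilradical (hirr : (nilradical A).IsPrime) :
    ringKrullDim (A ⧸ nilradical A) = ringKrullDim A := by
  have hnt : Nontrivial A := by
    by_contra h
    rw [not_nontrivial_iff_subsingleton] at h
    exact hirr.ne_top (Subsingleton.elim _ _)
  obtain ⟨m, hm⟩ := Ideal.exists_maximal A
  rw [← height_eq_ringKrullDim_quotient_nilradical k A hirr m,
    height_eq_ringKrullDim_of_isMaximal k A hirr m]

end K2

section USC

open Groth.Agent.Lib.Helper9.FibreDim

theorem fibreDim_le_of_le {A : Type u} [CommRing A] (W : Type u) [AddCommGroup W] [Module A W]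
    [Module.Finite A W] (q P : Ideal A) [hq : q.IsPrime] [hP : P.IsPrime] (hqP : q ≤ P) :
    Module.finrank q.ResidueField (q.ResidueField ⊗[A] W) ≤
      Module.finrank P.ResidueField (P.ResidueField ⊗[A] W) := by
  have hev := fibreDim_eventually_le (A := A) W (⟨P, hP⟩ : PrimeSpectrum A)
  have hspec : (⟨q, hq⟩ : PrimeSpectrum A) ⤳ ⟨P, hP⟩ := by
    rw [← PrimeSpectrum.le_iff_specializes]
    exact hqP
  have hev' : ∀ᶠ x' in nhds (⟨q, hq⟩ : PrimeSpectrum A),
      fibreDim W x' ≤ fibreDim W (⟨P, hP⟩ : PrimeSpectrum A) := hspec hev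
  exact hev'.self_of_nhds

end USC

end Groth.Agent.Lib.Helper9.SmoothPt
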