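import Mathlib
import Groth.Agent.Lib.Helper26.DVRApprox
import Groth.Agent.Lib.Helper9.DivCl1

namespace Groth.Agent.Lib.Helper9.ApproxSch

open AlgebraicGeometry CategoryTheory TopologicalSpace

universe u

variable {X : Scheme.{u}} [IsIntegral X]

theorem isDominant_SpecMap_of_injective {A K : CommRingCat.{u}} (φ : A ⟶ K)
    (h : Function.Injective φ.hom) : IsDominant (Spec.map φ) := by
  refine ⟨?_⟩
  have : DenseRange (PrimeSpectrum.comap φ.hom) := by
    rw [PrimeSpectrum.denseRange_comap_iff_ker_le_nilRadical]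
    rw [(RingHom.injective_iff_ker_eq_bot φ.hom).mp h]
    exact bot_le
  exact this

/-- If the local ring at `ξ'` is contained in the local ring at `ξ` (inside the function field) and
`X` is separated, then `ξ` is a generisation of `ξ'`. -/
theorem specializes_of_range_le [X.IsSeparated] (ξ ξ' : X)
    (h : (algebraMap (X.presheaf.stalk ξ') X.functionField).range ≤
      (algebraMap (X.presheaf.stalk ξ) X.functionField).range) : ξ ⤳ ξ' := by
  let A := X.presheaf.stalk ξ
  let A' := X.presheaf.stalk ξ'
  let K := X.functionField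
  have hinj : Function.Injective (algebraMap A K) := IsFractionRing.injective A K
  let eA : A ≃+* (algebraMap A K).range :=
    RingEquiv.ofBijective (algebraMap A K).rangeRestrict
      ⟨fun a b hab => hinj (congrArg Subtype.val hab),
        (algebraMap A K).rangeRestrict_surjective⟩
  let τ : A' →+* A :=
    eA.symm.toRingHom.comp ((Subring.inclusion h).comp (algebraMap A' K).rangeRestrict)
  have hτ : ∀ a', algebraMap A K (τ a') = algebraMap A' K a' := by
    intro a'
    have h1 : eA (τ a') = (Subring.inclusion h) ((algebraMap A' K).rangeRestrict a') := by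
      simp [τ]
    have h2 := congrArg (Subtype.val) h1
    exact h2
  let g₁ : Spec A ⟶ X := X.fromSpecStalk ξ
  let g₂ : Spec A ⟶ X := Spec.map (CommRingCat.ofHom τ) ≫ X.fromSpecStalk ξ'
  let ι : Spec K ⟶ Spec A := Spec.map (CommRingCat.ofHom (algebraMap A K))
  haveI : IsDominant ι := isDominant_SpecMap_of_injective _ hinj
  have e₁ : ι ≫ g₁ = X.fromSpecStalk (genericPoint X) :=
    Scheme.SpecMap_stalkSpecializes_fromSpecStalk (genericPoint_specializes ξ)
  have e₂ : ι ≫ g₂ = X.fromSpecStalk (genericPoint X) := by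
    have h3 : CommRingCat.ofHom τ ≫ CommRingCat.ofHom (algebraMap A K) =
        CommRingCat.ofHom (algebraMap A' K) := by
      ext a'
      exact hτ a'
    change Spec.map (CommRingCat.ofHom (algebraMap A K)) ≫ Spec.map (CommRingCat.ofHom τ) ≫
      X.fromSpecStalk ξ' = _
    rw [← Category.assoc, ← Spec.map_comp, h3]
    exact Scheme.SpecMap_stalkSpecializes_fromSpecStalk (genericPoint_specializes ξ')
  have hg : g₁ = g₂ := ext_of_isDominant ι (e₁.trans e₂.symm)
  have h1 : g₁.base (IsLocalRing.closedPoint A) = ξ := Scheme.fromSpecStalk_closedPoint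
  have h2 : g₂.base (IsLocalRing.closedPoint A) ∈ Set.range (X.fromSpecStalk ξ').base :=
    ⟨(Spec.map (CommRingCat.ofHom τ)).base (IsLocalRing.closedPoint A), rfl⟩
  rw [Scheme.range_fromSpecStalk] at h2
  rw [← hg, h1] at h2
  exact h2


/-- The valuation subring of the function field given by a local ring which is a valuation ring. -/
noncomputable def vsub (ξ : X) [ValuationRing (X.presheaf.stalk ξ)] :
    ValuationSubring X.functionField where
  toSubring := (algebraMap (X.presheaf.stalk ξ) X.functionField).range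
  mem_or_inv_mem' := by
    intro x
    rcases ValuationRing.isInteger_or_isInteger (X.presheaf.stalk ξ) x with h | h
    · exact Or.inl h
    · exact Or.inr h

noncomputable def vsubEquiv (ξ : X) [ValuationRing (X.presheaf.stalk ξ)] :
    X.presheaf.stalk ξ ≃+* vsub ξ :=
  RingEquiv.ofBijective (algebraMap (X.presheaf.stalk ξ) X.functionField).rangeRestrict
    ⟨fun a b hab => IsFractionRing.injective (X.presheaf.stalk ξ) X.functionField
        (congrArg Subtype.val hab),
      (algebraMap (X.presheaf.stalk ξ) X.functionField).rangeRestrict_surjective⟩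

theorem vsubEquiv_coe (ξ : X) [ValuationRing (X.presheaf.stalk ξ)] (a : X.presheaf.stalk ξ) :
    ((vsubEquiv ξ a : vsub ξ) : X.functionField) =
      algebraMap (X.presheaf.stalk ξ) X.functionField a := rfl

theorem main [IsNoetherian X] [X.IsSeparated]
    (hnor : ∀ x : X, IsIntegrallyClosed (X.presheaf.stalk x))
    {r : ℕ} (ξ : Fin r → X) (hξ : Function.Injective ξ)
    (hcodim : ∀ i, ringKrullDim (X.presheaf.stalk (ξ i)) = 1) (n : Fin r → ℤ) :
    ∃ f : X.functionField, f ≠ 0 ∧ ∀ i : Fin r,
      ∃ (ϖ : X.presheaf.stalk (ξ i)) (_ : Irreducible ϖ) (w : (X.presheaf.stalk (ξ i))ˣ),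
        f = algebraMap (X.presheaf.stalk (ξ i)) X.functionField (w : X.presheaf.stalk (ξ i)) *
          algebraMap (X.presheaf.stalk (ξ i)) X.functionField ϖ ^ (n i) := by
  rcases Nat.eq_zero_or_pos r with hr | hr
  · subst hr
    exact ⟨1, one_ne_zero, fun i => i.elim0⟩
  have hdvr : ∀ i, IsDiscreteValuationRing (X.presheaf.stalk (ξ i)) := fun i => by
    haveI := hnor (ξ i)
    exact Groth.Agent.Lib.Helper9.DivCl.isDiscreteValuationRing_of_normal _ (hcodim i)
  haveI hval : ∀ i, ValuationRing (X.presheaf.stalk (ξ i)) := fun i => by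
    haveI := hdvr i
    infer_instance
  let O : Fin r → ValuationSubring X.functionField := fun i => vsub (ξ i)
  have hO : ∀ i, IsDiscreteValuationRing (O i) := fun i => by
    haveI := hdvr i
    exact IsDiscreteValuationRing.RingEquivClass.isDiscreteValuationRing (vsubEquiv (ξ i))
  have hinj : Function.Injective O := by
    intro i j hij
    apply hξ
    have hr' : (algebraMap (X.presheaf.stalk (ξ i)) X.functionField).range =
        (algebraMap (X.presheaf.stalk (ξ j)) X.functionField).range :=
      congrArg ValuationSubring.toSubring hij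
    have h1 : ξ i ⤳ ξ j := specializes_of_range_le _ _ hr'.ge
    have h2 : ξ j ⤳ ξ i := specializes_of_range_le _ _ hr'.le
    exact (h1.antisymm h2).eq
  obtain ⟨f, hf⟩ := Groth.Agent.Lib.Helper26.DVRApprox.main_7931 X.functionField O hO hinj
    (fun _ => 0) n
  have key : ∀ i : Fin r,
      ∃ (ϖ : X.presheaf.stalk (ξ i)) (_ : Irreducible ϖ) (w : (X.presheaf.stalk (ξ i))ˣ),
        f = algebraMap (X.presheaf.stalk (ξ i)) X.functionField (w : X.presheaf.stalk (ξ i)) *
          algebraMap (X.presheaf.stalk (ξ i)) X.functionField ϖ ^ (n i) := by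
    intro i
    obtain ⟨ϖ, hϖ, w, hw⟩ := hf i
    rw [sub_zero] at hw
    refine ⟨(vsubEquiv (ξ i)).symm ϖ, ?_, Units.map (vsubEquiv (ξ i)).symm.toMonoidHom w, ?_⟩
    · exact (MulEquiv.irreducible_iff (vsubEquiv (ξ i)).symm.toMulEquiv).mpr hϖ
    · rw [hw]
      have e1 : algebraMap (X.presheaf.stalk (ξ i)) X.functionField
          ((vsubEquiv (ξ i)).symm ϖ) = (ϖ : X.functionField) := by
        rw [← vsubEquiv_coe, RingEquiv.apply_symm_apply]
      have e2 : algebraMap (X.presheaf.stalk (ξ i)) X.functionField
          ((Units.map (vsubEquiv (ξ i)).symm.toMonoidHom w : (X.presheaf.stalk (ξ i))ˣ) :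
            X.presheaf.stalk (ξ i)) = ((w : O i) : X.functionField) := by
        rw [← vsubEquiv_coe]
        change (((vsubEquiv (ξ i)) ((vsubEquiv (ξ i)).symm (w : O i)) : vsub (ξ i)) :
          X.functionField) = _
        rw [RingEquiv.apply_symm_apply]
      rw [e1, e2]
  refine ⟨f, ?_, key⟩
  obtain ⟨ϖ, hϖ, w, hw⟩ := key ⟨0, hr⟩
  rw [hw]
  have hinjA := IsFractionRing.injective (X.presheaf.stalk (ξ ⟨0, hr⟩)) X.functionField
  apply mul_ne_zero
  · exact fun h0 => w.ne_zero (hinjA (by rw [h0, map_zero]))
  · apply zpow_ne_zero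
    exact fun h0 => hϖ.ne_zero (hinjA (by rw [h0, map_zero]))

end Groth.Agent.Lib.Helper9.ApproxSch
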