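import Mathlib.RingTheory.Ideal.KrullsHeightTheorem
import Mathlib.RingTheory.Polynomial.Basic
import Mathlib.RingTheory.KrullDimension.Polynomial
import Mathlib.RingTheory.Spectrum.Prime.RingHom

/-!
# A dimension inequality (special case of Abhyankar's inequality) (helper9 library)
-/

set_option autoImplicit false

namespace Groth.Agent.Lib.Helper9

open Polynomial

universe u

section Height

variable {R : Type*} [CommRing R]

theorem liesOver_map_C (p : Ideal R) [p.IsPrime] : (p.map (C : R →+* R[X])).LiesOver p := by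
  refine ⟨?_⟩
  ext r
  rw [Ideal.under_def, Ideal.mem_comap, Polynomial.algebraMap_apply, Algebra.algebraMap_self_apply,
    Ideal.mem_map_C_iff]
  constructor
  · intro h n
    rw [Polynomial.coeff_C]
    split_ifs
    · exact h
    · exact Ideal.zero_mem _
  · intro h
    simpa using h 0

theorem height_map_C_le [IsNoetherianRing R] (p : Ideal R) [p.IsPrime] :
    (p.map (C : R →+* R[X])).height ≤ p.height := by
  have hprime : (p.map (C : R →+* R[X])).IsPrime := (Ideal.isPrime_map_C_iff_isPrime p).mpr ‹_›
  have hlo : (p.map (C : R →+* R[X])).LiesOver p := liesOver_map_C p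
  have h := Ideal.height_le_height_add_of_liesOver p (p.map (C : R →+* R[X]))
  have h1 : (algebraMap R R[X]) = C := rfl
  rw [h1, Ideal.map_quotient_self] at h
  have : Nontrivial (R[X] ⧸ p.map (C : R →+* R[X])) :=
    Ideal.Quotient.nontrivial_iff.mpr hprime.ne_top
  rw [Ideal.height_bot, add_zero] at h
  exact h

theorem height_add_one_le_height_comap {S S' : Type*} [CommRing S] [IsDomain S] [CommRing S']
    (π : S →+* S') (hπ : Function.Surjective π) (hker : RingHom.ker π ≠ ⊥) (p' : Ideal S')
    [hp' : p'.IsPrime] : p'.height + 1 ≤ (p'.comap π).height := by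
  let g : WithBot (PrimeSpectrum S') → PrimeSpectrum S := fun x =>
    WithBot.recBotCoe ⟨⊥, Ideal.isPrime_bot⟩ (fun q => PrimeSpectrum.comap π q) x
  have hg : StrictMono g := by
    intro a b hab
    induction a using WithBot.recBotCoe with
    | bot =>
      induction b using WithBot.recBotCoe with
      | bot => exact absurd hab (lt_irrefl _)
      | coe b =>
        show (⟨⊥, Ideal.isPrime_bot⟩ : PrimeSpectrum S) < PrimeSpectrum.comap π b
        rw [← PrimeSpectrum.asIdeal_lt_asIdeal]
        show (⊥ : Ideal S) < Ideal.comap π b.asIdeal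
        rw [bot_lt_iff_ne_bot]
        intro hbot
        apply hker
        rw [eq_bot_iff, ← hbot]
        exact Ideal.comap_mono bot_le
    | coe a =>
      induction b using WithBot.recBotCoe with
      | bot => exact absurd hab (not_lt_bot)
      | coe b =>
        exact RingHom.strictMono_comap_of_surjective hπ (WithBot.coe_lt_coe.mp hab)
  have := Order.height_le_height_apply_of_strictMono g hg ((⟨p', hp'⟩ : PrimeSpectrum S') : WithBot _)
  rw [Order.height_coe_withBot, ← PrimeSpectrum.height_eq_orderHeight,
    ← PrimeSpectrum.height_eq_orderHeight] at this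
  exact this

end Height

section Main

variable {O : Type u} [CommRing O] [IsDomain O] (mO : Ideal O) [mO.IsPrime]

/-- Dimension inequality: if `R ⊆ O ⊆ Frac R` with `R` a Noetherian domain, `mO` a nonzero prime of
`O`, and `f₁, …, fₙ ∈ O` are "algebraically independent modulo `mO` over `R / (mO ∩ R)`", then
`n + 1 ≤ ht (mO ∩ R)`. -/
theorem add_one_le_height_comap (hmO : mO ≠ ⊥) (n : ℕ) :
    ∀ (R : Type u) [CommRing R] [IsDomain R] [IsNoetherianRing R] (ι : R →+* O)
      (_ : Function.Injective ι)
      (_ : ∀ x : O, ∃ a b : R, b ≠ 0 ∧ ι b * x = ι a)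
      (f : Fin n → O)
      (_ : ∀ q : MvPolynomial (Fin n) R, MvPolynomial.eval₂ ι f q ∈ mO →
        q ∈ (mO.comap ι).map (MvPolynomial.C : R →+* MvPolynomial (Fin n) R)),
      (n : ℕ∞) + 1 ≤ (mO.comap ι).height := by
  induction n with
  | zero =>
    intro R _ _ _ ι hι hfrac f hind
    have hne : mO.comap ι ≠ ⊥ := by
      obtain ⟨x, hx, hx0⟩ := Submodule.exists_mem_ne_zero_of_ne_bot hmO
      obtain ⟨a, b, hb, hab⟩ := hfrac x
      intro hbot
      have ha : a ∈ mO.comap ι := by
        rw [Ideal.mem_comap, ← hab]; exact mO.mul_mem_left _ hx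
      rw [hbot, Ideal.mem_bot] at ha
      rw [ha, map_zero] at hab
      rcases mul_eq_zero.mp hab with h | h
      · exact hb (hι (by rw [h, map_zero]))
      · exact hx0 h
    have : (mO.comap ι).height ≠ 0 := fun h => hne (Ideal.height_eq_zero_iff_eq_bot.mp h)
    simpa using Order.one_le_iff_ne_zero.mpr this
  | succ n ih =>
    intro R _ _ _ ι hι hfrac f hind
    let ev : R[X] →+* O := Polynomial.eval₂RingHom ι (f 0)
    have hevC : ∀ r : R, ev (Polynomial.C r) = ι r := fun r => by simp [ev]
    have hevX : ev Polynomial.X = f 0 := by simp [ev]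
    let Q : Ideal R[X] := RingHom.ker ev
    have hQ : Q.IsPrime := RingHom.ker_isPrime ev
    let ι' : (R[X] ⧸ Q) →+* O := RingHom.kerLift ev
    have hι' : Function.Injective ι' := RingHom.kerLift_injective ev
    have hι'mk : ∀ g : R[X], ι' (Ideal.Quotient.mk Q g) = ev g := fun g => rfl
    have hfrac' : ∀ x : O, ∃ a b : R[X] ⧸ Q, b ≠ 0 ∧ ι' b * x = ι' a := by
      intro x
      obtain ⟨a, b, hb, hab⟩ := hfrac x
      refine ⟨Ideal.Quotient.mk Q (Polynomial.C a), Ideal.Quotient.mk Q (Polynomial.C b), ?_, ?_⟩
      · intro h0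
        have h1 : ι' (Ideal.Quotient.mk Q (Polynomial.C b)) = 0 := by rw [h0, map_zero]
        rw [hι'mk, hevC] at h1
        exact hb (hι (h1.trans (map_zero ι).symm))
      · rw [hι'mk, hι'mk, hevC, hevC]; exact hab
    let Θ : MvPolynomial (Fin (n + 1)) R →+* MvPolynomial (Fin n) (R[X] ⧸ Q) :=
      MvPolynomial.eval₂Hom
        ((MvPolynomial.C).comp ((Ideal.Quotient.mk Q).comp Polynomial.C))
        (Fin.cons (MvPolynomial.C (Ideal.Quotient.mk Q Polynomial.X)) MvPolynomial.X)
    have hΘC : ∀ r : R, Θ (MvPolynomial.C r) =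
        MvPolynomial.C (Ideal.Quotient.mk Q (Polynomial.C r)) := fun r => by simp [Θ]
    have hΘX0 : Θ (MvPolynomial.X 0) = MvPolynomial.C (Ideal.Quotient.mk Q Polynomial.X) := by
      simp [Θ]
    have hΘXs : ∀ i : Fin n, Θ (MvPolynomial.X i.succ) = MvPolynomial.X i := fun i => by
      simp [Θ]
    let f' : Fin n → O := fun i => f i.succ
    have hΘev : ∀ q, MvPolynomial.eval₂ ι' f' (Θ q) = MvPolynomial.eval₂ ι f q := by
      have h : (MvPolynomial.eval₂Hom ι' f').comp Θ = MvPolynomial.eval₂Hom ι f := by
        apply MvPolynomial.ringHom_ext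
        · intro r
          rw [RingHom.comp_apply, hΘC]
          simp [hι'mk, hevC]
        · intro i
          refine Fin.cases ?_ (fun j => ?_) i
          · rw [RingHom.comp_apply, hΘX0]
            simp [hι'mk, hevX]
          · rw [RingHom.comp_apply, hΘXs]
            simp [f']
      intro q
      exact congrArg (fun h => h q) h
    let lam : R[X] →+* MvPolynomial (Fin (n + 1)) R :=
      Polynomial.eval₂RingHom MvPolynomial.C (MvPolynomial.X 0)
    have hlamC : ∀ r : R, lam (Polynomial.C r) = MvPolynomial.C r := fun r => by simp [lam]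
    have hlamX : lam Polynomial.X = MvPolynomial.X 0 := by simp [lam]
    have hΘlam : ∀ g : R[X], Θ (lam g) = MvPolynomial.C (Ideal.Quotient.mk Q g) := by
      have h : Θ.comp lam = (MvPolynomial.C).comp (Ideal.Quotient.mk Q) := by
        apply Polynomial.ringHom_ext
        · intro r
          rw [RingHom.comp_apply, hlamC, hΘC]; rfl
        · rw [RingHom.comp_apply, hlamX, hΘX0]; rfl
      intro g
      exact congrArg (fun h => h g) h
    have hΘsurj : Function.Surjective Θ := by
      intro q'
      induction q' using MvPolynomial.induction_on with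
      | C a =>
        obtain ⟨g, rfl⟩ := Ideal.Quotient.mk_surjective a
        exact ⟨lam g, hΘlam g⟩
      | add p q hp hq =>
        obtain ⟨p₀, rfl⟩ := hp
        obtain ⟨q₀, rfl⟩ := hq
        exact ⟨p₀ + q₀, map_add _ _ _⟩
      | mul_X p i hp =>
        obtain ⟨p₀, rfl⟩ := hp
        exact ⟨p₀ * MvPolynomial.X i.succ, by rw [map_mul, hΘXs]⟩
    have hΘp : ((mO.comap ι).map (MvPolynomial.C : R →+* MvPolynomial (Fin (n + 1)) R)).map Θ ≤
        (mO.comap ι').map (MvPolynomial.C : (R[X] ⧸ Q) →+* MvPolynomial (Fin n) (R[X] ⧸ Q)) := by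
      rw [Ideal.map_map, Ideal.map_le_iff_le_comap]
      intro r hr
      rw [Ideal.mem_comap, RingHom.comp_apply, hΘC]
      apply Ideal.mem_map_of_mem
      rw [Ideal.mem_comap, hι'mk, hevC]
      exact hr
    have hind' : ∀ q' : MvPolynomial (Fin n) (R[X] ⧸ Q), MvPolynomial.eval₂ ι' f' q' ∈ mO →
        q' ∈ (mO.comap ι').map
          (MvPolynomial.C : (R[X] ⧸ Q) →+* MvPolynomial (Fin n) (R[X] ⧸ Q)) := by
      intro q' hq'
      obtain ⟨q, rfl⟩ := hΘsurj q'
      rw [hΘev] at hq'
      exact hΘp (Ideal.mem_map_of_mem _ (hind q hq'))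
    have ih' := ih (R[X] ⧸ Q) ι' hι' hfrac' f' hind'
    -- the prime `P' = p[X]`
    have hevlam : ∀ g : R[X], MvPolynomial.eval₂ ι f (lam g) = ev g := by
      have h : (MvPolynomial.eval₂Hom ι f).comp lam = ev := by
        apply Polynomial.ringHom_ext
        · intro r
          rw [RingHom.comp_apply, hlamC, hevC]; simp
        · rw [RingHom.comp_apply, hlamX, hevX]; simp
      intro g
      exact congrArg (fun h => h g) h
    let rho : MvPolynomial (Fin (n + 1)) R →+* R[X] :=
      MvPolynomial.eval₂Hom Polynomial.C (fun _ => Polynomial.X)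
    have hrholam : ∀ g : R[X], rho (lam g) = g := by
      have h : rho.comp lam = RingHom.id _ := by
        apply Polynomial.ringHom_ext
        · intro r
          rw [RingHom.comp_apply, hlamC]; simp [rho]
        · rw [RingHom.comp_apply, hlamX]; simp [rho]
      intro g
      exact congrArg (fun h => h g) h
    have hP' : (mO.comap ι').comap (Ideal.Quotient.mk Q) =
        (mO.comap ι).map (Polynomial.C : R →+* R[X]) := by
      apply le_antisymm
      · intro g hg
        rw [Ideal.mem_comap, Ideal.mem_comap, hι'mk, ← hevlam] at hg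
        have h1 := hind (lam g) hg
        have h2 : rho (lam g) ∈
            ((mO.comap ι).map (MvPolynomial.C : R →+* MvPolynomial (Fin (n + 1)) R)).map rho :=
          Ideal.mem_map_of_mem _ h1
        rw [hrholam, Ideal.map_map] at h2
        have h3 : rho.comp (MvPolynomial.C : R →+* MvPolynomial (Fin (n + 1)) R) =
            Polynomial.C := by
          ext r; simp [rho]
        rw [h3] at h2
        exact h2
      · rw [Ideal.map_le_iff_le_comap]
        intro r hr
        rw [Ideal.mem_comap, Ideal.mem_comap, Ideal.mem_comap, hι'mk, hevC]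
        exact hr
    have hQ0 : RingHom.ker (Ideal.Quotient.mk Q) ≠ ⊥ := by
      rw [Ideal.mk_ker]
      obtain ⟨a, b, hb, hab⟩ := hfrac (f 0)
      intro hbot
      have hmem : Polynomial.C b * Polynomial.X - Polynomial.C a ∈ Q := by
        rw [RingHom.mem_ker, map_sub, map_mul, hevC, hevC, hevX, hab, sub_self]
      rw [hbot, Ideal.mem_bot] at hmem
      have h1 := congrArg (fun g => Polynomial.coeff g 1) hmem
      simp at h1
      exact hb h1
    have h1 := height_add_one_le_height_comap (Ideal.Quotient.mk Q) Ideal.Quotient.mk_surjective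
      hQ0 (mO.comap ι')
    rw [hP'] at h1
    have h2 := height_map_C_le (mO.comap ι)
    calc ((n + 1 : ℕ) : ℕ∞) + 1 = ((n : ℕ∞) + 1) + 1 := by push_cast; rfl
      _ ≤ (mO.comap ι').height + 1 := by gcongr
      _ ≤ ((mO.comap ι).map (Polynomial.C : R →+* R[X])).height := h1
      _ ≤ (mO.comap ι).height := h2

end Main

end Groth.Agent.Lib.Helper9
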