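import Mathlib
import Groth.Prelude.Def_CAlgX
import Groth.Agent.Lib.Helper1.ArtFunPS

/-!
# Power series rings over a formally smooth field extension are adically formally smooth

If `K/k` is a formally smooth extension of fields then `k → K[[x_1, …, x_n]]` is formally smooth for the
adic topology of the maximal ideal.
-/

set_option autoImplicit false

namespace Groth.Agent.Lib.Helper9.AdicSmoothPS

open Groth.Agent.Lib.Helper1.ArtFunLib IsLocalRing MvPowerSeries

theorem isAdicFormallySmooth_mvPowerSeries (k K : Type) [Field k] [Field K] [Algebra k K]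
    [Algebra.FormallySmooth k K] (n : ℕ) :
    CAlgX.IsAdicFormallySmooth k (MvPowerSeries (Fin n) K)
      (IsLocalRing.maximalIdeal (MvPowerSeries (Fin n) K)) := by
  classical
  intro A _ _ J hJ ψ hψ
  obtain ⟨m, hm⟩ := hψ
  set P := MvPowerSeries (Fin n) K
  -- the structure map `K → P` as a `k`-algebra map
  let ι : K →ₐ[k] P := IsScalarTower.toAlgHom k K P
  have hι : ∀ c : K, ι c = C c := fun c => rfl
  -- lift `K → A/J` to `K → A`
  let σ : K →ₐ[k] A := Algebra.FormallySmooth.lift J ⟨2, hJ⟩ (ψ.comp ι)
  have hσ : ∀ c : K, Ideal.Quotient.mk J (σ c) = ψ (C c) := by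
    intro c
    have := Algebra.FormallySmooth.mk_lift J ⟨2, hJ⟩ (ψ.comp ι) c
    exact this
  let _ : Algebra K A := σ.toRingHom.toAlgebra
  -- lift the images of the variables
  have hsurj : Function.Surjective (Ideal.Quotient.mk J) := Ideal.Quotient.mk_surjective
  choose a ha using fun i : Fin n => hsurj (ψ (X i))
  have hXm : Ideal.span (Set.range (X : Fin n → P)) ≤ maximalIdeal P := PS.span_X_le_maximalIdeal
  have hle : Ideal.span (Set.range a) ^ m ≤ J := by
    have h1 : (Ideal.span (Set.range a) ^ m).map (Ideal.Quotient.mk J) = ⊥ := by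
      rw [Ideal.map_pow, Ideal.map_span, ← Set.range_comp]
      have h2 : (Ideal.Quotient.mk J) ∘ a = fun i => ψ.toRingHom (X i) := by
        funext i
        exact ha i
      rw [h2]
      have h3 : Ideal.span (Set.range fun i => ψ.toRingHom (X i)) =
          (Ideal.span (Set.range (X : Fin n → P))).map ψ.toRingHom := by
        rw [Ideal.map_span, ← Set.range_comp]
        rfl
      rw [h3, ← Ideal.map_pow, eq_bot_iff]
      apply Ideal.map_le_iff_le_comap.mpr
      intro x hx
      have hx' : x ∈ maximalIdeal P ^ m := Ideal.pow_right_mono hXm m hx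
      exact hm x hx'
    intro x hx
    have h2 : Ideal.Quotient.mk J x ∈ (Ideal.span (Set.range a) ^ m).map (Ideal.Quotient.mk J) :=
      Ideal.mem_map_of_mem _ hx
    rw [h1] at h2
    exact Ideal.Quotient.eq_zero_iff_mem.mp h2
  have hN : Ideal.span (Set.range a) ^ (m * 2) = ⊥ := by
    rw [pow_mul, eq_bot_iff, ← hJ]
    exact Ideal.pow_right_mono hle 2
  let χ0 : P →+* A := PS.evalNil (R := K) a (m * 2) hN
  have hχC : ∀ c : K, χ0 (C c) = σ c := fun c => PS.evalNil_C a (m * 2) hN c
  have hχX : ∀ i, χ0 (X i) = a i := fun i => PS.evalNil_X a (m * 2) hN i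
  have hcomm : ∀ r : k, χ0 (algebraMap k P r) = algebraMap k A r := by
    intro r
    have h1 : algebraMap k P r = C (algebraMap k K r) := by
      rw [MvPowerSeries.algebraMap_apply]
    rw [h1, hχC, AlgHom.commutes]
  let χ : P →ₐ[k] A := { χ0 with commutes' := hcomm }
  refine ⟨χ, ?_⟩
  have hring : ((Ideal.Quotient.mkₐ k J).comp χ).toRingHom = ψ.toRingHom := by
    apply PS.ringHom_ext_of_kills _ _ (m * 2)
    · intro g hg
      have h1 : χ0 g = 0 := by
        apply PS.kills_of_pow_eq_bot χ0 (m * 2) _ g hg
        have h2 : (fun i => χ0 (X i)) = a := funext hχX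
        rw [h2]
        exact hN
      change Ideal.Quotient.mk J (χ0 g) = 0
      rw [h1, map_zero]
    · intro g hg
      apply hm
      have h1 : Ideal.span (Set.range (X : Fin n → P)) ^ (m * 2) ≤ maximalIdeal P ^ m := by
        refine (Ideal.pow_right_mono hXm (m * 2)).trans ?_
        exact Ideal.pow_le_pow_right (by omega)
      exact h1 hg
    · intro c
      change Ideal.Quotient.mk J (χ0 (C c)) = ψ (C c)
      rw [hχC, hσ]
    · intro i
      change Ideal.Quotient.mk J (χ0 (X i)) = ψ (X i)
      rw [hχX, ha]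
  ext x
  exact congrArg (fun f : P →+* A ⧸ J => f x) hring

end Groth.Agent.Lib.Helper9.AdicSmoothPS
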