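import Mathlib
import Groth.Prelude.Def_CAlgX
import Groth.Prelude.Def_EGA41
import Groth.Agent.Lib.Helper1.ArtFunPS

/-!
# Power series rings over an adically formally smooth local ring

If `R` is a local `k`-algebra which is formally smooth over `k` for the adic topology of its maximal ideal, then
so is `R[[x_1, …, x_n]]` (for the adic topology of its maximal ideal).
-/

set_option autoImplicit false
universe u

namespace Groth.Agent.Lib.Helper9.AdicSmoothPS2

open Groth.Agent.Lib.Helper1.ArtFunLib IsLocalRing MvPowerSeries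

theorem isAdicFormallySmooth_mvPowerSeries (k R : Type u) [CommRing k] [CommRing R] [IsLocalRing R]
    [Algebra k R] (hR : CAlgX.IsAdicFormallySmooth k R (maximalIdeal R)) (n : ℕ) :
    CAlgX.IsAdicFormallySmooth k (MvPowerSeries (Fin n) R)
      (IsLocalRing.maximalIdeal (MvPowerSeries (Fin n) R)) := by
  classical
  intro A _ _ J hJ ψ hψ
  obtain ⟨m, hm⟩ := hψ
  set P := MvPowerSeries (Fin n) R
  let ι : R →ₐ[k] P := IsScalarTower.toAlgHom k R P
  have hι : ∀ c : R, ι c = C c := fun c => rfl
  -- lift `R → A/J` to `R → A`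
  obtain ⟨σ, hσ'⟩ := hR A J hJ (ψ.comp ι) ⟨m, fun x hx => by
    change ψ (C x) = 0
    exact hm _ (PS.C_mem_maximalIdeal_pow hx)⟩
  have hσ : ∀ c : R, Ideal.Quotient.mk J (σ c) = ψ (C c) := fun c => AlgHom.congr_fun hσ' c
  let _ : Algebra R A := σ.toRingHom.toAlgebra
  have hsurj : Function.Surjective (Ideal.Quotient.mk J) := Ideal.Quotient.mk_surjective
  choose a ha using fun i : Fin n => hsurj (ψ (X i))
  have hXm : Ideal.span (Set.range (X : Fin n → P)) ≤ maximalIdeal P := PS.span_X_le_maximalIdeal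
  have hle : Ideal.span (Set.range a) ^ m ≤ J := by
    have h1 : (Ideal.span (Set.range a) ^ m).map (Ideal.Quotient.mk J) = ⊥ := by
      rw [Ideal.map_pow, Ideal.map_span, ← Set.range_comp]
      have h2 : (Ideal.Quotient.mk J) ∘ a = fun i => ψ.toRingHom (X i) := by
        funext i
        exact ha i
      rw [h2]
      have h3 : Ideal.span (Set.range fun i => ψ.toRingHom (X i)) =
          (Ideal.span (Set.range (X : Fin n → P))).map ψ.toRingHom := by
        rw [Ideal.map_span, ← Set.range_comp]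
        rfl
      rw [h3, ← Ideal.map_pow, eq_bot_iff]
      apply Ideal.map_le_iff_le_comap.mpr
      intro x hx
      have hx' : x ∈ maximalIdeal P ^ m := Ideal.pow_right_mono hXm m hx
      exact hm x hx'
    intro x hx
    have h2 : Ideal.Quotient.mk J x ∈ (Ideal.span (Set.range a) ^ m).map (Ideal.Quotient.mk J) :=
      Ideal.mem_map_of_mem _ hx
    rw [h1] at h2
    exact Ideal.Quotient.eq_zero_iff_mem.mp h2
  have hN : Ideal.span (Set.range a) ^ (m * 2) = ⊥ := by
    rw [pow_mul, eq_bot_iff, ← hJ]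
    exact Ideal.pow_right_mono hle 2
  let χ0 : P →+* A := PS.evalNil (R := R) a (m * 2) hN
  have hχC : ∀ c : R, χ0 (C c) = σ c := fun c => PS.evalNil_C a (m * 2) hN c
  have hχX : ∀ i, χ0 (X i) = a i := fun i => PS.evalNil_X a (m * 2) hN i
  have hcomm : ∀ r : k, χ0 (algebraMap k P r) = algebraMap k A r := by
    intro r
    have h1 : algebraMap k P r = C (algebraMap k R r) := by
      rw [MvPowerSeries.algebraMap_apply]
    rw [h1, hχC, AlgHom.commutes]
  let χ : P →ₐ[k] A := { χ0 with commutes' := hcomm }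
  refine ⟨χ, ?_⟩
  have hring : ((Ideal.Quotient.mkₐ k J).comp χ).toRingHom = ψ.toRingHom := by
    apply PS.ringHom_ext_of_kills _ _ (m * 2)
    · intro g hg
      have h1 : χ0 g = 0 := by
        apply PS.kills_of_pow_eq_bot χ0 (m * 2) _ g hg
        have h2 : (fun i => χ0 (X i)) = a := funext hχX
        rw [h2]
        exact hN
      change Ideal.Quotient.mk J (χ0 g) = 0
      rw [h1, map_zero]
    · intro g hg
      apply hm
      have h1 : Ideal.span (Set.range (X : Fin n → P)) ^ (m * 2) ≤ maximalIdeal P ^ m := by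
        refine (Ideal.pow_right_mono hXm (m * 2)).trans ?_
        exact Ideal.pow_le_pow_right (by omega)
      exact h1 hg
    · intro c
      change Ideal.Quotient.mk J (χ0 (C c)) = ψ (C c)
      rw [hχC, hσ]
    · intro i
      change Ideal.Quotient.mk J (χ0 (X i)) = ψ (X i)
      rw [hχX, ha]
  ext x
  exact congrArg (fun f : P →+* A ⧸ J => f x) hring

end Groth.Agent.Lib.Helper9.AdicSmoothPS2

namespace Groth.Agent.Lib.Helper9.AdicSmoothPS2

/-- from the two-sided adic notion to the one with discrete base, when `𝔞B ⊆ 𝔫`. -/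
theorem adic_of_adic {A B : Type u} [CommRing A] [CommRing B] [Algebra A B] (𝔞 : Ideal A)
    (𝔫 : Ideal B) (hle : 𝔞.map (algebraMap A B) ≤ 𝔫)
    (h : EGA41.IsFormallySmoothAdic A 𝔞 B 𝔫) : CAlgX.IsAdicFormallySmooth A B 𝔫 := by
  intro C _ _ J hJ ψ ⟨k, hk⟩
  refine h C J ⟨2, hJ⟩ ⟨2 * k, ?_⟩ ψ ⟨k, hk⟩
  have h1 : (𝔞 ^ k).map (algebraMap A C) ≤ J := by
    rw [Ideal.map_le_iff_le_comap]
    intro a ha
    rw [Ideal.mem_comap, ← Ideal.Quotient.eq_zero_iff_mem]
    have h2 : algebraMap A B a ∈ 𝔫 ^ k := by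
      have : algebraMap A B a ∈ (𝔞.map (algebraMap A B)) ^ k := by
        rw [← Ideal.map_pow]; exact Ideal.mem_map_of_mem _ ha
      exact Ideal.pow_right_mono hle k this
    have h3 := hk _ h2
    rw [AlgHom.commutes] at h3
    exact h3
  rw [pow_mul', Ideal.map_pow, eq_bot_iff, ← hJ]
  exact Ideal.pow_right_mono h1 2

end Groth.Agent.Lib.Helper9.AdicSmoothPS2
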