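import Mathlib

/-!
# Formal compatibility of base change maps with units (helper9)
-/

set_option autoImplicit false
open CategoryTheory

namespace Groth.Agent.Lib.Helper9.AdjBC

universe v₁ v₂ v₃ v₄ u₁ u₂ u₃ u₄

variable {A : Type u₁} [Category.{v₁} A] {B : Type u₂} [Category.{v₂} B]
  {A' : Type u₃} [Category.{v₃} A'] {B' : Type u₄} [Category.{v₄} B']
variable {F : A ⥤ B} {F' : A' ⥤ B'} {G : B' ⥤ B} {G' : A' ⥤ A} {a : B ⥤ A} {a' : B' ⥤ A'}
  {L : B ⥤ B'} {L' : A ⥤ A'}
variable (adj : F ⊣ a) (adj' : F' ⊣ a') (adjg : L ⊣ G) (adjg' : L' ⊣ G')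
  (e : G' ⋙ F ≅ F' ⋙ G)

/-- `ξ_N : G' a' N ⟶ a G N`. -/
def xi (N : B') : G'.obj (a'.obj N) ⟶ a.obj (G.obj N) :=
  adj.homEquiv _ _ (e.hom.app (a'.obj N) ≫ G.map (adj'.counit.app N))

theorem xi_naturality {N N' : B'} (h : N ⟶ N') :
    G'.map (a'.map h) ≫ xi adj adj' e N' = xi adj adj' e N ≫ a.map (G.map h) := by
  unfold xi
  rw [← Adjunction.homEquiv_naturality_left, ← Adjunction.homEquiv_naturality_right]
  congr 1
  have h1 : F.map (G'.map (a'.map h)) ≫ e.hom.app (a'.obj N') =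
      e.hom.app (a'.obj N) ≫ G.map (F'.map (a'.map h)) := e.hom.naturality (a'.map h)
  have h2 : F'.map (a'.map h) ≫ adj'.counit.app N' = adj'.counit.app N ≫ h :=
    adj'.counit_naturality h
  rw [← Category.assoc, h1, Category.assoc, Category.assoc, ← G.map_comp, ← G.map_comp, h2]

theorem unit_compat (hξ : ∀ N, IsIso (xi adj adj' e N)) (M : A) :
    adj'.unit.app (L'.obj M) =
      L'.map (adj.unit.app M) ≫
        (L'.map (a.map (adjg.unit.app (F.obj M))) ≫
          L'.map (inv (xi adj adj' e (L.obj (F.obj M)))) ≫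
            adjg'.counit.app (a'.obj (L.obj (F.obj M)))) ≫
        a'.map ((adjg.homEquiv _ _).symm
          (F.map (adjg'.unit.app M) ≫ e.hom.app (L'.obj M))) := by
  have hmono : Mono (xi adj adj' e (F'.obj (L'.obj M))) := by
    have := hξ (F'.obj (L'.obj M))
    infer_instance
  generalize hβ : (adjg.homEquiv (F.obj M) (F'.obj (L'.obj M))).symm
    (F.map (adjg'.unit.app M) ≫ e.hom.app (L'.obj M)) = β
  have hβ' : adjg.homEquiv (F.obj M) (F'.obj (L'.obj M)) β =
      F.map (adjg'.unit.app M) ≫ e.hom.app (L'.obj M) := by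
    rw [← hβ, Equiv.apply_symm_apply]
  apply (adjg'.homEquiv M (a'.obj (F'.obj (L'.obj M)))).injective
  rw [← cancel_mono (xi adj adj' e (F'.obj (L'.obj M)))]
  have n1 : F.map (G'.map (adj'.unit.app (L'.obj M))) ≫ e.hom.app (a'.obj (F'.obj (L'.obj M))) =
      e.hom.app (L'.obj M) ≫ G.map (F'.map (adj'.unit.app (L'.obj M))) :=
    e.hom.naturality (adj'.unit.app (L'.obj M))
  have n2 : F'.map (adj'.unit.app (L'.obj M)) ≫ adj'.counit.app (F'.obj (L'.obj M)) = 𝟙 _ :=
    adj'.left_triangle_components _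
  have hL : adjg'.homEquiv M (a'.obj (F'.obj (L'.obj M))) (adj'.unit.app (L'.obj M)) ≫
        xi adj adj' e (F'.obj (L'.obj M)) =
      adj.homEquiv _ _ (F.map (adjg'.unit.app M) ≫ e.hom.app (L'.obj M)) := by
    unfold xi
    rw [← Adjunction.homEquiv_naturality_left]
    congr 1
    rw [Adjunction.homEquiv_unit, F.map_comp, Category.assoc,
      ← Category.assoc (F.map (G'.map _)), n1, Category.assoc, ← G.map_comp, n2]
    simp
  have hw : L'.map (adj.unit.app M) ≫
        (L'.map (a.map (adjg.unit.app (F.obj M))) ≫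
          L'.map (inv (xi adj adj' e (L.obj (F.obj M)))) ≫
            adjg'.counit.app (a'.obj (L.obj (F.obj M)))) ≫ a'.map β =
      (adjg'.homEquiv M (a'.obj (F'.obj (L'.obj M)))).symm
        ((adj.unit.app M ≫ a.map (adjg.unit.app (F.obj M)) ≫
          inv (xi adj adj' e (L.obj (F.obj M)))) ≫ G'.map (a'.map β)) := by
    rw [Adjunction.homEquiv_naturality_right_symm, Adjunction.homEquiv_counit]
    simp only [Functor.map_comp, Category.assoc]
  have hR : adjg'.homEquiv M (a'.obj (F'.obj (L'.obj M))) (L'.map (adj.unit.app M) ≫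
        (L'.map (a.map (adjg.unit.app (F.obj M))) ≫
          L'.map (inv (xi adj adj' e (L.obj (F.obj M)))) ≫
            adjg'.counit.app (a'.obj (L.obj (F.obj M)))) ≫ a'.map β) ≫
        xi adj adj' e (F'.obj (L'.obj M)) =
      adj.homEquiv _ _ (F.map (adjg'.unit.app M) ≫ e.hom.app (L'.obj M)) := by
    rw [hw, Equiv.apply_symm_apply, Category.assoc, xi_naturality, Category.assoc, Category.assoc,
      IsIso.inv_hom_id_assoc, ← a.map_comp, ← adjg.homEquiv_unit, hβ', ← adj.homEquiv_unit]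
    rfl
  exact hL.trans hR.symm

end Groth.Agent.Lib.Helper9.AdjBC
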