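import Mathlib
import Groth.Prelude.Def_CurvBase
import Groth.Agent.Lib.Helper25.BlowUpChart
import Groth.Agent.Lib.Helper22.Cech.SchemeLeray
import Groth.Agent.Lib.Helper22.CohTop.MayerVietoris

set_option autoImplicit false
universe u
open CategoryTheory CategoryTheory.Limits AlgebraicGeometry TopologicalSpace

namespace Groth.Agent.Lib.Helper9.Bl2A

open Groth.Agent.Lib.Helper25.ReesAway Groth.Agent.Lib.Helper25.BlowUpUP
  Groth.Agent.Lib.Helper25.ProjRees Groth.Agent.Lib.Helper25.BlowUpChart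

/-- Vanishing of cohomology in degrees `≥ 2` on a scheme covered by two affine opens with affine
intersection. -/
theorem subsingleton_HH_of_two_affine (X : Scheme.{u}) (F : X.Modules) [F.IsQuasicoherent]
    (U₁ U₂ : X.Opens) (h₁ : IsAffineOpen U₁) (h₂ : IsAffineOpen U₂) (h₁₂ : IsAffineOpen (U₁ ⊓ U₂))
    (hcov : U₁ ⊔ U₂ = ⊤) (p : ℕ) (hp : 2 ≤ p) : Subsingleton (Coh.HH X F p) := by
  have key := Groth.Agent.Lib.Helper22.CohTop.subsingleton_HU_foldr_sup (X := X.carrier)
    (Coh.toAb F) (fun V => V = U₁ ∨ V = U₂ ∨ V = U₁ ⊓ U₂) ?_ ?_ 2 [U₁, U₂] rfl ?_ p hp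
  · have hfold : ([U₁, U₂] : List X.Opens).foldr (· ⊔ ·) ⊥ = ⊤ := by
      simp only [List.foldr_cons, List.foldr_nil, sup_bot_eq]
      exact hcov
    rw [hfold] at key
    obtain ⟨e⟩ := Groth.Agent.Lib.Helper22.Cech.nonempty_HU_top_addEquiv_H (X := X.carrier)
      (Coh.toAb F) p
    exact e.symm.toEquiv.subsingleton
  · intro V W hV hW
    rcases hV with h | h | h <;> rcases hW with h' | h' | h' <;> rw [h, h']
    · left; exact inf_idem _
    · right; right; rfl
    · right; right; rw [← inf_assoc, inf_idem]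
    · right; right; exact inf_comm _ _
    · right; left; exact inf_idem _
    · right; right; rw [inf_comm U₁ U₂, ← inf_assoc, inf_idem]
    · right; right; rw [inf_comm, ← inf_assoc, inf_idem]
    · right; right; rw [inf_assoc, inf_idem]
    · right; right; exact inf_idem _
  · intro V hV q
    rcases hV with h | h | h <;> rw [h]
    · exact Groth.Agent.Lib.Helper22.Cech.subsingleton_HU_succ_of_isAffineOpen X F _ h₁ q
    · exact Groth.Agent.Lib.Helper22.Cech.subsingleton_HU_succ_of_isAffineOpen X F _ h₂ q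
    · exact Groth.Agent.Lib.Helper22.Cech.subsingleton_HU_succ_of_isAffineOpen X F _ h₁₂ q
  · intro V hV
    simp only [List.mem_cons, List.not_mem_nil, or_false] at hV
    rcases hV with h | h
    · left; exact h
    · right; left; exact h


/-- A blowing up of `Spec A` in an ideal generated by two elements is covered by two affine opens
with affine intersection. -/
theorem exists_two_affine_cover {A : Type u} [CommRing A] (x y : A) (X : Scheme.{u})
    (b : X ⟶ Spec (CommRingCat.of A))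
    (hb : BlowUp.IsBlowUp b (specIdeal (Ideal.span {x, y}))) :
    ∃ U₁ U₂ : X.Opens, IsAffineOpen U₁ ∧ IsAffineOpen U₂ ∧ IsAffineOpen (U₁ ⊓ U₂) ∧
      U₁ ⊔ U₂ = ⊤ := by
  set I : Ideal A := Ideal.span {x, y} with hI
  have hx : x ∈ I := Ideal.subset_span (by simp)
  have hy : y ∈ I := Ideal.subset_span (by simp)
  obtain ⟨θ, hθ⟩ := exists_iso_of_isBlowUp b (proj I) _ hb (isBlowUp_proj I)
  let 𝒜 := Rees.deg (reesAlgebra I)
  have hd1 : tilde I x hx ∈ 𝒜 1 := tilde_mem I x hx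
  have hd2 : tilde I y hy ∈ 𝒜 1 := tilde_mem I y hy
  have hd12 : tilde I x hx * tilde I y hy ∈ 𝒜 (1 + 1) := SetLike.GradedMul.mul_mem hd1 hd2
  have ha1 : IsAffineOpen (Proj.basicOpen 𝒜 (tilde I x hx)) :=
    Proj.isAffineOpen_basicOpen 𝒜 _ hd1 one_pos
  have ha2 : IsAffineOpen (Proj.basicOpen 𝒜 (tilde I y hy)) :=
    Proj.isAffineOpen_basicOpen 𝒜 _ hd2 one_pos
  have ha12 : IsAffineOpen (Proj.basicOpen 𝒜 (tilde I x hx * tilde I y hy)) :=
    Proj.isAffineOpen_basicOpen 𝒜 _ hd12 (by norm_num)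
  refine ⟨θ.hom ⁻¹ᵁ Proj.basicOpen 𝒜 (tilde I x hx), θ.hom ⁻¹ᵁ Proj.basicOpen 𝒜 (tilde I y hy),
    ha1.preimage_of_isIso θ.hom, ha2.preimage_of_isIso θ.hom, ?_, ?_⟩
  · have : θ.hom ⁻¹ᵁ Proj.basicOpen 𝒜 (tilde I x hx) ⊓ θ.hom ⁻¹ᵁ Proj.basicOpen 𝒜 (tilde I y hy) =
        θ.hom ⁻¹ᵁ Proj.basicOpen 𝒜 (tilde I x hx * tilde I y hy) := by
      rw [Proj.basicOpen_mul]; rfl
    rw [this]
    exact ha12.preimage_of_isIso θ.hom
  · rw [eq_top_iff]
    intro p _
    obtain ⟨a, ha, haS, hpa⟩ := exists_mem_basicOpen_of_span I {x, y} rfl (θ.hom p)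
    rcases haS with rfl | rfl
    · left; exact hpa
    · right; exact hpa


theorem exists_span_pair_of_regular_dim_two (A : Type u) [CommRing A] [IsRegularLocalRing A]
    (hA : ringKrullDim A = 2) :
    ∃ x y : A, IsLocalRing.maximalIdeal A = Ideal.span {x, y} := by
  classical
  have h1 := IsRegularLocalRing.spanFinrank_maximalIdeal (R := A)
  rw [hA] at h1
  have h2 : (IsLocalRing.maximalIdeal A).spanFinrank = 2 := by exact_mod_cast h1
  have hfg : (IsLocalRing.maximalIdeal A).FG := IsNoetherian.noetherian _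
  obtain ⟨s, hs1, hs2⟩ := Submodule.FG.exists_span_finset_card_eq_spanFinrank hfg
  rw [h2, Finset.card_eq_two] at hs1
  obtain ⟨x, y, -, hs⟩ := hs1
  refine ⟨x, y, ?_⟩
  rw [← hs2, hs]
  simp [Ideal.span]

/-- S1623. -/
theorem main (A : Type u) [CommRing A] [IsRegularLocalRing A] (hA : ringKrullDim A = 2)
    (X : Scheme.{u}) (b : X ⟶ Spec (CommRingCat.of A))
    (hb : BlowUp.IsBlowUp b (Curv2.idealSheaf A (IsLocalRing.maximalIdeal A)))
    (F : X.Modules) (hF : Coh.IsQCoh F) (p : ℕ) (hp : 2 ≤ p) : Subsingleton (Coh.HH X F p) := by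
  obtain ⟨x, y, hxy⟩ := exists_span_pair_of_regular_dim_two A hA
  rw [hxy] at hb
  obtain ⟨U₁, U₂, h₁, h₂, h₁₂, hcov⟩ := exists_two_affine_cover x y X b hb
  have : F.IsQuasicoherent := hF
  exact subsingleton_HH_of_two_affine X F U₁ U₂ h₁ h₂ h₁₂ hcov p hp

end Groth.Agent.Lib.Helper9.Bl2A
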