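import Mathlib
import Groth.Agent.Lib.Helper22.CohTop.MayerVietoris
import Groth.Agent.Lib.Helper22.CohTop.Sections

set_option autoImplicit false
universe u
open CategoryTheory CategoryTheory.Limits TopologicalSpace Opposite Abelian

namespace Groth.Agent.Lib.Helper9.Bl2B

open Groth.Agent.Lib.Helper22.CohTop

variable {X : TopCat.{u}}

/-- The restriction map on `H^0` in terms of morphisms out of free sheaves. -/
lemma res_mk₀ (F : CohTop.Ab X) {U V : Opens X} (i : V ⟶ U) (φ : ZU U ⟶ F) :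
    ((Sheaf.cohomologyPresheaf.{u} F 0).map i.op).hom (Ext.mk₀ φ) =
      Ext.mk₀ ((freeSheafFunctor X).map i ≫ φ) := by
  change (Ext.mk₀ ((freeSheafFunctor X).map i)).comp (Ext.mk₀ φ) (zero_add 0) = _
  rw [Ext.mk₀_comp_mk₀]

/-- The sections of `F` over `U` attached to a class in `H^0(U, F)`. -/
noncomputable def secOf (F : CohTop.Ab X) (U : Opens X) : CohTop.HU F 0 U ≃+ F.obj.obj (op U) :=
  Ext.addEquiv₀.trans (homAddEquivSections U F)

lemma secOf_res (F : CohTop.Ab X) {U V : Opens X} (i : V ⟶ U) (y : CohTop.HU F 0 U) :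
    secOf F V (((Sheaf.cohomologyPresheaf.{u} F 0).map i.op).hom y) =
      (F.obj.map i.op).hom (secOf F U y) := by
  obtain ⟨φ, rfl⟩ := Ext.addEquiv₀.symm.surjective y
  change secOf F V (((Sheaf.cohomologyPresheaf.{u} F 0).map i.op).hom (Ext.mk₀ φ)) =
    (F.obj.map i.op).hom (secOf F U (Ext.mk₀ φ))
  rw [res_mk₀]
  have h1 : ∀ (W : Opens X) (ψ : ZU W ⟶ F), secOf F W (Ext.mk₀ ψ) = homEquivSections W F ψ := by
    intro W ψ
    change homAddEquivSections W F (Ext.addEquiv₀ (Ext.mk₀ ψ)) = _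
    rw [show Ext.addEquiv₀ (Ext.mk₀ ψ) = ψ from Ext.addEquiv₀.apply_symm_apply ψ]
    rfl
  rw [h1, h1, homEquivSections_naturality_left]

/-- Mayer–Vietoris in degree one. -/
theorem subsingleton_HU_one_sup (F : CohTop.Ab X) (U V : Opens X)
    (hU : Subsingleton (CohTop.HU F 1 U)) (hV : Subsingleton (CohTop.HU F 1 V))
    (hsurj : ∀ s : F.obj.obj (op (U ⊓ V)), ∃ (a : F.obj.obj (op U)) (b : F.obj.obj (op V)),
      (F.obj.map (homOfLE (inf_le_left : U ⊓ V ≤ U)).op).hom a -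
        (F.obj.map (homOfLE (inf_le_right : U ⊓ V ≤ V)).op).hom b = s) :
    Subsingleton (CohTop.HU F 1 (U ⊔ V)) := by
  let S := Opens.mayerVietorisSquare U V
  have hex1 : (ShortComplex.mk (S.fromBiprod F 0) (S.δ F 0 1 rfl) (S.fromBiprod_δ F 0 1 rfl)).Exact :=
    (S.sequence_exact F 0 1 rfl).exact 1
  have hex2 : (ShortComplex.mk (S.δ F 0 1 rfl) (S.toBiprod F 1) (S.δ_toBiprod F 0 1 rfl)).Exact :=
    (S.sequence_exact F 0 1 rfl).exact 2
  rw [ShortComplex.ab_exact_iff] at hex1 hex2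
  -- `fromBiprod` is surjective in degree zero
  have hfs : ∀ z : Sheaf.H'.{u} F 0 S.X₁, ∃ w, (S.fromBiprod F 0) w = z := by
    intro z
    obtain ⟨a, b, hab⟩ := hsurj (secOf F (U ⊓ V) z)
    refine ⟨(AddCommGrpCat.biprodIsoProd _ _).inv ⟨(secOf F U).symm a, (secOf F V).symm b⟩, ?_⟩
    rw [S.fromBiprod_biprodIsoProd_inv_apply]
    apply (secOf F (U ⊓ V)).injective
    refine (map_sub (secOf F (U ⊓ V)) _ _).trans ?_
    rw [← hab]
    congr 1
    · refine (secOf_res F (homOfLE (inf_le_left : U ⊓ V ≤ U)) _).trans ?_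
      rw [AddEquiv.apply_symm_apply]
    · refine (secOf_res F (homOfLE (inf_le_right : U ⊓ V ≤ V)) _).trans ?_
      rw [AddEquiv.apply_symm_apply]
  have hδ : ∀ z : Sheaf.H'.{u} F 0 S.X₁, (S.δ F 0 1 rfl) z = 0 := by
    intro z
    obtain ⟨w, rfl⟩ := hfs z
    have := S.fromBiprod_δ F 0 1 rfl
    exact ConcreteCategory.congr_hom this w
  have key : ∀ x : Sheaf.H'.{u} F 1 S.X₄, x = 0 := by
    intro x
    have hx : (S.toBiprod F 1) x = 0 := by
      refine (S.toBiprod_apply F x).trans ?_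
      have : ∀ (p : Sheaf.H'.{u} F 1 S.X₂ × Sheaf.H'.{u} F 1 S.X₃), p = 0 := fun p =>
        Prod.ext (hU.elim _ _) (hV.elim _ _)
      exact (congrArg _ (this _)).trans (map_zero _)
    obtain ⟨y, hy⟩ := hex2 x hx
    rw [← hy, hδ]
  exact ⟨fun a b => by rw [key a, key b]⟩

end Groth.Agent.Lib.Helper9.Bl2B
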