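import Mathlib
import Groth.Agent.Lib.Helper25.RegChartAlg
import Groth.Agent.Lib.Helper25.ReesAway

set_option autoImplicit false
universe u
open Polynomial

namespace Groth.Agent.Lib.Helper9.Bl2C

open Groth.Agent.Lib.Helper25.RegChart

section abstract

variable {A B₁ B₂ C : Type*} [CommRing A] [CommRing B₁] [CommRing B₂] [CommRing C]
  {κ₁ : A →+* B₁} {κ₂ : A →+* B₂} {ρ₁ : B₁ →+* C} {ρ₂ : B₂ →+* C}
  {x y : A}

/-- In a chart `A → A[I/x]` with `I = (x, y)`, every element is a polynomial in `g = y/x` with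
coefficients in `A`. -/
theorem exists_eval₂_eq (h₁ : IsChart (Ideal.span {x, y}) x κ₁) (g : B₁)
    (hg : κ₁ x * g = κ₁ y) (z : B₁) : ∃ p : A[X], eval₂ κ₁ g p = z := by
  have key : ∀ (m : ℕ) (c : A), c ∈ (Ideal.span {x, y}) ^ m →
      ∃ p : A[X], κ₁ x ^ m * eval₂ κ₁ g p = κ₁ c := by
    intro m
    induction m with
    | zero =>
      intro c _
      exact ⟨C c, by simp⟩
    | succ m ih =>
      intro c hc
      rw [pow_succ] at hc
      refine Submodule.mul_induction_on hc ?_ ?_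
      · intro c' hc' u hu
        obtain ⟨p', hp'⟩ := ih c' hc'
        obtain ⟨r, s, rfl⟩ := Ideal.mem_span_pair.mp hu
        refine ⟨p' * (C r + C s * X), ?_⟩
        rw [eval₂_mul, eval₂_add, eval₂_mul, eval₂_C, eval₂_C, eval₂_X, map_mul, map_add, map_mul,
          map_mul, ← hp', ← hg]
        ring
      · intro c₁ c₂ ⟨p₁, hp₁⟩ ⟨p₂, hp₂⟩
        refine ⟨p₁ + p₂, ?_⟩
        rw [eval₂_add, mul_add, hp₁, hp₂, map_add]
  obtain ⟨m, c, hc, hz⟩ := h₁.surj z
  obtain ⟨p, hp⟩ := key m c hc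
  refine ⟨p, ?_⟩
  have h0 : κ₁ x ^ m * (eval₂ κ₁ g p - z) = 0 := by rw [mul_sub, hp, hz, sub_self]
  have hn : κ₁ x ^ m ∈ nonZeroDivisors B₁ := pow_mem h₁.nzd m
  exact sub_eq_zero.mp ((mem_nonZeroDivisors_iff.1 hn).1 _ h0)

/-- Two-chart decomposition. -/
theorem exists_add_eq (hκ : ρ₁.comp κ₁ = ρ₂.comp κ₂)
    (h₁ : IsChart (Ideal.span {x, y}) x κ₁)
    (g : B₁) (hg : κ₁ x * g = κ₁ y) (g' : B₂) (hg' : κ₂ y * g' = κ₂ x)
    (hloc : ∀ z : C, ∃ (n : ℕ) (b : B₁), ρ₁ g ^ n * z = ρ₁ b)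
    (hnzd : ρ₁ (κ₁ x) ∈ nonZeroDivisors C) (z : C) :
    ∃ (b₁ : B₁) (b₂ : B₂), ρ₁ b₁ + ρ₂ b₂ = z := by
  have hκ' : ∀ a, ρ₁ (κ₁ a) = ρ₂ (κ₂ a) := fun a => RingHom.congr_fun hκ a
  -- `γ γ' = 1`
  have hγ : ρ₁ g * ρ₂ g' = 1 := by
    have h0 : ρ₁ (κ₁ x) * (ρ₁ g * ρ₂ g' - 1) = 0 := by
      rw [mul_sub, mul_one, ← mul_assoc, ← map_mul, hg, hκ' y, ← map_mul, hg', hκ' x, sub_self]
    exact sub_eq_zero.mp ((mem_nonZeroDivisors_iff.1 hnzd).1 _ h0)
  obtain ⟨n, b, hb⟩ := hloc z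
  obtain ⟨p, rfl⟩ := exists_eval₂_eq h₁ g hg b
  have hz : z = ρ₂ g' ^ n * ρ₁ (eval₂ κ₁ g p) := by
    rw [← hb, ← mul_assoc, ← mul_pow, mul_comm (ρ₂ g'), hγ, one_pow, one_mul]
  rw [hz]
  clear hz hb
  induction p using Polynomial.induction_on' with
  | add p q hp hq =>
    obtain ⟨b₁, b₂, e⟩ := hp
    obtain ⟨b₁', b₂', e'⟩ := hq
    refine ⟨b₁ + b₁', b₂ + b₂', ?_⟩
    rw [eval₂_add, map_add, map_add, map_add, mul_add, ← e, ← e']
    ring
  | monomial i c =>
    rw [eval₂_monomial, map_mul, map_pow]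
    by_cases hin : n ≤ i
    · refine ⟨κ₁ c * g ^ (i - n), 0, ?_⟩
      obtain ⟨k, rfl⟩ := Nat.exists_eq_add_of_le hin
      rw [map_zero, add_zero, map_mul, map_pow, Nat.add_sub_cancel_left, pow_add]
      have : ρ₂ g' ^ n * (ρ₁ (κ₁ c) * (ρ₁ g ^ n * ρ₁ g ^ k)) =
          (ρ₁ g * ρ₂ g') ^ n * (ρ₁ (κ₁ c) * ρ₁ g ^ k) := by ring
      rw [this, hγ, one_pow, one_mul]
    · push Not at hin
      refine ⟨0, κ₂ c * g' ^ (n - i), ?_⟩
      obtain ⟨k, rfl⟩ := Nat.exists_eq_add_of_le hin.le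
      rw [map_zero, zero_add, map_mul, map_pow, Nat.add_sub_cancel_left, pow_add, ← hκ' c]
      have : ρ₂ g' ^ i * ρ₂ g' ^ k * (ρ₁ (κ₁ c) * ρ₁ g ^ i) =
          (ρ₁ g * ρ₂ g') ^ i * (ρ₁ (κ₁ c) * ρ₂ g' ^ k) := by ring
      rw [this, hγ, one_pow, one_mul]

end abstract


section rees

open HomogeneousLocalization Groth.Agent.Lib.Helper25.ReesAway

variable {A : Type u} [CommRing A] (x y : A)

/-- In the Rees algebra of `I = (x, y)`, every element of the degree-zero localization at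
`(xX)(yX)` is a sum of images of elements of the degree-zero localizations at `xX` and at `yX`. -/
theorem rees_exists_add_eq (I : Ideal A) (hI : I = Ideal.span {x, y})
    (hx : x ∈ I) (hy : y ∈ I)
    (z : Away (Rees.deg (reesAlgebra I)) (tilde I x hx * tilde I y hy)) :
    ∃ (b₁ : Away (Rees.deg (reesAlgebra I)) (tilde I x hx))
      (b₂ : Away (Rees.deg (reesAlgebra I)) (tilde I y hy)),
      awayMap (Rees.deg (reesAlgebra I)) (tilde_mem I y hy) rfl b₁ +
        awayMap (Rees.deg (reesAlgebra I)) (tilde_mem I x hx) (mul_comm _ _) b₂ = z := by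
  have hd1 := tilde_mem I x hx
  have hd2 := tilde_mem I y hy
  let ρ₁ := awayMap (Rees.deg (reesAlgebra I)) hd2
    (rfl : tilde I x hx * tilde I y hy = tilde I x hx * tilde I y hy)
  let ρ₂ := awayMap (Rees.deg (reesAlgebra I)) hd1
    (mul_comm _ _ : tilde I x hx * tilde I y hy = tilde I y hy * tilde I x hx)
  have hκ : ρ₁.comp (kap I x hx) = ρ₂.comp (kap I y hy) := by
    refine RingHom.ext fun a => ?_
    change ρ₁ (fromZeroRingHom (Rees.deg (reesAlgebra I)) _ _) =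
      ρ₂ (fromZeroRingHom (Rees.deg (reesAlgebra I)) _ _)
    exact (awayMap_fromZeroRingHom (Rees.deg (reesAlgebra I)) hd2 rfl _).trans
      (awayMap_fromZeroRingHom (Rees.deg (reesAlgebra I)) hd1 (mul_comm _ _) _).symm
  have h₁ : IsChart (Ideal.span {x, y}) x (kap I x hx) := hI ▸ isChart_kap I x hx
  have hg : kap I x hx x * Away.isLocalizationElem hd1 hd2 = kap I x hx y := by
    rw [kap_eq_isLocalizationElem_mul I y x hy hx]
    exact mul_comm (kap I x hx x) (Away.isLocalizationElem hd1 hd2)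
  have hg' : kap I y hy y * Away.isLocalizationElem hd2 hd1 = kap I y hy x := by
    rw [kap_eq_isLocalizationElem_mul I x y hx hy]
    exact mul_comm (kap I y hy y) (Away.isLocalizationElem hd2 hd1)
  let _ : Algebra (Away (Rees.deg (reesAlgebra I)) (tilde I x hx))
    (Away (Rees.deg (reesAlgebra I)) (tilde I x hx * tilde I y hy)) := ρ₁.toAlgebra
  have hL : IsLocalization.Away (Away.isLocalizationElem hd1 hd2)
      (Away (Rees.deg (reesAlgebra I)) (tilde I x hx * tilde I y hy)) :=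
    Away.isLocalization_mul hd1 hd2 rfl one_ne_zero
  have hloc : ∀ z : Away (Rees.deg (reesAlgebra I)) (tilde I x hx * tilde I y hy),
      ∃ (n : ℕ) (b : Away (Rees.deg (reesAlgebra I)) (tilde I x hx)),
      ρ₁ (Away.isLocalizationElem hd1 hd2) ^ n * z = ρ₁ b := by
    intro z
    obtain ⟨n, a, h⟩ := IsLocalization.Away.surj (Away.isLocalizationElem hd1 hd2) z
    exact ⟨n, a, (mul_comm (ρ₁ (Away.isLocalizationElem hd1 hd2) ^ n) z).trans h⟩
  have hnzd : ρ₁ (kap I x hx x) ∈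
      nonZeroDivisors (Away (Rees.deg (reesAlgebra I)) (tilde I x hx * tilde I y hy)) := by
    have h0 := kap_mem_nonZeroDivisors I x hx
    have := IsLocalization.map_nonZeroDivisors_le
      (Submonoid.powers (Away.isLocalizationElem hd1 hd2))
      (Away (Rees.deg (reesAlgebra I)) (tilde I x hx * tilde I y hy))
    exact this (Submonoid.mem_map_of_mem _ h0)
  exact exists_add_eq hκ h₁ _ hg _ hg' hloc hnzd z

end rees

end Groth.Agent.Lib.Helper9.Bl2C
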