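import Mathlib
import Groth.Agent.Lib.Helper9.Bl2A
import Groth.Agent.Lib.Helper9.Bl2C
import Groth.Agent.Lib.Helper29.QCohBasic

set_option autoImplicit false
universe u
open CategoryTheory CategoryTheory.Limits AlgebraicGeometry TopologicalSpace

namespace Groth.Agent.Lib.Helper9.Bl2D

open Groth.Agent.Lib.Helper25.ReesAway Groth.Agent.Lib.Helper25.BlowUpUP
  Groth.Agent.Lib.Helper25.ProjRees Groth.Agent.Lib.Helper25.BlowUpChart
  HomogeneousLocalization

section proj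

variable {A : Type u} [CommRing A] (x y : A) (I : Ideal A) (hI : I = Ideal.span {x, y})
  (hx : x ∈ I) (hy : y ∈ I)

include hI in
/-- Sections of the structure sheaf of `Proj R(I)`, `I = (x, y)`, over `D₊(xX) ⊓ D₊(yX)` are sums
of restrictions of sections over `D₊(xX)` and over `D₊(yX)`. -/
theorem proj_exists_add_eq
    (t : Γ(Proj (Rees.deg (reesAlgebra I)),
      Proj.basicOpen (Rees.deg (reesAlgebra I)) (tilde I x hx) ⊓
        Proj.basicOpen (Rees.deg (reesAlgebra I)) (tilde I y hy))) :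
    ∃ (t₁ : Γ(Proj (Rees.deg (reesAlgebra I)),
        Proj.basicOpen (Rees.deg (reesAlgebra I)) (tilde I x hx)))
      (t₂ : Γ(Proj (Rees.deg (reesAlgebra I)),
        Proj.basicOpen (Rees.deg (reesAlgebra I)) (tilde I y hy))),
      (Proj (Rees.deg (reesAlgebra I))).presheaf.map (homOfLE inf_le_left).op t₁ +
        (Proj (Rees.deg (reesAlgebra I))).presheaf.map (homOfLE inf_le_right).op t₂ = t := by
  set 𝒜 := Rees.deg (reesAlgebra I) with h𝒜
  have hd1 : tilde I x hx ∈ 𝒜 1 := tilde_mem I x hx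
  have hd2 : tilde I y hy ∈ 𝒜 1 := tilde_mem I y hy
  have hd12 : tilde I x hx * tilde I y hy ∈ 𝒜 (1 + 1) := SetLike.GradedMul.mul_mem hd1 hd2
  have hle : Proj.basicOpen 𝒜 (tilde I x hx) ⊓ Proj.basicOpen 𝒜 (tilde I y hy) ≤
      Proj.basicOpen 𝒜 (tilde I x hx * tilde I y hy) := (Proj.basicOpen_mul 𝒜 _ _).ge
  have hge : Proj.basicOpen 𝒜 (tilde I x hx * tilde I y hy) ≤
      Proj.basicOpen 𝒜 (tilde I x hx) ⊓ Proj.basicOpen 𝒜 (tilde I y hy) :=
    (Proj.basicOpen_mul 𝒜 _ _).le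
  -- the section over `D₊(xX · yX)`
  have hiso : IsIso (Proj.awayToSection 𝒜 (tilde I x hx * tilde I y hy)) :=
    (Proj.basicOpenIsoAway 𝒜 _ hd12 (by norm_num)).isIso_hom
  obtain ⟨z, hz⟩ := (ConcreteCategory.bijective_of_isIso
    (Proj.awayToSection 𝒜 (tilde I x hx * tilde I y hy))).2
    ((Proj 𝒜).presheaf.map (homOfLE hge).op t)
  obtain ⟨b₁, b₂, hb⟩ := Bl2C.rees_exists_add_eq x y I hI hx hy z
  have h1 := ConcreteCategory.congr_hom
    (Proj.awayMap_awayToSection 𝒜 (f := tilde I x hx) hd2 (rfl : _ = tilde I x hx * tilde I y hy)) b₁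
  have h2 := ConcreteCategory.congr_hom
    (Proj.awayMap_awayToSection 𝒜 (f := tilde I y hy) hd1
      (mul_comm _ _ : tilde I x hx * tilde I y hy = tilde I y hy * tilde I x hx)) b₂
  rw [CommRingCat.comp_apply, CommRingCat.comp_apply] at h1 h2
  refine ⟨Proj.awayToSection 𝒜 _ b₁, Proj.awayToSection 𝒜 _ b₂, ?_⟩
  have ht : t = (Proj 𝒜).presheaf.map (homOfLE hle).op
      ((Proj 𝒜).presheaf.map (homOfLE hge).op t) := by
    rw [← CommRingCat.comp_apply, ← CategoryTheory.Functor.map_comp]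
    have : (homOfLE hge).op ≫ (homOfLE hle).op = 𝟙 _ := Subsingleton.elim _ _
    rw [this, CategoryTheory.Functor.map_id]
    rfl
  rw [ht, ← hz, ← hb, map_add, map_add]
  congr 1
  · refine Eq.trans ?_ (congrArg _ h1.symm)
    exact (Groth.Agent.Lib.Helper29.QCoh.map_map_apply (Proj 𝒜) _ hle _).symm
  · refine Eq.trans ?_ (congrArg _ h2.symm)
    exact (Groth.Agent.Lib.Helper29.QCoh.map_map_apply (Proj 𝒜) _ hle _).symm

end proj


/-- A blowing up of `Spec A` in an ideal generated by two elements is covered by two affine opens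
with affine intersection, such that functions on the intersection are sums of restrictions. -/
theorem exists_two_affine_cover {A : Type u} [CommRing A] (x y : A) (X : Scheme.{u})
    (b : X ⟶ Spec (CommRingCat.of A))
    (hb : BlowUp.IsBlowUp b (specIdeal (Ideal.span {x, y}))) :
    ∃ U₁ U₂ : X.Opens, IsAffineOpen U₁ ∧ IsAffineOpen U₂ ∧ IsAffineOpen (U₁ ⊓ U₂) ∧
      U₁ ⊔ U₂ = ⊤ ∧ ∀ s : Γ(X, U₁ ⊓ U₂), ∃ (a₁ : Γ(X, U₁)) (a₂ : Γ(X, U₂)),
        X.presheaf.map (homOfLE (inf_le_left : U₁ ⊓ U₂ ≤ U₁)).op a₁ +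
          X.presheaf.map (homOfLE (inf_le_right : U₁ ⊓ U₂ ≤ U₂)).op a₂ = s := by
  have hx : x ∈ Ideal.span {x, y} := Ideal.subset_span (by simp)
  have hy : y ∈ Ideal.span {x, y} := Ideal.subset_span (by simp)
  obtain ⟨θ, hθ⟩ := exists_iso_of_isBlowUp b (proj (Ideal.span {x, y})) _ hb
    (isBlowUp_proj (Ideal.span {x, y}))
  have hd1 := tilde_mem (Ideal.span {x, y}) x hx
  have hd2 := tilde_mem (Ideal.span {x, y}) y hy
  have hd12 : tilde (Ideal.span {x, y}) x hx * tilde (Ideal.span {x, y}) y hy ∈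
      Rees.deg (reesAlgebra (Ideal.span {x, y})) (1 + 1) := SetLike.GradedMul.mul_mem hd1 hd2
  have ha1 := Proj.isAffineOpen_basicOpen (Rees.deg (reesAlgebra (Ideal.span {x, y}))) _ hd1 one_pos
  have ha2 := Proj.isAffineOpen_basicOpen (Rees.deg (reesAlgebra (Ideal.span {x, y}))) _ hd2 one_pos
  have ha12 := Proj.isAffineOpen_basicOpen (Rees.deg (reesAlgebra (Ideal.span {x, y}))) _ hd12
    (by norm_num)
  refine ⟨θ.hom ⁻¹ᵁ Proj.basicOpen _ (tilde (Ideal.span {x, y}) x hx),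
    θ.hom ⁻¹ᵁ Proj.basicOpen _ (tilde (Ideal.span {x, y}) y hy),
    ha1.preimage_of_isIso θ.hom, ha2.preimage_of_isIso θ.hom, ?_, ?_, ?_⟩
  · have : θ.hom ⁻¹ᵁ Proj.basicOpen _ (tilde (Ideal.span {x, y}) x hx) ⊓
        θ.hom ⁻¹ᵁ Proj.basicOpen _ (tilde (Ideal.span {x, y}) y hy) =
        θ.hom ⁻¹ᵁ Proj.basicOpen (Rees.deg (reesAlgebra (Ideal.span {x, y})))
          (tilde (Ideal.span {x, y}) x hx * tilde (Ideal.span {x, y}) y hy) := by
      rw [Proj.basicOpen_mul]; rfl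
    rw [this]
    exact ha12.preimage_of_isIso θ.hom
  · rw [eq_top_iff]
    intro p _
    obtain ⟨a, ha, haS, hpa⟩ := exists_mem_basicOpen_of_span (Ideal.span {x, y}) {x, y} rfl
      (θ.hom p)
    rcases haS with rfl | rfl
    · left; exact hpa
    · right; exact hpa
  · intro s
    obtain ⟨t, rfl⟩ := (ConcreteCategory.bijective_of_isIso (θ.hom.app
      (Proj.basicOpen _ (tilde (Ideal.span {x, y}) x hx) ⊓
        Proj.basicOpen _ (tilde (Ideal.span {x, y}) y hy)))).2 s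
    obtain ⟨t₁, t₂, rfl⟩ := proj_exists_add_eq x y (Ideal.span {x, y}) rfl hx hy t
    refine ⟨θ.hom.app _ t₁, θ.hom.app _ t₂, ?_⟩
    rw [map_add]
    congr 1
    · exact (ConcreteCategory.congr_hom (θ.hom.naturality (homOfLE (inf_le_left :
        Proj.basicOpen _ (tilde (Ideal.span {x, y}) x hx) ⊓
          Proj.basicOpen _ (tilde (Ideal.span {x, y}) y hy) ≤ _)).op) t₁).symm
    · exact (ConcreteCategory.congr_hom (θ.hom.naturality (homOfLE (inf_le_right :
        Proj.basicOpen _ (tilde (Ideal.span {x, y}) x hx) ⊓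
          Proj.basicOpen _ (tilde (Ideal.span {x, y}) y hy) ≤ _)).op) t₂).symm

end Groth.Agent.Lib.Helper9.Bl2D
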