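import Mathlib
import Groth.Agent.Lib.Helper3.SubSh
import Groth.Agent.Lib.Helper29.GenLocus
import Groth.Prelude.Def_Curv2

set_option autoImplicit false
universe u
open CategoryTheory CategoryTheory.Limits AlgebraicGeometry TopologicalSpace Opposite

namespace Groth.Agent.Lib.Helper9.Bl2E

open Groth.Agent.Lib.Helper29.QCoh Groth.Agent.Lib.Helper3

variable {X : Scheme.{u}}

/-- A global section of `F` lying in a subsheaf, as a global section of the subsheaf. -/
noncomputable def liftSection {F : X.Modules} (G : SubSh F) (σ : F.sections)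
    (hσ : ∀ U : X.Opens, σ.val (op U) ∈ G.carrier U) : G.toModules.sections :=
  PresheafOfModules.sectionsMk (fun U => G.mkSec U.unop (σ.val U) (hσ U.unop)) (by
    intro U V f
    apply Subtype.ext
    exact PresheafOfModules.sections_property σ f)

theorem sectionsMap_liftSection {F : X.Modules} (G : SubSh F) (σ : F.sections)
    (hσ : ∀ U : X.Opens, σ.val (op U) ∈ G.carrier U) :
    SheafOfModules.sectionsMap G.ι (liftSection G σ hσ) = σ := by
  apply PresheafOfModules.sections_ext
  intro U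
  rfl

/-- If `F` is a quotient of a free module, then over every affine open its sections are spanned by
restrictions of global sections. -/
theorem span_res_top_eq_top (F : X.Modules) [F.IsQuasicoherent] {ι : Type u}
    (p : (SheafOfModules.free ι : X.Modules) ⟶ F) [Epi p] {V : X.Opens} (hV : IsAffineOpen V) :
    Submodule.span Γ(X, V) (Set.range fun σ : Γ(F, ⊤) => res F (le_top : V ≤ ⊤) σ) = ⊤ := by
  let G : SubSh F := SubSh.genSub (⊤ : X.Opens) (Set.univ : Set Γ(F, ⊤))
  let σ : ι → F.sections := F.freeHomEquiv p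
  have hσ : ∀ i (U : X.Opens), (σ i).val (op U) ∈ G.carrier U := by
    intro i U
    have h1 : (σ i).val (op U) = res F (le_top : U ≤ ⊤) ((σ i).val (op ⊤)) :=
      (PresheafOfModules.sections_property (σ i) (homOfLE (le_top : U ≤ ⊤)).op).symm
    rw [h1]
    apply G.res_mem
    apply SubSh.mem_genSub_of_mem_spanRes ⊤ _ le_rfl
    exact Submodule.subset_span ⟨_, Set.mem_univ _, res_self F _⟩
  let q : (SheafOfModules.free ι : X.Modules) ⟶ G.toModules :=
    G.toModules.freeHomEquiv.symm (fun i => liftSection G (σ i) (hσ i))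
  have hq : q ≫ G.ι = p := by
    rw [SheafOfModules.freeHomEquiv_symm_comp]
    have : (fun i => SheafOfModules.sectionsMap G.ι (liftSection G (σ i) (hσ i))) = σ := by
      funext i
      exact sectionsMap_liftSection G (σ i) (hσ i)
    rw [this]
    exact F.freeHomEquiv.symm_apply_apply p
  have hepi : Epi G.ι := by
    have h1 : Epi (q ≫ G.ι) := by rw [hq]; infer_instance
    exact epi_of_epi q G.ι
  have hiso : IsIso G.ι := isIso_of_mono_of_epi G.ι
  rw [eq_top_iff]
  rintro s -
  have hs : s ∈ G.carrier V := by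
    have hbij : Function.Bijective (G.ι.app V) := app_bijective_of_isIso G.ι V
    obtain ⟨t, rfl⟩ := hbij.2 s
    exact G.ι_app_mem V t
  rw [SubSh.genSub_carrier_eq ⊤ _ hV le_top] at hs
  have : res F (le_top : V ≤ ⊤) '' (Set.univ : Set Γ(F, ⊤)) =
      Set.range fun σ : Γ(F, ⊤) => res F (le_top : V ≤ ⊤) σ := by
    rw [Set.image_univ]
  change s ∈ Submodule.span Γ(X, V) (res F (le_top : V ≤ ⊤) '' Set.univ) at hs
  rwa [this] at hs


/-- Two-open decomposition of sections of a globally generated quasi-coherent module, given the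
decomposition for functions. -/
theorem exists_sub_eq (F : X.Modules) [F.IsQuasicoherent] {ι : Type u}
    (p : (SheafOfModules.free ι : X.Modules) ⟶ F) [Epi p] (U₁ U₂ : X.Opens)
    (h₁₂ : IsAffineOpen (U₁ ⊓ U₂))
    (hring : ∀ s : Γ(X, U₁ ⊓ U₂), ∃ (a₁ : Γ(X, U₁)) (a₂ : Γ(X, U₂)),
      X.presheaf.map (homOfLE (inf_le_left : U₁ ⊓ U₂ ≤ U₁)).op a₁ +
        X.presheaf.map (homOfLE (inf_le_right : U₁ ⊓ U₂ ≤ U₂)).op a₂ = s)
    (s : Γ(F, U₁ ⊓ U₂)) :
    ∃ (a : Γ(F, U₁)) (b : Γ(F, U₂)),
      res F (inf_le_left : U₁ ⊓ U₂ ≤ U₁) a - res F (inf_le_right : U₁ ⊓ U₂ ≤ U₂) b = s := by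
  have hs : s ∈ Submodule.span Γ(X, U₁ ⊓ U₂)
      (Set.range fun σ : Γ(F, ⊤) => res F (le_top : U₁ ⊓ U₂ ≤ ⊤) σ) := by
    rw [span_res_top_eq_top F p h₁₂]; trivial
  induction hs using Submodule.closure_induction with
  | zero => exact ⟨0, 0, by simp⟩
  | add s s' _ _ hs hs' =>
    obtain ⟨a, b, rfl⟩ := hs
    obtain ⟨a', b', rfl⟩ := hs'
    refine ⟨a + a', b + b', ?_⟩
    rw [map_add, map_add]
    abel
  | smul_mem c s hs =>
    obtain ⟨σ, rfl⟩ := hs
    obtain ⟨a₁, a₂, rfl⟩ := hring c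
    refine ⟨a₁ • res F (le_top : U₁ ≤ ⊤) σ, -(a₂ • res F (le_top : U₂ ≤ ⊤) σ), ?_⟩
    rw [map_neg, sub_neg_eq_add, res_smul, res_smul, res_res, res_res, add_smul]

end Groth.Agent.Lib.Helper9.Bl2E
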