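import Mathlib
import Groth.Agent.Lib.Helper9.Bl2A
import Groth.Agent.Lib.Helper9.Bl2B
import Groth.Agent.Lib.Helper9.Bl2D
import Groth.Agent.Lib.Helper9.Bl2E

set_option autoImplicit false
universe u
open CategoryTheory CategoryTheory.Limits AlgebraicGeometry TopologicalSpace Opposite

namespace Groth.Agent.Lib.Helper9.Bl2F

open Groth.Agent.Lib.Helper29.QCoh

/-- Vanishing of `H¹` on a scheme covered by two affine opens, for a quasi-coherent module whose
sections over the intersection are differences of restrictions. -/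
theorem subsingleton_HH_one_of_two_affine (X : Scheme.{u}) (F : X.Modules) [F.IsQuasicoherent]
    (U₁ U₂ : X.Opens) (h₁ : IsAffineOpen U₁) (h₂ : IsAffineOpen U₂) (hcov : U₁ ⊔ U₂ = ⊤)
    (hsurj : ∀ s : Γ(F, U₁ ⊓ U₂), ∃ (a : Γ(F, U₁)) (b : Γ(F, U₂)),
      res F (inf_le_left : U₁ ⊓ U₂ ≤ U₁) a - res F (inf_le_right : U₁ ⊓ U₂ ≤ U₂) b = s) :
    Subsingleton (Coh.HH X F 1) := by
  have key := Bl2B.subsingleton_HU_one_sup (X := X.carrier) (Coh.toAb F) U₁ U₂
    (Groth.Agent.Lib.Helper22.Cech.subsingleton_HU_succ_of_isAffineOpen X F _ h₁ 0)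
    (Groth.Agent.Lib.Helper22.Cech.subsingleton_HU_succ_of_isAffineOpen X F _ h₂ 0)
    hsurj
  rw [hcov] at key
  obtain ⟨e⟩ := Groth.Agent.Lib.Helper22.Cech.nonempty_HU_top_addEquiv_H (X := X.carrier)
    (Coh.toAb F) 1
  exact e.symm.toEquiv.subsingleton

/-- S1624. -/
theorem main (A : Type u) [CommRing A] [IsRegularLocalRing A] (hA : ringKrullDim A = 2)
    (X : Scheme.{u}) (b : X ⟶ Spec (CommRingCat.of A))
    (hb : BlowUp.IsBlowUp b (Curv2.idealSheaf A (IsLocalRing.maximalIdeal A)))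
    (F : X.Modules) (hF : Coh.IsQCoh F) (hgg : Curv2.IsGloballyGenerated F) :
    Subsingleton (Coh.HH X F 1) := by
  obtain ⟨x, y, hxy⟩ := Bl2A.exists_span_pair_of_regular_dim_two A hA
  rw [hxy] at hb
  obtain ⟨U₁, U₂, h₁, h₂, h₁₂, hcov, hring⟩ := Bl2D.exists_two_affine_cover x y X b hb
  obtain ⟨ι, p, hp⟩ := hgg
  have : F.IsQuasicoherent := hF
  exact subsingleton_HH_one_of_two_affine X F U₁ U₂ h₁ h₂ hcov
    (Bl2E.exists_sub_eq F p U₁ U₂ h₁₂ hring)

end Groth.Agent.Lib.Helper9.Bl2F
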