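import Mathlib
import Groth.Agent.Lib.Helper9.BoschV11

set_option autoImplicit false
set_option linter.style.haveILetI false
set_option linter.unusedSectionVars false
set_option linter.unusedVariables false
universe u v

namespace Groth.Agent.Lib.Helper9.BoschV12
open Groth.Agent.Lib.Helper9 Groth.Agent.Lib.Helper9.BoschV5 Groth.Agent.Lib.Helper9.BoschV7
open TensorProduct Function AdicRing IsLocalRing MvPolynomial

section Chart

variable {A : Type u} [CommRing A] {ι : Type} (f : ι → A) (i : ι)

/-- the ideal of relations of the chart algebra. -/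
noncomputable abbrev chartIdeal : Ideal (MvPolynomial {j : ι // j ≠ i} A) :=
  Ideal.span (Set.range fun j : {j : ι // j ≠ i} =>
    MvPolynomial.C (f i) * MvPolynomial.X j - MvPolynomial.C (f j.1))

example : AdicRing.chartAlg f i = (MvPolynomial {j : ι // j ≠ i} A ⧸ chartIdeal f i) := rfl

/-- modulo the relations, `f_i^N p` is a constant. -/
theorem exists_const (p : MvPolynomial {j : ι // j ≠ i} A) :
    ∃ (N : ℕ) (a : A), C (f i) ^ N * p - C a ∈ chartIdeal f i := by
  induction p using MvPolynomial.induction_on with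
  | C a => exact ⟨0, a, by simp⟩
  | add p q hp hq =>
    obtain ⟨N1, a1, h1⟩ := hp
    obtain ⟨N2, a2, h2⟩ := hq
    refine ⟨N1 + N2, f i ^ N2 * a1 + f i ^ N1 * a2, ?_⟩
    have : C (f i) ^ (N1 + N2) * (p + q) - C (f i ^ N2 * a1 + f i ^ N1 * a2) =
        C (f i) ^ N2 * (C (f i) ^ N1 * p - C a1) + C (f i) ^ N1 * (C (f i) ^ N2 * q - C a2) := by
      simp only [map_add, map_mul, map_pow]
      ring
    rw [this]
    exact Ideal.add_mem _ (Ideal.mul_mem_left _ _ h1) (Ideal.mul_mem_left _ _ h2)
  | mul_X p j hp =>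
    obtain ⟨N, a, h⟩ := hp
    refine ⟨N + 1, a * f j.1, ?_⟩
    have : C (f i) ^ (N + 1) * (p * X j) - C (a * f j.1) =
        (C (f i) * X j) * (C (f i) ^ N * p - C a) + C a * (C (f i) * X j - C (f j.1)) := by
      simp only [map_mul]
      ring
    rw [this]
    refine Ideal.add_mem _ (Ideal.mul_mem_left _ _ h) (Ideal.mul_mem_left _ _ ?_)
    exact Ideal.subset_span ⟨j, rfl⟩

/-- the map of the chart algebra to the localization `A_{f_i}`. -/
noncomputable def rhoP : MvPolynomial {j : ι // j ≠ i} A →ₐ[A] Localization.Away (f i) :=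
  MvPolynomial.aeval fun j => IsLocalization.Away.invSelf (f i) * algebraMap A _ (f j.1)

theorem rhoP_kills (p : MvPolynomial {j : ι // j ≠ i} A) (hp : p ∈ chartIdeal f i) :
    rhoP f i p = 0 := by
  have h1 : chartIdeal f i ≤ RingHom.ker (rhoP f i).toRingHom := by
    rw [Ideal.span_le]
    rintro _ ⟨j, rfl⟩
    rw [SetLike.mem_coe, RingHom.mem_ker]
    change rhoP f i (C (f i) * X j - C (f j.1)) = 0
    rw [map_sub, map_mul, rhoP, aeval_C, aeval_X, aeval_C, ← mul_assoc,
      IsLocalization.Away.mul_invSelf, one_mul, sub_self]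
  exact h1 hp

/-- `A[f_j/f_i] → A_{f_i}`. -/
noncomputable def rho : AdicRing.chartAlg f i →ₐ[A] Localization.Away (f i) :=
  Ideal.Quotient.liftₐ (chartIdeal f i) (rhoP f i) (rhoP_kills f i)

/-- an element of the chart algebra dying in `A_{f_i}` is `f_i`-power torsion. -/
theorem exists_pow_mul_eq_zero (c : AdicRing.chartAlg f i) (hc : rho f i c = 0) :
    ∃ N : ℕ, algebraMap A (AdicRing.chartAlg f i) (f i) ^ N * c = 0 := by
  obtain ⟨p, rfl⟩ := Ideal.Quotient.mk_surjective c
  obtain ⟨N, a, h⟩ := exists_const f i p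
  have h1 : Ideal.Quotient.mk (chartIdeal f i) (C (f i) ^ N * p) =
      Ideal.Quotient.mk (chartIdeal f i) (C a) := by
    rw [← sub_eq_zero, ← map_sub]
    exact Ideal.Quotient.eq_zero_iff_mem.mpr h
  have h2 : rhoP f i p = 0 := hc
  have h3 : algebraMap A (Localization.Away (f i)) a = 0 := by
    have := rhoP_kills f i _ h
    rw [map_sub, map_mul, map_pow, h2, mul_zero, zero_sub, neg_eq_zero, rhoP, aeval_C] at this
    exact this
  obtain ⟨⟨_, M, rfl⟩, hM⟩ := (IsLocalization.map_eq_zero_iff (Submonoid.powers (f i)) _ a).mp h3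
  refine ⟨M + N, ?_⟩
  have h4 : algebraMap A (AdicRing.chartAlg f i) (f i) =
      Ideal.Quotient.mk (chartIdeal f i) (C (f i)) := rfl
  rw [h4, ← map_pow, ← map_mul, pow_add, mul_assoc, map_mul, h1, ← map_mul, ← map_pow, ← map_mul]
  change Ideal.Quotient.mk (chartIdeal f i) (C (f i ^ M * a)) = 0
  rw [hM, map_zero, map_zero]

end Chart

section Tors

variable (R : Type u) [CommRing R] (I : Ideal R) (hI : I.FG)
  (C : Type u) [CommRing C] [Algebra R C]
  (B : Type u) [CommRing B] [Algebra R B] [Algebra C B] [IsScalarTower R C B]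

include hI in
/-- over a flat algebra, `I^n`-torsion is generated by the `I^n`-torsion of the base. -/
theorem torsion_of_flat [Module.Flat C B] (n : ℕ) (x : B) (hx : ∀ a ∈ I ^ n, a • x = 0)
    (P : B → Prop) (h0 : P 0) (hadd : ∀ y z, P y → P z → P (y + z))
    (hP : ∀ (c : C) (y : B), (∀ a ∈ I ^ n, a • c = 0) → P (c • y)) : P x := by
  classical
  obtain ⟨s, hs⟩ := hI.pow (n := n)
  let φ : C →ₗ[C] (s → C) := LinearMap.pi (fun j => (algebraMap R C j.1) • LinearMap.id)
  have hker : ∀ c ∈ LinearMap.ker φ, ∀ a ∈ I ^ n, a • c = 0 := by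
    intro c hc a ha
    rw [LinearMap.mem_ker] at hc
    rw [← hs] at ha
    refine Submodule.span_induction ?_ ?_ ?_ ?_ ha
    · intro j hj
      have := congrFun hc ⟨j, hj⟩
      simp only [φ, LinearMap.pi_apply, LinearMap.smul_apply, LinearMap.id_apply,
        Pi.zero_apply] at this
      rw [Algebra.smul_def, ← smul_eq_mul]
      exact this
    · rw [zero_smul]
    · intro x y _ _ hx hy
      rw [add_smul, hx, hy, add_zero]
    · intro c' x _ hx
      rw [smul_eq_mul, mul_smul, hx, smul_zero]
  have hex := Module.Flat.lTensor_exact B (LinearMap.exact_subtype_ker_map φ)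
  have h2 : φ.lTensor B (x ⊗ₜ[C] (1 : C)) = 0 := by
    rw [LinearMap.lTensor_tmul]
    have h3 : φ 1 = ∑ j : s, (algebraMap R C j.1) • (Pi.single j (1 : C) : s → C) := by
      ext j
      simp only [φ, LinearMap.pi_apply, LinearMap.smul_apply, LinearMap.id_apply,
        Finset.sum_apply, Pi.smul_apply, smul_eq_mul]
      rw [Finset.sum_eq_single j]
      · simp
      · intro i _ hij
        rw [Pi.single_eq_of_ne hij.symm, mul_zero]
      · intro hj
        exact absurd (Finset.mem_univ j) hj
    rw [h3, TensorProduct.tmul_sum]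
    apply Finset.sum_eq_zero
    intro j _
    rw [← TensorProduct.smul_tmul, algebraMap_smul,
      hx j.1 (by rw [← hs]; exact Ideal.subset_span j.2), TensorProduct.zero_tmul]
  obtain ⟨w, hw⟩ := (hex _).mp h2
  have key : ∀ w : B ⊗[C] (LinearMap.ker φ),
      P (TensorProduct.rid C B ((LinearMap.ker φ).subtype.lTensor B w)) := by
    intro w
    induction w using TensorProduct.induction_on with
    | zero => simpa using h0
    | tmul y c =>
      rw [LinearMap.lTensor_tmul, TensorProduct.rid_tmul]
      exact hP c.1 y (hker c.1 c.2)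
    | add w1 w2 h1 h2 =>
      rw [map_add, map_add]
      exact hadd _ _ h1 h2
  have := key w
  rw [hw, TensorProduct.rid_tmul, one_smul] at this
  exact this

end Tors

section S40

variable (R : Type u) [CommRing R] (I : Ideal R) (hR : AdicRing.IsBase R I)
    (A : Type u) [CommRing A] [Algebra R A] (hA : AdicRing.Admissible R I A)
    (r : ℕ) (f : Fin (r + 1) → A) (k : ℕ)
    (hopen : (I ^ k).map (algebraMap R A) ≤ Ideal.span (Set.range f)) (i : Fin (r + 1))

theorem algebraMap_mem_span (j : Fin (r + 1)) :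
    algebraMap A (AdicRing.chartAlg f i) (f j) ∈
      Ideal.span {algebraMap A (AdicRing.chartAlg f i) (f i)} := by
  by_cases hj : j = i
  · rw [hj]
    exact Ideal.mem_span_singleton_self _
  · rw [Ideal.mem_span_singleton']
    refine ⟨Ideal.Quotient.mk (chartIdeal f i) (X ⟨j, hj⟩), ?_⟩
    change Ideal.Quotient.mk (chartIdeal f i) (X ⟨j, hj⟩) *
      Ideal.Quotient.mk (chartIdeal f i) (C (f i)) = Ideal.Quotient.mk (chartIdeal f i) (C (f j))
    rw [← map_mul, ← sub_eq_zero, ← map_sub, Ideal.Quotient.eq_zero_iff_mem]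
    have : (X ⟨j, hj⟩ * C (f i) - C (f j) : MvPolynomial {j : Fin (r + 1) // j ≠ i} A) =
        C (f i) * X ⟨j, hj⟩ - C (f (⟨j, hj⟩ : {j : Fin (r + 1) // j ≠ i}).1) := by
      ring
    rw [this]
    exact Ideal.subset_span ⟨⟨j, hj⟩, rfl⟩

include hopen in
theorem map_pow_le :
    (I ^ k).map (algebraMap R (AdicRing.chartAlg f i)) ≤
      Ideal.span {algebraMap A (AdicRing.chartAlg f i) (f i)} := by
  rw [IsScalarTower.algebraMap_eq R A (AdicRing.chartAlg f i), ← Ideal.map_map]
  refine (Ideal.map_mono hopen).trans ?_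
  rw [Ideal.map_span, Ideal.span_le]
  rintro _ ⟨_, ⟨j, rfl⟩, rfl⟩
  exact algebraMap_mem_span A r f i j

include hR hA hopen in
/-- S11540 -/
theorem torsion_eq (x : AdicRing.chartCompl I f i) :
    (∃ n : ℕ, ∀ a ∈ I ^ n, a • x = 0) ↔
      ∃ n : ℕ, algebraMap A (AdicRing.chartCompl I f i) (f i) ^ n * x = 0 := by
  have hI : I.FG := BoschV6.isBase_fg R I hR
  constructor
  · rintro ⟨n, hx⟩
    haveI : Module.Flat (AdicRing.chartAlg f i) (AdicRing.chartCompl I f i) :=
      BoschV11.flat_completion R I hR A (BoschV10.tft_of_tfp R I A hA.1) (AdicRing.chartAlg f i)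
    have hloc : NoPowTorsion I (Localization.Away (f i)) :=
      BoschV10.noPowTorsion_of_flat R I hI A (Localization.Away (f i)) hA.2
    apply torsion_of_flat R I hI (AdicRing.chartAlg f i) (AdicRing.chartCompl I f i) n x hx
      (fun y => ∃ N : ℕ, algebraMap A (AdicRing.chartCompl I f i) (f i) ^ N * y = 0)
    · exact ⟨0, by simp⟩
    · rintro y z ⟨N1, h1⟩ ⟨N2, h2⟩
      refine ⟨N1 + N2, ?_⟩
      have e1 : algebraMap A (AdicRing.chartCompl I f i) (f i) ^ (N1 + N2) * y =
          algebraMap A (AdicRing.chartCompl I f i) (f i) ^ N2 *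
            (algebraMap A (AdicRing.chartCompl I f i) (f i) ^ N1 * y) := by
        rw [pow_add]; ring
      have e2 : algebraMap A (AdicRing.chartCompl I f i) (f i) ^ (N1 + N2) * z =
          algebraMap A (AdicRing.chartCompl I f i) (f i) ^ N1 *
            (algebraMap A (AdicRing.chartCompl I f i) (f i) ^ N2 * z) := by
        rw [pow_add]; ring
      rw [mul_add, e1, e2, h1, h2, mul_zero, mul_zero, add_zero]
    · intro c y hc
      have h1 : rho f i c = 0 := by
        apply hloc _ n
        intro a ha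
        rw [← algebraMap_smul A a (rho f i c), ← map_smul, algebraMap_smul, hc a ha, map_zero]
      obtain ⟨N, hN⟩ := exists_pow_mul_eq_zero f i c h1
      refine ⟨N, ?_⟩
      rw [IsScalarTower.algebraMap_apply A (AdicRing.chartAlg f i) (AdicRing.chartCompl I f i),
        Algebra.smul_def, ← mul_assoc, ← map_pow, ← map_mul, hN, map_zero, zero_mul]
  · rintro ⟨N, hN⟩
    refine ⟨k * N, ?_⟩
    intro a ha
    have h1 : algebraMap R (AdicRing.chartAlg f i) a ∈
        Ideal.span {algebraMap A (AdicRing.chartAlg f i) (f i) ^ N} := by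
      rw [← Ideal.span_singleton_pow]
      refine Ideal.pow_right_mono (map_pow_le R I A r f k hopen i) N ?_
      rw [← Ideal.map_pow, ← pow_mul]
      exact Ideal.mem_map_of_mem _ ha
    obtain ⟨c, hc⟩ := Ideal.mem_span_singleton'.mp h1
    rw [Algebra.smul_def,
      IsScalarTower.algebraMap_apply R (AdicRing.chartAlg f i) (AdicRing.chartCompl I f i),
      ← hc, map_mul, map_pow,
      ← IsScalarTower.algebraMap_apply A (AdicRing.chartAlg f i) (AdicRing.chartCompl I f i),
      mul_assoc, hN, mul_zero]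

end S40

end Groth.Agent.Lib.Helper9.BoschV12
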