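import Mathlib
import Groth.Agent.Lib.Helper9.BoschV12

set_option autoImplicit false
set_option linter.style.haveILetI false
set_option linter.unusedSectionVars false
set_option linter.unusedVariables false
universe u v

namespace Groth.Agent.Lib.Helper9.BoschV13
open Groth.Agent.Lib.Helper9 Groth.Agent.Lib.Helper9.BoschV5 Groth.Agent.Lib.Helper9.BoschV7
open TensorProduct Function AdicRing IsLocalRing

section Fin

variable (R : Type u) [CommRing R] (I : Ideal R) (hR : AdicRing.IsBase R I)
  (A : Type u) [CommRing A] [Algebra R A] (hA : AdicRing.TopFiniteType R I A)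
  (B : Type u) [CommRing B] [Algebra R B] [Algebra A B] [IsScalarTower R A B] [Module.Finite A B]

include hR hA in
/-- a finite algebra over an algebra topologically of finite type is topologically of finite
type. -/
theorem tft_of_finite : AdicRing.TopFiniteType R I B := by
  have hI : I.FG := BoschV6.isBase_fg R I hR
  haveI h1 : IsAdicComplete I B := BoschV3.isAdicComplete_of_finite R I hR A hA B
  haveI h2 : IsAdicComplete (I.map (algebraMap R B)) B :=
    (IsAdicComplete.map_algebraMap_iff (S := B) I B).mpr h1
  apply tft_of_trunc R I hI B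
  set K : Ideal A := (I ^ (0 + 1)).map (algebraMap R A) with hK
  have hAK : Algebra.FiniteType R (A ⧸ K) := by
    obtain ⟨d, φ, hφ⟩ := hA
    exact Algebra.FiniteType.of_surjective (psi R I A d φ (0 + 1))
      (psi_surjective R I hI A d φ hφ (0 + 1))
  have h4 : Algebra.FiniteType A (B ⧸ K.map (algebraMap A B)) :=
    Algebra.FiniteType.of_surjective (Ideal.Quotient.mkₐ A _) Ideal.Quotient.mk_surjective
  have h5 : Algebra.FiniteType (A ⧸ K) (B ⧸ K.map (algebraMap A B)) :=
    Algebra.FiniteType.of_restrictScalars_finiteType A _ _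
  haveI : IsScalarTower R (A ⧸ K) (B ⧸ K.map (algebraMap A B)) :=
    IsScalarTower.of_algebraMap_eq fun r => by
      change Ideal.Quotient.mk _ (algebraMap R B r) =
        Ideal.Quotient.mk _ (algebraMap A B (algebraMap R A r))
      rw [← IsScalarTower.algebraMap_apply R A B]
  have h6 : Algebra.FiniteType R (B ⧸ K.map (algebraMap A B)) := Algebra.FiniteType.trans hAK h5
  have hKB : K.map (algebraMap A B) = (I ^ (0 + 1)).map (algebraMap R B) := by
    rw [hK, Ideal.map_map, ← IsScalarTower.algebraMap_eq]
  exact Algebra.FiniteType.of_surjective (Ideal.quotientEquivAlgOfEq R hKB).toAlgHom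
    (Ideal.quotientEquivAlgOfEq R hKB).surjective

end Fin

section S52

variable (R : Type u) [CommRing R] [IsDomain R] [ValuationRing R] [Ring.KrullDimLE 1 R]
    (t : R) (ht : t ≠ 0) [IsAdicComplete (Ideal.span {t}) R]
    (A : Type u) [CommRing A] [Algebra R A]

include ht in
theorem isBase_V : AdicRing.IsBase R (Ideal.span {t}) :=
  ⟨inferInstance, Or.inr ⟨inferInstance, { ‹ValuationRing R› with }, inferInstance, t, ht, rfl⟩⟩

include ht in
/-- `A ⊗ K` has no `t`-power torsion. -/
theorem tensor_noTorsion (n : ℕ) (x : A ⊗[R] FractionRing R) (hx : t ^ n • x = 0) : x = 0 := by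
  have hτ : algebraMap R (FractionRing R) (t ^ n) ≠ 0 := by
    rw [Ne, map_eq_zero_iff _ (IsFractionRing.injective R (FractionRing R))]
    exact pow_ne_zero n ht
  have h1 : ∀ x : A ⊗[R] FractionRing R,
      t ^ n • x = ((1 : A) ⊗ₜ[R] algebraMap R (FractionRing R) (t ^ n)) * x := by
    intro x
    induction x using TensorProduct.induction_on with
    | zero => simp
    | tmul a k =>
      rw [Algebra.TensorProduct.tmul_mul_tmul, one_mul, TensorProduct.smul_tmul', TensorProduct.smul_tmul,
        Algebra.smul_def]
    | add x y hx hy => rw [smul_add, mul_add, hx, hy]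
  have h2 : ((1 : A) ⊗ₜ[R] (algebraMap R (FractionRing R) (t ^ n))⁻¹) *
      (((1 : A) ⊗ₜ[R] algebraMap R (FractionRing R) (t ^ n)) * x) = x := by
    rw [← mul_assoc, Algebra.TensorProduct.tmul_mul_tmul, one_mul, inv_mul_cancel₀ hτ]
    exact one_mul x
  rw [← h2, ← h1 x, hx, mul_zero]

include ht in
/-- S13352 -/
theorem admissible_adjoin (hA : AdicRing.Admissible R (Ideal.span {t}) A)
    (n : ℕ) (f : Fin n → A ⊗[R] FractionRing R) (hf : ∀ i, IsIntegral A (f i)) :
    AdicRing.Admissible R (Ideal.span {t}) ↥(Algebra.adjoin A (Set.range f)) ∧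
      Module.Finite A ↥(Algebra.adjoin A (Set.range f)) := by
  have hR := isBase_V R t ht
  have hfin : Module.Finite A ↥(Algebra.adjoin A (Set.range f)) := by
    have := fg_adjoin_of_finite (Set.finite_range f) (R := A) (by
      rintro _ ⟨i, rfl⟩
      exact hf i)
    exact Module.Finite.iff_fg.mpr this
  refine ⟨?_, hfin⟩
  have htft : AdicRing.TopFiniteType R (Ideal.span {t}) ↥(Algebra.adjoin A (Set.range f)) :=
    tft_of_finite R (Ideal.span {t}) hR A (BoschV10.tft_of_tfp R _ A hA.1) _
  have hnt : AdicRing.NoPowTorsion (Ideal.span {t}) ↥(Algebra.adjoin A (Set.range f)) := by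
    intro x m hx
    have h1 := hx (t ^ m) (Ideal.pow_mem_pow (Ideal.mem_span_singleton_self t) m)
    apply Subtype.ext
    apply tensor_noTorsion R t ht A m x.1
    have := congrArg Subtype.val h1
    simpa using this
  exact ⟨BoschV.tfp_of_noPowTorsion R _ hR _ htft hnt, hnt⟩

end S52

end Groth.Agent.Lib.Helper9.BoschV13
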