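import Mathlib
import Groth.Agent.Lib.Helper9.BoschV13

set_option autoImplicit false
set_option linter.style.haveILetI false
set_option linter.unusedSectionVars false
set_option linter.unusedVariables false
universe u v

namespace Groth.Agent.Lib.Helper9.BoschV14
open Groth.Agent.Lib.Helper9 Groth.Agent.Lib.Helper9.BoschV5 Groth.Agent.Lib.Helper9.BoschV7
open TensorProduct Function AdicRing IsLocalRing Polynomial

section Tors

variable (R : Type u) [CommRing R] [IsDomain R] [ValuationRing R] [Ring.KrullDimLE 1 R]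
    (t : R) (ht : t ≠ 0) [IsAdicComplete (Ideal.span {t}) R]
    (X : Type u) [CommRing X] [Algebra R X]

include ht in
theorem eq_zero_of_smul_eq_zero (hX : AdicRing.NoPowTorsion (Ideal.span {t}) X)
    (r : R) (hr : r ≠ 0) (x : X) (hx : r • x = 0) : x = 0 := by
  obtain ⟨m, c', hc'⟩ := RigPt5.exists_dvd_pow R t r hr
  apply hX x m
  intro a ha
  rw [Ideal.span_singleton_pow, Ideal.mem_span_singleton'] at ha
  obtain ⟨b, rfl⟩ := ha
  rw [hc', mul_comm r c', ← mul_assoc, mul_smul, hx, smul_zero]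

include ht in
theorem flat_of_noPowTorsion (hX : AdicRing.NoPowTorsion (Ideal.span {t}) X) :
    Module.Flat R X := by
  rw [Module.Flat.flat_iff_torsion_eq_bot_of_isBezout, eq_bot_iff]
  rintro x ⟨⟨a, ha⟩, hax⟩
  rw [Submodule.mem_bot]
  exact eq_zero_of_smul_eq_zero R t ht X hX a (nonZeroDivisors.ne_zero ha) x hax

include ht in
theorem includeLeft_injective (hX : AdicRing.NoPowTorsion (Ideal.span {t}) X) :
    Injective (algebraMap X (X ⊗[R] FractionRing R)) := by
  haveI := flat_of_noPowTorsion R t ht X hX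
  have h1 := Module.Flat.lTensor_preserves_injective_linearMap (M := X)
    (Algebra.linearMap R (FractionRing R)) (IsFractionRing.injective R (FractionRing R))
  intro x y hxy
  rw [Algebra.TensorProduct.algebraMap_apply, Algebra.TensorProduct.algebraMap_apply] at hxy
  have h2 : (Algebra.linearMap R (FractionRing R)).lTensor X (x ⊗ₜ[R] (1 : R)) =
      (Algebra.linearMap R (FractionRing R)).lTensor X (y ⊗ₜ[R] (1 : R)) := by
    simpa using hxy
  have h3 := h1 h2
  have h4 := congrArg (TensorProduct.rid R X) h3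
  simpa using h4

/-- `X ⊗ K` has no `R`-torsion. -/
theorem tensor_noTorsion (r : R) (hr : r ≠ 0) (x : X ⊗[R] FractionRing R) (hx : r • x = 0) :
    x = 0 := by
  have hτ : algebraMap R (FractionRing R) r ≠ 0 := by
    rw [Ne, map_eq_zero_iff _ (IsFractionRing.injective R (FractionRing R))]
    exact hr
  have h1 : ∀ x : X ⊗[R] FractionRing R,
      r • x = ((1 : X) ⊗ₜ[R] algebraMap R (FractionRing R) r) * x := by
    intro x
    induction x using TensorProduct.induction_on with
    | zero => simp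
    | tmul a k =>
      rw [Algebra.TensorProduct.tmul_mul_tmul, one_mul, TensorProduct.smul_tmul',
        TensorProduct.smul_tmul, Algebra.smul_def]
    | add x y hx hy => rw [smul_add, mul_add, hx, hy]
  have h2 : ((1 : X) ⊗ₜ[R] (algebraMap R (FractionRing R) r)⁻¹) *
      (((1 : X) ⊗ₜ[R] algebraMap R (FractionRing R) r) * x) = x := by
    rw [← mul_assoc, Algebra.TensorProduct.tmul_mul_tmul, one_mul, inv_mul_cancel₀ hτ]
    exact one_mul x
  rw [← h2, ← h1 x, hx, mul_zero]

end Tors

section Unit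

variable {D : Type u} [CommRing D]

theorem isUnit_of_sum (m : ℕ) (b : ℕ → D) (hb : b m = 1) (γ d : D)
    (hsum : ∑ l ∈ Finset.range (m + 1), b l * (γ * d) ^ (m - l) * γ ^ l = 0)
    (hreg : ∀ y, (γ * d) ^ m * y = 0 → y = 0) : IsUnit d := by
  have h1 : (γ * d) ^ m * ∑ l ∈ Finset.range (m + 1), b l * d ^ (m - l) = 0 := by
    have h2 : (γ * d) ^ m * ∑ l ∈ Finset.range (m + 1), b l * d ^ (m - l) =
        d ^ m * ∑ l ∈ Finset.range (m + 1), b l * (γ * d) ^ (m - l) * γ ^ l := by
      rw [Finset.mul_sum, Finset.mul_sum]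
      apply Finset.sum_congr rfl
      intro l hl
      have hlm : l ≤ m := Nat.lt_succ_iff.mp (Finset.mem_range.mp hl)
      obtain ⟨j, rfl⟩ := Nat.exists_eq_add_of_le hlm
      rw [Nat.add_sub_cancel_left]
      simp only [mul_pow, pow_add]
      ring
    rw [h2, hsum, mul_zero]
  have h3 := hreg _ h1
  rw [Finset.sum_range_succ, hb, Nat.sub_self, pow_zero, mul_one] at h3
  have h4 : ∑ l ∈ Finset.range m, b l * d ^ (m - l) =
      d * ∑ l ∈ Finset.range m, b l * d ^ (m - l - 1) := by
    rw [Finset.mul_sum]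
    apply Finset.sum_congr rfl
    intro l hl
    have hlm : l < m := Finset.mem_range.mp hl
    obtain ⟨j, hj⟩ : ∃ j, m - l = j + 1 := ⟨m - l - 1, by omega⟩
    rw [hj, Nat.add_sub_cancel, pow_succ]
    ring
  rw [h4] at h3
  refine IsUnit.of_mul_eq_one (-(∑ l ∈ Finset.range m, b l * d ^ (m - l - 1))) ?_
  linear_combination (-1 : D) * h3

end Unit

section S53

variable (R : Type u) [CommRing R] [IsDomain R] [ValuationRing R] [Ring.KrullDimLE 1 R]
    (t : R) (ht : t ≠ 0) [IsAdicComplete (Ideal.span {t}) R]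
    (A : Type u) [CommRing A] [Algebra R A] (hA : AdicRing.Admissible R (Ideal.span {t}) A)
    (n : ℕ) (f : Fin n → A ⊗[R] FractionRing R) (hf : ∀ i, IsIntegral A (f i))
    (c : R) (hc : c ≠ 0) (g : Fin n → A)
    (hg : ∀ i, algebraMap A (A ⊗[R] FractionRing R) (g i) = c • f i)
    (D : Type u) [CommRing D] [Algebra R D] (hD : AdicRing.Admissible R (Ideal.span {t}) D)
    (φ : A →ₐ[R] D)

include ht hA hf hc hg hD in
/-- if `c = φ(g_i) d` in `D` then `d` is a unit. -/
theorem isUnit_of_eq (i : Fin n) (d : D) (hd : algebraMap R D c = φ (g i) * d) : IsUnit d := by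
  obtain ⟨p, hpm, hp⟩ := hf i
  rw [← Polynomial.aeval_def] at hp
  set q := scaleRoots p (algebraMap R A c) with hq
  have h1 : aeval (algebraMap A (A ⊗[R] FractionRing R) (algebraMap R A c) * f i) q = 0 :=
    scaleRoots_aeval_eq_zero hp
  have h2 : algebraMap A (A ⊗[R] FractionRing R) (algebraMap R A c) * f i =
      algebraMap A (A ⊗[R] FractionRing R) (g i) := by
    rw [hg i, Algebra.smul_def c (f i), ← IsScalarTower.algebraMap_apply]
  rw [h2, Polynomial.aeval_algebraMap_apply] at h1
  have h3 : aeval (g i) q = 0 := by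
    apply includeLeft_injective R t ht A hA.2
    rw [h1, map_zero]
  have h4 : eval₂ (φ : A →+* D) (φ (g i)) q = 0 := by
    have := Polynomial.eval₂_at_apply (φ : A →+* D) (g i) (p := q)
    rw [Polynomial.coe_aeval_eq_eval] at h3
    rw [h3, map_zero] at this
    exact this
  rw [Polynomial.eval₂_eq_sum_range, hq, natDegree_scaleRoots] at h4
  apply isUnit_of_sum p.natDegree (fun l => φ (p.coeff l)) ?_ (φ (g i)) d ?_ ?_
  · rw [hpm.coeff_natDegree, map_one]
  · rw [← h4]
    apply Finset.sum_congr rfl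
    intro l _
    rw [coeff_scaleRoots, ← hd]
    simp only [RingHom.coe_coe, map_mul, map_pow, AlgHom.commutes]
  · intro y hy
    rw [← hd, ← map_pow, ← Algebra.smul_def] at hy
    exact eq_zero_of_smul_eq_zero R t ht D hD.2 (c ^ p.natDegree) (pow_ne_zero _ hc) y hy

include ht hA hf hc hg hD in
theorem map_eq_span
    (hgen : (Ideal.span (insert (algebraMap R A c) (Set.range g))).map φ =
          Ideal.span {algebraMap R D c} ∨
      ∃ i, (Ideal.span (insert (algebraMap R A c) (Set.range g))).map φ = Ideal.span {φ (g i)}) :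
    (Ideal.span (insert (algebraMap R A c) (Set.range g))).map φ =
      Ideal.span {algebraMap R D c} := by
  rcases hgen with h | ⟨i, h⟩
  · exact h
  · have h1 : algebraMap R D c ∈ Ideal.span {φ (g i)} := by
      rw [← h, ← φ.commutes c]
      exact Ideal.mem_map_of_mem _ (Ideal.subset_span (Set.mem_insert _ _))
    obtain ⟨d, hd⟩ := Ideal.mem_span_singleton'.mp h1
    have hd' : algebraMap R D c = φ (g i) * d := by rw [← hd, mul_comm]
    have hu := isUnit_of_eq R t ht A hA n f hf c hc g hg D hD φ i d hd'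
    rw [h, hd', Ideal.span_singleton_mul_right_unit hu]

/-- `φ ⊗ K`. -/
noncomputable def phiK : A ⊗[R] FractionRing R →ₐ[R] D ⊗[R] FractionRing R :=
  Algebra.TensorProduct.map φ (AlgHom.id R (FractionRing R))

/-- `D → D ⊗ K`. -/
noncomputable def iotaD : D →ₐ[R] D ⊗[R] FractionRing R := Algebra.TensorProduct.includeLeft

include ht hD in
theorem iotaD_injective : Injective (iotaD R D) :=
  includeLeft_injective R t ht D hD.2

include hc hg in
/-- elements of `A[f]` map into `D` under `φ ⊗ K` as soon as `φ(g_i) ∈ cD`. -/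
theorem phiK_mem_range (δ : Fin n → D) (hδ : ∀ i, φ (g i) = algebraMap R D c * δ i)
    (x : A ⊗[R] FractionRing R) (hx : x ∈ Algebra.adjoin A (Set.range f)) :
    phiK R A D φ x ∈ (iotaD R D).range := by
  induction hx using Algebra.adjoin_induction with
  | mem x hx =>
    obtain ⟨i, rfl⟩ := hx
    refine ⟨δ i, ?_⟩
    change iotaD R D (δ i) = phiK R A D φ (f i)
    rw [← sub_eq_zero]
    apply tensor_noTorsion R D c hc
    rw [smul_sub, sub_eq_zero, ← map_smul, ← map_smul, ← hg i, Algebra.smul_def, ← hδ i]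
    simp [iotaD, phiK, Algebra.TensorProduct.algebraMap_apply]
  | algebraMap a =>
    refine ⟨φ a, ?_⟩
    simp [iotaD, phiK, Algebra.TensorProduct.algebraMap_apply]
  | add x y _ _ hx hy => rw [map_add]; exact Subalgebra.add_mem _ hx hy
  | mul x y _ _ hx hy => rw [map_mul]; exact Subalgebra.mul_mem _ hx hy

include ht hA hf hc hg hD in
/-- S13353 -/
theorem universal
    (hgen : (Ideal.span (insert (algebraMap R A c) (Set.range g))).map φ =
          Ideal.span {algebraMap R D c} ∨
      ∃ i, (Ideal.span (insert (algebraMap R A c) (Set.range g))).map φ = Ideal.span {φ (g i)}) :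
    (Ideal.span (insert (algebraMap R A c) (Set.range g))).map φ = Ideal.span {algebraMap R D c} ∧
      ∃! ψ : ↥(Algebra.adjoin A (Set.range f)) →ₐ[R] D,
        ψ.comp (IsScalarTower.toAlgHom R A ↥(Algebra.adjoin A (Set.range f))) = φ := by
  have hspan := map_eq_span R t ht A hA n f hf c hc g hg D hD φ hgen
  refine ⟨hspan, ?_⟩
  have hδ : ∀ i, ∃ δ : D, φ (g i) = algebraMap R D c * δ := by
    intro i
    have h1 : φ (g i) ∈ Ideal.span {algebraMap R D c} := by
      rw [← hspan]
      exact Ideal.mem_map_of_mem _ (Ideal.subset_span (Set.mem_insert_of_mem _ ⟨i, rfl⟩))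
    obtain ⟨δ, hδ⟩ := Ideal.mem_span_singleton'.mp h1
    exact ⟨δ, by rw [← hδ, mul_comm]⟩
  choose δ hδ using hδ
  have hinj := iotaD_injective R t ht D hD
  set A' := Algebra.adjoin A (Set.range f) with hA'
  let ρ : ↥A' →ₐ[R] D ⊗[R] FractionRing R :=
    (phiK R A D φ).comp (A'.val.restrictScalars R)
  have hρ : ∀ x : ↥A', ρ x ∈ (iotaD R D).range := fun x =>
    phiK_mem_range R A n f c hc g hg D φ δ hδ x.1 x.2
  let e := AlgEquiv.ofInjective (iotaD R D) hinj
  let ψ : ↥A' →ₐ[R] D := (e.symm : (iotaD R D).range →ₐ[R] D).comp (ρ.codRestrict _ hρ)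
  have hψ : ∀ x : ↥A', iotaD R D (ψ x) = phiK R A D φ x.1 := by
    intro x
    have h1 : (e (ψ x) : D ⊗[R] FractionRing R) = iotaD R D (ψ x) := rfl
    rw [← h1]
    simp only [ψ, AlgHom.comp_apply, AlgEquiv.coe_toAlgHom, AlgEquiv.apply_symm_apply]
    rfl
  have huniq : ∀ ψ₁ ψ₂ : ↥A' →ₐ[R] D,
      ψ₁.comp (IsScalarTower.toAlgHom R A ↥A') = φ → ψ₂.comp (IsScalarTower.toAlgHom R A ↥A') = φ →
      ψ₁ = ψ₂ := by
    intro ψ₁ ψ₂ h1 h2
    ext ⟨x, hx⟩
    induction hx using Algebra.adjoin_induction with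
    | mem x hx =>
      obtain ⟨i, rfl⟩ := hx
      have key : ∀ ψ' : ↥A' →ₐ[R] D, ψ'.comp (IsScalarTower.toAlgHom R A ↥A') = φ →
          c • ψ' ⟨f i, Algebra.subset_adjoin ⟨i, rfl⟩⟩ = φ (g i) := by
        intro ψ' h'
        rw [← map_smul, ← h']
        simp only [AlgHom.comp_apply]
        congr 1
        apply Subtype.ext
        change c • f i = algebraMap A (A ⊗[R] FractionRing R) (g i)
        rw [hg i]
      have h3 : c • (ψ₁ ⟨f i, Algebra.subset_adjoin ⟨i, rfl⟩⟩ -
          ψ₂ ⟨f i, Algebra.subset_adjoin ⟨i, rfl⟩⟩) = 0 := by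
        rw [smul_sub, key ψ₁ h1, key ψ₂ h2, sub_self]
      exact sub_eq_zero.mp (eq_zero_of_smul_eq_zero R t ht D hD.2 c hc _ h3)
    | algebraMap a =>
      have e1 := congrArg (fun θ : A →ₐ[R] D => θ a) h1
      have e2 := congrArg (fun θ : A →ₐ[R] D => θ a) h2
      simp only [AlgHom.comp_apply] at e1 e2
      exact e1.trans e2.symm
    | add x y hx hy h1' h2' =>
      have : (⟨x + y, Subalgebra.add_mem _ hx hy⟩ : ↥A') = ⟨x, hx⟩ + ⟨y, hy⟩ := rfl
      rw [this, map_add, map_add, h1', h2']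
    | mul x y hx hy h1' h2' =>
      have : (⟨x * y, Subalgebra.mul_mem _ hx hy⟩ : ↥A') = ⟨x, hx⟩ * ⟨y, hy⟩ := rfl
      rw [this, map_mul, map_mul, h1', h2']
  refine ⟨ψ, ?_, fun ψ' hψ' => huniq ψ' ψ hψ' ?_⟩
  · ext a
    apply hinj
    rw [AlgHom.comp_apply, hψ]
    simp [iotaD, phiK, Algebra.TensorProduct.algebraMap_apply]
  · ext a
    apply hinj
    rw [AlgHom.comp_apply, hψ]
    simp [iotaD, phiK, Algebra.TensorProduct.algebraMap_apply]

end S53

end Groth.Agent.Lib.Helper9.BoschV14
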