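import Mathlib
import Groth.Agent.Lib.Helper9.BoschV14
import Groth.Agent.Lib.Helper9.RigPt4

set_option autoImplicit false
set_option linter.style.haveILetI false
set_option linter.unusedSectionVars false
set_option linter.unusedVariables false
universe u v

namespace Groth.Agent.Lib.Helper9.BoschV15
open Groth.Agent.Lib.Helper9 Groth.Agent.Lib.Helper9.RigPt Groth.Agent.Lib.Helper9.RigPt4
open TensorProduct Function AdicRing IsLocalRing

section S54

variable (R : Type u) [CommRing R] [IsDomain R] [ValuationRing R] [Ring.KrullDimLE 1 R]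
    (t : R) (ht : t ≠ 0) [IsAdicComplete (Ideal.span {t}) R]
    (B : Type u) [CommRing B] [Algebra R B] [IsDomain B] [IsLocalRing B]

include ht in
/-- S13354 -/
theorem exists_principal (hB : AdicRing.Admissible R (Ideal.span {t}) B) (hdim : ringKrullDim B = 1)
    (n : ℕ) (b : Fin n → B) (hb : ∃ i, b i ≠ 0) :
    ∃ B' : Subalgebra B (FractionRing B), Module.Finite B ↥B' ∧ IsLocalRing ↥B' ∧
      ringKrullDim ↥B' = 1 ∧
      ∃ i, Ideal.span (Set.range (fun j => algebraMap B ↥B' (b j))) =
        Ideal.span {algebraMap B ↥B' (b i)} := by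
  obtain ⟨hfinR, hV⟩ := main41 R t ht B hB hdim
  haveI := hfinR
  haveI := hV
  set V := integralClosure B (FractionRing B) with hVdef
  have hne : (Finset.univ : Finset (Fin n)).Nonempty := by
    obtain ⟨i, _⟩ := hb
    exact ⟨i, Finset.mem_univ i⟩
  obtain ⟨i, -, hi⟩ := exists_dvd_all (↥V) Finset.univ hne (fun j => algebraMap B ↥V (b j))
  have hdiv : ∀ j, ∃ v : ↥V, algebraMap B ↥V (b j) = algebraMap B ↥V (b i) * v :=
    fun j => hi j (Finset.mem_univ j)
  choose v hv using hdiv
  set B' : Subalgebra B (FractionRing B) :=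
    Algebra.adjoin B (Set.range fun j => ((v j : ↥V) : FractionRing B)) with hB'
  have hfinB : Module.Finite B ↥B' := by
    have := fg_adjoin_of_finite (Set.finite_range fun j => ((v j : ↥V) : FractionRing B))
      (R := B) (by
        rintro _ ⟨j, rfl⟩
        exact (v j).2)
    exact Module.Finite.iff_fg.mpr this
  haveI := hfinB
  haveI : Module.Finite R ↥B' := Module.Finite.trans B ↥B'
  have htB : algebraMap R B t ≠ 0 := algebraMap_t_ne_zero R t B hB.2
  have htB' : algebraMap R ↥B' t ≠ 0 := by
    intro h0
    apply htB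
    have h1 : algebraMap B (FractionRing B) (algebraMap R B t) = 0 := by
      have := congrArg (Subtype.val : ↥B' → FractionRing B) h0
      rw [IsScalarTower.algebraMap_apply R B ↥B'] at this
      simpa using this
    exact (IsFractionRing.injective B (FractionRing B)) (by rw [h1, map_zero])
  refine ⟨B', hfinB, isLocalRing_of_finite R t ht ↥B', ringKrullDim_of_finite R t ht ↥B' htB',
    i, ?_⟩
  apply le_antisymm
  · rw [Ideal.span_le]
    rintro _ ⟨j, rfl⟩
    rw [SetLike.mem_coe, Ideal.mem_span_singleton']
    refine ⟨⟨(v j : FractionRing B), Algebra.subset_adjoin ⟨j, rfl⟩⟩, ?_⟩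
    apply Subtype.ext
    have h1 := congrArg (Subtype.val : ↥V → FractionRing B) (hv j)
    rw [mul_comm]
    simpa using h1.symm
  · rw [Ideal.span_le, Set.singleton_subset_iff]
    exact Ideal.subset_span ⟨i, rfl⟩

end S54

end Groth.Agent.Lib.Helper9.BoschV15
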