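import Mathlib
import Groth.Agent.Lib.Helper4.NormSh7
import Groth.Agent.Lib.Helper4.HznDVR
import Groth.Agent.Lib.Helper4.HznNoethC
import Groth.Agent.Lib.Helper4.HzsNoethC
import Groth.Agent.Lib.Helper12.Normal
import Groth.Agent.Lib.Helper12.IntegralDim
import Groth.Agent.Lib.Helper6.NormalTotalFrac
import Groth.Agent.Lib.Helper18.FormFib
import Groth.Agent.Lib.Helper18.AnUnram3
import Groth.Agent.Lib.Helper21.NagataOne
import Groth.Prelude.Def_Curv2
import Groth.Prelude.Def_Hensel

/-!
# The δ-invariant of a one-dimensional reduced local ring under flat local extensions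
with `𝔪_A B = 𝔪_B` and separable residue field extension (henselization, strict henselization,
completion).
-/

set_option autoImplicit false
set_option linter.unusedSectionVars false
set_option linter.style.haveILetI false
universe u

namespace Groth.Agent.Lib.Helper9.DeltaInv

open TensorProduct IsLocalRing Groth.Agent.Lib.Helper4 Groth.Agent.Lib.Helper4.NormSh

section Fibre

variable (A A' D : Type u) [CommRing A] [IsLocalRing A] [CommRing A'] [Algebra A A']
  [Algebra.IsIntegral A A'] [CommRing D] [IsLocalRing D] [Algebra A D]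
  [IsLocalHom (algebraMap A D)]

/-- A maximal ideal of `A' ⊗ D` contracts to a maximal ideal of `A'`. -/
theorem isMaximal_comap_includeLeft (M : Ideal (A' ⊗[A] D)) [hM : M.IsMaximal] :
    (M.comap (algebraMap A' (A' ⊗[A] D))).IsMaximal := by
  letI : Algebra D (A' ⊗[A] D) := Algebra.TensorProduct.rightAlgebra
  haveI hint : Algebra.IsIntegral D (A' ⊗[A] D) := BrnchCount.isIntegral_rightAlgebra A A' D
  haveI h1 : (M.comap (algebraMap D (A' ⊗[A] D))).IsMaximal :=
    Ideal.isMaximal_comap_of_isIntegral_of_isMaximal M
  have h2 : M.comap (algebraMap D (A' ⊗[A] D)) = maximalIdeal D := IsLocalRing.eq_maximalIdeal h1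
  have h3 : (M.comap (algebraMap A' (A' ⊗[A] D))).comap (algebraMap A A') = maximalIdeal A := by
    have e1 : (M.comap (algebraMap A' (A' ⊗[A] D))).comap (algebraMap A A') =
        (M.comap (algebraMap D (A' ⊗[A] D))).comap (algebraMap A D) := by
      rw [Ideal.comap_comap, Ideal.comap_comap]
      congr 1
      ext a
      simp only [RingHom.comp_apply]
      change (algebraMap A A' a) ⊗ₜ[A] (1 : D) = (1 : A') ⊗ₜ[A] (algebraMap A D a)
      rw [Algebra.algebraMap_eq_smul_one, Algebra.algebraMap_eq_smul_one, TensorProduct.smul_tmul]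
    rw [e1, h2]
    exact ((IsLocalRing.local_hom_TFAE (algebraMap A D)).out 0 4).mp ‹_›
  haveI : (M.comap (algebraMap A' (A' ⊗[A] D))).IsPrime := Ideal.comap_isPrime _ _
  apply Ideal.isMaximal_of_isIntegral_of_isMaximal_comap (R := A)
  rw [h3]
  infer_instance

/-- In a reduced zero-dimensional ring, every element of a prime is killed by an element
outside the prime. -/
theorem exists_mul_eq_zero_of_mem {T : Type*} [CommRing T] [IsReduced T] [Ring.KrullDimLE 0 T]
    (P : Ideal T) [hP : P.IsPrime] (x : T) (hx : x ∈ P) : ∃ s ∉ P, s * x = 0 := by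
  have hmin : P ∈ minimalPrimes T := Ideal.mem_minimalPrimes_of_krullDimLE_zero P
  haveI : Ring.KrullDimLE 0 (Localization.AtPrime P) :=
    Ring.KrullDimLE.of_isLocalization P hmin (Localization.AtPrime P)
  have hf : IsField (Localization.AtPrime P) := Ring.KrullDimLE.isField_of_isReduced
  have h1 : algebraMap T (Localization.AtPrime P) x ∈ maximalIdeal (Localization.AtPrime P) := by
    rw [← Localization.AtPrime.map_eq_maximalIdeal]
    exact Ideal.mem_map_of_mem _ hx
  rw [IsLocalRing.isField_iff_maximalIdeal_eq.mp hf, Ideal.mem_bot,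
    IsLocalization.map_eq_zero_iff P.primeCompl] at h1
  obtain ⟨s, hs⟩ := h1
  exact ⟨s, s.2, hs⟩

variable [Algebra.IsSeparable (ResidueField A) (ResidueField D)]
  (hm : (maximalIdeal A).map (algebraMap A D) = maximalIdeal D)

include hm in
/-- `𝔪' C_M = M C_M` for a maximal ideal `M` of `C = A' ⊗ D` over the maximal ideal `𝔪'`. -/
theorem exists_mul_mem_map (M : Ideal (A' ⊗[A] D)) [hM : M.IsMaximal] (x : A' ⊗[A] D)
    (hx : x ∈ M) :
    ∃ s ∉ M, s * x ∈ (M.comap (algebraMap A' (A' ⊗[A] D))).map (algebraMap A' (A' ⊗[A] D)) := by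
  set m' := M.comap (algebraMap A' (A' ⊗[A] D)) with hm'def
  haveI hm'max : m'.IsMaximal := isMaximal_comap_includeLeft A A' D M
  have hover : m'.comap (algebraMap A A') = maximalIdeal A :=
    IsLocalRing.eq_maximalIdeal (Ideal.isMaximal_comap_of_isIntegral_of_isMaximal m')
  let ψ : A' ⊗[A] D →ₐ[A] (A' ⧸ m') ⊗[A] (ResidueField D) :=
    Algebra.TensorProduct.map (Ideal.Quotient.mkₐ A m') (IsScalarTower.toAlgHom A D (ResidueField D))
  have hs1 : Function.Surjective (Ideal.Quotient.mkₐ A m') := Ideal.Quotient.mkₐ_surjective A m'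
  have hs2 : Function.Surjective (IsScalarTower.toAlgHom A D (ResidueField D)) :=
    IsLocalRing.residue_surjective
  have hker0 : RingHom.ker ψ = m'.map (Algebra.TensorProduct.includeLeft : A' →ₐ[A] A' ⊗[A] D) ⊔
        (maximalIdeal D).map (Algebra.TensorProduct.includeRight : D →ₐ[A] A' ⊗[A] D) := by
    have := Algebra.TensorProduct.map_ker (Ideal.Quotient.mkₐ A m')
      (IsScalarTower.toAlgHom A D (ResidueField D)) hs1 hs2
    have hk1 : RingHom.ker (Ideal.Quotient.mkₐ A m') = m' := by
      ext x
      rw [RingHom.mem_ker]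
      exact Ideal.Quotient.eq_zero_iff_mem
    rw [hk1, ker_toAlgHom_residueField] at this
    exact this
  have hle : (maximalIdeal D).map (Algebra.TensorProduct.includeRight : D →ₐ[A] A' ⊗[A] D) ≤
      m'.map (Algebra.TensorProduct.includeLeft : A' →ₐ[A] A' ⊗[A] D) := by
    rw [← hm, Ideal.map_le_iff_le_comap, Ideal.map_le_iff_le_comap]
    intro a ha
    rw [Ideal.mem_comap, Ideal.mem_comap]
    have h1 : algebraMap A A' a ∈ m' := by
      rw [← hover] at ha
      exact ha
    have h2 : (Algebra.TensorProduct.includeRight : D →ₐ[A] A' ⊗[A] D) (algebraMap A D a) =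
        (Algebra.TensorProduct.includeLeft : A' →ₐ[A] A' ⊗[A] D) (algebraMap A A' a) := by
      rw [AlgHom.commutes, AlgHom.commutes]
    rw [h2]
    exact Ideal.mem_map_of_mem _ h1
  have hker : RingHom.ker ψ = m'.map (algebraMap A' (A' ⊗[A] D)) := by
    rw [hker0, sup_eq_left.mpr hle]
    rfl
  haveI hred : IsReduced ((A' ⧸ m') ⊗[A] (ResidueField D)) := isReduced_tensor_quotient A A' D m'
  haveI hdim : Ring.KrullDimLE 0 ((A' ⧸ m') ⊗[A] (ResidueField D)) := by
    apply Ring.KrullDimLE.mk₀
    intro I hI
    let _ : Algebra (ResidueField D) ((A' ⧸ m') ⊗[A] (ResidueField D)) :=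
      Algebra.TensorProduct.rightAlgebra
    have hint : Algebra.IsIntegral A (A' ⧸ m') :=
      Algebra.IsIntegral.of_surjective (Ideal.Quotient.mkₐ A m') hs1
    have hint2 : Algebra.IsIntegral (ResidueField D) ((A' ⧸ m') ⊗[A] (ResidueField D)) :=
      BrnchCount.isIntegral_rightAlgebra A (A' ⧸ m') (ResidueField D)
    have hp : (I.comap (algebraMap (ResidueField D) ((A' ⧸ m') ⊗[A] (ResidueField D)))).IsPrime :=
      Ideal.comap_isPrime _ _
    exact Ideal.isMaximal_of_isIntegral_of_isMaximal_comap (R := ResidueField D) I
      (Ideal.isMaximal_of_isPrime _)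
  have hψs : Function.Surjective ψ := Algebra.TensorProduct.map_surjective _ _ hs1 hs2
  have hkM : RingHom.ker ψ ≤ M := by
    rw [hker]
    exact Ideal.map_comap_le
  haveI hPprime : (M.map ψ).IsPrime := Ideal.map_isPrime_of_surjective hψs hkM
  obtain ⟨t, ht, htx⟩ := exists_mul_eq_zero_of_mem (M.map ψ) (ψ x) (Ideal.mem_map_of_mem ψ hx)
  obtain ⟨s, rfl⟩ := hψs t
  refine ⟨s, fun hs => ht (Ideal.mem_map_of_mem ψ hs), ?_⟩
  rw [← hker, RingHom.mem_ker, map_mul]
  exact htx

end Fibre

section NormalAt

/-- A Noetherian integrally closed local domain of dimension at most one has principal maximal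
ideal. -/
theorem isPrincipal_maximalIdeal_of_dim_le_one (R : Type u) [CommRing R] [IsLocalRing R]
    [IsNoetherianRing R] [IsDomain R] [IsIntegrallyClosed R] (hdim : ringKrullDim R ≤ 1) :
    (maximalIdeal R).IsPrincipal := by
  have h3 : IsIntegrallyClosed R ∧ ∀ P : Ideal R, P ≠ ⊥ → P.IsPrime → P = maximalIdeal R := by
    refine ⟨inferInstance, fun P hP hPp => ?_⟩
    by_contra hne
    have hlt : P < maximalIdeal R := lt_of_le_of_ne (IsLocalRing.le_maximalIdeal hPp.ne_top) hne
    have hbot : (⊥ : Ideal R) < P := bot_lt_iff_ne_bot.mpr hP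
    have hbp : (⊥ : Ideal R).IsPrime := Ideal.isPrime_bot
    have h1 := Ideal.height_add_one_le_of_lt_of_isPrime hbot
    have h2 := Ideal.height_add_one_le_of_lt_of_isPrime hlt
    have h4 : (maximalIdeal R).height ≤ 1 := by
      have := IsLocalRing.maximalIdeal_height_eq_ringKrullDim (R := R)
      rw [← this] at hdim
      exact_mod_cast hdim
    have h5 : (2 : ℕ∞) ≤ (maximalIdeal R).height := by
      calc (2 : ℕ∞) = 0 + 1 + 1 := by norm_num
        _ ≤ (⊥ : Ideal R).height + 1 + 1 := by gcongr; exact bot_le
        _ ≤ P.height + 1 := by gcongr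
        _ ≤ _ := h2
    have := h5.trans h4
    norm_num at this
  exact ((tfae_of_isNoetherianRing_of_isLocalRing_of_isDomain R).out 3 4).mp h3

variable (A A' D : Type u) [CommRing A] [IsLocalRing A] [CommRing A'] [Algebra A A']
  [Algebra.IsIntegral A A'] [IsNoetherianRing A'] [CommRing D] [IsLocalRing D] [Algebra A D]
  [IsLocalHom (algebraMap A D)] [Module.Flat A D] [IsNoetherianRing (A' ⊗[A] D)]
  [Algebra.IsSeparable (ResidueField A) (ResidueField D)]
  (hm : (maximalIdeal A).map (algebraMap A D) = maximalIdeal D)
  (hA' : EGA4.IsNormalRing A') (hdim : ringKrullDim A' ≤ 1)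

include hm hA' hdim in
theorem normal_localization_of_isMaximal (M : Ideal (A' ⊗[A] D)) [hM : M.IsMaximal] :
    IsDomain (Localization.AtPrime M) ∧ IsIntegrallyClosed (Localization.AtPrime M) := by
  set m' := M.comap (algebraMap A' (A' ⊗[A] D)) with hm'def
  haveI hm'max : m'.IsMaximal := isMaximal_comap_includeLeft A A' D M
  haveI : M.LiesOver m' := ⟨rfl⟩
  obtain ⟨hRd, hRic⟩ := hA' m'
  letI := Localization.AtPrime.algebraOfLiesOver m' M
  haveI hflat : Module.Flat (Localization.AtPrime m') (Localization.AtPrime M) := inferInstance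
  have hdimR : ringKrullDim (Localization.AtPrime m') ≤ 1 := by
    rw [IsLocalization.AtPrime.ringKrullDim_eq_height m' (Localization.AtPrime m')]
    exact (Ideal.height_le_ringKrullDim_of_ne_top hm'max.ne_top).trans hdim
  obtain ⟨π, hπ⟩ := (isPrincipal_maximalIdeal_of_dim_le_one (Localization.AtPrime m') hdimR).principal
  have hπ' : maximalIdeal (Localization.AtPrime m') = Ideal.span {π} := hπ
  -- the maximal ideal of `S` is extended from `R`
  have hmS : maximalIdeal (Localization.AtPrime M) =
      (maximalIdeal (Localization.AtPrime m')).map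
        (algebraMap (Localization.AtPrime m') (Localization.AtPrime M)) := by
    rw [← Localization.AtPrime.map_eq_maximalIdeal, ← Localization.AtPrime.map_eq_maximalIdeal,
      Ideal.map_map, ← IsScalarTower.algebraMap_eq,
      IsScalarTower.algebraMap_eq A' (A' ⊗[A] D) (Localization.AtPrime M), ← Ideal.map_map]
    apply le_antisymm
    · rw [Ideal.map_le_iff_le_comap]
      intro x hx
      rw [Ideal.mem_comap, IsLocalization.algebraMap_mem_map_algebraMap_iff M.primeCompl]
      obtain ⟨s, hs, hsx⟩ := exists_mul_mem_map A A' D hm M x hx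
      exact ⟨s, hs, hsx⟩
    · exact Ideal.map_mono Ideal.map_comap_le
  have hmS' : maximalIdeal (Localization.AtPrime M) =
      Ideal.span {algebraMap (Localization.AtPrime m') (Localization.AtPrime M) π} := by
    rw [hmS, hπ', Ideal.map_span, Set.image_singleton]
  by_cases hπ0 : π = 0
  · have hbot : maximalIdeal (Localization.AtPrime M) = ⊥ := by
      rw [hmS', hπ0, map_zero, Ideal.span_singleton_eq_bot]
    have hf : IsField (Localization.AtPrime M) := IsLocalRing.isField_iff_maximalIdeal_eq.mpr hbot
    letI := hf.toField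
    exact ⟨inferInstance, inferInstance⟩
  · have hreg : IsSMulRegular (Localization.AtPrime m') π := by
      intro a b hab
      simp only [smul_eq_mul] at hab
      exact mul_left_cancel₀ hπ0 hab
    haveI hSd : IsDomain (Localization.AtPrime M) :=
      Hzn.isDomain_of_maximalIdeal_eq_span_singleton (Localization.AtPrime M) _ hmS' hreg.of_flat
    refine ⟨hSd, ?_⟩
    have hp : (maximalIdeal (Localization.AtPrime M)).IsPrincipal := ⟨⟨_, hmS'⟩⟩
    have h3 : IsIntegrallyClosed (Localization.AtPrime M) ∧
        ∀ P : Ideal (Localization.AtPrime M), P ≠ ⊥ → P.IsPrime →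
          P = maximalIdeal (Localization.AtPrime M) :=
      ((tfae_of_isNoetherianRing_of_isLocalRing_of_isDomain (Localization.AtPrime M)).out 4 3).mp hp
    exact h3.1

include hm hA' hdim in
/-- `A' ⊗_A D` is a normal ring. -/
theorem isNormalRing_tensor : EGA4.IsNormalRing (A' ⊗[A] D) := by
  apply Groth.Agent.Lib.Helper12.Normal.isNormalRing_of_cover
  intro P hP
  obtain ⟨M, hMmax, hPM⟩ := Ideal.exists_le_maximal P hP.ne_top
  haveI := hMmax
  obtain ⟨h1, h2⟩ := normal_localization_of_isMaximal A A' D hm hA' hdim M
  refine ⟨Localization.AtPrime M, inferInstance, inferInstance, M.primeCompl, inferInstance, ?_, ?_⟩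
  · exact Groth.Agent.Lib.Helper12.Normal.isNormalRing_of_domain _
  · rw [Set.disjoint_left]
    intro x hx hxP
    exact hx (hPM hxP)

end NormalAt

section Ident

variable (A B : Type u) [CommRing A] [CommRing B] [Algebra A B] [Module.Flat A B]

theorem algebraMap_mem_nonZeroDivisors {a : A} (ha : a ∈ nonZeroDivisors A) :
    algebraMap A B a ∈ nonZeroDivisors B := by
  have hreg : IsSMulRegular B a := Module.Flat.isSMulRegular_of_nonZeroDivisors ha
  rw [mem_nonZeroDivisors_iff_right]
  intro b hb
  apply hreg
  change a • b = a • 0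
  rw [smul_zero, Algebra.smul_def, mul_comm]
  exact hb

theorem isUnit_algebraMap_fractionRing (y : nonZeroDivisors A) :
    IsUnit (Algebra.ofId A (FractionRing B) (y : A)) := by
  have h1 := algebraMap_mem_nonZeroDivisors A B y.2
  have h2 : IsUnit (algebraMap B (FractionRing B) (algebraMap A B (y : A))) :=
    IsLocalization.map_units (FractionRing B) (⟨_, h1⟩ : nonZeroDivisors B)
  rw [← IsScalarTower.algebraMap_apply] at h2
  exact h2

/-- The map of total rings of fractions induced by a flat ring map. -/
noncomputable def fracMap : FractionRing A →ₐ[A] FractionRing B :=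
  IsLocalization.liftAlgHom (M := nonZeroDivisors A) (f := Algebra.ofId A (FractionRing B))
    (isUnit_algebraMap_fractionRing A B)

/-- The normalization of `A` mapped to the total ring of fractions of `B`. -/
noncomputable def normMap : integralClosure A (FractionRing A) →ₐ[A] FractionRing B :=
  (fracMap A B).comp (integralClosure A (FractionRing A)).val

/-- The multiplication map `B ⊗ A' → Q(B)`. -/
noncomputable def mu : B ⊗[A] (integralClosure A (FractionRing A)) →ₐ[B] FractionRing B :=
  Algebra.TensorProduct.lift (Algebra.ofId B (FractionRing B)) (normMap A B)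
    (fun _ _ => Commute.all _ _)

theorem mu_tmul (b : B) (x : integralClosure A (FractionRing A)) :
    mu A B (b ⊗ₜ[A] x) = algebraMap B (FractionRing B) b * normMap A B x := by
  simp [mu, Algebra.ofId_apply]

theorem exists_smul_eq_tmul_one (z : B ⊗[A] (integralClosure A (FractionRing A))) :
    ∃ a ∈ nonZeroDivisors A, ∃ b : B, a • z = b ⊗ₜ[A] (1 : integralClosure A (FractionRing A)) := by
  induction z using TensorProduct.induction_on with
  | zero => exact ⟨1, Submonoid.one_mem _, 0, by simp⟩
  | tmul b x =>
    obtain ⟨c, a, hca⟩ := IsLocalization.exists_mk'_eq (nonZeroDivisors A) (x : FractionRing A)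
    refine ⟨a, a.2, c • b, ?_⟩
    have h1 : (a : A) • x = algebraMap A (integralClosure A (FractionRing A)) c := by
      apply Subtype.ext
      rw [Subalgebra.coe_smul, Algebra.smul_def, ← hca, mul_comm, IsLocalization.mk'_spec]
      rfl
    rw [TensorProduct.smul_tmul', TensorProduct.smul_tmul, h1, Algebra.algebraMap_eq_smul_one,
      ← TensorProduct.smul_tmul]
  | add x y hx hy =>
    obtain ⟨a₁, ha₁, s₁, h₁⟩ := hx
    obtain ⟨a₂, ha₂, s₂, h₂⟩ := hy
    refine ⟨a₁ * a₂, Submonoid.mul_mem _ ha₁ ha₂, a₂ • s₁ + a₁ • s₂, ?_⟩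
    have e1 : (a₁ * a₂) • x = a₂ • (a₁ • x) := by rw [mul_comm, mul_smul]
    have e2 : (a₁ * a₂) • y = a₁ • (a₂ • y) := by rw [mul_smul]
    rw [smul_add, e1, e2, h₁, h₂, TensorProduct.add_tmul, TensorProduct.smul_tmul',
      TensorProduct.smul_tmul']

theorem smul_injective_tensor {a : A} (ha : a ∈ nonZeroDivisors A) :
    Function.Injective (fun z : B ⊗[A] (integralClosure A (FractionRing A)) => a • z) := by
  have h0 : Function.Injective (LinearMap.lsmul A (integralClosure A (FractionRing A)) a) := by
    intro x y hxy
    have h1 : a • x = a • y := hxy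
    have h2 : algebraMap A (FractionRing A) a * (x : FractionRing A) =
        algebraMap A (FractionRing A) a * (y : FractionRing A) := by
      have := congrArg Subtype.val h1
      rw [Subalgebra.coe_smul, Subalgebra.coe_smul, Algebra.smul_def, Algebra.smul_def] at this
      exact this
    have hu : IsUnit (algebraMap A (FractionRing A) a) :=
      IsLocalization.map_units (FractionRing A) (⟨a, ha⟩ : nonZeroDivisors A)
    exact Subtype.ext (hu.mul_left_cancel h2)
  have h1 := Module.Flat.lTensor_preserves_injective_linearMap (M := B)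
    (LinearMap.lsmul A (integralClosure A (FractionRing A)) a) h0
  have h2 : ∀ z : B ⊗[A] (integralClosure A (FractionRing A)),
      (LinearMap.lsmul A (integralClosure A (FractionRing A)) a).lTensor B z = a • z := by
    intro z
    induction z using TensorProduct.induction_on with
    | zero => simp
    | tmul x e =>
      rw [LinearMap.lTensor_tmul, LinearMap.lsmul_apply, TensorProduct.tmul_smul]
    | add x y hx hy => rw [map_add, hx, hy, smul_add]
  intro z w hzw
  apply h1
  rw [h2, h2]
  exact hzw

theorem mu_injective : Function.Injective (mu A B) := by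
  rw [injective_iff_map_eq_zero]
  intro z hz
  obtain ⟨a, ha, b, hb⟩ := exists_smul_eq_tmul_one A B z
  have h1 : mu A B (a • z) = 0 := by
    rw [← algebraMap_smul B a z, map_smul, hz, smul_zero]
  rw [hb, mu_tmul, map_one, mul_one] at h1
  have hb0 : b = 0 :=
    IsLocalization.injective (FractionRing B) (le_refl (nonZeroDivisors B))
      (h1.trans (map_zero _).symm)
  rw [hb0, TensorProduct.zero_tmul] at hb
  apply smul_injective_tensor A B ha
  simp only [smul_zero]
  exact hb

end Ident

section Range

variable (A B : Type u) [CommRing A] [CommRing B] [Algebra A B] [Module.Flat A B]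
  (hC : EGA4.IsNormalRing (B ⊗[A] (integralClosure A (FractionRing A))))

theorem isIntegral_mu (z : B ⊗[A] (integralClosure A (FractionRing A))) :
    IsIntegral B (mu A B z) :=
  (Algebra.IsIntegral.isIntegral (R := B) z).map (mu A B)

include hC in
theorem mem_range_mu_of_isIntegral (x : FractionRing B) (hx : IsIntegral B x) :
    x ∈ (mu A B).range := by
  have e : (B ⊗[A] (integralClosure A (FractionRing A))) ≃ₐ[B] (mu A B).range :=
    AlgEquiv.ofInjective (mu A B) (mu_injective A B)
  have hn : EGA4.IsNormalRing (mu A B).range :=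
    Groth.Agent.Lib.Helper18.FormFib.isNormalRing_of_ringEquiv e.toRingEquiv hC
  exact Groth.Agent.Lib.Helper6.NormalTotalFrac.mem_of_isIntegral_of_normal (FractionRing B)
    (mu A B).range hn x hx

/-- The `B`-algebra map `B ⊗ A' → B'` onto the normalization of `B`. -/
noncomputable def muRes :
    B ⊗[A] (integralClosure A (FractionRing A)) →ₐ[B] integralClosure B (FractionRing B) :=
  (mu A B).codRestrict (integralClosure B (FractionRing B)) (isIntegral_mu A B)

include hC in
theorem muRes_bijective : Function.Bijective (muRes A B) := by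
  constructor
  · intro z w hzw
    apply mu_injective A B
    exact congrArg Subtype.val hzw
  · rintro ⟨x, hx⟩
    obtain ⟨z, hz⟩ := mem_range_mu_of_isIntegral A B hC x hx
    exact ⟨z, Subtype.ext hz⟩

end Range

section Length

section abstract

variable (A B A'' : Type u) [CommRing A] [IsLocalRing A] [CommRing B] [IsLocalRing B] [Algebra A B]
  [IsLocalHom (algebraMap A B)] [Module.Flat A B] [CommRing A''] [Algebra A A'']

theorem range_baseChange_subtype :
    LinearMap.range (LinearMap.baseChange B (LinearMap.range (Algebra.linearMap A A'')).subtype) =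
    LinearMap.range (Algebra.linearMap B (B ⊗[A] A'')) := by
  apply le_antisymm
  · rintro _ ⟨z, rfl⟩
    induction z using TensorProduct.induction_on with
    | zero => rw [map_zero]; exact Submodule.zero_mem _
    | tmul b x =>
      obtain ⟨x, a, rfl⟩ := x
      refine ⟨a • b, ?_⟩
      show (a • b) ⊗ₜ[A] (1 : A'') = b ⊗ₜ[A] (algebraMap A A'' a)
      rw [Algebra.algebraMap_eq_smul_one a, TensorProduct.smul_tmul]
    | add z w hz hw => rw [map_add]; exact Submodule.add_mem _ hz hw
  · rintro _ ⟨b, rfl⟩
    refine ⟨b ⊗ₜ[A] ⟨1, ⟨1, by simp⟩⟩, ?_⟩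
    rfl

theorem length_quot_baseChange :
    Module.length B ((B ⊗[A] A'') ⧸ LinearMap.range (Algebra.linearMap B (B ⊗[A] A''))) =
      Module.length A (A'' ⧸ LinearMap.range (Algebra.linearMap A A'')) *
        Module.length B (B ⧸ (maximalIdeal A).map (algebraMap A B)) := by
  set P : Submodule A A'' := LinearMap.range (Algebra.linearMap A A'') with hP
  have hsurj : Function.Surjective (LinearMap.baseChange B P.mkQ) := by
    rw [LinearMap.baseChange_eq_ltensor]
    exact LinearMap.lTensor_surjective B (Submodule.mkQ_surjective _)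
  have hker : LinearMap.ker (LinearMap.baseChange B P.mkQ) =
      LinearMap.range (Algebra.linearMap B (B ⊗[A] A'')) := by
    rw [← range_baseChange_subtype]
    ext y
    rw [LinearMap.mem_ker, LinearMap.mem_range]
    have := lTensor_exact B (LinearMap.exact_subtype_mkQ P) (Submodule.mkQ_surjective _) y
    constructor
    · intro hy
      obtain ⟨x, hx⟩ := this.mp hy
      exact ⟨x, hx⟩
    · rintro ⟨x, hx⟩
      exact this.mpr ⟨x, hx⟩
  have h2 := ((LinearMap.baseChange B P.mkQ).quotKerEquivOfSurjective hsurj).length_eq
  have h3 := (Submodule.quotEquivOfEq _ _ hker).length_eq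
  rw [← h3, h2, IsLocalRing.length_baseChange A B]

end abstract

variable (A B : Type u) [CommRing A] [IsLocalRing A] [CommRing B] [IsLocalRing B] [Algebra A B]
  [IsLocalHom (algebraMap A B)] [Module.Flat A B]
  (hm : (maximalIdeal A).map (algebraMap A B) = maximalIdeal B)
  (hC : EGA4.IsNormalRing (B ⊗[A] (integralClosure A (FractionRing A))))

include hm hC in
theorem deltaInv_eq : Curv2.deltaInv B = Curv2.deltaInv A := by
  unfold Curv2.deltaInv
  -- step 1: transport along `muRes`
  let e : (B ⊗[A] (integralClosure A (FractionRing A))) ≃ₐ[B] integralClosure B (FractionRing B) :=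
    AlgEquiv.ofBijective (muRes A B) (muRes_bijective A B hC)
  have hmap : (LinearMap.range (Algebra.linearMap B
      (B ⊗[A] (integralClosure A (FractionRing A))))).map e.toLinearEquiv.toLinearMap =
      LinearMap.range (Algebra.linearMap B (integralClosure B (FractionRing B))) := by
    rw [← LinearMap.range_comp]
    congr 1
    ext
    simp only [LinearMap.coe_comp, Function.comp_apply, Algebra.linearMap_apply, map_one]
    exact congrArg Subtype.val (map_one e)
  have h1 := (Submodule.Quotient.equiv _ _ e.toLinearEquiv hmap).length_eq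
  rw [← h1]
  have key := length_quot_baseChange A B (integralClosure A (FractionRing A))
  rw [hm] at key
  haveI : IsSimpleModule B (B ⧸ maximalIdeal B) :=
    isSimpleModule_iff_quot_maximal.mpr ⟨maximalIdeal B, inferInstance, ⟨LinearEquiv.refl _ _⟩⟩
  rw [Module.length_eq_one B (B ⧸ maximalIdeal B), mul_one] at key
  exact key

end Length

section Core

variable (A : Type u) [CommRing A] [IsLocalRing A] [IsReduced A] [IsNoetherianRing A]
  [Module.Finite A (integralClosure A (FractionRing A))] (hdim : ringKrullDim A = 1)
  (B : Type u) [CommRing B] [IsLocalRing B] [IsNoetherianRing B] [Algebra A B]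
  [IsLocalHom (algebraMap A B)] [Module.Flat A B]
  [Algebra.IsSeparable (ResidueField A) (ResidueField B)]
  (hm : (maximalIdeal A).map (algebraMap A B) = maximalIdeal B)

include hdim hm in
/-- **Core**: the δ-invariant is unchanged along a flat local map of Noetherian local rings with
`𝔪_A B = 𝔪_B` and separable algebraic residue field extension. -/
theorem deltaInv_eq_of_flat : Curv2.deltaInv B = Curv2.deltaInv A := by
  haveI : Algebra.IsIntegral A (integralClosure A (FractionRing A)) :=
    Algebra.IsIntegral.of_finite A _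
  haveI : IsNoetherianRing (integralClosure A (FractionRing A)) :=
    IsNoetherianRing.of_finite A _
  have hA' : EGA4.IsNormalRing (integralClosure A (FractionRing A)) :=
    fun P _ => Groth.Agent.Lib.Helper21.NagataOne.normal_localization A P
  have hdimA' : ringKrullDim (integralClosure A (FractionRing A)) ≤ 1 :=
    (Groth.Agent.Lib.Helper12.ringKrullDim_le_of_isIntegral A _).trans hdim.le
  haveI : IsNoetherianRing (B ⊗[A] (integralClosure A (FractionRing A))) :=
    IsNoetherianRing.of_finite B _
  haveI : IsNoetherianRing ((integralClosure A (FractionRing A)) ⊗[A] B) :=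
    isNoetherianRing_of_ringEquiv _
      (Algebra.TensorProduct.comm A B (integralClosure A (FractionRing A))).toRingEquiv
  have h1 : EGA4.IsNormalRing ((integralClosure A (FractionRing A)) ⊗[A] B) :=
    isNormalRing_tensor A (integralClosure A (FractionRing A)) B hm hA' hdimA'
  have hC : EGA4.IsNormalRing (B ⊗[A] (integralClosure A (FractionRing A))) :=
    Groth.Agent.Lib.Helper18.FormFib.isNormalRing_of_ringEquiv
      (Algebra.TensorProduct.comm A (integralClosure A (FractionRing A)) B).toRingEquiv h1
  exact deltaInv_eq A B hm hC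

end Core

section Main

variable (A : Type u) [CommRing A] [IsLocalRing A] [IsReduced A] (hN : CAlg.IsNagata A)
  (hdim : ringKrullDim A = 1)

include hN hdim in
theorem main :
    (∀ (B : Type u) [CommRing B] [IsLocalRing B] [Algebra A B] [IsLocalHom (algebraMap A B)],
        Hensel.IsHenselization A B → Curv2.deltaInv B = Curv2.deltaInv A) ∧
      (∀ (B : Type u) [CommRing B] [IsLocalRing B] [Algebra A B] [IsLocalHom (algebraMap A B)],
        Hensel.IsStrictHenselization A B → Curv2.deltaInv B = Curv2.deltaInv A) ∧
      Curv2.deltaInv (Curv2.cpl A) = Curv2.deltaInv A := by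
  haveI : IsNoetherianRing A := hN.1
  haveI : Module.Finite A (integralClosure A (FractionRing A)) :=
    Groth.Agent.Lib.Helper21.NagataOne.finite_integralClosure A hN
  refine ⟨?_, ?_, ?_⟩
  · intro B _ _ _ _ hB
    haveI := hB
    haveI : IsNoetherianRing B := (Hzn.isNoetherianRing_iff_of_isHenselization A B).mp inferInstance
    haveI : Module.Flat A B := (Hzn.faithfullyFlat_of_isHenselization A B).toFlat
    haveI : Algebra.IsSeparable (ResidueField A) (ResidueField B) := by
      refine ⟨fun x => ?_⟩
      obtain ⟨y, rfl⟩ := (Hzn.bijective_residueField_map_of_isHenselization A B).2 x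
      exact isSeparable_algebraMap y
    exact deltaInv_eq_of_flat A hdim B (Hzn.map_maximalIdeal_of_isHenselization A B)
  · intro B _ _ _ _ hB
    haveI := hB
    haveI : IsNoetherianRing B :=
      (Hzs.isNoetherianRing_iff_of_isStrictHenselization A B).mp inferInstance
    haveI : Module.Flat A B := (Hzs.faithfullyFlat_of_isStrictHenselization A B).toFlat
    haveI : Algebra.IsSeparable (ResidueField A) (ResidueField B) := hB.isSepClosure.separable
    exact deltaInv_eq_of_flat A hdim B (Hzs.map_maximalIdeal_of_isStrictHenselization A B)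
  · haveI : IsNoetherianRing (Curv2.cpl A) := Groth.Agent.Lib.Helper18.Nag.isNoetherianRing_cpl A
    haveI : Algebra.IsSeparable (ResidueField A) (ResidueField (Curv2.cpl A)) := by
      refine ⟨fun x => ?_⟩
      obtain ⟨s, rfl⟩ := residue_surjective x
      obtain ⟨a, ha⟩ := Groth.Agent.Lib.Helper18.Nag.cpl_exists_sub_mem A s
      have h1 : residue (Curv2.cpl A) s =
          algebraMap (ResidueField A) (ResidueField (Curv2.cpl A)) (residue A a) := by
        rw [IsLocalRing.ResidueField.algebraMap_residue, ← sub_eq_zero, ← map_sub,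
          residue_eq_zero_iff, AdicCompletion.maximalIdeal_eq_map]
        exact ha
      rw [h1]
      exact isSeparable_algebraMap _
    exact deltaInv_eq_of_flat A hdim (Curv2.cpl A) (AdicCompletion.maximalIdeal_eq_map).symm

end Main

end Groth.Agent.Lib.Helper9.DeltaInv
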