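import Mathlib
import Groth.Agent.Lib.Helper9.DeltaInv
import Groth.Agent.Lib.Helper12.HensInt
import Groth.Agent.Lib.Helper4.BrnchCompl

/-!
# Number of maximal ideals of the normalization = number of minimal primes of the completion
(one-dimensional reduced Noetherian local rings with finite normalization).
-/

set_option autoImplicit false
set_option linter.unusedSectionVars false
set_option linter.style.haveILetI false
universe u

namespace Groth.Agent.Lib.Helper9.BranchCount

open TensorProduct IsLocalRing

section Combinatorics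

/-- A relation that is a bijective correspondence between two sets gives equal `ncard`. -/
theorem ncard_eq_of_rel {α β : Type*} (s : Set α) (t : Set β) (r : α → β → Prop)
    (h1 : ∀ a ∈ s, ∃! b, b ∈ t ∧ r a b) (h2 : ∀ b ∈ t, ∃! a, a ∈ s ∧ r a b) :
    s.ncard = t.ncard := by
  refine Set.ncard_congr (fun a ha => (h1 a ha).choose) ?_ ?_ ?_
  · intro a ha
    exact (h1 a ha).choose_spec.1.1
  · intro a a' ha ha' h
    have e1 := (h1 a ha).choose_spec.1
    have e2 := (h1 a' ha').choose_spec.1
    obtain ⟨a₀, _, hu⟩ := h2 _ e1.1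
    rw [hu a ⟨ha, e1.2⟩, hu a' ⟨ha', by rw [h]; exact e2.2⟩]
  · intro b hb
    obtain ⟨a, ⟨ha, hab⟩, _⟩ := h2 b hb
    refine ⟨a, ha, ?_⟩
    exact ((h1 a ha).choose_spec.2 b ⟨hb, hab⟩).symm

end Combinatorics

section Loc

/-- Localizing at a submonoid of nonzerodivisors does not change the number of minimal primes. -/
theorem ncard_minimalPrimes_of_isLocalization {R : Type*} [CommRing R] (S : Submonoid R)
    (hS : S ≤ nonZeroDivisors R) (Q : Type*) [CommRing Q] [Algebra R Q] [IsLocalization S Q] :
    (minimalPrimes Q).ncard = (minimalPrimes R).ncard := by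
  have h1 := IsLocalization.minimalPrimes_comap S Q (⊥ : Ideal Q)
  have hinj : Function.Injective (algebraMap R Q) := IsLocalization.injective Q hS
  rw [Ideal.comap_bot_of_injective _ hinj] at h1
  have h2 : minimalPrimes R = Ideal.comap (algebraMap R Q) '' minimalPrimes Q := h1
  rw [h2]
  symm
  apply Set.ncard_image_of_injective
  intro I J hIJ
  have := congrArg (Ideal.map (algebraMap R Q)) hIJ
  rwa [IsLocalization.map_under S, IsLocalization.map_under S] at this

end Loc

section MaxMin

variable (C : Type*) [CommRing C]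

/-- In a ring whose localizations at maximal ideals are domains and in which every minimal prime
lies in a unique maximal ideal, maximal ideals and minimal primes are equinumerous. -/
theorem ncard_maximal_eq_ncard_minimalPrimes
    (h1 : ∀ (N : Ideal C) [N.IsMaximal], IsDomain (Localization.AtPrime N))
    (h2 : ∀ P ∈ minimalPrimes C, ∀ N₁ N₂ : Ideal C, N₁.IsMaximal → N₂.IsMaximal → P ≤ N₁ →
      P ≤ N₂ → N₁ = N₂) :
    {N : Ideal C | N.IsMaximal}.ncard = (minimalPrimes C).ncard := by
  apply ncard_eq_of_rel _ _ (fun N P => P ≤ N)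
  · intro N hN
    haveI hNmax : N.IsMaximal := hN
    haveI := h1 N
    -- the kernel of the localization map
    set K := RingHom.ker (algebraMap C (Localization.AtPrime N)) with hK
    haveI hKp : K.IsPrime := RingHom.ker_isPrime _
    have hKle : ∀ Q : Ideal C, Q.IsPrime → Q ≤ N → K ≤ Q := by
      intro Q hQ hQN x hx
      rw [hK, RingHom.mem_ker, IsLocalization.map_eq_zero_iff N.primeCompl] at hx
      obtain ⟨s, hs⟩ := hx
      have hsQ : (s : C) ∉ Q := fun h => s.2 (hQN h)
      have : (s : C) * x ∈ Q := by rw [hs]; exact Q.zero_mem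
      exact (hQ.mem_or_mem this).resolve_left hsQ
    obtain ⟨P, hP, hPN⟩ := Ideal.exists_minimalPrimes_le (I := (⊥ : Ideal C)) (J := N) bot_le
    have huniq : ∀ P' : Ideal C, P' ∈ minimalPrimes C → P' ≤ N → P' = K := by
      intro P' hP' hP'N
      have hle := hKle P' hP'.1.1 hP'N
      exact le_antisymm (hP'.2 ⟨hKp, bot_le⟩ hle) hle
    refine ⟨P, ⟨hP, hPN⟩, ?_⟩
    rintro P' ⟨hP', hP'N⟩
    rw [huniq P' hP' hP'N, huniq P hP hPN]
  · intro P hP
    haveI := hP.1.1
    obtain ⟨N, hN, hPN⟩ := Ideal.exists_le_maximal P hP.1.1.ne_top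
    refine ⟨N, ⟨hN, hPN⟩, ?_⟩
    rintro N' ⟨hN', hPN'⟩
    exact h2 P hP N' N hN' hN hPN' hPN

/-- If `C ⧸ P` is local, `P` lies in exactly one maximal ideal. -/
theorem maximal_unique_of_isLocalRing_quotient (P : Ideal C) [IsLocalRing (C ⧸ P)]
    (N₁ N₂ : Ideal C) (h1 : N₁.IsMaximal) (h2 : N₂.IsMaximal) (hP1 : P ≤ N₁) (hP2 : P ≤ N₂) :
    N₁ = N₂ := by
  have key : ∀ N : Ideal C, N.IsMaximal → P ≤ N →
      N = (maximalIdeal (C ⧸ P)).comap (Ideal.Quotient.mk P) := by
    intro N hN hPN
    have hle : N ≤ (maximalIdeal (C ⧸ P)).comap (Ideal.Quotient.mk P) := by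
      intro x hx
      rw [Ideal.mem_comap, mem_maximalIdeal, mem_nonunits_iff]
      intro hu
      obtain ⟨y, hy⟩ := hu.exists_right_inv
      obtain ⟨y, rfl⟩ := Ideal.Quotient.mk_surjective y
      rw [← map_mul, ← map_one (Ideal.Quotient.mk P), Ideal.Quotient.eq] at hy
      have h3 : x * y - 1 ∈ N := hPN hy
      have h4 : x * y ∈ N := N.mul_mem_right _ hx
      have h5 : (1 : C) ∈ N := by
        have := N.sub_mem h4 h3
        rwa [sub_sub_cancel] at this
      exact hN.ne_top ((Ideal.eq_top_iff_one _).mpr h5)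
    have hne : (maximalIdeal (C ⧸ P)).comap (Ideal.Quotient.mk P) ≠ ⊤ :=
      Ideal.comap_ne_top _ (maximalIdeal.isMaximal _).ne_top
    exact hN.eq_of_le hne hle
  rw [key N₁ h1 hP1, key N₂ h2 hP2]

end MaxMin

section MaxCorr

variable (A B A' : Type u) [CommRing A] [IsLocalRing A] [CommRing B] [IsLocalRing B] [Algebra A B]
  [IsLocalHom (algebraMap A B)] [Module.Flat A B] [CommRing A'] [Algebra A A']
  [Algebra.IsIntegral A A']
  (hres : ∀ b : B, ∃ a : A, b - algebraMap A B a ∈ (maximalIdeal A).map (algebraMap A B))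

/-- the inclusion `A' → B ⊗ A'` as a ring hom -/
noncomputable abbrev incR : A' →+* B ⊗[A] A' :=
  (Algebra.TensorProduct.includeRight : A' →ₐ[A] B ⊗[A] A').toRingHom

theorem incR_apply (x : A') : incR A B A' x = (1 : B) ⊗ₜ[A] x := rfl

variable {A B A'} in
theorem comap_algebraMap_eq (N : Ideal (B ⊗[A] A')) [hN : N.IsMaximal] :
    N.comap (algebraMap B (B ⊗[A] A')) = maximalIdeal B := by
  haveI h1 : (N.comap (algebraMap B (B ⊗[A] A'))).IsMaximal :=
    Ideal.isMaximal_comap_of_isIntegral_of_isMaximal N
  exact IsLocalRing.eq_maximalIdeal h1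

variable {A B A'} in
theorem map_maximalIdeal_le (N : Ideal (B ⊗[A] A')) [hN : N.IsMaximal] :
    (maximalIdeal A).map (algebraMap A (B ⊗[A] A')) ≤ N := by
  rw [Ideal.map_le_iff_le_comap, IsScalarTower.algebraMap_eq A B (B ⊗[A] A'), ← Ideal.comap_comap,
    comap_algebraMap_eq N]
  have h : (maximalIdeal B).comap (algebraMap A B) = maximalIdeal A :=
    ((IsLocalRing.local_hom_TFAE (algebraMap A B)).out 0 4).mp ‹_›
  exact h.ge

variable {A B A'} in
theorem isMaximal_comap_incR (N : Ideal (B ⊗[A] A')) [hN : N.IsMaximal] :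
    (N.comap (incR A B A')).IsMaximal := by
  have h3 : (N.comap (incR A B A')).comap (algebraMap A A') = maximalIdeal A := by
    have e1 : (N.comap (incR A B A')).comap (algebraMap A A') =
        (N.comap (algebraMap B (B ⊗[A] A'))).comap (algebraMap A B) := by
      rw [Ideal.comap_comap, Ideal.comap_comap]
      congr 1
      ext a
      simp only [RingHom.comp_apply]
      rw [incR_apply, Algebra.TensorProduct.algebraMap_apply, Algebra.algebraMap_self,
        RingHom.id_apply, Algebra.algebraMap_eq_smul_one,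
        Algebra.algebraMap_eq_smul_one (R := A) (A := B), TensorProduct.smul_tmul]
    rw [e1, comap_algebraMap_eq N]
    exact ((IsLocalRing.local_hom_TFAE (algebraMap A B)).out 0 4).mp ‹_›
  haveI : (N.comap (incR A B A')).IsPrime := Ideal.comap_isPrime _ _
  apply Ideal.isMaximal_of_isIntegral_of_isMaximal_comap (R := A)
  rw [h3]
  infer_instance

include hres in
theorem exists_sub_mem (x : B ⊗[A] A') :
    ∃ a' : A', x - incR A B A' a' ∈ (maximalIdeal A).map (algebraMap A (B ⊗[A] A')) := by
  induction x using TensorProduct.induction_on with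
  | zero => exact ⟨0, by simp⟩
  | tmul b x =>
    obtain ⟨a, ha⟩ := hres b
    refine ⟨a • x, ?_⟩
    have e : b ⊗ₜ[A] x - incR A B A' (a • x) =
        algebraMap B (B ⊗[A] A') (b - algebraMap A B a) * incR A B A' x := by
      rw [incR_apply, incR_apply, Algebra.TensorProduct.algebraMap_apply, Algebra.algebraMap_self,
        RingHom.id_apply,
        Algebra.TensorProduct.tmul_mul_tmul, one_mul, mul_one, TensorProduct.sub_tmul,
        TensorProduct.tmul_smul, Algebra.algebraMap_eq_smul_one (R := A) (A := B),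
        TensorProduct.smul_tmul']
    rw [e]
    apply Ideal.mul_mem_right
    rw [IsScalarTower.algebraMap_eq A B (B ⊗[A] A'), ← Ideal.map_map]
    exact Ideal.mem_map_of_mem _ ha
  | add x y hx hy =>
    obtain ⟨a₁, h₁⟩ := hx
    obtain ⟨a₂, h₂⟩ := hy
    refine ⟨a₁ + a₂, ?_⟩
    have : x + y - incR A B A' (a₁ + a₂) = (x - incR A B A' a₁) + (y - incR A B A' a₂) := by
      rw [map_add]; ring
    rw [this]
    exact Ideal.add_mem _ h₁ h₂

include hres in
/-- Maximal ideals of `B ⊗ A'` correspond bijectively to maximal ideals of `A'`. -/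
theorem ncard_maximal_tensor :
    {N : Ideal (B ⊗[A] A') | N.IsMaximal}.ncard = {M : Ideal A' | M.IsMaximal}.ncard := by
  refine Set.ncard_congr (fun N _ => N.comap (incR A B A')) ?_ ?_ ?_
  · intro N hN
    haveI : N.IsMaximal := hN
    exact isMaximal_comap_incR N
  · intro N₁ N₂ h1 h2 h
    haveI : N₁.IsMaximal := h1
    haveI : N₂.IsMaximal := h2
    have key : ∀ N N' : Ideal (B ⊗[A] A'), N.IsMaximal → N'.IsMaximal →
        N.comap (incR A B A') = N'.comap (incR A B A') → N ≤ N' := by
      intro N N' hN hN' hc x hx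
      obtain ⟨a', ha'⟩ := exists_sub_mem A B A' hres x
      have h3 : incR A B A' a' ∈ N := by
        have := N.sub_mem hx (map_maximalIdeal_le N ha')
        rwa [sub_sub_cancel] at this
      have h4 : a' ∈ N'.comap (incR A B A') := by
        rw [← hc]; exact h3
      have := N'.add_mem (map_maximalIdeal_le N' ha') h4
      rwa [sub_add_cancel] at this
    exact le_antisymm (key N₁ N₂ h1 h2 h) (key N₂ N₁ h2 h1 h.symm)
  · intro M hM
    haveI hMmax : M.IsMaximal := hM
    -- `B ⊗ (A'/M)` is nontrivial by faithful flatness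
    haveI : Module.FaithfullyFlat A B := Module.FaithfullyFlat.of_flat_of_isLocalHom
    haveI : Nontrivial (A' ⧸ M) := Ideal.Quotient.nontrivial_iff.mpr hMmax.ne_top
    haveI : Nontrivial (B ⊗[A] (A' ⧸ M)) := Module.FaithfullyFlat.lTensor_nontrivial A B (A' ⧸ M)
    let φ : B ⊗[A] A' →ₐ[A] B ⊗[A] (A' ⧸ M) :=
      Algebra.TensorProduct.map (AlgHom.id A B) (Ideal.Quotient.mkₐ A M)
    have hker : RingHom.ker φ.toRingHom ≠ ⊤ := RingHom.ker_ne_top _
    obtain ⟨N, hN, hle⟩ := Ideal.exists_le_maximal _ hker
    refine ⟨N, hN, ?_⟩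
    haveI := hN
    have hM' : M ≤ N.comap (incR A B A') := by
      intro x hx
      apply hle
      rw [RingHom.mem_ker]
      change φ ((1 : B) ⊗ₜ[A] x) = 0
      rw [Algebra.TensorProduct.map_tmul, Ideal.Quotient.mkₐ_eq_mk,
        Ideal.Quotient.eq_zero_iff_mem.mpr hx, TensorProduct.tmul_zero]
    exact (hMmax.eq_of_le (isMaximal_comap_incR N).ne_top hM').symm

end MaxCorr

section Between

/-- A ring between `B` and its total ring of fractions has as many minimal primes as `B`. -/
theorem ncard_minimalPrimes_of_injective_to_fractionRing (B C : Type*) [CommRing B] [CommRing C]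
    [Algebra B C] (μ : C →ₐ[B] FractionRing B) (hμ : Function.Injective μ) :
    (minimalPrimes C).ncard = (minimalPrimes B).ncard := by
  letI : Algebra C (FractionRing B) := μ.toRingHom.toAlgebra
  haveI : IsScalarTower B C (FractionRing B) :=
    IsScalarTower.of_algebraMap_eq (fun b => (μ.commutes b).symm)
  have hμ' : ∀ x : C, algebraMap C (FractionRing B) x = μ x := fun _ => rfl
  let T : Submonoid C := Algebra.algebraMapSubmonoid C (nonZeroDivisors B)
  have hunit : ∀ y : T, IsUnit (algebraMap C (FractionRing B) y) := by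
    rintro ⟨y, s, hs, rfl⟩
    change IsUnit (algebraMap C (FractionRing B) (algebraMap B C s))
    rw [← IsScalarTower.algebraMap_apply]
    exact IsLocalization.map_units (FractionRing B) (⟨s, hs⟩ : nonZeroDivisors B)
  haveI : IsLocalization T (FractionRing B) := by
    refine ⟨hunit, ?_, ?_⟩
    · intro q
      obtain ⟨⟨b, s⟩, h⟩ := IsLocalization.surj (nonZeroDivisors B) q
      refine ⟨(algebraMap B C b, ⟨algebraMap B C s, s, s.2, rfl⟩), ?_⟩
      change q * algebraMap C (FractionRing B) (algebraMap B C s) =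
        algebraMap C (FractionRing B) (algebraMap B C b)
      rw [← IsScalarTower.algebraMap_apply, ← IsScalarTower.algebraMap_apply]
      exact h
    · intro x y hxy
      rw [hμ', hμ'] at hxy
      exact ⟨1, by rw [hμ hxy]⟩
  have hT : T ≤ nonZeroDivisors C := by
    intro t ht
    rw [mem_nonZeroDivisors_iff_right]
    intro x hx
    apply hμ
    have h1 : μ x * μ t = 0 := by rw [← map_mul, hx, map_zero]
    have h2 : IsUnit (μ t) := hunit ⟨t, ht⟩
    rw [map_zero]
    exact h2.mul_left_eq_zero.mp h1
  rw [← ncard_minimalPrimes_of_isLocalization T hT (FractionRing B),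
    ncard_minimalPrimes_of_isLocalization (nonZeroDivisors B) le_rfl (FractionRing B)]

end Between

section Main

variable (A : Type u) [CommRing A] [IsLocalRing A] [IsReduced A] [IsNoetherianRing A]
  [Module.Finite A (integralClosure A (FractionRing A))] (hdim : ringKrullDim A = 1)

include hdim in
/-- For a reduced Noetherian local ring of dimension one with finite normalization, the number of
maximal ideals of the normalization is the number of minimal primes of the completion. -/
theorem main :
    {P : Ideal (integralClosure A (FractionRing A)) | P.IsMaximal}.ncard =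
      (minimalPrimes (AdicCompletion (maximalIdeal A) A)).ncard := by
  haveI : IsNoetherianRing (Curv2.cpl A) := Groth.Agent.Lib.Helper18.Nag.isNoetherianRing_cpl A
  haveI : Algebra.IsSeparable (ResidueField A) (ResidueField (Curv2.cpl A)) := by
    refine ⟨fun x => ?_⟩
    obtain ⟨s, rfl⟩ := residue_surjective x
    obtain ⟨a, ha⟩ := Groth.Agent.Lib.Helper18.Nag.cpl_exists_sub_mem A s
    have h1 : residue (Curv2.cpl A) s =
        algebraMap (ResidueField A) (ResidueField (Curv2.cpl A)) (residue A a) := by
      rw [IsLocalRing.ResidueField.algebraMap_residue, ← sub_eq_zero, ← map_sub,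
        residue_eq_zero_iff, AdicCompletion.maximalIdeal_eq_map]
      exact ha
    rw [h1]
    exact isSeparable_algebraMap _
  have hm : (maximalIdeal A).map (algebraMap A (Curv2.cpl A)) = maximalIdeal (Curv2.cpl A) :=
    (AdicCompletion.maximalIdeal_eq_map).symm
  haveI : Algebra.IsIntegral A (integralClosure A (FractionRing A)) :=
    Algebra.IsIntegral.of_finite A _
  haveI : IsNoetherianRing (integralClosure A (FractionRing A)) :=
    IsNoetherianRing.of_finite A _
  have hA' : EGA4.IsNormalRing (integralClosure A (FractionRing A)) :=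
    fun P _ => Groth.Agent.Lib.Helper21.NagataOne.normal_localization A P
  have hdimA' : ringKrullDim (integralClosure A (FractionRing A)) ≤ 1 :=
    (Groth.Agent.Lib.Helper12.ringKrullDim_le_of_isIntegral A _).trans hdim.le
  haveI : IsNoetherianRing ((Curv2.cpl A) ⊗[A] (integralClosure A (FractionRing A))) :=
    IsNoetherianRing.of_finite (Curv2.cpl A) _
  haveI : IsNoetherianRing ((integralClosure A (FractionRing A)) ⊗[A] (Curv2.cpl A)) :=
    isNoetherianRing_of_ringEquiv _
      (Algebra.TensorProduct.comm A (Curv2.cpl A) (integralClosure A (FractionRing A))).toRingEquiv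
  have h1 : EGA4.IsNormalRing ((integralClosure A (FractionRing A)) ⊗[A] (Curv2.cpl A)) :=
    DeltaInv.isNormalRing_tensor A (integralClosure A (FractionRing A)) (Curv2.cpl A) hm hA' hdimA'
  have hC : EGA4.IsNormalRing ((Curv2.cpl A) ⊗[A] (integralClosure A (FractionRing A))) :=
    Groth.Agent.Lib.Helper18.FormFib.isNormalRing_of_ringEquiv
      (Algebra.TensorProduct.comm A (integralClosure A (FractionRing A)) (Curv2.cpl A)).toRingEquiv h1
  -- step 3
  have s3 := ncard_maximal_tensor A (Curv2.cpl A) (integralClosure A (FractionRing A))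
    (fun b => Groth.Agent.Lib.Helper18.Nag.cpl_exists_sub_mem A b)
  -- step 4
  haveI : HenselianLocalRing (Curv2.cpl A) :=
    Groth.Agent.Lib.Helper4.BrnchCompl.henselianLocalRing_adicCompletion A
  have s4 := ncard_maximal_eq_ncard_minimalPrimes
    ((Curv2.cpl A) ⊗[A] (integralClosure A (FractionRing A))) (fun N _ => (hC N).1)
    (fun P hP N₁ N₂ hN₁ hN₂ hP1 hP2 => by
      haveI := hP.1.1
      haveI : IsDomain (((Curv2.cpl A) ⊗[A] (integralClosure A (FractionRing A))) ⧸ P) :=
        Ideal.Quotient.isDomain P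
      haveI : Algebra.IsIntegral (Curv2.cpl A)
          (((Curv2.cpl A) ⊗[A] (integralClosure A (FractionRing A))) ⧸ P) := inferInstance
      haveI : IsLocalRing (((Curv2.cpl A) ⊗[A] (integralClosure A (FractionRing A))) ⧸ P) :=
        Groth.Agent.Lib.Helper12.HensInt.isLocalRing_of_isDomain_of_isIntegral (Curv2.cpl A) _
      exact maximal_unique_of_isLocalRing_quotient _ P N₁ N₂ hN₁ hN₂ hP1 hP2)
  -- step 5
  have s5 := ncard_minimalPrimes_of_injective_to_fractionRing (Curv2.cpl A)
    ((Curv2.cpl A) ⊗[A] (integralClosure A (FractionRing A))) (DeltaInv.mu A (Curv2.cpl A))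
    (DeltaInv.mu_injective A (Curv2.cpl A))
  rw [← s3, s4, s5]

end Main

end Groth.Agent.Lib.Helper9.BranchCount
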