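import Mathlib
import Groth.Prelude.Def_EGA4b
import Groth.Agent.Lib.Helper18.Nag8
import Groth.Agent.Lib.Helper18.RedBC
import Groth.Agent.Lib.Helper18.PMor4

set_option autoImplicit false
set_option linter.style.haveILetI false
set_option linter.unusedSectionVars false
universe u

namespace Groth.Agent.Lib.Helper9.NormalFF
open TensorProduct IsLocalRing CAlg

/-- geometrically normal ⇒ geometrically reduced. -/
theorem isGeometricallyReduced_of_isGeomNormal {k S : Type u} [Field k] [CommRing S] [Algebra k S]
    (h : EGA4.IsGeomNormal k S) : Algebra.IsGeometricallyReduced k S :=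
  Groth.Agent.Lib.Helper18.PMor.isGeometricallyReduced_of_forall_finite
    (fun k' _ _ hfin => Groth.Agent.Lib.Helper18.RedBC.isReduced_of_isNormalRing (h k' hfin))

theorem hasGeomReducedFormalFibres_of_normal (A : Type u) [CommRing A] [IsLocalRing A]
    (hA : EGA4.HasGeomNormalFormalFibres A) : EGA4.HasGeomReducedFormalFibres A :=
  fun p _ => isGeometricallyReduced_of_isGeomNormal (hA p)

/-- A reduced Noetherian ring whose quotients by minimal primes are N-1 has finite integral closure
in its total ring of fractions. -/
theorem finite_integralClosure_of_isReduced (A : Type u) [CommRing A] [IsNoetherianRing A]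
    [IsReduced A]
    (h : ∀ (p : Ideal A) [p.IsPrime], p ∈ minimalPrimes A → IsN1 (A ⧸ p)) :
    Module.Finite A (integralClosure A (FractionRing A)) := by
  classical
  let ι := {p : Ideal A // p ∈ minimalPrimes A}
  haveI : Finite ι := (minimalPrimes.finite_of_isNoetherianRing A).to_subtype
  haveI hprime : ∀ i : ι, i.1.IsPrime := fun i => i.2.1.1
  let K : ι → Type u := fun i => FractionRing (A ⧸ i.1)
  have hunit : ∀ (i : ι) (y : nonZeroDivisors A), IsUnit (Algebra.ofId A (K i) y) := by
    intro i y
    have h1 : (y : A) ∉ i.1 := fun hmem =>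
      Set.disjoint_left.mp (Ideal.disjoint_nonZeroDivisors_of_mem_minimalPrimes i.2) hmem y.2
    have h2 : Ideal.Quotient.mk i.1 (y : A) ≠ 0 := by
      rwa [Ne, Ideal.Quotient.eq_zero_iff_mem]
    have h3 : algebraMap (A ⧸ i.1) (K i) (Ideal.Quotient.mk i.1 (y : A)) ≠ 0 := by
      rw [Ne, map_eq_zero_iff _ (IsFractionRing.injective (A ⧸ i.1) (K i))]
      exact h2
    exact h3.isUnit
  let φ : ∀ i : ι, FractionRing A →ₐ[A] K i := fun i =>
    IsLocalization.liftAlgHom (M := nonZeroDivisors A) (f := Algebra.ofId A (K i)) (hunit i)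
  -- joint injectivity
  have hinj : ∀ x : FractionRing A, (∀ i, φ i x = 0) → x = 0 := by
    intro x hx
    obtain ⟨a, s, rfl⟩ := IsLocalization.exists_mk'_eq (nonZeroDivisors A) x
    have h1 : ∀ i : ι, a ∈ i.1 := by
      intro i
      have h2 := hx i
      have h3 : φ i (IsLocalization.mk' (FractionRing A) a s) * Algebra.ofId A (K i) s
          = Algebra.ofId A (K i) a := by
        have : Algebra.ofId A (K i) (s : A) = φ i (algebraMap A (FractionRing A) s) := by
          simp [φ]
        rw [this, ← map_mul, IsLocalization.mk'_spec]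
        simp [φ]
      rw [h2, zero_mul] at h3
      have h4 : algebraMap (A ⧸ i.1) (K i) (Ideal.Quotient.mk i.1 a) = 0 := h3.symm
      rw [map_eq_zero_iff _ (IsFractionRing.injective (A ⧸ i.1) (K i)),
        Ideal.Quotient.eq_zero_iff_mem] at h4
      exact h4
    have h5 : a ∈ sInf (minimalPrimes A) := by
      rw [Ideal.mem_sInf]
      intro p hp
      exact h1 ⟨p, hp⟩
    have h6 : sInf (minimalPrimes A) = ⊥ := by
      have := Ideal.sInf_minimalPrimes (I := (⊥ : Ideal A))
      have h4 : (⊥ : Ideal A).radical = ⊥ := nilradical_eq_zero A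
      rw [h4] at this
      exact this
    rw [h6] at h5
    have : a = 0 := h5
    rw [this, IsLocalization.mk'_zero]
  -- the target
  haveI hfin : ∀ i : ι, Module.Finite A (integralClosure (A ⧸ i.1) (K i)) := by
    intro i
    haveI : Module.Finite (A ⧸ i.1) (integralClosure (A ⧸ i.1) (K i)) := h i.1 i.2
    exact Module.Finite.trans (A ⧸ i.1) _
  letI : Fintype ι := Fintype.ofFinite ι
  haveI : Module.Finite A (∀ i : ι, integralClosure (A ⧸ i.1) (K i)) := Module.Finite.pi
  have hint : ∀ (i : ι) (x : integralClosure A (FractionRing A)),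
      φ i x.1 ∈ integralClosure (A ⧸ i.1) (K i) := by
    intro i x
    have h1 : IsIntegral A (φ i x.1) := x.2.map (φ i)
    exact h1.tower_top
  let ψ : integralClosure A (FractionRing A) →ₗ[A] (∀ i : ι, integralClosure (A ⧸ i.1) (K i)) :=
    { toFun := fun x i => ⟨φ i x.1, hint i x⟩
      map_add' := by
        intro x y
        funext i
        apply Subtype.ext
        simp
      map_smul' := by
        intro a x
        funext i
        apply Subtype.ext
        simp }
  have hψ : Function.Injective ψ := by
    rw [injective_iff_map_eq_zero]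
    intro x hx
    apply Subtype.ext
    apply hinj
    intro i
    have := congrFun hx i
    exact congrArg Subtype.val this
  exact Module.Finite.of_injective ψ hψ

/-- The completion of a reduced Noetherian local ring with geometrically normal formal fibres is
reduced. -/
theorem isReduced_cpl (A : Type u) [CommRing A] [IsNoetherianRing A] [IsLocalRing A] [IsReduced A]
    (hA : EGA4.HasGeomNormalFormalFibres A) : IsReduced (EGA4.Cpl A) := by
  haveI : IsNoetherianRing (EGA4.Cpl A) := by
    have : IsNoetherianRing (A ⧸ maximalIdeal A) := inferInstance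
    exact Groth.Agent.Lib.Helper21.isNoetherianRing_adicCompletion_of_fg (maximalIdeal A)
      (IsNoetherian.noetherian _)
  have hN : EGA4.IsNormalHom A (EGA4.Cpl A) := ⟨inferInstance, hA⟩
  haveI := Groth.Agent.Lib.Helper18.RedBC.isReduced_baseChange_of_isNormalHom A (EGA4.Cpl A) hN A
  exact isReduced_of_injective (Algebra.TensorProduct.rid A (EGA4.Cpl A) (EGA4.Cpl A)).symm.toAlgHom
    (Algebra.TensorProduct.rid A (EGA4.Cpl A) (EGA4.Cpl A)).symm.injective

theorem isReduced_cpl_and_finite_integralClosure (A : Type u) [CommRing A] [IsNoetherianRing A] [IsLocalRing A] [IsReduced A]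
    (hA : EGA4.HasGeomNormalFormalFibres A) :
    IsReduced (EGA4.Cpl A) ∧ Module.Finite A (integralClosure A (FractionRing A)) := by
  refine ⟨isReduced_cpl A hA, ?_⟩
  have hNag : IsNagata A :=
    Groth.Agent.Lib.Helper18.Nag.isNagata_of_hasGeomReducedFormalFibres A
      (hasGeomReducedFormalFibres_of_normal A hA)
  exact finite_integralClosure_of_isReduced A
    (fun p _ _ => Groth.Agent.Lib.Helper18.Nag.isN1_of_isN2 _ (hNag.2 p))

end Groth.Agent.Lib.Helper9.NormalFF
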