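import Mathlib
import Groth.Agent.Lib.Helper9.NormalFF
import Groth.Agent.Lib.Helper18.AdicHom
import Groth.Agent.Lib.Helper18.PMor
import Groth.Agent.Lib.Helper12.Normal
import Groth.Agent.Lib.Helper4.HzsUnibr
import Groth.Agent.Lib.Helper18.J2e
import Groth.Agent.Lib.Helper6.AlgClosedTensor

set_option autoImplicit false
set_option linter.style.haveILetI false
set_option linter.unusedSectionVars false
universe u

namespace Groth.Agent.Lib.Helper9.NormalFF
open TensorProduct IsLocalRing CAlg

/-- For a local ring `B` integral over the Noetherian local ring `A`, the ring `Â ⊗_A B` is local. -/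
theorem isLocalRing_cpl_tensor (A : Type u) [CommRing A] [IsNoetherianRing A] [IsLocalRing A]
    (B : Type u) [CommRing B] [Algebra A B] [Algebra.IsIntegral A B] [IsLocalRing B] :
    IsLocalRing (EGA4.Cpl A ⊗[A] B) := by
  haveI : Module.FaithfullyFlat A (EGA4.Cpl A) := Module.FaithfullyFlat.of_flat_of_isLocalHom
  haveI : Nontrivial (EGA4.Cpl A ⊗[A] B) := Module.FaithfullyFlat.lTensor_nontrivial A (EGA4.Cpl A) B
  haveI : Algebra.IsIntegral (EGA4.Cpl A) (EGA4.Cpl A ⊗[A] B) := inferInstance
  let ι : B →ₐ[A] EGA4.Cpl A ⊗[A] B := Algebra.TensorProduct.includeRight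
  -- every element is congruent to `1 ⊗ b` modulo `m_Â D`
  have hcong : ∀ c : EGA4.Cpl A ⊗[A] B, ∃ b : B, c - ι b ∈
      (maximalIdeal (EGA4.Cpl A)).map (algebraMap (EGA4.Cpl A) (EGA4.Cpl A ⊗[A] B)) := by
    intro c
    induction c with
    | zero => exact ⟨0, by simp⟩
    | tmul y b =>
      obtain ⟨a, ha⟩ := Groth.Agent.Lib.Helper18.AdicHom.exists_sub_mem A (maximalIdeal A) y
      have ha' : y - algebraMap A (EGA4.Cpl A) a ∈ maximalIdeal (EGA4.Cpl A) :=
        Groth.Agent.Lib.Helper18.AdicHom.map_le_maximal A (maximalIdeal A)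
          (maximalIdeal (EGA4.Cpl A)) ha
      refine ⟨a • b, ?_⟩
      have h1 : y ⊗ₜ[A] b - ι (a • b) =
          algebraMap (EGA4.Cpl A) (EGA4.Cpl A ⊗[A] B) (y - algebraMap A (EGA4.Cpl A) a) * ι b := by
        simp only [ι, Algebra.TensorProduct.includeRight_apply,
          Algebra.TensorProduct.algebraMap_apply, Algebra.algebraMap_self, RingHom.id_apply,
          sub_tmul]
        rw [sub_mul, Algebra.TensorProduct.tmul_mul_tmul, Algebra.TensorProduct.tmul_mul_tmul,
          mul_one, one_mul, TensorProduct.tmul_smul, TensorProduct.smul_tmul',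
          Algebra.smul_def]
      rw [h1]
      exact Ideal.mul_mem_right _ _ (Ideal.mem_map_of_mem _ ha')
    | add x y hx hy =>
      obtain ⟨b1, h1⟩ := hx
      obtain ⟨b2, h2⟩ := hy
      refine ⟨b1 + b2, ?_⟩
      have : x + y - ι (b1 + b2) = (x - ι b1) + (y - ι b2) := by rw [map_add]; ring
      rw [this]
      exact Ideal.add_mem _ h1 h2
  -- contraction of a maximal ideal
  have hmax : ∀ (M : Ideal (EGA4.Cpl A ⊗[A] B)), M.IsMaximal →
      (maximalIdeal (EGA4.Cpl A)).map (algebraMap (EGA4.Cpl A) (EGA4.Cpl A ⊗[A] B)) ≤ M ∧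
        M.comap ι.toRingHom = maximalIdeal B := by
    intro M hM
    haveI := hM
    have h1 : (M.comap (algebraMap (EGA4.Cpl A) (EGA4.Cpl A ⊗[A] B))).IsMaximal :=
      Ideal.isMaximal_comap_of_isIntegral_of_isMaximal M
    have h2 : M.comap (algebraMap (EGA4.Cpl A) (EGA4.Cpl A ⊗[A] B)) = maximalIdeal (EGA4.Cpl A) :=
      IsLocalRing.eq_maximalIdeal h1
    have h3 : (maximalIdeal (EGA4.Cpl A)).map (algebraMap (EGA4.Cpl A) (EGA4.Cpl A ⊗[A] B)) ≤ M := by
      rw [Ideal.map_le_iff_le_comap, h2]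
    refine ⟨h3, ?_⟩
    haveI : (M.comap ι.toRingHom).IsPrime := Ideal.comap_isPrime _ _
    have h4 : (M.comap ι.toRingHom).comap (algebraMap A B) = maximalIdeal A := by
      ext a
      rw [Ideal.mem_comap, Ideal.mem_comap]
      have h5 : ι.toRingHom (algebraMap A B a) =
          algebraMap (EGA4.Cpl A) (EGA4.Cpl A ⊗[A] B) (algebraMap A (EGA4.Cpl A) a) := by
        change ι (algebraMap A B a) = _
        rw [AlgHom.commutes, ← IsScalarTower.algebraMap_apply]
      rw [h5, ← Ideal.mem_comap, h2]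
      constructor
      · intro h
        by_contra hn
        have hu : IsUnit a := by
          by_contra hnu
          exact hn ((IsLocalRing.mem_maximalIdeal a).mpr hnu)
        exact (IsLocalRing.mem_maximalIdeal _).mp h (hu.map _)
      · intro h
        exact Groth.Agent.Lib.Helper18.AdicHom.map_le_maximal A (maximalIdeal A)
          (maximalIdeal (EGA4.Cpl A)) (Ideal.mem_map_of_mem _ h)
    have h6 : (M.comap ι.toRingHom).IsMaximal :=
      Ideal.isMaximal_of_isIntegral_of_isMaximal_comap (R := A) _ (by rw [h4]; infer_instance)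
    exact IsLocalRing.eq_maximalIdeal h6
  obtain ⟨M₀, hM₀⟩ := Ideal.exists_maximal (EGA4.Cpl A ⊗[A] B)
  refine IsLocalRing.of_unique_max_ideal ⟨M₀, hM₀, fun M hM => ?_⟩
  obtain ⟨h1, h2⟩ := hmax M hM
  obtain ⟨h3, h4⟩ := hmax M₀ hM₀
  refine hM.eq_of_le hM₀.ne_top ?_
  intro c hc
  obtain ⟨b, hb⟩ := hcong c
  have h5 : ι b ∈ M := by
    have : ι b = c - (c - ι b) := by ring
    rw [this]
    exact M.sub_mem hc (h1 hb)
  have h6 : b ∈ maximalIdeal B := by rw [← h2]; exact h5
  have h7 : ι b ∈ M₀ := by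
    rw [← h4] at h6
    exact h6
  have : c = (c - ι b) + ι b := by ring
  rw [this]
  exact M₀.add_mem (h3 hb) h7

/-- A local normal ring is a domain. -/
theorem isDomain_of_isLocalRing_of_isNormalRing (E : Type u) [CommRing E] [IsLocalRing E]
    (hE : EGA4.IsNormalRing E) : IsDomain E := by
  haveI := (hE (maximalIdeal E)).1
  have hle : (maximalIdeal E).primeCompl ≤ IsUnit.submonoid E := by
    intro x hx
    have h1 : x ∉ maximalIdeal E := hx
    rw [IsLocalRing.mem_maximalIdeal, mem_nonunits_iff, not_not] at h1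
    exact h1
  let e : E ≃ₐ[E] Localization.AtPrime (maximalIdeal E) :=
    IsLocalization.atUnits E (maximalIdeal E).primeCompl hle
  exact e.toMulEquiv.isDomain _

theorem isNoetherianRing_cpl (A : Type u) [CommRing A] [IsNoetherianRing A] [IsLocalRing A] :
    IsNoetherianRing (EGA4.Cpl A) := by
  have : IsNoetherianRing (A ⧸ maximalIdeal A) := inferInstance
  exact Groth.Agent.Lib.Helper21.isNoetherianRing_adicCompletion_of_fg (maximalIdeal A)
    (IsNoetherian.noetherian _)

/-- For a henselian Noetherian local ring `A` with geometrically normal formal fibres and a domain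
`B` finite over `A`, the ring `Â ⊗_A B` is a domain. -/
theorem isDomain_cpl_tensor (A : Type u) [CommRing A] [IsNoetherianRing A] [HenselianLocalRing A]
    (hA : EGA4.HasGeomNormalFormalFibres A) (B : Type u) [CommRing B] [IsDomain B] [Algebra A B]
    [Module.Finite A B] : IsDomain (EGA4.Cpl A ⊗[A] B) := by
  have hred := Groth.Agent.Lib.Helper9.NormalFF.hasGeomReducedFormalFibres_of_normal A hA
  haveI hN1 : Module.Finite B (integralClosure B (FractionRing B)) :=
    Groth.Agent.Lib.Helper18.Nag.isN1_of_finite_of_hasGeomReducedFormalFibres A hred B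
  let B' := integralClosure B (FractionRing B)
  haveI : Module.Finite A B' := Module.Finite.trans B B'
  haveI : Algebra.IsIntegral A B' := inferInstance
  haveI : IsLocalRing B' := Groth.Agent.Lib.Helper4.Unibr.isLocalRing_of_isDomain_of_isIntegral A B'
  haveI : IsNoetherianRing B' := IsNoetherianRing.of_finite A B'
  haveI : IsIntegrallyClosed B' :=
    integralClosure.isIntegrallyClosedOfFiniteExtension (FractionRing B)
  haveI := isNoetherianRing_cpl A
  have hB'n : EGA4.IsNormalRing B' := Groth.Agent.Lib.Helper12.Normal.isNormalRing_of_domain B'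
  -- `E = B' ⊗ Â`
  have hN : EGA4.IsNormalHom A (EGA4.Cpl A) := ⟨inferInstance, hA⟩
  have hN' : EGA4.IsNormalHom B' (B' ⊗[A] EGA4.Cpl A) :=
    Groth.Agent.Lib.Helper18.PMor.isNormalHom_baseChange (EGA4.Cpl A) B' hN
  haveI : IsNoetherianRing (EGA4.Cpl A ⊗[A] B') :=
    IsNoetherianRing.of_finite (EGA4.Cpl A) (EGA4.Cpl A ⊗[A] B')
  haveI : IsNoetherianRing (B' ⊗[A] EGA4.Cpl A) :=
    isNoetherianRing_of_ringEquiv _ (Algebra.TensorProduct.comm A (EGA4.Cpl A) B').toRingEquiv
  haveI := hN'.1
  have hEn : EGA4.IsNormalRing (B' ⊗[A] EGA4.Cpl A) :=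
    Groth.Agent.Lib.Helper18.PMor.isNormalRing_of_flat_of_fibres B' (B' ⊗[A] EGA4.Cpl A) hB'n
      (fun q _ => Groth.Agent.Lib.Helper18.FormFib.isNormalRing_of_isGeomNormal (hN'.2 q))
  haveI : IsLocalRing (EGA4.Cpl A ⊗[A] B') := isLocalRing_cpl_tensor A B'
  haveI : IsLocalRing (B' ⊗[A] EGA4.Cpl A) :=
    (Algebra.TensorProduct.comm A (EGA4.Cpl A) B').toRingEquiv.isLocalRing
  haveI hEd : IsDomain (B' ⊗[A] EGA4.Cpl A) := isDomain_of_isLocalRing_of_isNormalRing _ hEn
  haveI hD'd : IsDomain (EGA4.Cpl A ⊗[A] B') :=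
    (Algebra.TensorProduct.comm A (EGA4.Cpl A) B').toMulEquiv.isDomain _
  -- inject
  let j : B →ₐ[A] B' := IsScalarTower.toAlgHom A B B'
  have hj : Function.Injective j := by
    intro x y hxy
    have h1 : algebraMap B (FractionRing B) x = algebraMap B (FractionRing B) y :=
      congrArg Subtype.val hxy
    exact IsFractionRing.injective B (FractionRing B) h1
  let J : EGA4.Cpl A ⊗[A] B →ₐ[A] EGA4.Cpl A ⊗[A] B' :=
    Algebra.TensorProduct.map (AlgHom.id A (EGA4.Cpl A)) j
  have hJ : Function.Injective J :=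
    Module.Flat.lTensor_preserves_injective_linearMap (M := EGA4.Cpl A) j.toLinearMap hj
  exact hJ.isDomain J.toRingHom

theorem isDomain_cpl_of_henselian (A : Type u) [CommRing A] [IsNoetherianRing A]
    [HenselianLocalRing A] [IsDomain A] (h : EGA4.HasGeomNormalFormalFibres A) :
    IsDomain (EGA4.Cpl A) := by
  haveI := isDomain_cpl_tensor A h A
  exact (Algebra.TensorProduct.rid A (EGA4.Cpl A) (EGA4.Cpl A)).symm.toMulEquiv.isDomain _

/-- Formal fibres of a henselian local ring with geometrically normal formal fibres stay domains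
after finite extensions of the residue field. -/
theorem isDomain_finite_tensor_formalFibre (A : Type u) [CommRing A] [IsNoetherianRing A]
    [HenselianLocalRing A] (hA : EGA4.HasGeomNormalFormalFibres A) (p : Ideal A) [p.IsPrime]
    (K' : Type u) [Field K'] [Algebra p.ResidueField K'] [Module.Finite p.ResidueField K'] :
    IsDomain (K' ⊗[p.ResidueField] (EGA4.formalFibre A p)) := by
  letI : Algebra A K' :=
    ((algebraMap p.ResidueField K').comp (algebraMap A p.ResidueField)).toAlgebra
  haveI : IsScalarTower A p.ResidueField K' := IsScalarTower.of_algebraMap_eq (fun _ => rfl)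
  letI : Algebra (A ⧸ p) K' :=
    ((algebraMap p.ResidueField K').comp (algebraMap (A ⧸ p) p.ResidueField)).toAlgebra
  haveI : IsScalarTower (A ⧸ p) p.ResidueField K' := IsScalarTower.of_algebraMap_eq (fun _ => rfl)
  haveI : IsScalarTower A (A ⧸ p) K' := IsScalarTower.of_algebraMap_eq (fun a => by
    change algebraMap p.ResidueField K' (algebraMap A p.ResidueField a) =
      algebraMap p.ResidueField K' (algebraMap (A ⧸ p) p.ResidueField (algebraMap A (A ⧸ p) a))
    rw [← IsScalarTower.algebraMap_apply A (A ⧸ p) p.ResidueField])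
  obtain ⟨B, hfin, hfrac⟩ :=
    Groth.Agent.Lib.Helper18.J2.exists_finite_subalgebra_isFractionRing' (A ⧸ p) p.ResidueField K'
  haveI := hfin
  haveI := hfrac
  haveI : IsScalarTower A B K' := IsScalarTower.of_algebraMap_eq (fun _ => rfl)
  haveI : Module.Finite A B := Module.Finite.trans (A ⧸ p) B
  haveI := isNoetherianRing_cpl A
  -- the domain `B ⊗ Â`
  haveI hD : IsDomain (EGA4.Cpl A ⊗[A] B) := isDomain_cpl_tensor A hA B
  haveI hD₂ : IsDomain (B ⊗[A] EGA4.Cpl A) :=
    (Algebra.TensorProduct.comm A B (EGA4.Cpl A)).toMulEquiv.isDomain _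
  -- localization
  haveI hloc : IsLocalization (Algebra.algebraMapSubmonoid (B ⊗[A] EGA4.Cpl A) (nonZeroDivisors B))
      ((B ⊗[A] EGA4.Cpl A) ⊗[B] K') := IsLocalization.tensor K' (nonZeroDivisors B)
  have hM : Algebra.algebraMapSubmonoid (B ⊗[A] EGA4.Cpl A) (nonZeroDivisors B) ≤
      nonZeroDivisors (B ⊗[A] EGA4.Cpl A) := by
    rintro _ ⟨b, hb, rfl⟩
    have hb0 : b ≠ 0 := nonZeroDivisors.ne_zero hb
    have hreg : IsSMulRegular B b := (IsRegular.of_ne_zero hb0).left.isSMulRegular
    have hregC : IsSMulRegular (B ⊗[A] EGA4.Cpl A) (algebraMap B (B ⊗[A] EGA4.Cpl A) b) :=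
      hreg.of_flat
    rw [mem_nonZeroDivisors_iff_right]
    intro c hc
    rw [mul_comm] at hc
    exact hregC (by simpa using hc)
  have h1 : IsDomain ((B ⊗[A] EGA4.Cpl A) ⊗[B] K') :=
    IsLocalization.isDomain_of_le_nonZeroDivisors ((B ⊗[A] EGA4.Cpl A) ⊗[B] K') hM
  have e1 : (B ⊗[A] EGA4.Cpl A) ⊗[B] K' ≃+* K' ⊗[B] (B ⊗[A] EGA4.Cpl A) :=
    (Algebra.TensorProduct.comm B (B ⊗[A] EGA4.Cpl A) K').toRingEquiv
  have e2 : K' ⊗[B] (B ⊗[A] EGA4.Cpl A) ≃+* K' ⊗[A] EGA4.Cpl A :=
    (Algebra.TensorProduct.cancelBaseChange A B K' K' (EGA4.Cpl A)).toRingEquiv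
  have e3 : K' ⊗[p.ResidueField] (EGA4.formalFibre A p) ≃+* K' ⊗[A] EGA4.Cpl A :=
    (Algebra.TensorProduct.cancelBaseChange A p.ResidueField K' K' (EGA4.Cpl A)).toRingEquiv
  exact Function.Injective.isDomain (e3.trans (e2.symm.trans e1.symm))
    (e3.trans (e2.symm.trans e1.symm)).injective

open Groth.Agent.Lib.Helper6 in
/-- The formal fibres of a henselian Noetherian local ring with geometrically normal formal fibres
are geometrically integral. -/
theorem isDomain_tensor_formalFibre (A : Type u) [CommRing A] [HenselianLocalRing A]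
    [IsNoetherianRing A] (hA : EGA4.HasGeomNormalFormalFibres A) (p : Ideal A) [p.IsPrime]
    (K : Type u) [Field K] [Algebra p.ResidueField K] :
    IsDomain (K ⊗[p.ResidueField] (EGA4.formalFibre A p)) := by
  have h1 : IsDomain (AlgebraicClosure p.ResidueField ⊗[p.ResidueField] (EGA4.formalFibre A p)) :=
    isDomain_of_forall_finite (fun E hE => isDomain_finite_tensor_formalFibre A hA p E)
  exact isDomain_of_isDomain_algClosure h1 K

end Groth.Agent.Lib.Helper9.NormalFF
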