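import Mathlib
import Groth.Agent.Lib.Helper9.GeomUnibranchCpl
import Groth.Agent.Lib.Helper9.BrnchEmbSep
import Groth.Agent.Lib.Helper4.BrnchCompl
import Groth.Agent.Lib.Helper4.BrnchCount3
import Groth.Agent.Lib.Helper4.BrnchLocDom4
import Groth.Agent.Lib.Helper4.BrnchNormal
import Groth.Agent.Lib.Helper4.BrnchMin
import Groth.Agent.Lib.Helper4.HzsHens
import Groth.Agent.Lib.Helper4.HznHens
import Groth.Agent.S9237
import Groth.Agent.S9238
import Groth.Agent.S9812
import Groth.Agent.S4754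

set_option autoImplicit false
set_option linter.style.haveILetI false
set_option linter.unusedSectionVars false
universe u

namespace Groth.Agent.Lib.Helper9.BrnchCpl
open TensorProduct IsLocalRing CAlg Groth.Agent.Lib.Helper9.NormalFF Groth.Agent.Lib.Helper4

section Contr
variable (A A' S : Type u) [CommRing A] [IsLocalRing A] [CommRing A'] [Algebra A A']
  [Algebra.IsIntegral A A'] [CommRing S] [IsLocalRing S] [Algebra A S] [IsLocalHom (algebraMap A S)]

/-- Decomposition modulo the maximal ideal when `A → S` is surjective on residue fields. -/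
theorem exists_sub_mem_map (hS : ∀ s : S, ∃ a : A, s - algebraMap A S a ∈ maximalIdeal S)
    (t : A' ⊗[A] S) :
    ∃ a'' : A', t - a'' ⊗ₜ[A] (1 : S) ∈ (maximalIdeal S).map
      (Algebra.TensorProduct.includeRight : S →ₐ[A] A' ⊗[A] S).toRingHom := by
  induction t using TensorProduct.induction_on with
  | zero => exact ⟨0, by rw [TensorProduct.zero_tmul, sub_zero]; exact Ideal.zero_mem _⟩
  | tmul a' s =>
    obtain ⟨a, ha⟩ := hS s
    refine ⟨a • a', ?_⟩
    have h1 : a' ⊗ₜ[A] s - (a • a') ⊗ₜ[A] (1 : S) =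
        (a' ⊗ₜ[A] (1 : S)) * ((1 : A') ⊗ₜ[A] (s - algebraMap A S a)) := by
      rw [Algebra.TensorProduct.tmul_mul_tmul, mul_one, one_mul, TensorProduct.tmul_sub,
        TensorProduct.smul_tmul, Algebra.algebraMap_eq_smul_one]
    rw [h1]
    exact Ideal.mul_mem_left _ _ (Ideal.mem_map_of_mem _ ha)
  | add t₁ t₂ h₁ h₂ =>
    obtain ⟨a₁, h₁⟩ := h₁
    obtain ⟨a₂, h₂⟩ := h₂
    refine ⟨a₁ + a₂, ?_⟩
    have : t₁ + t₂ - (a₁ + a₂) ⊗ₜ[A] (1 : S) =
        (t₁ - a₁ ⊗ₜ[A] (1 : S)) + (t₂ - a₂ ⊗ₜ[A] (1 : S)) := by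
      rw [TensorProduct.add_tmul]; ring
    rw [this]
    exact Ideal.add_mem _ h₁ h₂

theorem contr_injective (hS : ∀ s : S, ∃ a : A, s - algebraMap A S a ∈ maximalIdeal S) :
    Function.Injective (BrnchCount.contr A A' S) := by
  have key : ∀ n₁ n₂ : MaximalSpectrum (A' ⊗[A] S),
      BrnchCount.contr A A' S n₁ = BrnchCount.contr A A' S n₂ →
      n₁.asIdeal ≤ n₂.asIdeal := by
    intro n₁ n₂ h t ht
    have h' : n₁.asIdeal.comap (algebraMap A' (A' ⊗[A] S)) =
        n₂.asIdeal.comap (algebraMap A' (A' ⊗[A] S)) := congrArg MaximalSpectrum.asIdeal h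
    obtain ⟨a'', ha''⟩ := exists_sub_mem_map A A' S hS t
    have hJ : ∀ n : MaximalSpectrum (A' ⊗[A] S), (maximalIdeal S).map
        (Algebra.TensorProduct.includeRight : S →ₐ[A] A' ⊗[A] S).toRingHom ≤ n.asIdeal := by
      intro n
      rw [Ideal.map_le_iff_le_comap, BrnchCount.comap_includeRight_eq A A' S n.asIdeal]
    have h1 : a'' ⊗ₜ[A] (1 : S) ∈ n₁.asIdeal := by
      have := n₁.asIdeal.sub_mem ht (hJ n₁ ha'')
      rwa [sub_sub_cancel] at this
    have h2 : a'' ∈ n₁.asIdeal.comap (algebraMap A' (A' ⊗[A] S)) := h1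
    rw [h'] at h2
    have h3 : a'' ⊗ₜ[A] (1 : S) ∈ n₂.asIdeal := h2
    have := n₂.asIdeal.add_mem (hJ n₂ ha'') h3
    rwa [sub_add_cancel] at this
  intro n₁ n₂ h
  have h1 := key n₁ n₂ h
  have h2 := key n₂ n₁ h.symm
  cases n₁; cases n₂
  simp only at h1 h2
  congr
  exact le_antisymm h1 h2

end Contr


section Main
variable (A : Type u) [CommRing A] [IsLocalRing A] [IsNoetherianRing A]
  (hA : EGA4.HasGeomNormalFormalFibres A)

include hA in
/-- `normRed A` is finite over `A`. -/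
theorem finite_normRed : Module.Finite A (CAlg2.normRed A) := by
  haveI : Nontrivial (A ⧸ nilradical A) :=
    Ideal.Quotient.nontrivial_iff.mpr (fun h =>
      (maximalIdeal.isMaximal A).ne_top (top_le_iff.mp (h ▸ nilradical_le_prime (maximalIdeal A))))
  have hB := Groth.Agent.S4754.result A hA (nilradical A)
  obtain ⟨-, hfin⟩ := isReduced_cpl_and_finite_integralClosure (A ⧸ nilradical A) hB
  haveI := hfin
  exact Module.Finite.trans (A ⧸ nilradical A) _

include hA in
theorem isNormalRing_normRed_tensor_cpl :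
    EGA4.IsNormalRing (CAlg2.normRed A ⊗[A] EGA4.Cpl A) := by
  haveI := finite_normRed A hA
  have hfin : (minimalPrimes A).Finite := minimalPrimes.finite_of_isNoetherianRing A
  have hNn : EGA4.IsNormalRing (CAlg2.normRed A) :=
    fun p _ => BrnchNormal.normRed_localization A hfin p
  haveI : IsNoetherianRing (CAlg2.normRed A) := IsNoetherianRing.of_finite A _
  haveI := isNoetherianRing_cpl A
  have hN : EGA4.IsNormalHom A (EGA4.Cpl A) := ⟨inferInstance, hA⟩
  have hN' : EGA4.IsNormalHom (CAlg2.normRed A) (CAlg2.normRed A ⊗[A] EGA4.Cpl A) :=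
    Groth.Agent.Lib.Helper18.PMor.isNormalHom_baseChange (EGA4.Cpl A) (CAlg2.normRed A) hN
  haveI : IsNoetherianRing (EGA4.Cpl A ⊗[A] CAlg2.normRed A) :=
    IsNoetherianRing.of_finite (EGA4.Cpl A) (EGA4.Cpl A ⊗[A] CAlg2.normRed A)
  haveI : IsNoetherianRing (CAlg2.normRed A ⊗[A] EGA4.Cpl A) :=
    isNoetherianRing_of_ringEquiv _
      (Algebra.TensorProduct.comm A (EGA4.Cpl A) (CAlg2.normRed A)).toRingEquiv
  haveI := hN'.1
  exact Groth.Agent.Lib.Helper18.PMor.isNormalRing_of_flat_of_fibres (CAlg2.normRed A)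
    (CAlg2.normRed A ⊗[A] EGA4.Cpl A) hNn
    (fun q _ => Groth.Agent.Lib.Helper18.FormFib.isNormalRing_of_isGeomNormal (hN'.2 q))

theorem exists_sub_mem_cpl (s : EGA4.Cpl A) :
    ∃ a : A, s - algebraMap A (EGA4.Cpl A) a ∈ maximalIdeal (EGA4.Cpl A) := by
  obtain ⟨a, ha⟩ := Groth.Agent.Lib.Helper18.AdicHom.exists_sub_mem A (maximalIdeal A) s
  exact ⟨a, Groth.Agent.Lib.Helper18.AdicHom.map_le_maximal A (maximalIdeal A)
    (maximalIdeal (EGA4.Cpl A)) ha⟩

include hA in
theorem numBranches_cpl : Brnch.numBranches (EGA4.Cpl A) = Brnch.numBranches A := by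
  classical
  have hfin : (minimalPrimes A).Finite := minimalPrimes.finite_of_isNoetherianRing A
  haveI := isNoetherianRing_cpl A
  haveI hH := BrnchCompl.henselianLocalRing_adicCompletion A
  have hidloc : IsLocalHom (algebraMap (EGA4.Cpl A) (EGA4.Cpl A)) := ⟨fun a ha => ha⟩
  have hself : Hensel.IsHenselization (EGA4.Cpl A) (EGA4.Cpl A) := Hzn.isHenselization_self _
  rw [← Groth.Agent.S9237.result (EGA4.Cpl A) (EGA4.Cpl A)]
  unfold Brnch.numBranches
  rw [if_pos hfin]
  haveI hint : Algebra.IsIntegral A (CAlg2.normRed A) := BrnchCount.isIntegral_normRed A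
  haveI : Module.FaithfullyFlat A (EGA4.Cpl A) := Module.FaithfullyFlat.of_flat_of_isLocalHom
  have hEn := isNormalRing_normRed_tensor_cpl A hA
  have hLD : BrnchLocDom.LocDom (CAlg2.normRed A ⊗[A] EGA4.Cpl A) :=
    BrnchLocDom.locDom_of_isDomain_localization (fun P _ => (hEn P).1)
  have h1 := ENat.card_congr (BrnchMin.bijOn_normRed_tensor A (EGA4.Cpl A)).equiv
  have h2 := BrnchCount.card_minimalPrimes_eq_card_maximalSpectrum hLD
    (fun q hq => BrnchCount.existsUnique_isMaximal_ge A (CAlg2.normRed A) (EGA4.Cpl A) q)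
  have h3 := ENat.card_congr (Equiv.ofBijective
    (BrnchCount.contr A (CAlg2.normRed A) (EGA4.Cpl A))
    ⟨contr_injective A (CAlg2.normRed A) (EGA4.Cpl A) (exists_sub_mem_cpl A),
      BrnchCount.contr_surjective A (CAlg2.normRed A) (EGA4.Cpl A)⟩)
  rw [← h1, h2, h3]

end Main


theorem locDom_of_ringEquiv {R R' : Type*} [CommRing R] [CommRing R'] (e : R ≃+* R')
    (h : BrnchLocDom.LocDom R) : BrnchLocDom.LocDom R' := by
  intro P hP x y hxy
  haveI : (P.comap e.toRingHom).IsPrime := Ideal.comap_isPrime _ _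
  obtain ⟨u, hu, hu'⟩ := h (P.comap e.toRingHom) inferInstance (e.symm x) (e.symm y)
    (by rw [← map_mul, hxy, map_zero])
  refine ⟨e u, hu, ?_⟩
  rcases hu' with h1 | h1
  · left
    have := congrArg e h1
    rwa [map_mul, e.apply_symm_apply, map_zero] at this
  · right
    have := congrArg e h1
    rwa [map_mul, e.apply_symm_apply, map_zero] at this


theorem locDom_of_assoc (A R N T : Type u) [CommRing A] [CommRing R] [Algebra A R] [CommRing N]
    [Algebra A N] [CommRing T] [Algebra R T] [Algebra A T] [IsScalarTower A R T]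
    (h : BrnchLocDom.LocDom ((R ⊗[A] N) ⊗[R] T)) : BrnchLocDom.LocDom (N ⊗[A] T) := by
  have e1 : (R ⊗[A] N) ⊗[R] T ≃+* T ⊗[R] (R ⊗[A] N) :=
    (Algebra.TensorProduct.comm R (R ⊗[A] N) T).toRingEquiv
  have e2 : T ⊗[R] (R ⊗[A] N) ≃+* T ⊗[A] N :=
    (Algebra.TensorProduct.cancelBaseChange A R T T N).toRingEquiv
  have e3 : T ⊗[A] N ≃+* N ⊗[A] T := (Algebra.TensorProduct.comm A T N).toRingEquiv
  exact locDom_of_ringEquiv ((e1.trans e2).trans e3) h

section Geom
variable (A : Type u) [CommRing A] [IsLocalRing A] [IsNoetherianRing A]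
  (hA : EGA4.HasGeomNormalFormalFibres A)

include hA in
theorem card_minimalPrimes_strict (T : Type u) [CommRing T] [IsLocalRing T]
    [Algebra (EGA4.Cpl A) T] [IsLocalHom (algebraMap (EGA4.Cpl A) T)]
    [hT : Hensel.IsStrictHenselization (EGA4.Cpl A) T] :
    ENat.card (minimalPrimes T) = Brnch.numGeomBranches A := by
  classical
  have hfin : (minimalPrimes A).Finite := minimalPrimes.finite_of_isNoetherianRing A
  haveI := isNoetherianRing_cpl A
  haveI hint : Algebra.IsIntegral A (CAlg2.normRed A) := BrnchCount.isIntegral_normRed A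
  haveI := finite_normRed A hA
  letI algAT : Algebra A T :=
    ((algebraMap (EGA4.Cpl A) T).comp (algebraMap A (EGA4.Cpl A))).toAlgebra
  haveI : IsScalarTower A (EGA4.Cpl A) T :=
    IsScalarTower.of_algebraMap_eq (fun _ => rfl)
  haveI hloc : IsLocalHom (algebraMap A T) :=
    RingHom.isLocalHom_comp _ _
  haveI : Module.Flat (EGA4.Cpl A) T :=
    (Hzs.faithfullyFlat_of_isStrictHenselization (EGA4.Cpl A) T).toFlat
  haveI : Module.Flat A T := Module.Flat.trans A (EGA4.Cpl A) _
  haveI hHT : HenselianLocalRing T := hT.henselian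
  -- residue fields
  haveI hsepA : Algebra.IsSeparable (ResidueField A) (ResidueField (EGA4.Cpl A)) := by
    refine ⟨fun x => ?_⟩
    obtain ⟨s, rfl⟩ := residue_surjective x
    obtain ⟨a, ha⟩ := exists_sub_mem_cpl A s
    have h1 : residue (EGA4.Cpl A) s =
        algebraMap (ResidueField A) (ResidueField (EGA4.Cpl A)) (residue A a) := by
      rw [IsLocalRing.ResidueField.algebraMap_residue, ← sub_eq_zero, ← map_sub,
        residue_eq_zero_iff]
      exact ha
    rw [h1]
    exact isSeparable_algebraMap _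
  haveI hsepT : Algebra.IsSeparable (ResidueField (EGA4.Cpl A)) (ResidueField T) :=
    hT.isSepClosure.separable
  haveI hSC : IsSepClosure (ResidueField A) (ResidueField T) :=
    ⟨hT.isSepClosure.sep_closed,
      Algebra.IsSeparable.trans (ResidueField A) (ResidueField (EGA4.Cpl A)) _⟩
  -- local domains
  have hEn := isNormalRing_normRed_tensor_cpl A hA
  have hCn : EGA4.IsNormalRing (EGA4.Cpl A ⊗[A] CAlg2.normRed A) :=
    Groth.Agent.Lib.Helper18.FormFib.isNormalRing_of_ringEquiv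
      (Algebra.TensorProduct.comm A (CAlg2.normRed A) (EGA4.Cpl A)).toRingEquiv hEn
  have hGU : BrnchLocDom.LocGU (EGA4.Cpl A ⊗[A] CAlg2.normRed A) := fun p _ => by
    obtain ⟨h1, h2⟩ := hCn p
    exact ⟨h1, Groth.Agent.S9812.result (Localization.AtPrime p)⟩
  have hLD0 := BrnchLocDom.locDom_tensor_strictHenselization (EGA4.Cpl A)
    (EGA4.Cpl A ⊗[A] CAlg2.normRed A) T hGU
  have hLD : BrnchLocDom.LocDom (CAlg2.normRed A ⊗[A] T) :=
    locDom_of_assoc A (EGA4.Cpl A) (CAlg2.normRed A) T hLD0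
  have h1 := ENat.card_congr (BrnchMin.bijOn_normRed_tensor A T).equiv
  have h2 := BrnchCount.card_minimalPrimes_eq_card_maximalSpectrum hLD
    (fun q hq => BrnchCount.existsUnique_isMaximal_ge A (CAlg2.normRed A) T q)
  have h3 := Groth.Agent.Lib.Helper9.BrnchEmbSep.card_maximalSpectrum_eq A T (CAlg2.normRed A)
  unfold Brnch.numGeomBranches
  rw [if_pos hfin, ← h1, h2, h3]
  rfl

include hA in
theorem numGeomBranches_cpl : Brnch.numGeomBranches (EGA4.Cpl A) = Brnch.numGeomBranches A := by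
  rw [← Groth.Agent.S9238.result (EGA4.Cpl A) (Hzs.Hs (EGA4.Cpl A))]
  exact card_minimalPrimes_strict A hA (Hzs.Hs (EGA4.Cpl A))

include hA in
theorem main : Brnch.numBranches (AdicCompletion (IsLocalRing.maximalIdeal A) A) =
      Brnch.numBranches A ∧
    Brnch.numGeomBranches (AdicCompletion (IsLocalRing.maximalIdeal A) A) =
      Brnch.numGeomBranches A :=
  ⟨numBranches_cpl A hA, numGeomBranches_cpl A hA⟩

end Geom

end Groth.Agent.Lib.Helper9.BrnchCpl
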