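import Mathlib
import Groth.Agent.Lib.Helper9.BrnchCpl
import Groth.Agent.Lib.Helper21.KA11
import Groth.Agent.Lib.Helper12.HensInt
import Groth.Agent.Lib.Helper4.HznQF
import Groth.Agent.Lib.Helper18.FormEq
import Groth.Agent.S9243
import Groth.Agent.S9238
import Groth.Agent.Lib.Helper4.HzsNoethC
import Groth.Agent.Lib.Helper4.HzsStrict
import Groth.Agent.Lib.Helper4.BrnchCompl2

set_option autoImplicit false
set_option linter.unusedSectionVars false
set_option linter.style.haveILetI false
universe u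
open IsLocalRing TensorProduct

namespace Groth.Agent.Lib.Helper9.BrnchDim1

open Groth.Agent.Lib.Helper4

section Star

variable {D T V : Type u} [CommRing D] [IsLocalRing D] [CommRing V] [IsDomain V]
  [IsDiscreteValuationRing V] [Algebra D V] [Algebra.IsIntegral D V]
  [CommRing T] [IsLocalRing T] [Algebra D T] [IsLocalHom (algebraMap D T)] [Module.Flat D T]

/-- every maximal ideal of `V ⊗ T` contains the image of the maximal ideal of `T`. -/
theorem includeRight_mem_maximal (M : Ideal (V ⊗[D] T)) [M.IsMaximal] (s : T)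
    (hs : s ∈ maximalIdeal T) : (1 : V) ⊗ₜ[D] s ∈ M := by
  have h1 := BrnchCount.comap_includeRight_eq D V T M
  have h2 : s ∈ M.comap (Algebra.TensorProduct.includeRight : T →ₐ[D] V ⊗[D] T).toRingHom := by
    rw [h1]; exact hs
  exact h2

/-- the key statement on idempotents: in `T[1/t]` there are only trivial idempotents. -/
theorem star (hinj : Function.Injective (algebraMap D V))
    (hmax : maximalIdeal T ≤ (maximalIdeal D).map (algebraMap D T))
    (hres : ∀ s : T, ∃ a : D, s - algebraMap D T a ∈ maximalIdeal T)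
    (t : D) (ht : t ∈ maximalIdeal D) (ht0 : t ≠ 0) (x : T) (n : ℕ)
    (hx : x ^ 2 = (algebraMap D T t) ^ n * x) : x = 0 ∨ x = (algebraMap D T t) ^ n := by
  classical
  obtain ⟨π, hπ⟩ := IsDiscreteValuationRing.exists_irreducible V
  have hπmax : maximalIdeal V = Ideal.span {π} :=
    (IsDiscreteValuationRing.irreducible_iff_uniformizer π).mp hπ
  have hlocDV : IsLocalHom (algebraMap D V) :=
    RingHom.IsIntegral.isLocalHom (algebraMap_isIntegral_iff.mpr inferInstance) hinj
  have htV0 : algebraMap D V t ≠ 0 := fun h => ht0 (hinj (h.trans (map_zero _).symm))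
  obtain ⟨e, u, hu⟩ := IsDiscreteValuationRing.eq_unit_mul_pow_irreducible htV0 hπ
  have he : e ≠ 0 := by
    rintro rfl
    rw [pow_zero, mul_one] at hu
    have h1 : IsUnit (algebraMap D V t) := hu ▸ u.isUnit
    exact ht (isUnit_of_map_unit (algebraMap D V) t h1)
  -- elements of `E`
  obtain ⟨πE, hπE⟩ : ∃ y : V ⊗[D] T, y = π ⊗ₜ[D] (1 : T) := ⟨_, rfl⟩
  obtain ⟨uE, huE⟩ : ∃ y : V ⊗[D] T, y = (u : V) ⊗ₜ[D] (1 : T) := ⟨_, rfl⟩
  obtain ⟨tE, htE⟩ : ∃ y : V ⊗[D] T, y = (1 : V) ⊗ₜ[D] (algebraMap D T t) := ⟨_, rfl⟩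
  have htE' : tE = uE * πE ^ e := by
    rw [htE, huE, hπE, Algebra.TensorProduct.tmul_pow, one_pow, Algebra.TensorProduct.tmul_mul_tmul,
      one_mul, ← hu, Algebra.algebraMap_eq_smul_one t, ← TensorProduct.smul_tmul,
      Algebra.algebraMap_eq_smul_one t]
  have huEunit : IsUnit uE := by
    rw [huE]
    exact u.isUnit.map (Algebra.TensorProduct.includeLeft : V →ₐ[D] V ⊗[D] T)
  have hπreg : ∀ a b : V ⊗[D] T, πE * a = πE * b → a = b := by
    have h1 : IsSMulRegular (V ⊗[D] T) (algebraMap V (V ⊗[D] T) π) :=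
      IsSMulRegular.of_flat (IsRegular.of_ne_zero hπ.ne_zero).left.isSMulRegular
    intro a b hab
    apply h1
    show algebraMap V (V ⊗[D] T) π * a = algebraMap V (V ⊗[D] T) π * b
    rw [Algebra.TensorProduct.algebraMap_apply,
      Algebra.algebraMap_self, RingHom.id_apply, ← hπE]
    exact hab
  have hπpowreg : ∀ (k : ℕ) (a b : V ⊗[D] T), πE ^ k * a = πE ^ k * b → a = b := by
    intro k
    induction k with
    | zero => intro a b hab; simpa using hab
    | succ k ih =>
      intro a b hab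
      rw [pow_succ, mul_assoc, mul_assoc] at hab
      exact hπreg a b (ih _ _ hab)
  have htT : algebraMap D T t ∈ maximalIdeal T := (map_mem_nonunits_iff (algebraMap D T) t).mpr ht
  have hπJac : ∀ M : Ideal (V ⊗[D] T), M.IsMaximal → πE ∈ M := by
    intro M hM
    haveI := hM
    have h1 : tE ∈ M := by
      rw [htE]
      exact includeRight_mem_maximal M _ htT
    rw [htE'] at h1
    have h2 : πE ^ e ∈ M := (hM.isPrime.mem_or_mem h1).resolve_left
      (fun h => hM.ne_top (Ideal.eq_top_of_isUnit_mem _ h huEunit))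
    exact hM.isPrime.mem_of_pow_mem _ h2
  have hVmem : ∀ v : V, v ∈ maximalIdeal V → v ⊗ₜ[D] (1 : T) ∈ Ideal.span {πE} := by
    intro v hv
    rw [hπmax, Ideal.mem_span_singleton'] at hv
    obtain ⟨w, rfl⟩ := hv
    rw [Ideal.mem_span_singleton']
    refine ⟨w ⊗ₜ[D] (1 : T), ?_⟩
    rw [hπE, Algebra.TensorProduct.tmul_mul_tmul, one_mul]
  have hmTE' : ∀ s : T, s ∈ Submodule.span T ((algebraMap D T) '' (maximalIdeal D : Set D)) →
      (1 : V) ⊗ₜ[D] s ∈ Ideal.span {πE} := by
    intro s hs'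
    induction hs' using Submodule.span_induction with
    | mem y hy =>
      obtain ⟨a, ha, rfl⟩ := hy
      have h1 : (1 : V) ⊗ₜ[D] (algebraMap D T a) = (algebraMap D V a) ⊗ₜ[D] (1 : T) := by
        rw [Algebra.algebraMap_eq_smul_one a, ← TensorProduct.smul_tmul,
          Algebra.algebraMap_eq_smul_one a]
      rw [h1]
      exact hVmem _ ((map_mem_nonunits_iff (algebraMap D V) a).mpr ha)
    | zero => rw [TensorProduct.tmul_zero]; exact Ideal.zero_mem _
    | add y z _ _ hy hz => rw [TensorProduct.tmul_add]; exact Ideal.add_mem _ hy hz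
    | smul c y _ hy =>
      have : (1 : V) ⊗ₜ[D] (c • y) = ((1 : V) ⊗ₜ[D] c) * ((1 : V) ⊗ₜ[D] y) := by
        rw [Algebra.TensorProduct.tmul_mul_tmul, one_mul, smul_eq_mul]
      rw [this]
      exact Ideal.mul_mem_left _ _ hy
  have hmTE : ∀ s ∈ maximalIdeal T, (1 : V) ⊗ₜ[D] s ∈ Ideal.span {πE} :=
    fun s hs => hmTE' s (hmax hs)
  have hunit : ∀ y : V ⊗[D] T, y ∉ Ideal.span {πE} → IsUnit y := by
    intro y hy
    by_contra hnu
    obtain ⟨M, hM, hyM⟩ := exists_max_ideal_of_mem_nonunits hnu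
    obtain ⟨v, hv⟩ := Groth.Agent.Lib.Helper9.BrnchCpl.exists_sub_mem_map D V T hres y
    have hle : (maximalIdeal T).map
        (Algebra.TensorProduct.includeRight : T →ₐ[D] V ⊗[D] T).toRingHom ≤ Ideal.span {πE} := by
      rw [Ideal.map_le_iff_le_comap]
      intro s hs
      exact hmTE s hs
    have hv' := hle hv
    have hspanM : Ideal.span {πE} ≤ M := by
      rw [Ideal.span_singleton_le_iff_mem]
      exact hπJac M hM
    have hvM : v ⊗ₜ[D] (1 : T) ∈ M := by
      have := M.sub_mem hyM (hspanM hv')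
      rwa [sub_sub_cancel] at this
    by_cases hvm : v ∈ maximalIdeal V
    · apply hy
      have := Ideal.add_mem _ hv' (hVmem v hvm)
      rwa [sub_add_cancel] at this
    · have hvu : IsUnit v := by
        by_contra h
        exact hvm h
      have : IsUnit (v ⊗ₜ[D] (1 : T)) :=
        hvu.map (Algebra.TensorProduct.includeLeft : V →ₐ[D] V ⊗[D] T)
      exact hM.ne_top (Ideal.eq_top_of_isUnit_mem _ hvM this)
  have hinjE : Function.Injective
      (Algebra.TensorProduct.includeRight : T →ₐ[D] V ⊗[D] T) :=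
    Algebra.TensorProduct.includeRight_injective hinj
  haveI hEnt : Nontrivial (V ⊗[D] T) := by
    refine ⟨⟨(Algebra.TensorProduct.includeRight : T →ₐ[D] V ⊗[D] T) 0,
      (Algebra.TensorProduct.includeRight : T →ₐ[D] V ⊗[D] T) 1, fun h => ?_⟩⟩
    exact zero_ne_one (hinjE h)
  have hidem : ∀ y : V ⊗[D] T, y * y = y → y ∈ Ideal.span {πE} → y = 0 := by
    intro y hyy hy
    have h1 : IsUnit (1 - y) := by
      by_contra hnu
      obtain ⟨M, hM, hyM⟩ := exists_max_ideal_of_mem_nonunits hnu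
      have hspanM : Ideal.span {πE} ≤ M := by
        rw [Ideal.span_singleton_le_iff_mem]
        exact hπJac M hM
      have := M.add_mem hyM (hspanM hy)
      rw [sub_add_cancel] at this
      exact hM.ne_top ((Ideal.eq_top_iff_one M).mpr this)
    have h2 : (1 - y) * y = 0 := by rw [sub_mul, one_mul, hyy, sub_self]
    exact h1.mul_right_eq_zero.mp h2
  have hdecomp : ∀ y : V ⊗[D] T, (∀ m : ℕ, y ∈ Ideal.span {πE ^ m}) ∨
      ∃ (k : ℕ) (w : V ⊗[D] T), IsUnit w ∧ y = πE ^ k * w := by
    intro y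
    by_cases h : ∀ m : ℕ, y ∈ Ideal.span {πE ^ m}
    · exact Or.inl h
    · right
      push Not at h
      have hfind := Nat.find_spec h
      have hmin := fun m => Nat.find_min h (m := m)
      obtain ⟨m, hm⟩ : ∃ m, m = Nat.find h := ⟨_, rfl⟩
      rw [← hm] at hfind hmin
      cases m with
      | zero =>
        exfalso
        apply hfind
        rw [pow_zero, Ideal.span_singleton_one]
        trivial
      | succ k =>
        have hk : y ∈ Ideal.span {πE ^ k} := by
          by_contra hk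
          exact hmin k (Nat.lt_succ_self k) hk
        rw [Ideal.mem_span_singleton'] at hk
        obtain ⟨w, hw⟩ := hk
        refine ⟨k, w, hunit w ?_, by rw [← hw, mul_comm]⟩
        intro hwπ
        apply hfind
        rw [Ideal.mem_span_singleton'] at hwπ ⊢
        obtain ⟨z, hz⟩ := hwπ
        exact ⟨z, by rw [← hw, ← hz, pow_succ]; ring⟩
  -- the element
  obtain ⟨X, hXdef⟩ : ∃ X : V ⊗[D] T, X = (1 : V) ⊗ₜ[D] x := ⟨_, rfl⟩
  have hX : X * X = tE ^ n * X := by
    rw [hXdef, htE, Algebra.TensorProduct.tmul_pow, one_pow, Algebra.TensorProduct.tmul_mul_tmul,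
      Algebra.TensorProduct.tmul_mul_tmul, one_mul, ← pow_two, hx]
  have htEreg : ∀ (k : ℕ) (a b : V ⊗[D] T), tE ^ k * a = tE ^ k * b → a = b := by
    intro k a b hab
    rw [htE', mul_pow, mul_assoc, mul_assoc] at hab
    have h1 := (huEunit.pow k).mul_left_cancel hab
    rw [← pow_mul] at h1
    exact hπpowreg _ _ _ h1
  rcases hdecomp X with hB | ⟨k, w, hw, hXw⟩
  · left
    have h1 := hB (e * n + 1)
    rw [Ideal.mem_span_singleton'] at h1
    obtain ⟨z, hz⟩ := h1
    obtain ⟨c, hc⟩ := huEunit.exists_right_inv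
    obtain ⟨y', hy'⟩ : ∃ y' : V ⊗[D] T, y' = c ^ n * (πE * z) := ⟨_, rfl⟩
    have hXy : X = tE ^ n * y' := by
      rw [hy', htE', mul_pow, ← hz, ← pow_mul]
      have : uE ^ n * c ^ n = 1 := by rw [← mul_pow, hc, one_pow]
      calc z * πE ^ (e * n + 1) = (πE ^ (e * n)) * (πE * z) := by rw [pow_succ]; ring
        _ = (uE ^ n * c ^ n) * ((πE ^ (e * n)) * (πE * z)) := by
          rw [this, one_mul]
        _ = _ := by ring
    have hy'mem : y' ∈ Ideal.span {πE} := by
      rw [hy', Ideal.mem_span_singleton']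
      exact ⟨c ^ n * z, by ring⟩
    have hy'idem : y' * y' = y' := by
      apply htEreg (n + n)
      have h2 := hX
      rw [hXy] at h2
      calc tE ^ (n + n) * (y' * y') = tE ^ n * y' * (tE ^ n * y') := by rw [pow_add]; ring
        _ = tE ^ n * (tE ^ n * y') := h2
        _ = tE ^ (n + n) * y' := by rw [pow_add]; ring
    have hy'0 := hidem y' hy'idem hy'mem
    rw [hy'0, mul_zero] at hXy
    apply hinjE
    rw [map_zero]
    show (1 : V) ⊗ₜ[D] x = 0
    rw [← hXdef, hXy]
  · right
    have hXreg : ∀ a b : V ⊗[D] T, X * a = X * b → a = b := by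
      intro a b hab
      rw [hXw, mul_assoc, mul_assoc] at hab
      exact hw.mul_left_cancel (hπpowreg k _ _ hab)
    have h1 : X = tE ^ n := by
      apply hXreg
      rw [hX, mul_comm]
    apply hinjE
    show (1 : V) ⊗ₜ[D] x = (1 : V) ⊗ₜ[D] ((algebraMap D T t) ^ n)
    rw [← hXdef, h1, htE, Algebra.TensorProduct.tmul_pow, one_pow]

end Star


section Unique

variable {T : Type u} [CommRing T] [IsLocalRing T] [IsNoetherianRing T] [Ring.KrullDimLE 1 T]

/-- a one-dimensional Noetherian local ring with an element `τ` of the maximal ideal outside all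
minimal primes, such that `T[1/τ]` has only trivial idempotents, has a unique minimal prime. -/
theorem minimalPrimes_subsingleton (τ : T) (hτm : τ ∈ maximalIdeal T)
    (hτ : ∀ P ∈ minimalPrimes T, τ ∉ P)
    (hstar : ∀ (x : T) (n : ℕ), x ^ 2 = τ ^ n * x → x = 0 ∨ x = τ ^ n)
    (P₁ P₂ : Ideal T) (h₁ : P₁ ∈ minimalPrimes T) (h₂ : P₂ ∈ minimalPrimes T) : P₁ = P₂ := by
  classical
  by_contra hne
  have hfin : (minimalPrimes T).Finite := minimalPrimes.finite_of_isNoetherianRing T
  obtain ⟨J, hJ⟩ : ∃ J : Ideal T, J = (hfin.toFinset.erase P₁).inf id := ⟨_, rfl⟩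
  have hP₁prime : P₁.IsPrime := h₁.1.1
  have hP₂prime : P₂.IsPrime := h₂.1.1
  have hJP₂ : J ≤ P₂ := by
    rw [hJ]
    exact Finset.inf_le (f := id) (Finset.mem_erase.mpr ⟨fun h => hne h.symm, hfin.mem_toFinset.mpr h₂⟩)
  have hnil : P₁ ⊓ J ≤ nilradical T := by
    have h1 : P₁ ⊓ J = hfin.toFinset.inf id := by
      rw [hJ, ← Finset.insert_erase (hfin.mem_toFinset.mpr h₁), Finset.inf_insert, id,
        Finset.erase_insert_eq_erase, Finset.erase_idem]
    rw [h1, nilradical, ← Ideal.sInf_minimalPrimes]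
    intro x hx
    rw [Ideal.mem_sInf]
    intro Q hQ
    have h2 : hfin.toFinset.inf id ≤ Q := Finset.inf_le (f := id) (hfin.mem_toFinset.mpr hQ)
    exact h2 hx
  have hrad : maximalIdeal T ≤ (P₁ ⊔ J).radical := by
    rw [Ideal.radical_eq_sInf]
    refine le_sInf ?_
    rintro Q ⟨hQle, hQprime⟩
    have hP₁Q : P₁ ≤ Q := le_sup_left.trans hQle
    have hJQ : J ≤ Q := le_sup_right.trans hQle
    rw [hJ] at hJQ
    obtain ⟨Pj, hPj, hPjQ⟩ := (Ideal.IsPrime.inf_le' hQprime).mp hJQ
    rw [Finset.mem_erase] at hPj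
    have hPjmin : Pj ∈ minimalPrimes T := hfin.mem_toFinset.mp hPj.2
    rcases (Ring.krullDimLE_one_iff.mp inferInstance) Q hQprime with hQmin | hQmax
    · exfalso
      have e1 : P₁ = Q := le_antisymm hP₁Q (hQmin.2 ⟨hP₁prime, bot_le⟩ hP₁Q)
      have e2 : Pj = Q := le_antisymm hPjQ (hQmin.2 ⟨hPjmin.1.1, bot_le⟩ hPjQ)
      exact hPj.1 (e2.trans e1.symm)
    · exact (IsLocalRing.eq_maximalIdeal hQmax).ge
  obtain ⟨a, ha⟩ := Ideal.mem_radical_iff.mp (hrad hτm)
  obtain ⟨p, hp, j, hj, hpj⟩ := Submodule.mem_sup.mp ha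
  have hpjnil : p * j ∈ nilradical T := hnil ⟨Ideal.mul_mem_right _ _ hp, Ideal.mul_mem_left _ _ hj⟩
  obtain ⟨b, hb⟩ := hpjnil
  obtain ⟨c, hc⟩ : ∃ c : ℕ, c = b + 1 := ⟨_, rfl⟩
  have hpjc : (p * j) ^ c = 0 := by rw [hc, pow_succ, hb, zero_mul]
  have hmem : (p + j) ^ (c + c) ∈ Ideal.span {p} ^ c ⊔ Ideal.span {j} ^ c := by
    apply Ideal.sup_pow_add_le_pow_sup_pow
    apply Ideal.pow_mem_pow
    exact Ideal.add_mem _ (Ideal.mem_sup_left (Ideal.mem_span_singleton_self p))
      (Ideal.mem_sup_right (Ideal.mem_span_singleton_self j))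
  rw [Ideal.span_singleton_pow, Ideal.span_singleton_pow] at hmem
  obtain ⟨α, hα, β, hβ, hαβ⟩ := Submodule.mem_sup.mp hmem
  rw [Ideal.mem_span_singleton'] at hα hβ
  obtain ⟨r, hr⟩ := hα
  obtain ⟨r', hr'⟩ := hβ
  have hαβ0 : α * β = 0 := by
    rw [← hr, ← hr']
    calc r * p ^ c * (r' * j ^ c) = r * r' * (p * j) ^ c := by rw [mul_pow]; ring
      _ = 0 := by rw [hpjc, mul_zero]
  have hτpow : τ ^ (a * (c + c)) = α + β := by rw [pow_mul, ← hpj, hαβ]
  have hαsq : α ^ 2 = τ ^ (a * (c + c)) * α := by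
    rw [hτpow, add_mul, mul_comm β α, hαβ0, add_zero, pow_two]
  have hcpos : c ≠ 0 := by rw [hc]; exact Nat.succ_ne_zero b
  rcases hstar α _ hαsq with h0 | h1
  · rw [h0, zero_add] at hτpow
    have h3 : τ ^ (a * (c + c)) ∈ P₂ := by
      rw [hτpow, ← hr']
      exact hJP₂ (Ideal.mul_mem_left _ _ (Ideal.pow_mem_of_mem _ hj _ (Nat.pos_of_ne_zero hcpos)))
    exact hτ P₂ h₂ (hP₂prime.mem_of_pow_mem _ h3)
  · have h3 : τ ^ (a * (c + c)) ∈ P₁ := by
      rw [← h1, ← hr]
      exact Ideal.mul_mem_left _ _ (Ideal.pow_mem_of_mem _ hp _ (Nat.pos_of_ne_zero hcpos))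
    exact hτ P₁ h₁ (hP₁prime.mem_of_pow_mem _ h3)

end Unique


section Combine

variable {D T V : Type u} [CommRing D] [IsLocalRing D] [CommRing V] [IsDomain V]
  [IsDiscreteValuationRing V] [Algebra D V] [Algebra.IsIntegral D V]
  [CommRing T] [IsLocalRing T] [Algebra D T] [IsLocalHom (algebraMap D T)] [Module.Flat D T]
  [IsNoetherianRing T] [Ring.KrullDimLE 1 T]

/-- **Lemma U**: a flat local one-dimensional Noetherian algebra `T` with the same residue field and
`𝔪_D T = 𝔪_T` over a local domain `D` admitting an integral injective map to a DVR has a unique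
minimal prime. -/
theorem minimalPrimes_eq (hinj : Function.Injective (algebraMap D V))
    (hmax : maximalIdeal T ≤ (maximalIdeal D).map (algebraMap D T))
    (hres : ∀ s : T, ∃ a : D, s - algebraMap D T a ∈ maximalIdeal T)
    (P₁ P₂ : Ideal T) (h₁ : P₁ ∈ minimalPrimes T) (h₂ : P₂ ∈ minimalPrimes T) : P₁ = P₂ := by
  haveI hDdom : IsDomain D := hinj.isDomain (algebraMap D V)
  obtain ⟨t, ht, ht0⟩ : ∃ t : D, t ∈ maximalIdeal D ∧ t ≠ 0 := by
    by_contra hcon
    push Not at hcon
    have hfield : IsField D := by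
      rw [IsLocalRing.isField_iff_maximalIdeal_eq]
      exact (Submodule.eq_bot_iff _).mpr hcon
    have hVfield : IsField V := isField_of_isIntegral_of_isField' (R := D) (S := V) hfield
    exact IsDiscreteValuationRing.not_isField V hVfield
  have hτm : algebraMap D T t ∈ maximalIdeal T := (map_mem_nonunits_iff (algebraMap D T) t).mpr ht
  have hreg : IsSMulRegular T (algebraMap D T t) :=
    IsSMulRegular.of_flat (IsRegular.of_ne_zero ht0).left.isSMulRegular
  have hτ : ∀ P ∈ minimalPrimes T, algebraMap D T t ∉ P := by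
    intro P hP hmem
    refine notMem_nonZeroDivisors_of_mem_mem_minimalPrimes hmem hP ?_
    rw [mem_nonZeroDivisors_iff_right]
    intro y hy
    apply hreg
    show algebraMap D T t * y = algebraMap D T t * 0
    rw [mul_zero, mul_comm]
    exact hy
  exact minimalPrimes_subsingleton (algebraMap D T t) hτm hτ
    (fun x n hx => star (V := V) hinj hmax hres t ht ht0 x n hx) P₁ P₂ h₁ h₂

end Combine


section Hens

variable {S T' : Type u} [CommRing S] [IsNoetherianRing S]
  [HenselianLocalRing S] [Ring.KrullDimLE 1 S]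
  [CommRing T'] [IsLocalRing T'] [IsNoetherianRing T'] [Ring.KrullDimLE 1 T'] [Algebra S T']
  [IsLocalHom (algebraMap S T')] [Module.Flat S T']

set_option maxHeartbeats 800000 in
set_option synthInstance.maxHeartbeats 100000 in
/-- **Lemma U'**: for a one-dimensional henselian Noetherian local ring `S` and a flat local
one-dimensional Noetherian `S`-algebra `T'` with `𝔪_S T' = 𝔪_{T'}` and the same residue field, the
extension of a non-maximal minimal prime of `S` has prime radical. -/
theorem radical_map_isPrime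
    (hmax : maximalIdeal T' ≤ (maximalIdeal S).map (algebraMap S T'))
    (hres : ∀ s : T', ∃ a : S, s - algebraMap S T' a ∈ maximalIdeal T')
    (q : Ideal S) (hq : q ∈ minimalPrimes S) (hqm : q ≠ maximalIdeal S) :
    (q.map (algebraMap S T')).radical.IsPrime := by
  classical
  haveI hqprime : q.IsPrime := hq.1.1
  -- the domain `D = S/q`
  haveI hDdom : IsDomain (S ⧸ q) := (Ideal.Quotient.isDomain_iff_prime q).mpr hqprime
  haveI hDloc : IsLocalRing (S ⧸ q) :=
    IsLocalRing.of_surjective' (Ideal.Quotient.mk q) Ideal.Quotient.mk_surjective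
  haveI hDint : Algebra.IsIntegral S (S ⧸ q) :=
    Algebra.IsIntegral.of_surjective (Algebra.ofId S _) Ideal.Quotient.mk_surjective
  haveI hDhens : HenselianLocalRing (S ⧸ q) := Hzn.henselianLocalRing_of_isIntegral S _
  haveI hDdim1 : Ring.KrullDimLE 1 (S ⧸ q) :=
    Ring.krullDimLE_iff.mpr ((ringKrullDim_quotient_le q).trans (Ring.krullDimLE_iff.mp inferInstance))
  have hDnf : ¬ IsField (S ⧸ q) := by
    intro hf
    have hqmax : q.IsMaximal := Ideal.Quotient.maximal_of_isField q hf
    exact hqm (IsLocalRing.eq_maximalIdeal hqmax)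
  have hDdim : ringKrullDim (S ⧸ q) = 1 := by
    refine eq_of_le_of_not_lt (Ring.krullDimLE_iff (n := 1).mp inferInstance) fun h => ?_
    have : Ring.KrullDimLE 0 (S ⧸ q) := Ring.krullDimLE_iff.mpr (ENat.WithBot.lt_add_one_iff.mp h)
    exact hDnf Ring.KrullDimLE.isField_of_isDomain
  -- the DVR `V`
  obtain ⟨hVded, hVnf, -⟩ := Groth.Agent.Lib.Helper21.KA.normalization_facts (S ⧸ q)
    (FractionRing (S ⧸ q)) hDdim
  haveI hVloc : IsLocalRing (integralClosure (S ⧸ q) (FractionRing (S ⧸ q))) :=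
    Groth.Agent.Lib.Helper12.HensInt.isLocalRing_of_isDomain_of_isIntegral (S ⧸ q) _
  haveI hVdvr : IsDiscreteValuationRing (integralClosure (S ⧸ q) (FractionRing (S ⧸ q))) :=
    ((IsDiscreteValuationRing.TFAE _ hVnf).out 0 2).mpr hVded
  have hinj : Function.Injective (algebraMap (S ⧸ q)
      (integralClosure (S ⧸ q) (FractionRing (S ⧸ q)))) := by
    intro a b hab
    have := congrArg (algebraMap (integralClosure (S ⧸ q) (FractionRing (S ⧸ q)))
      (FractionRing (S ⧸ q))) hab
    rw [← IsScalarTower.algebraMap_apply, ← IsScalarTower.algebraMap_apply] at this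
    exact IsFractionRing.injective _ _ this
  -- the ring `T = T'/qT'`
  have hIle : q.map (algebraMap S T') ≤ maximalIdeal T' := by
    refine (Ideal.map_mono (IsLocalRing.le_maximalIdeal hqprime.ne_top)).trans ?_
    exact ((IsLocalRing.local_hom_TFAE (algebraMap S T')).out 0 2 rfl rfl).mp inferInstance
  have hIne : q.map (algebraMap S T') ≠ ⊤ := fun h =>
    (IsLocalRing.maximalIdeal.isMaximal T').ne_top (top_le_iff.mp (h ▸ hIle))
  haveI hTnt : Nontrivial (T' ⧸ q.map (algebraMap S T')) := Ideal.Quotient.nontrivial_iff.mpr hIne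
  haveI hTloc : IsLocalRing (T' ⧸ q.map (algebraMap S T')) :=
    IsLocalRing.of_surjective' (Ideal.Quotient.mk _) Ideal.Quotient.mk_surjective
  haveI hmkloc : IsLocalHom (Ideal.Quotient.mk (q.map (algebraMap S T'))) :=
    IsLocalHom.of_surjective _ Ideal.Quotient.mk_surjective
  haveI hmkloc' : IsLocalHom (Ideal.Quotient.mk q) :=
    IsLocalHom.of_surjective _ Ideal.Quotient.mk_surjective
  have hcomm : ∀ s : S, algebraMap (S ⧸ q) (T' ⧸ q.map (algebraMap S T')) (Ideal.Quotient.mk q s) =
      Ideal.Quotient.mk _ (algebraMap S T' s) := fun s => rfl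
  haveI hDTloc : IsLocalHom (algebraMap (S ⧸ q) (T' ⧸ q.map (algebraMap S T'))) := by
    refine ⟨fun d hd => ?_⟩
    obtain ⟨s, rfl⟩ := Ideal.Quotient.mk_surjective d
    rw [hcomm] at hd
    have h1 : IsUnit (algebraMap S T' s) := isUnit_of_map_unit (Ideal.Quotient.mk _) _ hd
    exact (isUnit_of_map_unit (algebraMap S T') s h1).map _
  haveI hTflat : Module.Flat (S ⧸ q) (T' ⧸ q.map (algebraMap S T')) :=
    Module.Flat.of_linearEquiv
      (Algebra.TensorProduct.quotIdealMapEquivQuotTensor T' q).toLinearEquiv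
  haveI hTdim1 : Ring.KrullDimLE 1 (T' ⧸ q.map (algebraMap S T')) :=
    Ring.krullDimLE_iff.mpr ((ringKrullDim_quotient_le _).trans (Ring.krullDimLE_iff.mp inferInstance))
  have hmemT : ∀ x : T', x ∈ maximalIdeal T' →
      Ideal.Quotient.mk (q.map (algebraMap S T')) x ∈
        maximalIdeal (T' ⧸ q.map (algebraMap S T')) := fun x hx =>
    (map_mem_nonunits_iff (Ideal.Quotient.mk (q.map (algebraMap S T'))) x).mpr hx
  have hmaxT : maximalIdeal (T' ⧸ q.map (algebraMap S T')) ≤
      (maximalIdeal (S ⧸ q)).map (algebraMap (S ⧸ q) (T' ⧸ q.map (algebraMap S T'))) := by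
    intro y hy
    obtain ⟨x, rfl⟩ := Ideal.Quotient.mk_surjective y
    have hx : x ∈ maximalIdeal T' :=
      (map_mem_nonunits_iff (Ideal.Quotient.mk (q.map (algebraMap S T'))) x).mp hy
    have h1 : Ideal.Quotient.mk (q.map (algebraMap S T')) x ∈
        ((maximalIdeal S).map (algebraMap S T')).map (Ideal.Quotient.mk _) :=
      Ideal.mem_map_of_mem _ (hmax hx)
    rw [Ideal.map_map] at h1
    have h2 : (Ideal.Quotient.mk (q.map (algebraMap S T'))).comp (algebraMap S T') =
        (algebraMap (S ⧸ q) (T' ⧸ q.map (algebraMap S T'))).comp (Ideal.Quotient.mk q) :=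
      RingHom.ext fun s => (hcomm s).symm
    rw [h2, ← Ideal.map_map] at h1
    refine Ideal.map_mono ?_ h1
    exact ((IsLocalRing.local_hom_TFAE (Ideal.Quotient.mk q)).out 0 2 rfl rfl).mp inferInstance
  have hresT : ∀ y : T' ⧸ q.map (algebraMap S T'), ∃ a : S ⧸ q,
      y - algebraMap (S ⧸ q) (T' ⧸ q.map (algebraMap S T')) a ∈
        maximalIdeal (T' ⧸ q.map (algebraMap S T')) := by
    intro y
    obtain ⟨x, rfl⟩ := Ideal.Quotient.mk_surjective y
    obtain ⟨a, ha⟩ := hres x
    refine ⟨Ideal.Quotient.mk q a, ?_⟩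
    rw [hcomm, ← map_sub]
    exact hmemT _ ha
  have huniq := minimalPrimes_eq (D := S ⧸ q) (T := T' ⧸ q.map (algebraMap S T'))
    (V := integralClosure (S ⧸ q) (FractionRing (S ⧸ q))) hinj hmaxT hresT
  -- conclude
  obtain ⟨P, hP⟩ := Ideal.nonempty_minimalPrimes hIne
  have hrad : (q.map (algebraMap S T')).radical = P := by
    apply le_antisymm
    · exact (Ideal.IsPrime.radical_le_iff hP.1.1).mpr hP.1.2
    · rw [← Ideal.sInf_minimalPrimes]
      refine le_sInf fun Q hQ => ?_
      rw [Ideal.minimalPrimes_eq_comap] at hP hQ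
      obtain ⟨P', hP', rfl⟩ := hP
      obtain ⟨Q', hQ', rfl⟩ := hQ
      rw [huniq P' Q' hP' hQ']
  rw [hrad]
  exact hP.1.1

end Hens


section Main

theorem ne_maximalIdeal_of_mem_minimalPrimes {R : Type u} [CommRing R] [IsLocalRing R]
    (h : ringKrullDim R = 1) (q : Ideal R) (hq : q ∈ minimalPrimes R) : q ≠ maximalIdeal R := by
  intro heq
  have h0 : Ring.KrullDimLE 0 R := by
    rw [Ring.krullDimLE_zero_iff]
    intro I hI
    have h1 : I ≤ q := heq ▸ IsLocalRing.le_maximalIdeal hI.ne_top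
    have h2 : q ≤ I := hq.2 ⟨hI, bot_le⟩ h1
    have h3 : I = maximalIdeal R := (le_antisymm h1 h2).trans heq
    rw [h3]
    infer_instance
  have h1 : ringKrullDim R ≤ 0 := Ring.krullDimLE_iff.mp h0
  rw [h] at h1
  exact absurd h1 (by decide)

variable (A : Type u) [CommRing A] [IsLocalRing A] [IsNoetherianRing A]

set_option maxHeartbeats 800000 in
set_option synthInstance.maxHeartbeats 100000 in
theorem numBranches_eq (hA : ringKrullDim A = 1) :
    Brnch.numBranches (AdicCompletion (maximalIdeal A) A) = Brnch.numBranches A := by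
  haveI hH := BrnchCompl.henselianLocalRing_adicCompletion A
  haveI hTn : IsNoetherianRing (AdicCompletion (maximalIdeal A) A) :=
    Groth.Agent.Lib.Helper21.isNoetherianRing_adicCompletion_of_fg _ (IsNoetherian.noetherian _)
  obtain ⟨ψ, hψ, -⟩ := (Hzn.Hz.isHenselization (R := A)).universal
    (AdicCompletion (maximalIdeal A) A) (algebraMap A (AdicCompletion (maximalIdeal A) A))
    inferInstance
  rw [eq_comm, Groth.Agent.S9243.result A (Hzn.Hz A) ψ hψ]
  intro q hq
  letI : Algebra (Hzn.Hz A) (AdicCompletion (maximalIdeal A) A) := ψ.toAlgebra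
  haveI : IsScalarTower A (Hzn.Hz A) (AdicCompletion (maximalIdeal A) A) :=
    IsScalarTower.of_algebraMap_eq (fun a => (congrArg (fun F => F a) hψ).symm)
  haveI hff := Hzn.faithfullyFlat_completion_of_isHenselization A (Hzn.Hz A)
  haveI hSn : IsNoetherianRing (Hzn.Hz A) := Hzn.Hz.isNoetherianRing A
  haveI hSd : Ring.KrullDimLE 1 (Hzn.Hz A) :=
    Ring.krullDimLE_iff.mpr (by rw [Hzn.Hz.ringKrullDim_eq, hA]; rfl)
  haveI hTd : Ring.KrullDimLE 1 (AdicCompletion (maximalIdeal A) A) :=
    Ring.krullDimLE_iff.mpr (by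
      rw [Groth.Agent.Lib.Helper18.FormEq.ringKrullDim_cpl A, hA]; rfl)
  have hmapeq : (maximalIdeal (Hzn.Hz A)).map (algebraMap (Hzn.Hz A)
      (AdicCompletion (maximalIdeal A) A)) = maximalIdeal (AdicCompletion (maximalIdeal A) A) := by
    rw [← Hzn.Hz.map_maximalIdeal, Ideal.map_map, ← IsScalarTower.algebraMap_eq]
    exact Groth.Agent.Lib.Helper18.FormEq.map_maximalIdeal_cpl A
  haveI hloc : IsLocalHom (algebraMap (Hzn.Hz A) (AdicCompletion (maximalIdeal A) A)) :=
    ((IsLocalRing.local_hom_TFAE _).out 0 2 rfl rfl).mpr hmapeq.le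
  have hres : ∀ s : AdicCompletion (maximalIdeal A) A, ∃ a : Hzn.Hz A,
      s - algebraMap (Hzn.Hz A) (AdicCompletion (maximalIdeal A) A) a ∈
        maximalIdeal (AdicCompletion (maximalIdeal A) A) := by
    intro s
    obtain ⟨a, ha⟩ := Groth.Agent.Lib.Helper9.BrnchCpl.exists_sub_mem_cpl A s
    refine ⟨algebraMap A (Hzn.Hz A) a, ?_⟩
    rw [← IsScalarTower.algebraMap_apply]
    exact ha
  have hqm : q ≠ maximalIdeal (Hzn.Hz A) :=
    ne_maximalIdeal_of_mem_minimalPrimes (by rw [Hzn.Hz.ringKrullDim_eq, hA]) q hq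
  exact radical_map_isPrime (S := Hzn.Hz A) (T' := AdicCompletion (maximalIdeal A) A)
    hmapeq.ge hres q hq hqm


set_option maxHeartbeats 1600000 in
set_option synthInstance.maxHeartbeats 100000 in
theorem numGeomBranches_eq (hA : ringKrullDim A = 1) :
    Brnch.numGeomBranches (AdicCompletion (maximalIdeal A) A) = Brnch.numGeomBranches A := by
  haveI hTn : IsNoetherianRing (AdicCompletion (maximalIdeal A) A) :=
    Groth.Agent.Lib.Helper21.isNoetherianRing_adicCompletion_of_fg _ (IsNoetherian.noetherian _)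
  rw [← Groth.Agent.S9238.result (AdicCompletion (maximalIdeal A) A)
      (Hzs.Hs (AdicCompletion (maximalIdeal A) A)),
    ← Groth.Agent.S9238.result A (Hzs.Hs A)]
  -- the map `σ`
  obtain ⟨f, hfdef⟩ : ∃ f : A →+* Hzs.Hs (AdicCompletion (maximalIdeal A) A),
      f = (algebraMap (AdicCompletion (maximalIdeal A) A)
        (Hzs.Hs (AdicCompletion (maximalIdeal A) A))).comp
        (algebraMap A (AdicCompletion (maximalIdeal A) A)) := ⟨_, rfl⟩
  haveI hf : IsLocalHom f := hfdef ▸ RingHom.isLocalHom_comp _ _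
  have hW : Hensel.IsStrictHenselization A (Hzs.Hs A) := inferInstance
  have hT : Hensel.IsStrictHenselization (AdicCompletion (maximalIdeal A) A)
      (Hzs.Hs (AdicCompletion (maximalIdeal A) A)) := inferInstance
  haveI hscT : IsSepClosed (ResidueField (Hzs.Hs (AdicCompletion (maximalIdeal A) A))) :=
    hT.isSepClosure.sep_closed
  haveI hscW : IsSepClosed (ResidueField (Hzs.Hs A)) := hW.isSepClosure.sep_closed
  haveI hsepW : Algebra.IsSeparable (ResidueField A) (ResidueField (Hzs.Hs A)) :=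
    hW.isSepClosure.separable
  haveI hsepT : Algebra.IsSeparable (ResidueField (AdicCompletion (maximalIdeal A) A))
      (ResidueField (Hzs.Hs (AdicCompletion (maximalIdeal A) A))) := hT.isSepClosure.separable
  letI algk : Algebra (ResidueField A)
      (ResidueField (Hzs.Hs (AdicCompletion (maximalIdeal A) A))) :=
    (ResidueField.map f).toAlgebra
  -- separability over `κ(A)`
  have hbij : Function.Bijective (ResidueField.map (algebraMap A (AdicCompletion (maximalIdeal A) A))) :=
    AdicCompletion.residueField_map_bijective_of_fg (maximalIdeal A).fg_of_isNoetherianRing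
  haveI hsepk : Algebra.IsSeparable (ResidueField A)
      (ResidueField (Hzs.Hs (AdicCompletion (maximalIdeal A) A))) := by
    refine Algebra.IsSeparable.of_equiv_equiv
      (RingEquiv.ofBijective (ResidueField.map (algebraMap A (AdicCompletion (maximalIdeal A) A)))
        hbij).symm (RingEquiv.refl _) ?_
    refine RingHom.ext fun x => ?_
    obtain ⟨y, rfl⟩ := hbij.2 x
    simp only [RingHom.comp_apply]
    have h1 : (RingEquiv.ofBijective (ResidueField.map (algebraMap A
        (AdicCompletion (maximalIdeal A) A))) hbij).symm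
        (ResidueField.map (algebraMap A (AdicCompletion (maximalIdeal A) A)) y) = y :=
      (RingEquiv.ofBijective _ hbij).symm_apply_apply y
    rw [RingHom.coe_coe, h1]
    obtain ⟨a, rfl⟩ := residue_surjective y
    show ResidueField.map f (residue A a) = _
    rw [ResidueField.map_residue, ResidueField.map_residue, hfdef]
    rfl
  obtain ⟨τ⟩ : Nonempty (ResidueField (Hzs.Hs A) →ₐ[ResidueField A]
      ResidueField (Hzs.Hs (AdicCompletion (maximalIdeal A) A))) := ⟨IsSepClosed.lift⟩
  have hτ : (τ : _ →+* ResidueField (Hzs.Hs (AdicCompletion (maximalIdeal A) A))).comp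
      (ResidueField.map (algebraMap A (Hzs.Hs A))) = ResidueField.map f :=
    RingHom.ext fun x => τ.commutes x
  have hτsurj : Function.Surjective τ := by
    intro y
    have hint : IsIntegral (ResidueField A) y := Algebra.IsSeparable.isIntegral _ y
    have hsep : (minpoly (ResidueField A) y).Separable :=
      Algebra.IsSeparable.isSeparable (ResidueField A) y
    have hspl : ((minpoly (ResidueField A) y).map
        (algebraMap (ResidueField A) (ResidueField (Hzs.Hs A)))).Splits :=
      IsSepClosed.splits_codomain _ hsep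
    exact hint.mem_range_algHom_of_minpoly_splits hspl τ
  obtain ⟨σ, ⟨hσ1, hσ2⟩, -⟩ := hW.universal (Hzs.Hs (AdicCompletion (maximalIdeal A) A)) f
    (τ : _ →+* _) hτ
  letI algA : Algebra A (Hzs.Hs (AdicCompletion (maximalIdeal A) A)) := f.toAlgebra
  letI algS : Algebra (Hzs.Hs A) (Hzs.Hs (AdicCompletion (maximalIdeal A) A)) := σ.toAlgebra
  haveI htow : IsScalarTower A (Hzs.Hs A) (Hzs.Hs (AdicCompletion (maximalIdeal A) A)) :=
    IsScalarTower.of_algebraMap_eq (fun a => (congrArg (fun F => F a) hσ1).symm)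
  haveI htow2 : IsScalarTower A (AdicCompletion (maximalIdeal A) A)
      (Hzs.Hs (AdicCompletion (maximalIdeal A) A)) :=
    IsScalarTower.of_algebraMap_eq (fun a => by
      show f a = _
      rw [hfdef]; rfl)
  haveI hfl1 : Module.FaithfullyFlat (AdicCompletion (maximalIdeal A) A)
      (Hzs.Hs (AdicCompletion (maximalIdeal A) A)) :=
    Hzs.faithfullyFlat_of_isStrictHenselization _ _
  haveI hfl2 : Module.Flat A (Hzs.Hs (AdicCompletion (maximalIdeal A) A)) :=
    Module.Flat.trans A (AdicCompletion (maximalIdeal A) A) _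
  have hwe : Algebra.WeaklyEtale A (Hzs.Hs A) := IndEt.weaklyEtale_of_isStrictHenselization A _
  haveI hfl3 : Module.Flat (Hzs.Hs A) (Hzs.Hs (AdicCompletion (maximalIdeal A) A)) :=
    (IndEt.flat_iff_of_weaklyEtale A (Hzs.Hs A) _).mp hfl2
  have hmapeq : (maximalIdeal (Hzs.Hs A)).map (algebraMap (Hzs.Hs A)
      (Hzs.Hs (AdicCompletion (maximalIdeal A) A))) =
      maximalIdeal (Hzs.Hs (AdicCompletion (maximalIdeal A) A)) := by
    rw [← Hzs.Hs.map_maximalIdeal, Ideal.map_map, ← IsScalarTower.algebraMap_eq,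
      IsScalarTower.algebraMap_eq A (AdicCompletion (maximalIdeal A) A), ← Ideal.map_map,
      Groth.Agent.Lib.Helper18.FormEq.map_maximalIdeal_cpl A, Hzs.Hs.map_maximalIdeal]
  haveI hloc : IsLocalHom (algebraMap (Hzs.Hs A) (Hzs.Hs (AdicCompletion (maximalIdeal A) A))) :=
    ((IsLocalRing.local_hom_TFAE _).out 0 2 rfl rfl).mpr hmapeq.le
  haveI hff : Module.FaithfullyFlat (Hzs.Hs A) (Hzs.Hs (AdicCompletion (maximalIdeal A) A)) :=
    Module.FaithfullyFlat.of_flat_of_isLocalHom
  haveI hSn : IsNoetherianRing (Hzs.Hs A) := Hzs.Hs.isNoetherianRing A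
  haveI hTn' : IsNoetherianRing (Hzs.Hs (AdicCompletion (maximalIdeal A) A)) :=
    Hzs.Hs.isNoetherianRing _
  haveI hSd : Ring.KrullDimLE 1 (Hzs.Hs A) :=
    Ring.krullDimLE_iff.mpr (by rw [Hzs.Hs.ringKrullDim_eq, hA]; rfl)
  haveI hTd : Ring.KrullDimLE 1 (Hzs.Hs (AdicCompletion (maximalIdeal A) A)) :=
    Ring.krullDimLE_iff.mpr (by
      rw [Hzs.Hs.ringKrullDim_eq, Groth.Agent.Lib.Helper18.FormEq.ringKrullDim_cpl A, hA]; rfl)
  have hres : ∀ s : Hzs.Hs (AdicCompletion (maximalIdeal A) A), ∃ a : Hzs.Hs A,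
      s - algebraMap (Hzs.Hs A) (Hzs.Hs (AdicCompletion (maximalIdeal A) A)) a ∈
        maximalIdeal (Hzs.Hs (AdicCompletion (maximalIdeal A) A)) := by
    intro s
    obtain ⟨z, hz⟩ := hτsurj (residue _ s)
    obtain ⟨a, rfl⟩ := residue_surjective z
    refine ⟨a, ?_⟩
    rw [← residue_eq_zero_iff, map_sub, sub_eq_zero]
    show residue _ s = residue _ (σ a)
    rw [hσ2 a]
    exact hz.symm
  rw [eq_comm, BrnchCompl.card_eq_iff_radical_isPrime (minimalPrimes.finite_of_isNoetherianRing _)
    (minimalPrimes.finite_of_isNoetherianRing _)]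
  intro q hq
  have hqm : q ≠ maximalIdeal (Hzs.Hs A) :=
    ne_maximalIdeal_of_mem_minimalPrimes (by rw [Hzs.Hs.ringKrullDim_eq, hA]) q hq
  exact radical_map_isPrime (S := Hzs.Hs A) (T' := Hzs.Hs (AdicCompletion (maximalIdeal A) A))
    hmapeq.ge hres q hq hqm

theorem main (hA : ringKrullDim A = 1) :
    Brnch.numBranches (AdicCompletion (IsLocalRing.maximalIdeal A) A) = Brnch.numBranches A ∧
      Brnch.numGeomBranches (AdicCompletion (IsLocalRing.maximalIdeal A) A) =
        Brnch.numGeomBranches A :=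
  ⟨numBranches_eq A hA, numGeomBranches_eq A hA⟩

end Main

end Groth.Agent.Lib.Helper9.BrnchDim1
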