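import Mathlib
import Groth.Agent.Lib.Helper6.NormalTotalFrac

set_option autoImplicit false
universe u

namespace Groth.Agent.Lib.Helper9.PtFunAlg

open IsLocalRing

/-- A Noetherian integrally closed local domain whose maximal ideal is a colon ideal `(c : z)` with
`c ∤ z` is a discrete valuation ring. -/
theorem isDiscreteValuationRing_of_colon {R : Type*} [CommRing R] [IsDomain R] [IsNoetherianRing R]
    [IsLocalRing R] [IsIntegrallyClosed R] (c z : R) (hc : c ≠ 0)
    (hz : ∀ w, w ∈ maximalIdeal R ↔ ∃ r, w * z = c * r) (hzc : ¬ c ∣ z) :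
    IsDiscreteValuationRing R := by
  have hcm : c ∈ maximalIdeal R := (hz c).mpr ⟨z, rfl⟩
  have hnf : ¬ IsField R := by
    rw [IsLocalRing.isField_iff_maximalIdeal_eq]
    intro h0
    rw [h0] at hcm
    exact hc (by simpa using hcm)
  have hz0 : z ≠ 0 := fun h0 => hzc (h0 ▸ dvd_zero c)
  have hprinc : (maximalIdeal R).IsPrincipal := by
    by_cases hall : ∀ w ∈ maximalIdeal R, ∀ r, w * z = c * r → r ∈ maximalIdeal R
    · exfalso
      let K := FractionRing R
      let N : Submodule R K := Submodule.map (Algebra.linearMap R K) (maximalIdeal R)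
      have hcK : algebraMap R K c ≠ 0 := by
        intro h0
        exact hc ((IsFractionRing.injective R K) (by rw [h0, map_zero]))
      have hN : N ≠ ⊥ := by
        intro h0
        have : algebraMap R K c ∈ N := ⟨c, hcm, rfl⟩
        rw [h0, Submodule.mem_bot] at this
        exact hcK this
      have hN' : N.FG := Submodule.FG.map _ (IsNoetherian.noetherian _)
      have hx : ∀ n ∈ N, (algebraMap R K z / algebraMap R K c) • n ∈ N := by
        rintro n ⟨w, hw, rfl⟩
        obtain ⟨r, hr⟩ := (hz w).mp hw
        refine ⟨r, hall w hw r hr, ?_⟩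
        simp only [Algebra.linearMap_apply, smul_eq_mul]
        rw [div_mul_eq_mul_div, eq_div_iff hcK, ← map_mul, ← map_mul, mul_comm r c, ← hr, mul_comm]
      have hint : IsIntegral R (algebraMap R K z / algebraMap R K c) :=
        isIntegral_of_smul_mem_submodule (M := K) N hN hN' _ hx
      obtain ⟨r, hr⟩ := IsIntegrallyClosed.isIntegral_iff.mp hint
      apply hzc
      refine ⟨r, ?_⟩
      apply IsFractionRing.injective R K
      rw [map_mul, hr, mul_div_cancel₀ _ hcK]
    · push Not at hall
      obtain ⟨w, hw, r, hr, hrm⟩ := hall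
      have hru : IsUnit r := IsLocalRing.notMem_maximalIdeal.mp hrm
      obtain ⟨u, rfl⟩ := hru
      refine ⟨⟨w * ↑u⁻¹, ?_⟩⟩
      have hw' : w * ↑u⁻¹ * z = c := by
        calc w * ↑u⁻¹ * z = (w * z) * ↑u⁻¹ := by ring
          _ = c * (↑u * ↑u⁻¹) := by rw [hr]; ring
          _ = c := by rw [Units.mul_inv, mul_one]
      apply le_antisymm
      · intro v hv
        obtain ⟨r', hr'⟩ := (hz v).mp hv
        rw [Submodule.mem_span_singleton]
        refine ⟨r', ?_⟩
        have : (r' * (w * ↑u⁻¹) - v) * z = 0 := by
          rw [sub_mul, hr', mul_assoc, hw']; ring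
        rcases mul_eq_zero.mp this with h | h
        · rw [smul_eq_mul]; exact sub_eq_zero.mp h
        · exact absurd h hz0
      · rw [Submodule.span_singleton_le_iff_mem]
        exact Ideal.mul_mem_right _ _ hw
  exact ((IsDiscreteValuationRing.TFAE R hnf).out 4 0).mp hprinc

theorem mem_colon_iff {B : Type*} [CommRing B] (c z w : B) :
    w ∈ (⊥ : Submodule B (B ⧸ Ideal.span {c})).colon {Ideal.Quotient.mk _ z} ↔
      ∃ r, w * z = c * r := by
  rw [Submodule.mem_colon_singleton, Submodule.mem_bot]
  change Ideal.Quotient.mk _ (w * z) = 0 ↔ _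
  rw [Ideal.Quotient.eq_zero_iff_mem, Ideal.mem_span_singleton]
  exact Iff.rfl

/-- In a Noetherian integrally closed domain, divisibility can be checked in the localizations that
are discrete valuation rings. -/
theorem dvd_of_forall_dvr {B : Type u} [CommRing B] [IsDomain B] [IsNoetherianRing B]
    [IsIntegrallyClosed B] (b c : B) (hc : c ≠ 0)
    (h : ∀ (P : Ideal B) [P.IsPrime], IsDiscreteValuationRing (Localization.AtPrime P) →
      algebraMap B (Localization.AtPrime P) c ∣ algebraMap B (Localization.AtPrime P) b) :
    c ∣ b := by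
  by_contra hne
  have hne' : (Ideal.Quotient.mk (Ideal.span {c}) b) ≠ 0 := by
    intro h0
    rw [Ideal.Quotient.eq_zero_iff_mem, Ideal.mem_span_singleton] at h0
    exact hne h0
  obtain ⟨P, hP, hle⟩ := exists_le_isAssociatedPrime_of_isNoetherianRing B _ hne'
  obtain ⟨hPp, zbar, hz⟩ := isAssociatedPrime_iff.mp hP
  obtain ⟨z, rfl⟩ := Ideal.Quotient.mk_surjective zbar
  have hPz : ∀ w, w ∈ P ↔ ∃ r, w * z = c * r := by
    intro w
    rw [hz]
    exact mem_colon_iff c z w
  set S := Localization.AtPrime P with hS
  have : IsIntegrallyClosed S :=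
    isIntegrallyClosed_of_isLocalization S P.primeCompl P.primeCompl_le_nonZeroDivisors
  have hinj : Function.Injective (algebraMap B S) :=
    IsLocalization.injective S P.primeCompl_le_nonZeroDivisors
  have hcS : algebraMap B S c ≠ 0 := fun h0 => hc (hinj (by rw [h0, map_zero]))
  have hdvr : IsDiscreteValuationRing S := by
    refine isDiscreteValuationRing_of_colon (algebraMap B S c) (algebraMap B S z) hcS ?_ ?_
    · intro x
      obtain ⟨w, t, rfl⟩ := IsLocalization.exists_mk'_eq P.primeCompl x
      rw [IsLocalization.AtPrime.mk'_mem_maximal_iff S P w t, hPz]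
      constructor
      · rintro ⟨r, hr⟩
        refine ⟨IsLocalization.mk' S r t, ?_⟩
        rw [mul_comm (IsLocalization.mk' S w t), IsLocalization.mul_mk'_eq_mk'_of_mul,
          IsLocalization.mul_mk'_eq_mk'_of_mul, mul_comm z w, hr]
      · rintro ⟨r, hr⟩
        obtain ⟨r', t', rfl⟩ := IsLocalization.exists_mk'_eq P.primeCompl r
        rw [mul_comm (IsLocalization.mk' S w t), IsLocalization.mul_mk'_eq_mk'_of_mul,
          IsLocalization.mul_mk'_eq_mk'_of_mul, IsLocalization.mk'_eq_iff_eq] at hr
        have h2 := hinj hr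
        -- t' * (z * w) = t * (c * r')
        have h3 : (t' : B) * w ∈ P := (hPz _).mpr ⟨t * r', by linear_combination h2⟩
        rcases hPp.mem_or_mem h3 with h4 | h4
        · exact absurd h4 t'.2
        · exact (hPz w).mp h4
    · rintro ⟨r, hr⟩
      obtain ⟨r', t', rfl⟩ := IsLocalization.exists_mk'_eq P.primeCompl r
      rw [IsLocalization.mul_mk'_eq_mk'_of_mul, IsLocalization.eq_mk'_iff_mul_eq, ← map_mul] at hr
      have h2 := hinj hr
      have h3 : (t' : B) ∈ P := (hPz _).mpr ⟨r', by linear_combination h2⟩
      exact t'.2 h3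
  obtain ⟨r, hr⟩ := h P hdvr
  obtain ⟨r', t', rfl⟩ := IsLocalization.exists_mk'_eq P.primeCompl r
  rw [IsLocalization.mul_mk'_eq_mk'_of_mul, IsLocalization.eq_mk'_iff_mul_eq, ← map_mul] at hr
  have h2 := hinj hr
  have h3 : (t' : B) ∈ (⊥ : Submodule B (B ⧸ Ideal.span {c})).colon {Ideal.Quotient.mk _ b} :=
    (mem_colon_iff c b _).mpr ⟨r', by linear_combination h2⟩
  exact t'.2 (hle h3)

section normal

variable {A : Type u} [CommRing A] [IsReduced A] [IsNoetherianRing A] [IsIntegrallyClosed A]

theorem normal_localization (p : Ideal A) [p.IsPrime] :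
    IsDomain (Localization.AtPrime p) ∧ IsIntegrallyClosed (Localization.AtPrime p) :=
  Groth.Agent.Lib.Helper6.NormalTotalFrac.normal_of_integrallyClosed_in_totalFrac
    (FractionRing A) (minimalPrimes.finite_of_isNoetherianRing A)
    (fun x hx => by
      obtain ⟨c, hc⟩ := IsIntegrallyClosed.isIntegral_iff.mp hx
      exact ⟨c, hc.symm⟩) p

omit [IsReduced A] [IsNoetherianRing A] [IsIntegrallyClosed A] in
/-- If `A_m` is a domain and `η ⊆ m` is a minimal prime, then `ker (A → A_m) = η`. -/
theorem ker_algebraMap_localization (η : Ideal A) (hη : η ∈ minimalPrimes A) (m : Ideal A)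
    [m.IsPrime] (hle : η ≤ m) [IsDomain (Localization.AtPrime m)] :
    RingHom.ker (algebraMap A (Localization.AtPrime m)) = η := by
  have hηp : η.IsPrime := hη.1.1
  have h1 : RingHom.ker (algebraMap A (Localization.AtPrime m)) ≤ η := by
    intro a ha
    rw [RingHom.mem_ker, IsLocalization.map_eq_zero_iff m.primeCompl] at ha
    obtain ⟨s, hs⟩ := ha
    have : (s : A) * a ∈ η := by rw [hs]; exact η.zero_mem
    rcases hηp.mem_or_mem this with h | h
    · exact absurd (hle h) s.2
    · exact h
  have hkp : (RingHom.ker (algebraMap A (Localization.AtPrime m))).IsPrime :=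
    RingHom.ker_isPrime _
  exact le_antisymm h1 (hη.2 ⟨hkp, bot_le⟩ h1)

/-- Minimal primes of a normal Noetherian ring are pairwise comaximal. -/
theorem isCoprime_minimalPrimes (η η' : Ideal A) (hη : η ∈ minimalPrimes A)
    (hη' : η' ∈ minimalPrimes A) (hne : η ≠ η') : IsCoprime η η' := by
  rw [Ideal.isCoprime_iff_sup_eq]
  by_contra htop
  obtain ⟨m, hm, hle⟩ := Ideal.exists_le_maximal _ htop
  have : m.IsPrime := hm.isPrime
  have := (normal_localization m).1
  apply hne
  rw [← ker_algebraMap_localization η hη m (le_sup_left.trans hle),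
    ← ker_algebraMap_localization η' hη' m (le_sup_right.trans hle)]

/-- **Ring-level core.**  `A` reduced Noetherian, integrally closed in its total ring of
fractions; `η` a minimal prime, `c ∉ η`.  If `φ c ∣ φ b` for every homomorphism `φ` to a discrete
valuation ring with kernel `η`, then `b ≡ c a` modulo `η` for some `a`. -/
theorem exists_sub_mul_mem (η : Ideal A) (hη : η ∈ minimalPrimes A) (b c : A) (hc : c ∉ η)
    (H : ∀ (R : Type u) [CommRing R] [IsDomain R] [IsDiscreteValuationRing R] (φ : A →+* R),
      RingHom.ker φ = η → φ c ∣ φ b) :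
    ∃ a, b - c * a ∈ η := by
  have hηp : η.IsPrime := hη.1.1
  have key : b ∈ η ⊔ Ideal.span {c} := by
    apply Ideal.mem_of_localization_maximal
    intro m hm
    have : m.IsPrime := hm.isPrime
    by_cases hle : η ≤ m
    · have hdom := (normal_localization m).1
      have hic := (normal_localization m).2
      have hker := ker_algebraMap_localization η hη m hle
      set S := Localization.AtPrime m with hS
      have hcS : algebraMap A S c ≠ 0 := by
        intro h0
        apply hc
        rw [← hker, RingHom.mem_ker, h0]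
      have hdvd : algebraMap A S c ∣ algebraMap A S b := by
        apply dvd_of_forall_dvr _ _ hcS
        intro P hP hdvr
        have hinj : Function.Injective (algebraMap S (Localization.AtPrime P)) :=
          IsLocalization.injective _ P.primeCompl_le_nonZeroDivisors
        have := H (Localization.AtPrime P)
          ((algebraMap S (Localization.AtPrime P)).comp (algebraMap A S)) (by
            rw [← hker]
            ext a
            simp only [RingHom.mem_ker, RingHom.comp_apply]
            exact ⟨fun h => hinj (by rw [h, map_zero]), fun h => by rw [h, map_zero]⟩)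
        exact this
      obtain ⟨r, hr⟩ := hdvd
      rw [Ideal.map_sup, Ideal.map_span, Set.image_singleton]
      apply Ideal.mem_sup_right
      rw [Ideal.mem_span_singleton]
      exact ⟨r, hr⟩
    · obtain ⟨s, hsη, hsm⟩ := Set.not_subset.mp hle
      have : Ideal.map (algebraMap A (Localization.AtPrime m)) η = ⊤ := by
        apply Ideal.eq_top_of_isUnit_mem _ (Ideal.mem_map_of_mem _ hsη)
        exact IsLocalization.map_units _ (⟨s, hsm⟩ : m.primeCompl)
      rw [Ideal.map_sup, this, top_sup_eq]
      trivial
  obtain ⟨n, hn, y, hy, hny⟩ := Submodule.mem_sup.mp key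
  obtain ⟨a, rfl⟩ := Ideal.mem_span_singleton'.mp hy
  refine ⟨a, ?_⟩
  have : b - c * a = n := by rw [← hny]; ring
  rw [this]
  exact hn

/-- Chinese remainder theorem for the minimal primes of a normal Noetherian ring. -/
theorem exists_forall_sub_mem_minimalPrimes (x : minimalPrimes A → A) :
    ∃ a : A, ∀ η : minimalPrimes A, a - x η ∈ (η : Ideal A) := by
  have : Finite (minimalPrimes A) := (minimalPrimes.finite_of_isNoetherianRing A).to_subtype
  apply Ideal.exists_forall_sub_mem_ideal (I := fun η : minimalPrimes A => (η : Ideal A))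
  intro η η' hne
  exact isCoprime_minimalPrimes η.1 η'.1 η.2 η'.2 (fun h => hne (Subtype.ext h))

end normal

end Groth.Agent.Lib.Helper9.PtFunAlg
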