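import Mathlib
import Groth.Agent.Lib.Helper9.PtFunAlg

set_option autoImplicit false
universe u

namespace Groth.Agent.Lib.Helper9.C2Flat

open IsLocalRing

/-- chain of three primes gives dimension at least two of the quotient -/
theorem two_le_dim_quotient_of_chain {S : Type*} [CommRing S] (Q P n : Ideal S)
    [hQ : Q.IsPrime] [hP : P.IsPrime] [hn : n.IsPrime]
    (h1 : Q < P) (h2 : P < n) : (2 : WithBot ℕ∞) ≤ ringKrullDim (S ⧸ Q) := by
  rw [ringKrullDim_quotient]
  let x0 : PrimeSpectrum.zeroLocus (R := S) Q := ⟨⟨Q, hQ⟩, by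
    simp [PrimeSpectrum.mem_zeroLocus]⟩
  let x1 : PrimeSpectrum.zeroLocus (R := S) Q := ⟨⟨P, hP⟩, by
    simpa [PrimeSpectrum.mem_zeroLocus] using h1.le⟩
  let x2 : PrimeSpectrum.zeroLocus (R := S) Q := ⟨⟨n, hn⟩, by
    simpa [PrimeSpectrum.mem_zeroLocus] using (h1.trans h2).le⟩
  have h01 : x0 < x1 := by
    show (⟨Q, hQ⟩ : PrimeSpectrum S) < ⟨P, hP⟩
    exact (PrimeSpectrum.asIdeal_lt_asIdeal _ _).mp h1
  have h12 : x1 < x2 := by
    show (⟨P, hP⟩ : PrimeSpectrum S) < ⟨n, hn⟩
    exact (PrimeSpectrum.asIdeal_lt_asIdeal _ _).mp h2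
  let l : LTSeries (PrimeSpectrum.zeroLocus (R := S) Q) :=
    ((RelSeries.singleton _ x0).snoc x1 (by simpa using h01)).snoc x2 (by simpa using h12)
  have hl : l.length = 2 := by simp [l]
  have := Order.LTSeries.length_le_krullDim l
  rw [hl] at this
  exact_mod_cast this

/-- in a Noetherian normal local domain of dimension at least two, there is a regular pair -/
theorem exists_regular_pair (R : Type*) [CommRing R] [IsDomain R] [IsNoetherianRing R]
    [IsLocalRing R] [IsIntegrallyClosed R] (hdim : (2 : WithBot ℕ∞) ≤ ringKrullDim R) :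
    ∃ a b : R, a ∈ maximalIdeal R ∧ b ∈ maximalIdeal R ∧ a ≠ 0 ∧ ∀ r, a ∣ b * r → a ∣ r := by
  have hnf : ¬ IsField R := by
    intro hF
    have := ringKrullDim_eq_zero_of_isField hF
    rw [this] at hdim
    exact absurd hdim (by decide)
  obtain ⟨a, ham, ha0⟩ : ∃ a ∈ maximalIdeal R, a ≠ 0 := by
    by_contra hcon
    push Not at hcon
    apply hnf
    rw [IsLocalRing.isField_iff_maximalIdeal_eq]
    exact (Submodule.eq_bot_iff _).mpr hcon
  by_contra hcon
  push Not at hcon
  -- every element of the maximal ideal is a zero divisor on R/a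
  have hzd : ∀ b ∈ maximalIdeal R, ∃ r, a ∣ b * r ∧ ¬ a ∣ r := fun b hb => hcon a b ham hb ha0
  let M := R ⧸ Ideal.span ({a} : Set R)
  have hfin : (associatedPrimes R M).Finite := associatedPrimes.finite R M
  have hsub : ((maximalIdeal R : Ideal R) : Set R) ⊆ ⋃ p ∈ associatedPrimes R M, (p : Set R) := by
    rw [biUnion_associatedPrimes_eq_zero_divisors]
    intro b hb
    obtain ⟨r, hr1, hr2⟩ := hzd b hb
    refine ⟨Ideal.Quotient.mk _ r, ?_, ?_⟩
    · rw [Ne, Ideal.Quotient.eq_zero_iff_mem, Ideal.mem_span_singleton]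
      exact hr2
    · show b • (Ideal.Quotient.mk (Ideal.span ({a} : Set R)) r) = 0
      rw [← Ideal.Quotient.mk_eq_mk, ← Submodule.Quotient.mk_smul, Ideal.Quotient.mk_eq_mk,
        Ideal.Quotient.eq_zero_iff_mem, Ideal.mem_span_singleton]
      exact hr1
  obtain ⟨P, hP, hle⟩ : ∃ P ∈ associatedPrimes R M, maximalIdeal R ≤ P := by
    have := (Ideal.subset_union_prime_finite hfin (f := fun p => p) 0 0
      (fun p hp _ _ => (AssociatedPrimes.mem_iff.mp hp).isPrime)).mp hsub
    exact this
  have hPp : P.IsPrime := (AssociatedPrimes.mem_iff.mp hP).isPrime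
  have hPm : P = maximalIdeal R :=
    le_antisymm (IsLocalRing.le_maximalIdeal hPp.ne_top) hle
  obtain ⟨-, z, hz⟩ := (isAssociatedPrime_iff.mp (AssociatedPrimes.mem_iff.mp hP))
  obtain ⟨z0, rfl⟩ := Ideal.Quotient.mk_surjective z
  have hcolon : ∀ w, w ∈ maximalIdeal R ↔ ∃ r, w * z0 = a * r := by
    intro w
    rw [← hPm, hz, Submodule.mem_colon_singleton]
    simp only [Submodule.mem_bot]
    rw [← Ideal.Quotient.mk_eq_mk, ← Submodule.Quotient.mk_smul, Ideal.Quotient.mk_eq_mk,
      Ideal.Quotient.eq_zero_iff_mem, Ideal.mem_span_singleton, smul_eq_mul]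
    exact Iff.rfl
  have hnd : ¬ a ∣ z0 := by
    intro hd
    have h1 : (1 : R) ∈ maximalIdeal R := by
      rw [hcolon]
      obtain ⟨r, hr⟩ := hd
      exact ⟨r, by rw [one_mul, hr]⟩
    exact (Ideal.ne_top_iff_one _).mp (IsLocalRing.maximalIdeal.isMaximal R).ne_top h1
  have hdvr : IsDiscreteValuationRing R :=
    Groth.Agent.Lib.Helper9.PtFunAlg.isDiscreteValuationRing_of_colon a z0 ha0 hcolon hnd
  have h1 : ringKrullDim R ≤ 1 := by
    have : Ring.KrullDimLE 1 R := inferInstance
    exact Ring.krullDimLE_iff.mp this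
  have : (2 : WithBot ℕ∞) ≤ 1 := hdim.trans h1
  exact absurd this (by decide)


/-- flat transfer of a nonzerodivisor of a domain -/
theorem eq_zero_of_flat {R S : Type*} [CommRing R] [IsDomain R] [CommRing S] [Algebra R S]
    [Module.Flat R S] (a : R) (ha : a ≠ 0) (s : S) (h : algebraMap R S a * s = 0) : s = 0 := by
  have hreg : IsSMulRegular S (algebraMap R S a) :=
    IsSMulRegular.of_flat (fun x y h => mul_left_cancel₀ ha (by simpa using h))
  apply hreg
  simpa using h

/-- flat transfer of a regular pair: `b` is a nonzerodivisor modulo `a` in `S`. -/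
theorem dvd_of_flat {R S : Type*} [CommRing R] [IsDomain R] [CommRing S] [Algebra R S]
    [Module.Flat R S] (a b : R) (ha : a ≠ 0) (hab : ∀ r, a ∣ b * r → a ∣ r) (s t : S)
    (h : algebraMap R S b * s = algebraMap R S a * t) : algebraMap R S a ∣ s := by
  have hrel : ∑ i : Fin 2, (![b, a] i) • (![s, -t] i) = 0 := by
    simp [Fin.sum_univ_two, Algebra.smul_def, h]
  obtain ⟨k, α, y, hxy, hα⟩ := Module.Flat.isTrivialRelation_of_sum_smul_eq_zero (R := R) (M := S) (f := ![b, a]) (x := ![s, -t]) hrel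
  have h0 := hxy 0
  simp only [Matrix.cons_val_zero] at h0
  have hdiv : ∀ j, a ∣ α 0 j := by
    intro j
    have := hα j
    simp only [Fin.sum_univ_two, Matrix.cons_val_zero, Matrix.cons_val_one] at this
    apply hab
    refine ⟨- α 1 j, ?_⟩
    linear_combination this
  choose γ hγ using hdiv
  refine ⟨∑ j, γ j • y j, ?_⟩
  rw [h0, Finset.mul_sum]
  refine Finset.sum_congr rfl fun j _ => ?_
  rw [hγ j, Algebra.smul_def, Algebra.smul_def, map_mul]
  ring

/-- The core chain lemma. -/
theorem exists_chain {R S : Type*} [CommRing R] [IsDomain R] [CommRing S] [IsNoetherianRing S]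
    [Algebra R S] [Module.Flat R S] (a b : R) (ha : a ≠ 0) (hab : ∀ r, a ∣ b * r → a ∣ r)
    (hmax : ∀ n : Ideal S, n.IsMaximal → algebraMap R S a ∈ n ∧ algebraMap R S b ∈ n)
    (Q : Ideal S) (hQ : Q ∈ minimalPrimes S) :
    ∃ P n : Ideal S, P.IsPrime ∧ n.IsMaximal ∧ Q < P ∧ P < n := by
  set a' := algebraMap R S a with ha'
  set b' := algebraMap R S b with hb'
  have hQp : Q.IsPrime := hQ.1.1
  -- Q is an annihilator
  obtain ⟨z, hz⟩ : ∃ z : S, Q = (⊥ : Submodule S S).colon {z} := by
    apply Submodule.exists_eq_colon_of_mem_minimalPrimes (x := (1 : S))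
    have : (⊥ : Submodule S S).colon {(1 : S)} = ⊥ := by
      ext s
      rw [Submodule.mem_colon_singleton]
      simp
    rw [this]
    exact hQ
  have hzmem : ∀ s, s ∈ Q ↔ s * z = 0 := by
    intro s
    rw [hz, Submodule.mem_colon_singleton]
    simp
  have hz0 : z ≠ 0 := by
    intro h0
    apply hQp.ne_top
    rw [Ideal.eq_top_iff_one, hzmem, h0, mul_zero]
  -- Krull intersection
  have hjac : Ideal.span ({a'} : Set S) ≤ Ideal.jacobson ⊥ := by
    rw [Ideal.span_singleton_le_iff_mem, Ideal.jacobson, Ideal.mem_sInf]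
    intro n hn
    exact (hmax n hn.2).1
  have hkrull := Ideal.iInf_pow_smul_eq_bot_of_le_jacobson (M := S) _ hjac
  have hex : ∃ k, ¬ a' ^ k ∣ z := by
    by_contra hcon
    push Not at hcon
    apply hz0
    have : z ∈ (⨅ i : ℕ, Ideal.span ({a'} : Set S) ^ i • ⊤ : Submodule S S) := by
      rw [Submodule.mem_iInf]
      intro i
      rw [Ideal.span_singleton_pow, smul_eq_mul, Ideal.mul_top, Ideal.mem_span_singleton]
      exact hcon i
    rw [hkrull] at this
    simpa using this
  classical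
  let k := Nat.find hex
  have hk : ¬ a' ^ k ∣ z := Nat.find_spec hex
  have hk0 : k ≠ 0 := by
    intro h0
    apply hk
    rw [h0, pow_zero]
    exact one_dvd z
  obtain ⟨k', hk'⟩ := Nat.exists_eq_succ_of_ne_zero hk0
  have hk'd : a' ^ k' ∣ z := by
    by_contra hcon
    have := Nat.find_min' hex hcon
    omega
  obtain ⟨z', hz'⟩ := hk'd
  have hz'nd : ¬ a' ∣ z' := by
    rintro ⟨w, hw⟩
    apply hk
    rw [hk', hz', hw, pow_succ]
    exact ⟨w, by ring⟩
  have hapow : ∀ (m : ℕ) (s : S), a' ^ m * s = 0 → s = 0 := by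
    intro m
    induction m with
    | zero => intro s hs; simpa using hs
    | succ m ih =>
      intro s hs
      apply ih
      apply eq_zero_of_flat a ha
      rw [← hs, pow_succ]
      ring
  have hz'mem : ∀ s, s ∈ Q ↔ s * z' = 0 := by
    intro s
    rw [hzmem, hz']
    constructor
    · intro h
      apply hapow k'
      rw [← h]; ring
    · intro h
      rw [show s * (a' ^ k' * z') = a' ^ k' * (s * z') by ring, h, mul_zero]
  -- the colon ideal
  let J : Ideal S := (Ideal.span ({a'} : Set S)).colon {z'}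
  have hJmem : ∀ s, s ∈ J ↔ a' ∣ s * z' := by
    intro s
    show s ∈ (Ideal.span ({a'} : Set S)).colon {z'} ↔ _
    rw [Submodule.mem_colon_singleton, Ideal.mem_span_singleton, smul_eq_mul]
  have hQJ : Q ≤ J := by
    intro s hs
    rw [hJmem, (hz'mem s).mp hs]
    exact dvd_zero _
  have haJ : a' ∈ J := by
    rw [hJmem]
    exact ⟨z', rfl⟩
  have hbpow : ∀ m : ℕ, b' ^ m ∉ J := by
    intro m
    induction m with
    | zero =>
      rw [hJmem, pow_zero, one_mul]
      exact hz'nd
    | succ m ih =>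
      intro h
      apply ih
      rw [hJmem] at h ⊢
      obtain ⟨t, ht⟩ := h
      apply dvd_of_flat a b ha hab (b' ^ m * z') t
      rw [← ht, pow_succ]
      ring
  have hdisj : Disjoint (J : Set S) (Submonoid.powers b' : Set S) := by
    rw [Set.disjoint_left]
    rintro s hs ⟨m, rfl⟩
    exact hbpow m hs
  obtain ⟨P, hPp, hJP, hPdisj⟩ := Ideal.exists_le_prime_disjoint J (Submonoid.powers b') hdisj
  have hbP : b' ∉ P := by
    intro hb
    exact Set.disjoint_left.mp hPdisj hb (Submonoid.mem_powers b')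
  have haQ : a' ∉ Q := by
    intro h
    rw [hzmem] at h
    exact hz0 (eq_zero_of_flat a ha z h)
  obtain ⟨n, hn, hPn⟩ := Ideal.exists_le_maximal P hPp.ne_top
  refine ⟨P, n, hPp, hn, ?_, ?_⟩
  · refine lt_of_le_of_ne (hQJ.trans hJP) ?_
    intro h
    apply haQ
    rw [h]
    exact hJP haJ
  · refine lt_of_le_of_ne hPn ?_
    intro h
    apply hbP
    rw [h]
    exact (hmax n hn).2

end Groth.Agent.Lib.Helper9.C2Flat
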