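import Mathlib
import Groth.Prelude.Def_W4c1hilbchowincPtFun
import Groth.Agent.Lib.Helper21.DVRExt6
import Groth.Agent.Lib.Helper9.PtFunAlg

set_option autoImplicit false
universe u

open AlgebraicGeometry CategoryTheory W4c1hilbchowinc

namespace Groth.Agent.Lib.Helper9.PtFunSch

section basics

variable (A : Type u) [CommRing A]

/-- The identification of `A` with the global sections of `Spec A`. -/
noncomputable def e : A ≃+* Γ(Spec (CommRingCat.of A), ⊤) :=
  (Scheme.ΓSpecIso (CommRingCat.of A)).symm.commRingCatIsoToRingEquiv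

lemma e_apply (a : A) : e A a = (Scheme.ΓSpecIso (CommRingCat.of A)).inv a := rfl

/-- A point of `Spec A` as a prime of `A`. -/
def toPS (x : Spec (CommRingCat.of A)) : PrimeSpectrum A := x

/-- A prime of `A` as a point of `Spec A`. -/
def ofPS (x : PrimeSpectrum A) : Spec (CommRingCat.of A) := x

@[simp] lemma toPS_ofPS (x : PrimeSpectrum A) : toPS A (ofPS A x) = x := rfl
@[simp] lemma ofPS_toPS (x : Spec (CommRingCat.of A)) : ofPS A (toPS A x) = x := rfl

lemma ev_eq_zero_iff (x : Spec (CommRingCat.of A)) (a : A) :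
    (Spec (CommRingCat.of A)).Γevaluation x (e A a) = 0 ↔ a ∈ (toPS A x).asIdeal := by
  refine (Scheme.evaluation_eq_zero_iff_notMem_basicOpen (Spec (CommRingCat.of A)) (U := ⊤) x
    trivial (e A a)).trans ?_
  rw [e_apply, basicOpen_eq_of_affine]
  change ¬ (toPS A x ∈ PrimeSpectrum.basicOpen a) ↔ _
  rw [PrimeSpectrum.mem_basicOpen, not_not]

variable {A}

lemma appTop_e {R : Type u} [CommRing R] (φ : A →+* R) (a : A) :
    (Spec.map (CommRingCat.ofHom φ)).appTop (e A a) = e R (φ a) := by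
  have := Scheme.ΓSpecIso_inv_naturality (CommRingCat.ofHom φ)
  exact (ConcreteCategory.congr_hom this a).symm

lemma eq_zero_of_ev_bot {R : Type u} [CommRing R] [IsDomain R] (q : Spec (CommRingCat.of R))
    (hq : (toPS R q).asIdeal = ⊥) (s : Γ(Spec (CommRingCat.of R), ⊤))
    (hs : (Spec (CommRingCat.of R)).Γevaluation q s = 0) : s = 0 := by
  obtain ⟨r, rfl⟩ := (e R).surjective s
  rw [ev_eq_zero_iff, hq, Ideal.mem_bot] at hs
  rw [hs, map_zero]

end basics

section main

variable (A : Type u) [CommRing A] [IsReduced A] [IsNoetherianRing A] [IsIntegrallyClosed A]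

/-- The value of `f` at a generic point is the value of an element of `A`. -/
theorem exists_generic (f : PtFun (Spec (CommRingCat.of A))) (hf : f.VariesAlongDVR)
    (η : Ideal A) (hη : η ∈ minimalPrimes A) :
    ∃ a : A, ∀ y : Spec (CommRingCat.of A), (toPS A y).asIdeal = η →
      f y = (Spec (CommRingCat.of A)).Γevaluation y (e A a) := by
  have hηp : η.IsPrime := hη.1.1
  obtain ⟨x, hx⟩ : ∃ x : Spec (CommRingCat.of A), x = ofPS A ⟨η, hηp⟩ := ⟨_, rfl⟩
  have hxη : (toPS A x).asIdeal = η := by rw [hx]; rfl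
  obtain ⟨b', c', hc', hfx⟩ := Groth.Agent.Lib.Helper21.DVRExt.residueField_eq_div
    (isAffineOpen_top (Spec (CommRingCat.of A))) x trivial (f x)
  change (Spec (CommRingCat.of A)).Γevaluation x c' ≠ 0 at hc'
  change f x = (Spec (CommRingCat.of A)).Γevaluation x b' /
    (Spec (CommRingCat.of A)).Γevaluation x c' at hfx
  obtain ⟨b, rfl⟩ := (e A).surjective b'
  obtain ⟨c, rfl⟩ := (e A).surjective c'
  have hcη : c ∉ η := by
    intro h
    apply hc'
    rw [ev_eq_zero_iff, hxη]
    exact h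
  have hgen : ∀ y : Spec (CommRingCat.of A), y = x →
      f y = (Spec (CommRingCat.of A)).Γevaluation y (e A b) /
        (Spec (CommRingCat.of A)).Γevaluation y (e A c) := by
    rintro y rfl
    exact hfx
  have hext : ∀ y : Spec (CommRingCat.of A), (toPS A y).asIdeal = η → y = x := by
    intro y hy
    change toPS A y = toPS A x
    exact PrimeSpectrum.ext (hy.trans hxη.symm)
  have H : ∀ (R : Type u) [CommRing R] [IsDomain R] [IsDiscreteValuationRing R] (φ : A →+* R),
      RingHom.ker φ = η → φ c ∣ φ b := by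
    intro R _ _ _ φ hker
    let g : Spec (CommRingCat.of R) ⟶ Spec (CommRingCat.of A) := Spec.map (CommRingCat.ofHom φ)
    obtain ⟨s, hs⟩ := hf R g
    let q₁ : Spec (CommRingCat.of R) := ofPS R ⟨⊥, Ideal.isPrime_bot⟩
    have hq₁ : (toPS R q₁).asIdeal = ⊥ := rfl
    have hgq : g q₁ = x := by
      apply hext
      change Ideal.comap φ ⊥ = η
      rw [← RingHom.ker_eq_comap_bot, hker]
    have h1 := congrFun hs q₁
    change (Spec (CommRingCat.of R)).Γevaluation q₁ s = g.residueFieldMap q₁ (f (g q₁)) at h1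
    rw [hgen _ hgq, map_div₀, Scheme.Γevaluation_naturality_apply,
      Scheme.Γevaluation_naturality_apply, appTop_e, appTop_e] at h1
    obtain ⟨r, rfl⟩ := (e R).surjective s
    have hφc : (Spec (CommRingCat.of R)).Γevaluation q₁ (e R (φ c)) ≠ 0 := by
      rw [Ne, ev_eq_zero_iff, hq₁, Ideal.mem_bot]
      intro h0
      apply hcη
      rw [← hker, RingHom.mem_ker, h0]
    rw [eq_div_iff hφc, ← map_mul, ← map_mul, ← sub_eq_zero, ← map_sub, ← map_sub,
      ev_eq_zero_iff, hq₁, Ideal.mem_bot, sub_eq_zero] at h1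
    exact ⟨r, by rw [← h1, mul_comm]⟩
  obtain ⟨a, ha⟩ := PtFunAlg.exists_sub_mul_mem η hη b c hcη H
  refine ⟨a, ?_⟩
  intro y hy
  rw [hgen y (hext y hy)]
  have h0 : (Spec (CommRingCat.of A)).Γevaluation y (e A (b - c * a)) = 0 :=
    (ev_eq_zero_iff A y _).mpr (hy ▸ ha)
  have hcy : (Spec (CommRingCat.of A)).Γevaluation y (e A c) ≠ 0 := by
    rw [Ne, ev_eq_zero_iff, hy]
    exact hcη
  rw [map_sub, map_mul, map_sub, map_mul, sub_eq_zero] at h0
  rw [h0, mul_div_cancel_left₀ _ hcy]

omit [IsReduced A] [IsIntegrallyClosed A] in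
/-- If `f` agrees with the element `a` at all generic points then it agrees everywhere. -/
theorem eq_of_generic (f : PtFun (Spec (CommRingCat.of A))) (hf : f.VariesAlongDVR) (a : A)
    (ha : ∀ y : Spec (CommRingCat.of A), (toPS A y).asIdeal ∈ minimalPrimes A →
      f y = (Spec (CommRingCat.of A)).Γevaluation y (e A a))
    (y : Spec (CommRingCat.of A)) :
    f y = (Spec (CommRingCat.of A)).Γevaluation y (e A a) := by
  obtain ⟨η, hη, hle⟩ := Ideal.exists_minimalPrimes_le (show (⊥ : Ideal A) ≤ (toPS A y).asIdeal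
    from bot_le)
  have hηp : η.IsPrime := hη.1.1
  obtain ⟨x, hx⟩ : ∃ x : Spec (CommRingCat.of A), x = ofPS A ⟨η, hηp⟩ := ⟨_, rfl⟩
  have hxη : (toPS A x).asIdeal = η := by rw [hx]; rfl
  have hax : ∀ z : Spec (CommRingCat.of A), z = x →
      f z = (Spec (CommRingCat.of A)).Γevaluation z (e A a) := by
    rintro z rfl
    exact ha _ (hxη ▸ hη)
  by_cases hyx : y = x
  · exact hax y hyx
  have hsp : (𝟙 (Spec (CommRingCat.of A)) : _ ⟶ _) x ⤳ y := by
    change toPS A x ⤳ toPS A y
    rw [← PrimeSpectrum.le_iff_specializes, ← PrimeSpectrum.asIdeal_le_asIdeal, hxη]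
    exact hle
  obtain ⟨V, h, hdvr, hcl, hgen⟩ :=
    Groth.Agent.Lib.Helper21.DVRExt.exists_dvr_valuationSubring_of_specializes
      (𝟙 (Spec (CommRingCat.of A))) x y hsp hyx
  obtain ⟨s, hs⟩ := hf V h
  -- the generic point of `Spec V`
  let pt₀ : ↥(Spec ((Spec (CommRingCat.of A)).residueField x)) :=
    IsLocalRing.closedPoint ((Spec (CommRingCat.of A)).residueField x)
  obtain ⟨q₁, hq₁def⟩ : ∃ q₁ : Spec (CommRingCat.of V),
      q₁ = (Spec.map (CommRingCat.ofHom V.subtype)) pt₀ := ⟨_, rfl⟩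
  have hq₁ : (toPS V q₁).asIdeal = ⊥ := by
    rw [hq₁def]
    change Ideal.comap V.subtype (IsLocalRing.maximalIdeal _) = ⊥
    rw [IsLocalRing.maximalIdeal_eq_bot, ← RingHom.ker_eq_comap_bot]
    exact (RingHom.injective_iff_ker_eq_bot _).mp Subtype.val_injective
  have hhq₁ : h q₁ = x := by
    have h2 : ((Spec (CommRingCat.of A)).fromSpecResidueField x) pt₀ = x :=
      Scheme.fromSpecResidueField_apply _ _
    have h3 : (Spec.map (CommRingCat.ofHom V.subtype) ≫ h) pt₀ =
        ((Spec (CommRingCat.of A)).fromSpecResidueField x ≫ 𝟙 _) pt₀ := by rw [hgen]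
    rw [Scheme.Hom.comp_apply, Scheme.Hom.comp_apply, h2] at h3
    rw [hq₁def, h3]
    rfl
  -- compare `s` with the pullback of `a`
  have hss : s = h.appTop (e A a) := by
    rw [← sub_eq_zero]
    apply eq_zero_of_ev_bot q₁ hq₁
    have h1 := congrFun hs q₁
    change (Spec (CommRingCat.of V)).Γevaluation q₁ s = h.residueFieldMap q₁ (f (h q₁)) at h1
    rw [map_sub, h1, hax _ hhq₁, Scheme.Γevaluation_naturality_apply, sub_self]
  obtain ⟨q₀, hq₀⟩ : ∃ q₀ : Spec (CommRingCat.of V), q₀ = IsLocalRing.closedPoint V := ⟨_, rfl⟩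
  rw [← hq₀] at hcl
  have h2 := congrFun hs q₀
  change (Spec (CommRingCat.of V)).Γevaluation q₀ s = h.residueFieldMap q₀ (f (h q₀)) at h2
  rw [hss, ← Scheme.Γevaluation_naturality_apply] at h2
  have h3 := (h.residueFieldMap q₀).hom.injective h2
  subst hcl
  exact h3.symm

theorem main (f : PtFun (Spec (CommRingCat.of A))) (hf : f.VariesAlongDVR) :
    ∃! a : Γ(Spec (CommRingCat.of A), ⊤), PtFun.ofSection (Spec (CommRingCat.of A)) a = f := by
  have hzero : ∀ s : Γ(Spec (CommRingCat.of A), ⊤),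
      (∀ p : Spec (CommRingCat.of A), (Spec (CommRingCat.of A)).Γevaluation p s = 0) → s = 0 := by
    intro s hs
    rw [← basicOpen_eq_bot_iff, Scheme.basicOpen_eq_bot_iff_forall_evaluation_eq_zero]
    intro p
    exact hs p
  -- existence
  choose aη haη using fun η : minimalPrimes A => exists_generic A f hf η.1 η.2
  obtain ⟨a, ha⟩ := PtFunAlg.exists_forall_sub_mem_minimalPrimes aη
  have hgen : ∀ y : Spec (CommRingCat.of A), (toPS A y).asIdeal ∈ minimalPrimes A →
      f y = (Spec (CommRingCat.of A)).Γevaluation y (e A a) := by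
    intro y hy
    rw [haη ⟨_, hy⟩ y rfl]
    have h0 : (Spec (CommRingCat.of A)).Γevaluation y (e A (a - aη ⟨_, hy⟩)) = 0 :=
      (ev_eq_zero_iff A y _).mpr (ha ⟨_, hy⟩)
    rw [map_sub, map_sub, sub_eq_zero] at h0
    exact h0.symm
  refine ⟨e A a, ?_, ?_⟩
  · funext y
    exact (eq_of_generic A f hf a hgen y).symm
  · intro a' ha'
    rw [← sub_eq_zero]
    apply hzero
    intro p
    have h1 := congrFun ha' p
    change (Spec (CommRingCat.of A)).Γevaluation p a' = f p at h1
    rw [map_sub, h1, eq_of_generic A f hf a hgen p, sub_self]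

end main

end Groth.Agent.Lib.Helper9.PtFunSch
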