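import Mathlib
import Groth.Prelude.Def_W4c1hilbchowincPtFun
import Groth.Agent.S0549
import Groth.Agent.Lib.Helper9.PtFunSch

set_option autoImplicit false
universe u

open AlgebraicGeometry CategoryTheory W4c1hilbchowinc IsLocalRing

namespace Groth.Agent.Lib.Helper9.PtFunCpl

open Groth.Agent.Lib.Helper9.PtFunSch

lemma pullback_comp {X Y Z : Scheme.{u}} (j : Z ⟶ Y) (g : Y ⟶ X) (f : PtFun X) :
    f.pullback (j ≫ g) = (f.pullback g).pullback j := by
  funext q
  change (j ≫ g).residueFieldMap q (f ((j ≫ g) q)) =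
    j.residueFieldMap q (g.residueFieldMap (j q) (f (g (j q))))
  rw [Scheme.residueFieldMap_comp]
  rfl

section dvr

variable (R : Type u) [CommRing R] [IsDomain R] [IsDiscreteValuationRing R]

/-- A pointwise function on the spectrum of a discrete valuation ring which becomes algebraic on
the completion is algebraic. -/
theorem isAlgebraic_of_completion (v : PtFun (Spec (CommRingCat.of R)))
    (hv : (v.pullback (Spec.map (CommRingCat.ofHom
      (algebraMap R (AdicCompletion (maximalIdeal R) R))))).IsAlgebraic) :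
    v.IsAlgebraic := by
  obtain ⟨hdom, hdvr⟩ := (Groth.Agent.S0549.result R).mp ⟨inferInstance, inferInstance⟩
  set Rh := AdicCompletion (maximalIdeal R) R with hRh
  set ι : R →+* Rh := algebraMap R Rh with hι
  set j : Spec (CommRingCat.of Rh) ⟶ Spec (CommRingCat.of R) :=
    Spec.map (CommRingCat.ofHom ι) with hj
  have hff : Module.FaithfullyFlat R Rh := Module.FaithfullyFlat.of_flat_of_isLocalHom
  have hinj : Function.Injective ι := FaithfulSMul.algebraMap_injective R Rh
  obtain ⟨sh, hsh⟩ := hv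
  obtain ⟨rh, rfl⟩ := (e Rh).surjective sh
  -- the points
  obtain ⟨q₁, hq₁def⟩ : ∃ q₁ : Spec (CommRingCat.of R), q₁ = ofPS R ⟨⊥, Ideal.isPrime_bot⟩ :=
    ⟨_, rfl⟩
  have hq₁ : (toPS R q₁).asIdeal = ⊥ := by rw [hq₁def]; rfl
  let qh₁ : Spec (CommRingCat.of Rh) := ofPS Rh ⟨⊥, Ideal.isPrime_bot⟩
  let qh₀ : Spec (CommRingCat.of Rh) := ofPS Rh ⟨maximalIdeal Rh, inferInstance⟩
  have hqh₁ : (toPS Rh qh₁).asIdeal = ⊥ := rfl
  have hext : ∀ q q' : Spec (CommRingCat.of R), (toPS R q).asIdeal = (toPS R q').asIdeal →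
      q = q' := by
    intro q q' h
    change toPS R q = toPS R q'
    exact PrimeSpectrum.ext h
  have hj₁ : j qh₁ = q₁ := by
    apply hext
    rw [hq₁]
    change Ideal.comap ι ⊥ = ⊥
    rw [← RingHom.ker_eq_comap_bot]
    exact (RingHom.injective_iff_ker_eq_bot _).mp hinj
  have hj₀ : (toPS R (j qh₀)).asIdeal = maximalIdeal R := by
    change Ideal.comap ι (maximalIdeal Rh) = maximalIdeal R
    have hloc : IsLocalHom ι := by rw [hι]; infer_instance
    have := ((IsLocalRing.local_hom_TFAE ι).out 0 4 :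
      IsLocalHom ι ↔ (maximalIdeal Rh).comap ι = maximalIdeal R).mp hloc
    exact this
  -- the value at the generic point
  obtain ⟨b', c', hc', hfx⟩ := Groth.Agent.Lib.Helper21.DVRExt.residueField_eq_div
    (isAffineOpen_top (Spec (CommRingCat.of R))) q₁ trivial (v q₁)
  change (Spec (CommRingCat.of R)).Γevaluation q₁ c' ≠ 0 at hc'
  change v q₁ = (Spec (CommRingCat.of R)).Γevaluation q₁ b' /
    (Spec (CommRingCat.of R)).Γevaluation q₁ c' at hfx
  obtain ⟨b, rfl⟩ := (e R).surjective b'
  obtain ⟨c, rfl⟩ := (e R).surjective c'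
  have hc0 : c ≠ 0 := by
    intro h
    apply hc'
    rw [ev_eq_zero_iff, hq₁, h]
    exact Ideal.zero_mem _
  have hgen : ∀ y : Spec (CommRingCat.of R), y = q₁ →
      v y = (Spec (CommRingCat.of R)).Γevaluation y (e R b) /
        (Spec (CommRingCat.of R)).Γevaluation y (e R c) := by
    rintro y rfl
    exact hfx
  have hιc : ι c ≠ 0 := fun h => hc0 (hinj (by rw [h, map_zero]))
  have h1 := congrFun hsh qh₁
  change (Spec (CommRingCat.of Rh)).Γevaluation qh₁ (e Rh rh) = j.residueFieldMap qh₁ (v (j qh₁))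
    at h1
  rw [hgen _ hj₁, map_div₀, Scheme.Γevaluation_naturality_apply,
    Scheme.Γevaluation_naturality_apply, appTop_e, appTop_e] at h1
  have hφc : (Spec (CommRingCat.of Rh)).Γevaluation qh₁ (e Rh (ι c)) ≠ 0 := by
    rw [Ne, ev_eq_zero_iff, hqh₁, Ideal.mem_bot]
    exact hιc
  rw [eq_div_iff hφc, ← map_mul, ← map_mul, ← sub_eq_zero, ← map_sub, ← map_sub,
    ev_eq_zero_iff, hqh₁, Ideal.mem_bot, sub_eq_zero] at h1
  -- descend divisibility
  have hb : b ∈ Ideal.span {c} := by
    rw [← Ideal.comap_map_eq_self_of_faithfullyFlat (B := Rh) (Ideal.span {c}), Ideal.mem_comap,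
      Ideal.map_span, Set.image_singleton, Ideal.mem_span_singleton]
    exact ⟨rh, by rw [← h1, mul_comm]⟩
  obtain ⟨s, hs⟩ := Ideal.mem_span_singleton.mp hb
  have hrh : rh = ι s := by
    have : ι c * (rh - ι s) = 0 := by
      rw [mul_sub, mul_comm, h1, hs, map_mul]; ring
    rcases mul_eq_zero.mp this with h | h
    · exact absurd h hιc
    · exact sub_eq_zero.mp h
  refine ⟨e R s, ?_⟩
  funext q
  change (Spec (CommRingCat.of R)).Γevaluation q (e R s) = v q
  by_cases hq : (toPS R q).asIdeal = ⊥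
  · have hqq : q = q₁ := hext _ _ (hq.trans hq₁.symm)
    rw [hgen q hqq, hs, map_mul, map_mul]
    have : (Spec (CommRingCat.of R)).Γevaluation q (e R c) ≠ 0 := by
      rw [Ne, ev_eq_zero_iff, hq, Ideal.mem_bot]
      exact hc0
    rw [mul_div_cancel_left₀ _ this]
  · have hmax : (toPS R q).asIdeal = maximalIdeal R :=
      IsLocalRing.eq_maximalIdeal ((toPS R q).isPrime.isMaximal hq)
    have hqq : q = j qh₀ := hext _ _ (hmax.trans hj₀.symm)
    have key : ∀ y : Spec (CommRingCat.of R), y = j qh₀ →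
        (Spec (CommRingCat.of R)).Γevaluation y (e R s) = v y := by
      rintro y rfl
      apply (j.residueFieldMap qh₀).hom.injective
      have h2 := congrFun hsh qh₀
      change (Spec (CommRingCat.of Rh)).Γevaluation qh₀ (e Rh rh) =
        j.residueFieldMap qh₀ (v (j qh₀)) at h2
      rw [← h2, hrh]
      change j.residueFieldMap qh₀ ((Spec (CommRingCat.of R)).Γevaluation (j qh₀) (e R s)) = _
      rw [Scheme.Γevaluation_naturality_apply, appTop_e]
    exact key q hqq

end dvr

/-- Varying along complete discrete valuation rings implies varying along all of them. -/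
theorem variesAlongDVR_of_complete {X : Scheme.{u}} (f : PtFun X)
    (hf : f.VariesAlongCompleteDVR) : f.VariesAlongDVR := by
  intro R _ _ _ g
  obtain ⟨hdom, hdvr⟩ := (Groth.Agent.S0549.result R).mp ⟨inferInstance, inferInstance⟩
  apply isAlgebraic_of_completion R
  rw [← pullback_comp]
  exact hf (AdicCompletion (maximalIdeal R) R) _

end Groth.Agent.Lib.Helper9.PtFunCpl
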