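import Mathlib
import Groth.Prelude.Def_W4c1hilbchowincPtFun
import Groth.Prelude.Def_HTop2
import Groth.Agent.Lib.Helper6.SNValues
import Groth.Agent.Lib.Helper9.PtFunCpl

set_option autoImplicit false
universe u

open AlgebraicGeometry CategoryTheory W4c1hilbchowinc IsLocalRing

namespace Groth.Agent.Lib.Helper9.PtFunSN

open Groth.Agent.Lib.Helper9.PtFunSch
open Groth.Agent.Lib.Helper6.AWN Groth.Agent.Lib.Helper6.SqCube Groth.Agent.Lib.Helper12
open Groth.Agent.Lib.Helper6.UnivHomeoRing Groth.Agent.Lib.Helper6.SN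

/-- The total ring of fractions of `A` is also the total ring of fractions of the integral closure
of `A` in it. -/
theorem isFractionRing_integralClosure (A : Type u) [CommRing A] :
    IsFractionRing (integralClosure A (FractionRing A)) (FractionRing A) := by
  set Q := FractionRing A with hQ
  set B := integralClosure A Q with hB
  have hinjB : Function.Injective (algebraMap B Q) := Subtype.val_injective
  have hAB : ∀ a : A, algebraMap B Q (algebraMap A B a) = algebraMap A Q a := fun a => rfl
  refine ⟨?_, ?_, ?_⟩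
  · rintro ⟨b, hb⟩
    obtain ⟨⟨a, s⟩, has⟩ := IsLocalization.surj (nonZeroDivisors A) (algebraMap B Q b)
    simp only at has
    have ha : a ∈ nonZeroDivisors A := by
      rw [mem_nonZeroDivisors_iff_right]
      intro x hx
      have h1 : algebraMap A B x * algebraMap A B s.1 * b = 0 := by
        apply hinjB
        rw [map_mul, map_mul, map_zero, hAB, hAB, mul_assoc, mul_comm (algebraMap A Q s.1), has,
          ← map_mul, hx, map_zero]
      have h2 : algebraMap A B x * algebraMap A B s.1 = 0 :=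
        (mem_nonZeroDivisors_iff_right.mp hb) _ h1
      have h3 : x * s.1 = 0 := by
        apply IsFractionRing.injective A Q
        rw [map_mul, ← hAB, ← hAB, ← map_mul, h2, map_zero, map_zero]
      exact (mem_nonZeroDivisors_iff_right.mp s.2) x h3
    have haQ : IsUnit (algebraMap A Q a) := IsLocalization.map_units Q (⟨a, ha⟩ : nonZeroDivisors A)
    have : IsUnit (algebraMap B Q b * algebraMap A Q s.1) := has ▸ haQ
    exact isUnit_of_mul_isUnit_left this
  · intro z
    obtain ⟨⟨a, s⟩, has⟩ := IsLocalization.surj (nonZeroDivisors A) z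
    refine ⟨(algebraMap A B a, ⟨algebraMap A B s.1, ?_⟩), has⟩
    rw [mem_nonZeroDivisors_iff_right]
    intro x hx
    apply hinjB
    rw [map_zero]
    have := congrArg (algebraMap B Q) hx
    rw [map_mul, map_zero, hAB] at this
    exact (IsUnit.mul_left_eq_zero (IsLocalization.map_units Q s)).mp this
  · intro x y h
    exact ⟨1, by rw [hinjB h]⟩

/-- An element of an integral extension of a seminormal ring whose values at all primes come,
consistently, from the residue fields of the base, lies in the base. -/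
theorem mem_range_of_pointwise {A B : Type u} [CommRing A] [CommRing B] [IsReduced B]
    (hA : HTop.IsSeminormalRing A) (ψ : A →+* B) (hinj : Function.Injective ψ)
    (hint : ψ.IsIntegral) (b : B)
    (hC : ∀ (p : Ideal A) [p.IsPrime], ∃ a₁ a₂ : A, a₂ ∉ p ∧
      ∀ (q : Ideal B) [q.IsPrime], q.comap ψ = p → ψ a₂ * b - ψ a₁ ∈ q) :
    b ∈ ψ.range := by
  let _ : Algebra A B := ψ.toAlgebra
  let D : Subalgebra A B := Algebra.adjoin A {b}
  let φ₀ : A →+* D := algebraMap A D
  let ι : D →+* B := D.val.toRingHom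
  have hι : Function.Injective ι := Subtype.val_injective
  have hcomp : ι.comp φ₀ = ψ := by ext c; rfl
  have hιint : ι.IsIntegral := RingHom.IsIntegral.tower_top φ₀ ι (by rw [hcomp]; exact hint)
  have hιsurj : Function.Surjective (PrimeSpectrum.comap ι) := hιint.comap_surjective hι
  have hφ₀int : φ₀.IsIntegral := RingHom.IsIntegral.tower_bot φ₀ ι hι (by rw [hcomp]; exact hint)
  have hφ₀inj : Function.Injective φ₀ := by
    intro x y hxy
    apply hinj
    rw [← hcomp]
    exact congrArg ι hxy
  let t : D := ⟨b, Algebra.subset_adjoin rfl⟩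
  have hgen : Function.Surjective (Polynomial.eval₂RingHom φ₀ t) := by
    rintro ⟨y, hy⟩
    have hy' : y ∈ (Polynomial.aeval (R := A) b).range := by
      rw [← Algebra.adjoin_singleton_eq_range_aeval]; exact hy
    obtain ⟨P, hP⟩ := hy'
    refine ⟨P, Subtype.ext ?_⟩
    change ι (Polynomial.eval₂ φ₀ t P) = y
    rw [Polynomial.hom_eval₂, hcomp, ← hP]
    rfl
  have hkey : ∀ (p : Ideal A) [p.IsPrime], ∃ a₁ a₂ : A, a₂ ∉ p ∧
      ∀ (Q : Ideal D) [Q.IsPrime], Q.comap φ₀ = p → φ₀ a₂ ∉ Q ∧ φ₀ a₂ * t - φ₀ a₁ ∈ Q := by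
    intro p hp
    obtain ⟨a₁, a₂, h2, h⟩ := hC p
    refine ⟨a₁, a₂, h2, ?_⟩
    intro Q hQ hQp
    obtain ⟨q, hq⟩ := hιsurj ⟨Q, hQ⟩
    have hqQ : q.asIdeal.comap ι = Q := congrArg PrimeSpectrum.asIdeal hq
    refine ⟨?_, ?_⟩
    · intro hmem
      apply h2
      rw [← hQp]
      exact hmem
    · have hq' : q.asIdeal.comap ψ = p := by
        rw [← hcomp, ← Ideal.comap_comap, hqQ, hQp]
      have := h q.asIdeal hq'
      rw [← hqQ, Ideal.mem_comap]
      have e1 : ι (φ₀ a₂ * t - φ₀ a₁) = ψ a₂ * b - ψ a₁ := by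
        rw [map_sub, map_mul]
        rfl
      rw [e1]
      exact this
  have hTR : TR φ₀ := by
    apply TR.of_generator hgen
    intro Q
    obtain ⟨a₁, a₂, -, h⟩ := hkey (Q.asIdeal.comap φ₀)
    obtain ⟨h1, h2⟩ := h Q.asIdeal rfl
    exact ⟨a₂, a₁, h1, h2⟩
  have hUH : UH φ₀ := by
    refine ⟨hφ₀int, ?_, hφ₀int.comap_surjective hφ₀inj⟩
    intro K _ σ τ hστ
    have hp : (RingHom.ker (σ.comp φ₀)).IsPrime := RingHom.ker_isPrime _
    obtain ⟨a₁, a₂, h2, h⟩ := hkey (RingHom.ker (σ.comp φ₀))
    have hσp : (RingHom.ker σ).IsPrime := RingHom.ker_isPrime _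
    have hτp : (RingHom.ker τ).IsPrime := RingHom.ker_isPrime _
    obtain ⟨hσ1, hσ2⟩ := h (RingHom.ker σ) (by rw [RingHom.comap_ker])
    obtain ⟨hτ1, hτ2⟩ := h (RingHom.ker τ) (by rw [RingHom.comap_ker, hστ])
    rw [RingHom.mem_ker] at hσ1 hτ1 hσ2 hτ2
    rw [map_sub, map_mul, sub_eq_zero] at hσ2 hτ2
    have e2 : σ (φ₀ a₂) = τ (φ₀ a₂) := congrArg (fun f => f a₂) hστ
    have e1 : σ (φ₀ a₁) = τ (φ₀ a₁) := congrArg (fun f => f a₁) hστ
    have ht : σ t = τ t := by
      have : σ (φ₀ a₂) * σ t = σ (φ₀ a₂) * τ t := by rw [hσ2, e1, e2, hτ2]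
      exact mul_left_cancel₀ hσ1 this
    ext d
    obtain ⟨P, rfl⟩ := hgen d
    change σ (Polynomial.eval₂ φ₀ t P) = τ (Polynomial.eval₂ φ₀ t P)
    rw [Polynomial.hom_eval₂, Polynomial.hom_eval₂, hστ, ht]
  have hred : IsReduced D := isReduced_of_injective ι hι
  obtain ⟨c, hc⟩ := (bijective_of_isSeminormalRing hA φ₀ hUH hTR).2 t
  refine ⟨c, ?_⟩
  have := congrArg ι hc
  rw [← hcomp]
  exact this

section main

variable (A : Type u) [CommRing A] [IsNoetherianRing A]

theorem main (hA : HTop.IsSeminormalRing A)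
    (hfin : Module.Finite A (integralClosure A (FractionRing A)))
    (f : PtFun (Spec (CommRingCat.of A))) (hf : f.VariesAlongCompleteDVR) :
    ∃! a : Γ(Spec (CommRingCat.of A), ⊤), PtFun.ofSection (Spec (CommRingCat.of A)) a = f := by
  have hredA : IsReduced A := isReduced_of_isSeminormalRing hA
  have hfD : f.VariesAlongDVR := PtFunCpl.variesAlongDVR_of_complete f hf
  have hzero : ∀ s : Γ(Spec (CommRingCat.of A), ⊤),
      (∀ p : Spec (CommRingCat.of A), (Spec (CommRingCat.of A)).Γevaluation p s = 0) → s = 0 := by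
    intro s hs
    rw [← basicOpen_eq_bot_iff, Scheme.basicOpen_eq_bot_iff_forall_evaluation_eq_zero]
    intro p
    exact hs p
  set Q := FractionRing A with hQ
  set B := integralClosure A Q with hB
  have hredB : IsReduced B := isReduced_of_injective (algebraMap B Q) Subtype.val_injective
  have hNB : IsNoetherianRing B := IsNoetherianRing.of_finite A B
  have hfrac : IsFractionRing B Q := isFractionRing_integralClosure A
  have hicB : IsIntegrallyClosed B :=
    (isIntegrallyClosed_iff_isIntegrallyClosedIn Q).mpr inferInstance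
  set ψ : A →+* B := algebraMap A B with hψ
  have hψinj : Function.Injective ψ := by
    intro x y hxy
    apply IsFractionRing.injective A Q
    exact congrArg (algebraMap B Q) hxy
  have hψint : ψ.IsIntegral := by
    have : Algebra.IsIntegral A B := inferInstance
    exact algebraMap_isIntegral_iff.mpr this
  set ν : Spec (CommRingCat.of B) ⟶ Spec (CommRingCat.of A) :=
    Spec.map (CommRingCat.ofHom ψ) with hν
  have hfB : (f.pullback ν).VariesAlongDVR := by
    intro R _ _ _ g
    rw [← PtFunCpl.pullback_comp]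
    exact hfD R _
  obtain ⟨b', hb', -⟩ := PtFunSch.main B (f.pullback ν) hfB
  obtain ⟨b, rfl⟩ := (e B).surjective b'
  have hval : ∀ q : Spec (CommRingCat.of B),
      (Spec (CommRingCat.of B)).Γevaluation q (e B b) = ν.residueFieldMap q (f (ν q)) :=
    fun q => congrFun hb' q
  have hextA : ∀ y y' : Spec (CommRingCat.of A), (toPS A y).asIdeal = (toPS A y').asIdeal →
      y = y' := by
    intro y y' h
    change toPS A y = toPS A y'
    exact PrimeSpectrum.ext h
  -- the ring-level condition
  have hC : ∀ (p : Ideal A) [p.IsPrime], ∃ a₁ a₂ : A, a₂ ∉ p ∧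
      ∀ (q : Ideal B) [q.IsPrime], q.comap ψ = p → ψ a₂ * b - ψ a₁ ∈ q := by
    intro p hp
    obtain ⟨x, hx⟩ : ∃ x : Spec (CommRingCat.of A), x = ofPS A ⟨p, hp⟩ := ⟨_, rfl⟩
    have hxp : (toPS A x).asIdeal = p := by rw [hx]; rfl
    obtain ⟨a₁', a₂', h2', hfx⟩ := Groth.Agent.Lib.Helper21.DVRExt.residueField_eq_div
      (isAffineOpen_top (Spec (CommRingCat.of A))) x trivial (f x)
    change (Spec (CommRingCat.of A)).Γevaluation x a₂' ≠ 0 at h2'
    change f x = (Spec (CommRingCat.of A)).Γevaluation x a₁' /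
      (Spec (CommRingCat.of A)).Γevaluation x a₂' at hfx
    obtain ⟨a₁, rfl⟩ := (e A).surjective a₁'
    obtain ⟨a₂, rfl⟩ := (e A).surjective a₂'
    have h2 : a₂ ∉ p := by
      intro h
      apply h2'
      rw [PtFunSch.ev_eq_zero_iff, hxp]
      exact h
    have hgen : ∀ y : Spec (CommRingCat.of A), y = x →
        f y = (Spec (CommRingCat.of A)).Γevaluation y (e A a₁) /
          (Spec (CommRingCat.of A)).Γevaluation y (e A a₂) := by
      rintro y rfl
      exact hfx
    refine ⟨a₁, a₂, h2, ?_⟩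
    intro q hq hqp
    obtain ⟨y, hy⟩ : ∃ y : Spec (CommRingCat.of B), y = ofPS B ⟨q, hq⟩ := ⟨_, rfl⟩
    have hyq : (toPS B y).asIdeal = q := by rw [hy]; rfl
    have hνy : ν y = x := by
      apply hextA
      rw [hxp, ← hqp, ← hyq]
      rfl
    have h1 := hval y
    rw [hgen _ hνy, map_div₀, Scheme.Γevaluation_naturality_apply,
      Scheme.Γevaluation_naturality_apply, appTop_e, appTop_e] at h1
    have hne : (Spec (CommRingCat.of B)).Γevaluation y (e B (ψ a₂)) ≠ 0 := by
      rw [Ne, PtFunSch.ev_eq_zero_iff, hyq]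
      intro hmem
      apply h2
      rw [← hqp]
      exact hmem
    rw [eq_div_iff hne, ← map_mul, ← map_mul, ← sub_eq_zero, ← map_sub, ← map_sub,
      PtFunSch.ev_eq_zero_iff, hyq] at h1
    have : ψ a₂ * b - ψ a₁ = b * ψ a₂ - ψ a₁ := by ring
    rw [this]
    exact h1
  obtain ⟨a, ha⟩ := mem_range_of_pointwise hA ψ hψinj hψint b hC
  -- the section `e A a` works
  have hall : ∀ p : Spec (CommRingCat.of A),
      (Spec (CommRingCat.of A)).Γevaluation p (e A a) = f p := by
    intro p
    obtain ⟨q, hq⟩ := hψint.comap_surjective hψinj (toPS A p)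
    have hνq : ν (ofPS B q) = p := by
      apply hextA
      rw [← hq]
      rfl
    have key : ∀ y : Spec (CommRingCat.of A), y = ν (ofPS B q) →
        (Spec (CommRingCat.of A)).Γevaluation y (e A a) = f y := by
      rintro y rfl
      apply (ν.residueFieldMap (ofPS B q)).hom.injective
      change ν.residueFieldMap (ofPS B q) ((Spec (CommRingCat.of A)).Γevaluation _ (e A a)) = _
      rw [Scheme.Γevaluation_naturality_apply, appTop_e, ha]
      exact hval _
    exact key p hνq.symm
  refine ⟨e A a, funext hall, ?_⟩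
  intro a' ha'
  rw [← sub_eq_zero]
  apply hzero
  intro p
  have h1 := congrFun ha' p
  change (Spec (CommRingCat.of A)).Γevaluation p a' = f p at h1
  rw [map_sub, h1, hall p, sub_self]

end main

end Groth.Agent.Lib.Helper9.PtFunSN
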