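import Mathlib
import Groth.Agent.Lib.Helper9.C2Flat
import Groth.Agent.Lib.Helper9.PtFunSN
import Groth.Agent.Lib.Helper18.CplFlat
import Groth.Agent.Lib.Helper18.Nag6
import Groth.Agent.Lib.Helper12.HensInt
import Groth.Agent.Lib.Helper12.IntegralDim
import Groth.Agent.Lib.Helper4.BrnchMin

set_option autoImplicit false
universe u

namespace Groth.Agent.Lib.Helper9.C2Flat

open IsLocalRing TensorProduct

attribute [local instance] Algebra.TensorProduct.rightAlgebra

theorem core_tensor (C D E : Type u) [CommRing C] [CommRing D] [CommRing E] [IsDomain E]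
    [IsNoetherianRing D] [IsLocalRing C] [IsLocalRing D] [IsLocalRing E]
    [Algebra C D] [Algebra C E] [IsLocalHom (algebraMap C D)] [Module.Flat C D]
    [Module.Finite C E] (p : Ideal C) (j : (C ⧸ p) →ₗ[C] E) (hj : Function.Injective j)
    (hj1 : j 1 = 1) (a b : E) (ham : a ∈ maximalIdeal E) (hbm : b ∈ maximalIdeal E)
    (ha0 : a ≠ 0) (hab : ∀ r, a ∣ b * r → a ∣ r)
    (q : Ideal D) (hq : q ∈ minimalPrimes D) (hpq : p ≤ q.comap (algebraMap C D)) :
    (2 : WithBot ℕ∞) ≤ ringKrullDim (D ⧸ q) := by
  have hqp : q.IsPrime := hq.1.1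
  have hintCE : Algebra.IsIntegral C E := Algebra.IsIntegral.of_finite C E
  -- the tensor product
  let T := E ⊗[C] D
  have hpush : Algebra.IsPushout C D E T := inferInstance
  have hfinT : Module.Finite D T := Module.Finite.equiv hpush.out.equiv
  have hintT : Algebra.IsIntegral D T := Algebra.IsIntegral.of_finite D T
  have hNT : IsNoetherianRing T := IsNoetherianRing.of_finite D T
  have hflatT : Module.Flat E T := inferInstance
  -- the kernel of D → T lies in q
  have hker : (⊥ : Ideal T).comap (algebraMap D T) ≤ q := by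
    intro x hx
    rw [Ideal.mem_comap, Ideal.mem_bot, Algebra.TensorProduct.right_algebraMap_apply] at hx
    have hjT : Function.Injective (j.rTensor D) :=
      Module.Flat.rTensor_preserves_injective_linearMap j hj
    have h1 : ((1 : C ⧸ p) ⊗ₜ[C] x) = 0 := by
      apply hjT
      rw [map_zero, LinearMap.rTensor_tmul]
      rw [hj1]
      exact hx
    have h2 := congrArg (TensorProduct.quotTensorEquivQuotSMul D p) h1
    rw [map_zero, ← map_one (Ideal.Quotient.mk p), TensorProduct.quotTensorEquivQuotSMul_mk_tmul,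
      one_smul, Submodule.Quotient.mk_eq_zero] at h2
    have hle : (p • ⊤ : Submodule C D) ≤ q.restrictScalars C := by
      rw [Submodule.smul_le]
      intro c hc d _
      show c • d ∈ q
      rw [Algebra.smul_def]
      exact q.mul_mem_right _ (hpq hc)
    exact hle h2
  obtain ⟨Q1, -, hQ1p, hQ1q⟩ := Ideal.exists_ideal_over_prime_of_isIntegral q (⊥ : Ideal T) hker
  obtain ⟨Q, hQmin, hQle⟩ := Ideal.exists_minimalPrimes_le (I := (⊥ : Ideal T)) (J := Q1) bot_le
  have hQmin' : Q ∈ minimalPrimes T := hQmin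
  have hQp : Q.IsPrime := hQmin.1.1
  have hQq : Q.comap (algebraMap D T) = q := by
    apply le_antisymm
    · rw [← hQ1q]; exact Ideal.comap_mono hQle
    · exact hq.2 ⟨Ideal.comap_isPrime _ _, bot_le⟩ (by rw [← hQ1q]; exact Ideal.comap_mono hQle)
  -- maximal ideals of T contain the images of a, b
  have hmaxT : ∀ n : Ideal T, n.IsMaximal → n.comap (algebraMap E T) = maximalIdeal E := by
    intro n hn
    have h1 : (n.comap (algebraMap D T)).IsMaximal :=
      Ideal.isMaximal_comap_of_isIntegral_of_isMaximal n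
    have h2 : n.comap (algebraMap D T) = maximalIdeal D := IsLocalRing.eq_maximalIdeal h1
    have h3 : (maximalIdeal D).comap (algebraMap C D) = maximalIdeal C :=
      ((IsLocalRing.local_hom_TFAE (algebraMap C D)).out 0 4 :
        IsLocalHom (algebraMap C D) ↔
          (maximalIdeal D).comap (algebraMap C D) = maximalIdeal C).mp inferInstance
    have h4 : (n.comap (algebraMap E T)).comap (algebraMap C E) = maximalIdeal C := by
      rw [Ideal.comap_comap, ← IsScalarTower.algebraMap_eq, IsScalarTower.algebraMap_eq C D T,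
        ← Ideal.comap_comap, h2, h3]
    have h5 : (n.comap (algebraMap E T)).IsMaximal := by
      have : (n.comap (algebraMap E T)).IsPrime := Ideal.comap_isPrime _ _
      apply Ideal.isMaximal_of_isIntegral_of_isMaximal_comap (R := C)
      rw [h4]
      exact IsLocalRing.maximalIdeal.isMaximal C
    exact IsLocalRing.eq_maximalIdeal h5
  have hmax : ∀ n : Ideal T, n.IsMaximal → algebraMap E T a ∈ n ∧ algebraMap E T b ∈ n := by
    intro n hn
    have := hmaxT n hn
    constructor
    · rw [← Ideal.mem_comap, this]; exact ham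
    · rw [← Ideal.mem_comap, this]; exact hbm
  obtain ⟨P, n, hPp, hn, hQP, hPn⟩ := exists_chain a b ha0 hab hmax Q hQmin'
  have hnp : n.IsPrime := hn.isPrime
  -- contract the chain
  have hlt1 : Q.comap (algebraMap D T) < P.comap (algebraMap D T) := by
    obtain ⟨x, hxP, hxQ⟩ := SetLike.exists_of_lt hQP
    exact Ideal.comap_lt_comap_of_integral_mem_sdiff hQP.le ⟨hxP, hxQ⟩
      (Algebra.IsIntegral.isIntegral x)
  have hlt2 : P.comap (algebraMap D T) < n.comap (algebraMap D T) := by
    obtain ⟨x, hxn, hxP⟩ := SetLike.exists_of_lt hPn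
    exact Ideal.comap_lt_comap_of_integral_mem_sdiff hPn.le ⟨hxn, hxP⟩
      (Algebra.IsIntegral.isIntegral x)
  rw [hQq] at hlt1
  have : (P.comap (algebraMap D T)).IsPrime := Ideal.comap_isPrime _ _
  have : (n.comap (algebraMap D T)).IsPrime := Ideal.comap_isPrime _ _
  exact two_le_dim_quotient_of_chain q _ _ hlt1 hlt2


theorem core (C D : Type u) [CommRing C] [CommRing D] [IsNoetherianRing C] [IsNoetherianRing D]
    [IsLocalRing C] [IsLocalRing D] [IsAdicComplete (maximalIdeal C) C]
    [Algebra C D] [IsLocalHom (algebraMap C D)] [Module.Flat C D]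
    (hC : ∀ p ∈ minimalPrimes C, (2 : WithBot ℕ∞) ≤ ringKrullDim (C ⧸ p))
    (q : Ideal D) (hq : q ∈ minimalPrimes D) : (2 : WithBot ℕ∞) ≤ ringKrullDim (D ⧸ q) := by
  have hqp : q.IsPrime := hq.1.1
  set p : Ideal C := q.comap (algebraMap C D) with hp
  have hpmin : p ∈ minimalPrimes C :=
    Groth.Agent.Lib.Helper4.BrnchMin.comap_mem_minimalPrimes_of_flat hq
  have hpp : p.IsPrime := hpmin.1.1
  have hdimC' : (2 : WithBot ℕ∞) ≤ ringKrullDim (C ⧸ p) := hC p hpmin
  -- normalization
  let K := FractionRing (C ⧸ p)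
  let E := integralClosure (C ⧸ p) K
  have hN1 : Module.Finite (C ⧸ p) E :=
    Groth.Agent.Lib.Helper18.Nag.isN1_quotient_of_isAdicComplete C p
  have hfinCE : Module.Finite C E := Module.Finite.trans (C ⧸ p) E
  have hintCE : Algebra.IsIntegral C E := Algebra.IsIntegral.of_finite C E
  have hNE : IsNoetherianRing E := IsNoetherianRing.of_finite (C ⧸ p) E
  have hfrac : IsFractionRing E K := PtFunSN.isFractionRing_integralClosure (C ⧸ p)
  have hicE : IsIntegrallyClosed E :=
    (isIntegrallyClosed_iff_isIntegrallyClosedIn K).mpr inferInstance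
  have hHens : HenselianLocalRing C :=
    Groth.Agent.Lib.Helper12.HensInt.henselianLocalRing_of_henselianRing_maximalIdeal C
  have hlocE : IsLocalRing E :=
    Groth.Agent.Lib.Helper12.HensInt.isLocalRing_of_isDomain_of_isIntegral C E
  have hinjE : Function.Injective (algebraMap (C ⧸ p) E) := by
    intro x y hxy
    apply IsFractionRing.injective (C ⧸ p) K
    exact congrArg (algebraMap E K) hxy
  have hdimE : (2 : WithBot ℕ∞) ≤ ringKrullDim E := by
    rw [← Groth.Agent.Lib.Helper12.ringKrullDim_eq_of_isIntegral_of_injective (C ⧸ p) E hinjE]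
    exact hdimC'
  obtain ⟨a, b, ham, hbm, ha0, hab⟩ := exists_regular_pair E hdimE
  exact core_tensor C D E p (IsScalarTower.toAlgHom C (C ⧸ p) E).toLinearMap hinjE
    (map_one (IsScalarTower.toAlgHom C (C ⧸ p) E)) a b ham hbm ha0 hab q hq le_rfl

theorem main
    (A B : Type u) [CommRing A] [CommRing B] [IsNoetherianRing A] [IsNoetherianRing B]
    [IsLocalRing A] [IsLocalRing B] (f : A →+* B) [IsLocalHom f] (hf : f.Flat)
    (hA : ∀ q ∈ minimalPrimes (AdicCompletion (IsLocalRing.maximalIdeal A) A), (2 : WithBot ℕ∞) ≤ ringKrullDim (AdicCompletion (IsLocalRing.maximalIdeal A) A ⧸ q)) :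
    ∀ q ∈ minimalPrimes (AdicCompletion (IsLocalRing.maximalIdeal B) B), (2 : WithBot ℕ∞) ≤ ringKrullDim (AdicCompletion (IsLocalRing.maximalIdeal B) B ⧸ q) := by
  letI : Algebra A B := f.toAlgebra
  haveI : IsLocalHom (algebraMap A B) := ‹IsLocalHom f›
  haveI : Module.Flat A B := hf
  letI : Algebra (AdicCompletion (maximalIdeal A) A) (AdicCompletion (maximalIdeal B) B) :=
    (Groth.Agent.Lib.Helper18.CplFlat.cplMap A B).toAlgebra
  haveI : IsLocalHom (algebraMap (AdicCompletion (maximalIdeal A) A)
      (AdicCompletion (maximalIdeal B) B)) :=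
    Groth.Agent.Lib.Helper18.CplFlat.isLocalHom_cplMap A B
  haveI : Module.Flat (AdicCompletion (maximalIdeal A) A) (AdicCompletion (maximalIdeal B) B) :=
    Groth.Agent.Lib.Helper18.CplFlat.flat_cplMap A B
  intro q hq
  exact core (AdicCompletion (maximalIdeal A) A) (AdicCompletion (maximalIdeal B) B) hA q hq

end Groth.Agent.Lib.Helper9.C2Flat
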