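import Mathlib
import Groth.Agent.S9231
import Groth.Agent.Lib.Helper15.RigClosed

/-! Completion map of a local hom of Noetherian local rings: unramified/étale transfer (helper9). -/

set_option autoImplicit false
set_option linter.unusedSectionVars false
universe u

namespace Groth.Agent.Lib.Helper9.ComplUnram

open IsLocalRing

/-- `k_R ≃ k_R̂`. -/
noncomputable def resEquiv (R : Type u) [CommRing R] [IsLocalRing R] [IsNoetherianRing R] :
    ResidueField R ≃+* ResidueField (AdicCompletion (maximalIdeal R) R) :=
  RingEquiv.ofBijective (ResidueField.map (algebraMap R (AdicCompletion (maximalIdeal R) R)))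
    (AdicCompletion.residueField_map_bijective R)

theorem resEquiv_residue (R : Type u) [CommRing R] [IsLocalRing R] [IsNoetherianRing R] (r : R) :
    resEquiv R (residue R r) = residue _ (algebraMap R (AdicCompletion (maximalIdeal R) R) r) := by
  simp [resEquiv, ResidueField.map_residue]

variable (A B : Type u) [CommRing A] [CommRing B]
    [IsLocalRing A] [IsLocalRing B] [IsNoetherianRing A] [IsNoetherianRing B] [Algebra A B]
    [IsLocalHom (algebraMap A B)]
    (ψ : AdicCompletion (maximalIdeal A) A →+* AdicCompletion (maximalIdeal B) B)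
    (hψ : ψ.comp (algebraMap A (AdicCompletion (maximalIdeal A) A)) =
      (algebraMap B (AdicCompletion (maximalIdeal B) B)).comp (algebraMap A B))

include hψ

/-- `ψ(m_Â) B̂ = (m_A B) B̂`. -/
theorem map_maximalIdeal_eq :
    (maximalIdeal (AdicCompletion (maximalIdeal A) A)).map ψ =
      ((maximalIdeal A).map (algebraMap A B)).map (algebraMap B (AdicCompletion (maximalIdeal B) B)) := by
  rw [AdicCompletion.maximalIdeal_eq_map (R := A), Ideal.map_map, hψ, ← Ideal.map_map]

theorem map_maximalIdeal_le :
    (maximalIdeal (AdicCompletion (maximalIdeal A) A)).map ψ ≤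
      maximalIdeal (AdicCompletion (maximalIdeal B) B) := by
  rw [map_maximalIdeal_eq A B ψ hψ, AdicCompletion.maximalIdeal_eq_map (R := B)]
  exact Ideal.map_mono (((local_hom_TFAE (algebraMap A B)).out 0 2).mp ‹_›)

theorem isLocalHom : IsLocalHom ψ :=
  ((local_hom_TFAE ψ).out 0 2).mpr (map_maximalIdeal_le A B ψ hψ)

/-- `m_A B = m_B` iff `ψ(m_Â) B̂ = m_B̂`. -/
theorem map_maximalIdeal_eq_iff :
    (maximalIdeal (AdicCompletion (maximalIdeal A) A)).map ψ =
      maximalIdeal (AdicCompletion (maximalIdeal B) B) ↔
    (maximalIdeal A).map (algebraMap A B) = maximalIdeal B := by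
  have ffBBh : Module.FaithfullyFlat B (AdicCompletion (maximalIdeal B) B) :=
    Module.FaithfullyFlat.of_flat_of_isLocalHom
  rw [map_maximalIdeal_eq A B ψ hψ, AdicCompletion.maximalIdeal_eq_map (R := B)]
  constructor
  · intro h
    rw [← Ideal.comap_map_eq_self_of_faithfullyFlat (B := AdicCompletion (maximalIdeal B) B)
      ((maximalIdeal A).map (algebraMap A B)), h, Ideal.comap_map_eq_self_of_faithfullyFlat]
  · intro h
    rw [h]

/-- The residue-field square commutes. -/
theorem residue_square [IsLocalHom ψ] :
    (ResidueField.map ψ).comp (resEquiv A).toRingHom =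
      (resEquiv B).toRingHom.comp (ResidueField.map (algebraMap A B)) := by
  apply RingHom.ext
  intro x
  obtain ⟨a, rfl⟩ := residue_surjective x
  simp only [RingHom.comp_apply, RingEquiv.toRingHom_eq_coe, RingHom.coe_coe,
    resEquiv_residue, ResidueField.map_residue]
  exact congrArg _ (RingHom.congr_fun hψ a)

/-- `ψ` of finite type and formally unramified ⟹ `A → B` unramified as a local hom. -/
theorem of_unramified (h1 : ψ.FiniteType) (h2 : ψ.FormallyUnramified) :
    (maximalIdeal A).map (algebraMap A B) = maximalIdeal B ∧
      Module.Finite (ResidueField A) (ResidueField B) ∧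
      Algebra.IsSeparable (ResidueField A) (ResidueField B) := by
  let algψ : Algebra (AdicCompletion (maximalIdeal A) A) (AdicCompletion (maximalIdeal B) B) :=
    ψ.toAlgebra
  have hloc : IsLocalHom (algebraMap (AdicCompletion (maximalIdeal A) A)
      (AdicCompletion (maximalIdeal B) B)) := isLocalHom A B ψ hψ
  have hloc' : IsLocalHom ψ := hloc
  have hft : Algebra.FiniteType (AdicCompletion (maximalIdeal A) A)
      (AdicCompletion (maximalIdeal B) B) := h1
  have hfu : Algebra.FormallyUnramified (AdicCompletion (maximalIdeal A) A)
      (AdicCompletion (maximalIdeal B) B) := h2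
  have hmax := Algebra.FormallyUnramified.map_maximalIdeal (R := AdicCompletion (maximalIdeal A) A)
      (S := AdicCompletion (maximalIdeal B) B)
  have hfin : Module.Finite (ResidueField (AdicCompletion (maximalIdeal A) A))
      (ResidueField (AdicCompletion (maximalIdeal B) B)) := inferInstance
  have hsep : Algebra.IsSeparable (ResidueField (AdicCompletion (maximalIdeal A) A))
      (ResidueField (AdicCompletion (maximalIdeal B) B)) := inferInstance
  have he : (algebraMap (ResidueField A) (ResidueField B)).comp (resEquiv A).symm.toRingHom =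
      (resEquiv B).symm.toRingHom.comp (algebraMap (ResidueField (AdicCompletion (maximalIdeal A) A))
      (ResidueField (AdicCompletion (maximalIdeal B) B))) := by
    apply RingHom.ext
    intro x
    obtain ⟨y, rfl⟩ := (resEquiv A).surjective x
    have := RingHom.congr_fun (residue_square A B ψ hψ) y
    simp only [RingHom.comp_apply, RingEquiv.toRingHom_eq_coe, RingHom.coe_coe] at this ⊢
    rw [RingEquiv.symm_apply_apply]
    apply (resEquiv B).injective
    rw [RingEquiv.apply_symm_apply]
    exact this.symm
  refine ⟨(map_maximalIdeal_eq_iff A B ψ hψ).mp hmax, ?_, ?_⟩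
  · exact Module.Finite.of_equiv_equiv (resEquiv A).symm (resEquiv B).symm he
  · exact Algebra.IsSeparable.of_equiv_equiv (resEquiv A).symm (resEquiv B).symm he

/-- `A → B` unramified as a local hom ⟹ `B̂` finite and formally unramified over `Â`. -/
theorem finite_and_unramified
    (hm : (maximalIdeal A).map (algebraMap A B) = maximalIdeal B)
    [Module.Finite (ResidueField A) (ResidueField B)]
    [Algebra.IsSeparable (ResidueField A) (ResidueField B)] :
    ψ.Finite ∧ ψ.FormallyUnramified := by
  let algψ : Algebra (AdicCompletion (maximalIdeal A) A) (AdicCompletion (maximalIdeal B) B) :=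
    ψ.toAlgebra
  have hloc : IsLocalHom (algebraMap (AdicCompletion (maximalIdeal A) A)
      (AdicCompletion (maximalIdeal B) B)) := isLocalHom A B ψ hψ
  have hloc' : IsLocalHom ψ := hloc
  have hmax : (maximalIdeal (AdicCompletion (maximalIdeal A) A)).map
      (algebraMap (AdicCompletion (maximalIdeal A) A) (AdicCompletion (maximalIdeal B) B)) =
      maximalIdeal (AdicCompletion (maximalIdeal B) B) :=
    (map_maximalIdeal_eq_iff A B ψ hψ).mpr hm
  have he : (algebraMap (ResidueField (AdicCompletion (maximalIdeal A) A))
      (ResidueField (AdicCompletion (maximalIdeal B) B))).comp (resEquiv A).toRingHom =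
      (resEquiv B).toRingHom.comp (algebraMap (ResidueField A) (ResidueField B)) :=
    residue_square A B ψ hψ
  have hfin : Module.Finite (ResidueField (AdicCompletion (maximalIdeal A) A))
      (ResidueField (AdicCompletion (maximalIdeal B) B)) :=
    Module.Finite.of_equiv_equiv (resEquiv A) (resEquiv B) he
  have hsep : Algebra.IsSeparable (ResidueField (AdicCompletion (maximalIdeal A) A))
      (ResidueField (AdicCompletion (maximalIdeal B) B)) :=
    Algebra.IsSeparable.of_equiv_equiv (resEquiv A) (resEquiv B) he
  have hfin2 : Module.Finite (AdicCompletion (maximalIdeal A) A)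
      (ResidueField (AdicCompletion (maximalIdeal B) B)) :=
    Module.Finite.trans (ResidueField (AdicCompletion (maximalIdeal A) A)) _
  have hfin3 : Module.Finite (AdicCompletion (maximalIdeal A) A)
      (AdicCompletion (maximalIdeal B) B ⧸ (maximalIdeal (AdicCompletion (maximalIdeal A) A)).map
      (algebraMap (AdicCompletion (maximalIdeal A) A) (AdicCompletion (maximalIdeal B) B))) := by
    rw [hmax]
    exact hfin2
  have hH : IsHausdorff ((maximalIdeal (AdicCompletion (maximalIdeal A) A)).map
      (algebraMap (AdicCompletion (maximalIdeal A) A) (AdicCompletion (maximalIdeal B) B)))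
      (AdicCompletion (maximalIdeal B) B) := by
    rw [hmax]
    infer_instance
  have hF : Module.Finite (AdicCompletion (maximalIdeal A) A) (AdicCompletion (maximalIdeal B) B) :=
    Groth.Agent.Lib.Helper15.finite_of_finite_quotient_map
      (maximalIdeal (AdicCompletion (maximalIdeal A) A)) _ hfin3
  exact ⟨hF, Algebra.FormallyUnramified.of_map_maximalIdeal hmax⟩

end Groth.Agent.Lib.Helper9.ComplUnram
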