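import Mathlib

/-!
# Descent of ideals containing a power of `m` along `A → A ⊗_R R̂` (helper9): ring level
-/

set_option autoImplicit false
universe u
open TensorProduct

namespace Groth.Agent.Lib.Helper9.CplDesc

section R1

variable {R : Type u} [CommRing R] (m : Ideal R)

theorem exists_sub_mem (hm : m.FG) (x : AdicCompletion m R) (n : ℕ) :
    ∃ r : R, x - algebraMap R (AdicCompletion m R) r ∈
      (m ^ n).map (algebraMap R (AdicCompletion m R)) := by
  obtain ⟨r, hr⟩ := Submodule.mkQ_surjective (m ^ n • ⊤ : Submodule R R)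
    (AdicCompletion.eval m R n x)
  refine ⟨r, ?_⟩
  have h1 : x - algebraMap R (AdicCompletion m R) r ∈
      LinearMap.ker (AdicCompletion.eval m R n) := by
    rw [LinearMap.mem_ker, map_sub, AdicCompletion.algebraMap_apply, Algebra.algebraMap_self,
      RingHom.id_apply, AdicCompletion.eval_of, hr, sub_self]
  rw [← AdicCompletion.pow_smul_top_eq_ker_eval hm, Ideal.smul_top_eq_map] at h1
  exact h1

end R1

section R2

variable {R : Type u} [CommRing R] (m : Ideal R) {R' A A' : Type u} [CommRing R'] [CommRing A]
  [CommRing A'] [Algebra R R'] [Algebra R A] [Algebra R' A'] [Algebra A A'] [Algebra R A']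
  [IsScalarTower R R' A'] [IsScalarTower R A A'] [Algebra.IsPushout R R' A A']

/-- If `R → R'/m^n R'` is surjective then so is `A → A'/m^n A'` for `A' = A ⊗_R R'`. -/
theorem exists_sub_mem_pushout (n : ℕ)
    (hR : ∀ x : R', ∃ r : R, x - algebraMap R R' r ∈ (m ^ n).map (algebraMap R R'))
    (x : A') :
    ∃ a : A, x - algebraMap A A' a ∈ (m ^ n).map (algebraMap R A') := by
  have h : Algebra.IsPushout R R' A A' := inferInstance
  have hJ : ((m ^ n).map (algebraMap R R')).map (algebraMap R' A') =
      (m ^ n).map (algebraMap R A') := by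
    rw [Ideal.map_map, ← IsScalarTower.algebraMap_eq]
  induction x using h.out.inductionOn with
  | zero => exact ⟨0, by simp⟩
  | tmul a => exact ⟨a, by simp⟩
  | smul s x ih =>
    obtain ⟨a, ha⟩ := ih
    obtain ⟨r, hr⟩ := hR s
    refine ⟨r • a, ?_⟩
    have e : s • x - algebraMap A A' (r • a) =
        s • (x - algebraMap A A' a) +
          algebraMap R' A' (s - algebraMap R R' r) * algebraMap A A' a := by
      rw [Algebra.smul_def, Algebra.smul_def, Algebra.smul_def, map_mul, map_sub,
        ← IsScalarTower.algebraMap_apply R R' A', ← IsScalarTower.algebraMap_apply R A A']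
      ring
    rw [e]
    refine Ideal.add_mem _ ?_ ?_
    · rw [Algebra.smul_def]
      exact Ideal.mul_mem_left _ _ ha
    · apply Ideal.mul_mem_right
      rw [← hJ]
      exact Ideal.mem_map_of_mem _ hr
  | add x y ihx ihy =>
    obtain ⟨a, ha⟩ := ihx
    obtain ⟨b, hb⟩ := ihy
    refine ⟨a + b, ?_⟩
    have e : x + y - algebraMap A A' (a + b) =
        (x - algebraMap A A' a) + (y - algebraMap A A' b) := by
      rw [map_add]; ring
    rw [e]
    exact Ideal.add_mem _ ha hb

/-- An ideal of `A'` containing `m^n A'` is extended from its contraction. -/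
theorem map_comap_eq (n : ℕ)
    (hR : ∀ x : R', ∃ r : R, x - algebraMap R R' r ∈ (m ^ n).map (algebraMap R R'))
    (I : Ideal A') (hI : (m ^ n).map (algebraMap R A') ≤ I) :
    (I.comap (algebraMap A A')).map (algebraMap A A') = I := by
  apply le_antisymm Ideal.map_comap_le
  intro x hx
  obtain ⟨a, ha⟩ := exists_sub_mem_pushout (R' := R') (A := A) m n hR x
  have h1 : algebraMap A A' a ∈ I := by
    have := I.sub_mem hx (hI ha)
    rwa [sub_sub_cancel] at this
  have h2 : (m ^ n).map (algebraMap R A') ≤ (I.comap (algebraMap A A')).map (algebraMap A A') := by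
    rw [IsScalarTower.algebraMap_eq R A A', ← Ideal.map_map]
    apply Ideal.map_mono
    rw [Ideal.map_le_iff_le_comap, Ideal.comap_comap, ← IsScalarTower.algebraMap_eq,
      ← Ideal.map_le_iff_le_comap]
    exact hI
  have h3 : x = (x - algebraMap A A' a) + algebraMap A A' a := by ring
  rw [h3]
  exact Ideal.add_mem _ (h2 ha) (Ideal.mem_map_of_mem _ h1)

end R2

end Groth.Agent.Lib.Helper9.CplDesc
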