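import Mathlib
import Groth.Prelude.Def_BlowUp2
import Groth.Agent.Lib.Helper9.CplDesc1
import Groth.Agent.Lib.Helper1.IdealSheafComap
import Groth.Agent.Lib.Helper25.BlowUpUP
import Groth.Agent.Lib.Helper29.QCohAss2

/-!
# Descent of ideal sheaves supported on the closed fibre along completion (helper9)
-/

set_option autoImplicit false
universe u
open CategoryTheory CategoryTheory.Limits AlgebraicGeometry TopologicalSpace Opposite

namespace Groth.Agent.Lib.Helper9.CplDesc

open Groth.Agent.Lib.Helper29.QCoh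

section chart

variable {R R' : Type u} [CommRing R] [CommRing R'] [Algebra R R'] {Y : Scheme.{u}}
  (q : Y ⟶ Spec (CommRingCat.of R))

instance isAffineHom_fst :
    IsAffineHom (pullback.fst q (Spec.map (CommRingCat.ofHom (algebraMap R R')))) :=
  MorphismProperty.pullback_fst _ _
    (inferInstance : IsAffineHom (Spec.map (CommRingCat.ofHom (algebraMap R R'))))

/-- Affine charts of `Y ×_R R'`: the sections over `π⁻¹ U` are the pushout, with explicit maps. -/
theorem chart_pushout_ring (U : Y.Opens) (hU : IsAffineOpen U) :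
    IsPushout (CommRingCat.ofHom (algebraMap R R'))
      ((Scheme.ΓSpecIso (CommRingCat.of R)).inv ≫ q.appLE ⊤ U (by simp))
      ((Scheme.ΓSpecIso (CommRingCat.of R')).inv ≫
        (pullback.snd q (Spec.map (CommRingCat.ofHom (algebraMap R R')))).appLE ⊤
          ((pullback.fst q (Spec.map (CommRingCat.ofHom (algebraMap R R')))) ⁻¹ᵁ U) (by simp))
      ((pullback.fst q (Spec.map (CommRingCat.ofHom (algebraMap R R')))).appLE U
        ((pullback.fst q (Spec.map (CommRingCat.ofHom (algebraMap R R')))) ⁻¹ᵁ U) le_rfl) := by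
  set h := Spec.map (CommRingCat.ofHom (algebraMap R R')) with hh
  set g := pullback.fst q h with hg
  set iY := pullback.snd q h with hiY
  have Hpb : IsPullback g iY q h := IsPullback.of_hasPullback q h
  have hW : IsAffineOpen (g ⁻¹ᵁ U) := hU.preimage g
  have hUY : g ⁻¹ᵁ U = g ⁻¹ᵁ U ⊓ iY ⁻¹ᵁ ⊤ := by simp
  have hiso := isIso_pushoutSection_of_isAffineOpen Hpb (US := ⊤) (UT := ⊤) (UX := U)
    (by simp) (by simp) hUY (isAffineOpen_top _) (isAffineOpen_top _) hU
  have Hpo := (isIso_pushoutSection_iff Hpb _ _ hUY).mp hiso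
  refine IsPushout.of_iso Hpo.flip (Scheme.ΓSpecIso (CommRingCat.of R))
    (Scheme.ΓSpecIso (CommRingCat.of R')) (Iso.refl _) (Iso.refl _) ?_ ?_ ?_ ?_
  · have := Scheme.ΓSpecIso_naturality (CommRingCat.ofHom (algebraMap R R'))
    rw [← this]
    congr 1
  · simp
  · simp
  · simp

end chart

section ker

variable {X Y : Scheme.{u}}

theorem ker_comp_ideal (f : X ⟶ Y) [QuasiCompact f] (I : X.IdealSheafData) (U : Y.affineOpens)
    (hW : IsAffineOpen (f ⁻¹ᵁ U.1)) :
    (I.subschemeι ≫ f).ker.ideal U = (I.ideal ⟨f ⁻¹ᵁ U.1, hW⟩).comap (f.app U.1).hom := by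
  rw [Scheme.Hom.ker_apply, ← I.ker_subschemeι_app ⟨f ⁻¹ᵁ U.1, hW⟩, RingHom.comap_ker]
  rfl

end ker

section pts

variable {X : Scheme.{u}}

theorem primeIdealOf_fromSpec {W : X.Opens} (hW : IsAffineOpen W) (y : PrimeSpectrum Γ(X, W))
    (hy : hW.fromSpec y ∈ W) : hW.primeIdealOf ⟨hW.fromSpec y, hy⟩ = y :=
  hW.fromSpec.isOpenEmbedding.injective (hW.fromSpec_primeIdealOf ⟨hW.fromSpec y, hy⟩)

/-- A section vanishing at all points of the support of `I` in `W` lies in the radical. -/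
theorem mem_radical_of_forall {W : X.Opens} (hW : IsAffineOpen W) (I : X.IdealSheafData)
    (t : Γ(X, W)) (h : ∀ x ∈ (I.support : Set X), x ∉ X.basicOpen t) :
    t ∈ (I.ideal ⟨W, hW⟩).radical := by
  rw [Ideal.radical_eq_sInf, Ideal.mem_sInf]
  rintro p ⟨hIp, hp⟩
  let y : PrimeSpectrum Γ(X, W) := ⟨p, hp⟩
  have hxW : hW.fromSpec y ∈ W := by
    have : hW.fromSpec y ∈ Set.range hW.fromSpec := ⟨y, rfl⟩
    rw [hW.range_fromSpec] at this
    exact this
  have hpy : (hW.primeIdealOf ⟨hW.fromSpec y, hxW⟩).asIdeal = p := by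
    rw [primeIdealOf_fromSpec hW y hxW]
  have hsupp : hW.fromSpec y ∈ (I.support : Set X) := by
    rw [SetLike.mem_coe,
      Scheme.IdealSheafData.mem_support_iff_of_mem (U := ⟨W, hW⟩) hxW, Scheme.mem_zeroLocus_iff]
    intro f hf
    rw [mem_basicOpen_iff_notMem_primeIdealOf hW _ hxW, not_not, hpy]
    exact hIp hf
  have := h _ hsupp
  rw [mem_basicOpen_iff_notMem_primeIdealOf hW _ hxW, not_not, hpy] at this
  exact this

end pts

section main

variable (R : Type u) [CommRing R] [IsDomain R] [IsDiscreteValuationRing R] {Y : Scheme.{u}}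
  (q : Y ⟶ Spec (CommRingCat.of R))

/-- chart-level: an ideal supported on the closed fibre is extended from its contraction. -/
theorem chart_map_comap_eq
    (I : (pullback q (Spec.map (CommRingCat.ofHom (algebraMap R
        (AdicCompletion (IsLocalRing.maximalIdeal R) R))))).IdealSheafData)
    (hI : (I.support : Set ↥(pullback q (Spec.map (CommRingCat.ofHom (algebraMap R
        (AdicCompletion (IsLocalRing.maximalIdeal R) R)))))) ⊆
      (pullback.fst q (Spec.map (CommRingCat.ofHom (algebraMap R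
        (AdicCompletion (IsLocalRing.maximalIdeal R) R)))) ≫ q).base ⁻¹'
          {IsLocalRing.closedPoint R})
    (U : Y.affineOpens)
    (hW : IsAffineOpen ((pullback.fst q (Spec.map (CommRingCat.ofHom (algebraMap R
        (AdicCompletion (IsLocalRing.maximalIdeal R) R))))) ⁻¹ᵁ U.1)) :
    ((I.ideal ⟨_, hW⟩).comap ((pullback.fst q (Spec.map (CommRingCat.ofHom (algebraMap R
        (AdicCompletion (IsLocalRing.maximalIdeal R) R))))).appLE U.1 _ le_rfl).hom).map
      ((pullback.fst q (Spec.map (CommRingCat.ofHom (algebraMap R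
        (AdicCompletion (IsLocalRing.maximalIdeal R) R))))).appLE U.1 _ le_rfl).hom =
      I.ideal ⟨_, hW⟩ := by
  let R' := AdicCompletion (IsLocalRing.maximalIdeal R) R
  let sR := Spec.map (CommRingCat.ofHom (algebraMap R R'))
  let π := pullback.fst q sR
  have Hpo := chart_pushout_ring (R' := R') q U.1 U.2
  let _ : Algebra Γ(Y, U.1) Γ(pullback q sR, π ⁻¹ᵁ U.1) :=
    (π.appLE U.1 (π ⁻¹ᵁ U.1) le_rfl).hom.toAlgebra
  let _ : Algebra R Γ(Y, U.1) := ((Scheme.ΓSpecIso (CommRingCat.of R)).inv ≫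
      q.appLE ⊤ U.1 (by simp)).hom.toAlgebra
  let _ : Algebra R' Γ(pullback q sR, π ⁻¹ᵁ U.1) :=
    ((Scheme.ΓSpecIso (CommRingCat.of R')).inv ≫
        (pullback.snd q sR).appLE ⊤ (π ⁻¹ᵁ U.1) (by simp)).hom.toAlgebra
  let _ : Algebra R Γ(pullback q sR, π ⁻¹ᵁ U.1) :=
    ((π.appLE U.1 (π ⁻¹ᵁ U.1) le_rfl).hom.comp ((Scheme.ΓSpecIso (CommRingCat.of R)).inv ≫
      q.appLE ⊤ U.1 (by simp)).hom).toAlgebra
  have ht1 : IsScalarTower R Γ(Y, U.1) Γ(pullback q sR, π ⁻¹ᵁ U.1) :=
    IsScalarTower.of_algebraMap_eq fun _ => rfl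
  have ht2 : IsScalarTower R R' Γ(pullback q sR, π ⁻¹ᵁ U.1) :=
    IsScalarTower.of_algebraMap_eq fun x => by
      have := congrArg (fun φ => φ.hom x) Hpo.w
      exact this.symm
  have hpo : Algebra.IsPushout R R' Γ(Y, U.1) Γ(pullback q sR, π ⁻¹ᵁ U.1) :=
    CommRingCat.isPushout_iff_isPushout.mp Hpo
  obtain ⟨ϖ, hϖ⟩ := IsDiscreteValuationRing.exists_irreducible R
  have hm : IsLocalRing.maximalIdeal R = Ideal.span {ϖ} := hϖ.maximalIdeal_eq
  have hfg : (IsLocalRing.maximalIdeal R).FG := by rw [hm]; exact ⟨{ϖ}, by simp⟩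
  -- the image of `ϖ` lies in the radical
  let t : Γ(pullback q sR, π ⁻¹ᵁ U.1) := algebraMap R Γ(pullback q sR, π ⁻¹ᵁ U.1) ϖ
  have hrad : t ∈ (I.ideal ⟨π ⁻¹ᵁ U.1, hW⟩).radical := by
    refine mem_radical_of_forall hW I t fun x hx hxt => ?_
    have h1 : (π ≫ q).base x = IsLocalRing.closedPoint R := hI hx
    have h2 : t = (π.appLE U.1 (π ⁻¹ᵁ U.1) le_rfl).hom
        ((q.appLE ⊤ U.1 (by simp)).hom ((Scheme.ΓSpecIso (CommRingCat.of R)).inv.hom ϖ)) := rfl
    rw [h2, Scheme.basicOpen_appLE, Scheme.basicOpen_appLE, basicOpen_eq_of_affine] at hxt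
    have h3 : q (π x) ∈ PrimeSpectrum.basicOpen ϖ := hxt.2.2
    have h4 : q (π x) = IsLocalRing.closedPoint R := h1
    rw [h4] at h3
    have h5 : ϖ ∉ (IsLocalRing.closedPoint R).asIdeal := h3
    apply h5
    change ϖ ∈ IsLocalRing.maximalIdeal R
    exact hm ▸ Ideal.mem_span_singleton_self ϖ
  obtain ⟨n, hn⟩ := hrad
  have hle : (IsLocalRing.maximalIdeal R ^ n).map
      (algebraMap R Γ(pullback q sR, π ⁻¹ᵁ U.1)) ≤ I.ideal ⟨π ⁻¹ᵁ U.1, hW⟩ := by
    have hpow : IsLocalRing.maximalIdeal R ^ n = Ideal.span {ϖ ^ n} := by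
      rw [hm, Ideal.span_singleton_pow]
    rw [hpow, Ideal.map_span, Set.image_singleton, Ideal.span_le,
      Set.singleton_subset_iff, map_pow]
    exact hn
  exact map_comap_eq (R' := R') (IsLocalRing.maximalIdeal R) n
    (fun x => exists_sub_mem _ hfg x n) _ hle

/-- Flat base change of a blowing up (second projection form). -/
theorem isBlowUp_pullback_snd_of_flat {X₁ X₂ X₂' : Scheme.{u}} (g : X₁ ⟶ X₂) [Flat g]
    (𝓘 : X₂.IdealSheafData) (b : X₂' ⟶ X₂) (hb : BlowUp.IsBlowUp b 𝓘) :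
    BlowUp.IsBlowUp (pullback.snd b g) (𝓘.comap g) := by
  refine ⟨?_, fun Y h hh => ?_⟩
  · rw [← Scheme.IdealSheafData.comap_comp, ← pullback.condition,
      Scheme.IdealSheafData.comap_comp]
    exact Groth.Agent.Lib.Helper25.BlowUpUP.isEffCartierIdeal_comap_of_flat _ _ hb.1
  · rw [← Scheme.IdealSheafData.comap_comp] at hh
    obtain ⟨k, hk, hk'⟩ := hb.2 Y (h ≫ g) hh
    refine ⟨pullback.lift k h hk, pullback.lift_snd _ _ _, fun m hm => ?_⟩
    have hm2 : m ≫ pullback.fst b g = k := by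
      apply hk'
      rw [Category.assoc, pullback.condition, ← Category.assoc, hm]
    apply pullback.hom_ext
    · rw [pullback.lift_fst]; exact hm2
    · rw [pullback.lift_snd]; exact hm

theorem main7927 [Flat q]
    (I : (pullback q (Spec.map (CommRingCat.ofHom (algebraMap R
        (AdicCompletion (IsLocalRing.maximalIdeal R) R))))).IdealSheafData)
    (hI : (I.support : Set ↥(pullback q (Spec.map (CommRingCat.ofHom (algebraMap R
        (AdicCompletion (IsLocalRing.maximalIdeal R) R)))))) ⊆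
      (pullback.fst q (Spec.map (CommRingCat.ofHom (algebraMap R
        (AdicCompletion (IsLocalRing.maximalIdeal R) R)))) ≫ q).base ⁻¹'
          {IsLocalRing.closedPoint R}) :
    ∃ I₀ : Y.IdealSheafData, (I₀.support : Set Y) ⊆ q.base ⁻¹' {IsLocalRing.closedPoint R} ∧
      I₀.comap (pullback.fst q (Spec.map (CommRingCat.ofHom (algebraMap R
        (AdicCompletion (IsLocalRing.maximalIdeal R) R))))) = I ∧
      ∀ (X : Scheme.{u}) (g : X ⟶ Y), BlowUp.IsBlowUp g I₀ →
        BlowUp.IsBlowUp (pullback.snd g (pullback.fst q (Spec.map (CommRingCat.ofHom (algebraMap R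
          (AdicCompletion (IsLocalRing.maximalIdeal R) R)))))) I := by
  let R' := AdicCompletion (IsLocalRing.maximalIdeal R) R
  let sR := Spec.map (CommRingCat.ofHom (algebraMap R R'))
  let π := pullback.fst q sR
  have hπaff : IsAffineHom π := isAffineHom_fst (R' := R') q
  have hcomap : ((I.subschemeι ≫ π).ker).comap π = I := by
    refine Scheme.IdealSheafData.ext_of_iSup_eq_top
      (fun U : Y.affineOpens => (⟨π ⁻¹ᵁ U.1, U.2.preimage π⟩ : (pullback q sR).affineOpens)) ?_ ?_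
    · have h1 : ⨆ U : Y.affineOpens, π ⁻¹ᵁ U.1 = π ⁻¹ᵁ (⨆ U : Y.affineOpens, U.1) := by
        rw [Scheme.Hom.preimage_iSup]
      change ⨆ U : Y.affineOpens, π ⁻¹ᵁ U.1 = ⊤
      rw [h1, iSup_affineOpens_eq_top Y]
      rfl
    · intro U
      rw [Groth.Agent.Lib.Helper1.ideal_comap _ π ⟨π ⁻¹ᵁ U.1, U.2.preimage π⟩ U le_rfl,
        ker_comp_ideal π I U (U.2.preimage π), Scheme.Hom.app_eq_appLE]
      exact chart_map_comap_eq R q I hI U (U.2.preimage π)
  refine ⟨(I.subschemeι ≫ π).ker, ?_, hcomap, ?_⟩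
  · rw [Scheme.Hom.support_ker]
    refine closure_minimal ?_ ?_
    · rintro _ ⟨z, rfl⟩
      have hz : I.subschemeι z ∈ (I.support : Set _) := by
        rw [← I.range_subschemeι]
        exact ⟨z, rfl⟩
      exact hI hz
    · exact (IsLocalRing.isClosed_singleton_closedPoint R).preimage q.continuous
  · intro X g hg
    have hsR : Flat sR := by
      rw [Flat.SpecMap_iff]
      change (algebraMap R R').Flat
      rw [RingHom.flat_algebraMap_iff]
      infer_instance
    have hflat : Flat π := MorphismProperty.pullback_fst _ _ hsR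
    have := isBlowUp_pullback_snd_of_flat π _ g hg
    rw [hcomap] at this
    exact this

end main

end Groth.Agent.Lib.Helper9.CplDesc
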