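import Mathlib
import Groth.Prelude.Def_ModSite2

/-!
# Stalks of modules on a ringed space (helper9)

Germs, the module structure on stalks and the stalk functor for sheaves of modules over a sheaf of
commutative rings on a topological space (`ModSite.Mod O`), using Mathlib's stalks of presheaves on spaces.
-/

set_option autoImplicit false

universe u

open CategoryTheory Limits TopologicalSpace Opposite

namespace Groth.Agent.Lib.Helper9.RS

noncomputable section

variable {X : TopCat.{u}} {O : TopCat.Sheaf CommRingCat.{u} X}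

/-- restriction of sections -/
def res (M : ModSite.Mod O) {U V : Opens X} (h : V ≤ U) : M.val.obj (op U) →+ M.val.obj (op V) :=
  (M.val.presheaf.map (homOfLE h).op).hom

/-- restriction of functions -/
def rres (O : TopCat.Sheaf CommRingCat.{u} X) {U V : Opens X} (h : V ≤ U) :
    O.presheaf.obj (op U) →+* O.presheaf.obj (op V) :=
  (O.presheaf.map (homOfLE h).op).hom

lemma res_smul (M : ModSite.Mod O) {U V : Opens X} (h : V ≤ U) (r : O.presheaf.obj (op U))
    (m : M.val.obj (op U)) :
    res M h ((show (ModSite.ringSh O).obj.obj (op U) from r) • m) =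
      (show (ModSite.ringSh O).obj.obj (op V) from rres O h r) • res M h m :=
  M.val.map_smul (homOfLE h).op r m

lemma res_res (M : ModSite.Mod O) {U V W : Opens X} (h : V ≤ U) (k : W ≤ V) (m : M.val.obj (op U)) :
    res M k (res M h m) = res M (k.trans h) m := by
  change (M.val.presheaf.map (homOfLE h).op ≫ M.val.presheaf.map (homOfLE k).op).hom m = _
  rw [← Functor.map_comp]
  rfl

lemma res_self (M : ModSite.Mod O) {U : Opens X} (m : M.val.obj (op U)) :
    res M (le_refl U) m = m := by
  change (M.val.presheaf.map (𝟙 (op U))).hom m = m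
  rw [CategoryTheory.Functor.map_id]
  rfl

/-- the application of a morphism on sections -/
def app {M N : ModSite.Mod O} (φ : M ⟶ N) (U : Opens X) : M.val.obj (op U) →+ N.val.obj (op U) :=
  (φ.val.app (op U)).hom.toAddMonoidHom

lemma app_smul {M N : ModSite.Mod O} (φ : M ⟶ N) (U : Opens X) (r : (ModSite.ringSh O).obj.obj (op U))
    (m : M.val.obj (op U)) : app φ U (r • m) = r • app φ U m :=
  (φ.val.app (op U)).hom.map_smul r m

lemma app_res {M N : ModSite.Mod O} (φ : M ⟶ N) {U V : Opens X} (h : V ≤ U) (m : M.val.obj (op U)) :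
    app φ V (res M h m) = res N h (app φ U m) :=
  PresheafOfModules.naturality_apply φ.val (homOfLE h).op m

lemma app_comp {M N P : ModSite.Mod O} (φ : M ⟶ N) (ψ : N ⟶ P) (U : Opens X) (m : M.val.obj (op U)) :
    app (φ ≫ ψ) U m = app ψ U (app φ U m) := rfl

lemma app_id (M : ModSite.Mod O) (U : Opens X) (m : M.val.obj (op U)) :
    app (𝟙 M) U m = m := rfl

lemma hom_ext' {M N : ModSite.Mod O} {φ ψ : M ⟶ N}
    (h : ∀ (U : Opens X) (m : M.val.obj (op U)), app φ U m = app ψ U m) : φ = ψ := by
  apply SheafOfModules.hom_ext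
  apply PresheafOfModules.hom_ext
  intro U
  ext m
  exact h U.unop m

/-- A morphism of modules from a compatible family of semilinear maps on sections. -/
def homOfApp {M N : ModSite.Mod O} (φ : ∀ W : Opens X, M.val.obj (op W) →+ N.val.obj (op W))
    (hsmul : ∀ (W : Opens X) (r : (ModSite.ringSh O).obj.obj (op W)) (σ : M.val.obj (op W)),
      φ W (r • σ) = r • φ W σ)
    (hres : ∀ {W W' : Opens X} (h : W' ≤ W) (σ : M.val.obj (op W)),
      φ W' (res M h σ) = res N h (φ W σ)) : M ⟶ N :=
  ⟨PresheafOfModules.homMk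
    { app := fun W => AddCommGrpCat.ofHom (φ W.unop)
      naturality := by
        intro W W' i
        ext σ
        exact hres (leOfHom i.unop) σ }
    (fun W r σ => hsmul W.unop r σ)⟩

lemma homOfApp_app {M N : ModSite.Mod O} (φ : ∀ W : Opens X, M.val.obj (op W) →+ N.val.obj (op W))
    (hsmul : ∀ (W : Opens X) (r : (ModSite.ringSh O).obj.obj (op W)) (σ : M.val.obj (op W)),
      φ W (r • σ) = r • φ W σ)
    (hres : ∀ {W W' : Opens X} (h : W' ≤ W) (σ : M.val.obj (op W)),
      φ W' (res M h σ) = res N h (φ W σ)) (W : Opens X) (σ : M.val.obj (op W)) :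
    app (homOfApp φ hsmul hres) W σ = φ W σ := rfl

/-! ### stalks -/

/-- the stalk of a module at a point, as a type -/
abbrev St (M : ModSite.Mod O) (x : X) : Type u := ↑(TopCat.Presheaf.stalk M.val.presheaf x)

instance stalkModule (M : ModSite.Mod O) (x : X) : Module (O.presheaf.stalk x) (St M x) :=
  inferInstanceAs (Module (O.presheaf.stalk x)
    ↑(TopCat.Presheaf.stalk (PresheafOfModules.presheaf
      (R := O.presheaf ⋙ forget₂ CommRingCat RingCat) M.val) x))

/-- the germ of a section -/
def gm (M : ModSite.Mod O) (x : X) (U : Opens X) (hx : x ∈ U) : M.val.obj (op U) →+ St M x :=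
  (TopCat.Presheaf.germ M.val.presheaf U x hx).hom

lemma gm_res (M : ModSite.Mod O) (x : X) {U V : Opens X} (h : V ≤ U) (hx : x ∈ V) (m : M.val.obj (op U)) :
    gm M x V hx (res M h m) = gm M x U (h hx) m :=
  TopCat.Presheaf.germ_res_apply M.val.presheaf (homOfLE h) x hx m

lemma exists_gm_eq (M : ModSite.Mod O) (x : X) (a : St M x) :
    ∃ (U : Opens X) (hx : x ∈ U) (m : M.val.obj (op U)), gm M x U hx m = a :=
  TopCat.Presheaf.exists_germ_eq M.val.presheaf (x := x) a

lemma gm_smul (M : ModSite.Mod O) (x : X) (U : Opens X) (hx : x ∈ U) (r : O.presheaf.obj (op U))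
    (m : M.val.obj (op U)) :
    gm M x U hx ((show (ModSite.ringSh O).obj.obj (op U) from r) • m) =
      O.presheaf.germ U x hx r • gm M x U hx m :=
  PresheafOfModules.germ_smul (R := O.presheaf) M.val x U hx r m

lemma gm_eq_zero_iff (M : ModSite.Mod O) (x : X) (U : Opens X) (hx : x ∈ U) (m : M.val.obj (op U)) :
    gm M x U hx m = 0 ↔ ∃ (V : Opens X) (h : V ≤ U), x ∈ V ∧ res M h m = 0 := by
  constructor
  · intro h0
    have h1 : gm M x U hx m = gm M x U hx 0 := by rw [h0, map_zero]
    obtain ⟨W, hW, iU, iV, e⟩ := TopCat.Presheaf.germ_eq M.val.presheaf x hx hx m 0 h1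
    refine ⟨W, leOfHom iU, hW, ?_⟩
    have e2 : res M (leOfHom iU) m = res M (leOfHom iV) 0 := e
    rw [e2, map_zero]
  · rintro ⟨V, h, hxV, e⟩
    rw [← gm_res M x h hxV, e, map_zero]

end

end Groth.Agent.Lib.Helper9.RS
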