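import Mathlib
import Groth.Agent.Lib.Helper9.RS1

/-!
# The stalk functor on modules over a ringed space (helper9)
-/

set_option autoImplicit false

universe u

open CategoryTheory Limits TopologicalSpace Opposite

namespace Groth.Agent.Lib.Helper9.RS

noncomputable section

variable {X : TopCat.{u}} {O : TopCat.Sheaf CommRingCat.{u} X}

lemma exists_germ_gm_eq (M : ModSite.Mod O) (x : X) (r : O.presheaf.stalk x) (a : St M x) :
    ∃ (U : Opens X) (hx : x ∈ U) (r' : O.presheaf.obj (op U)) (m : M.val.obj (op U)),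
      O.presheaf.germ U x hx r' = r ∧ gm M x U hx m = a := by
  obtain ⟨U, hU, r', rfl⟩ := TopCat.Presheaf.exists_germ_eq O.presheaf (x := x) r
  obtain ⟨V, hV, m, rfl⟩ := exists_gm_eq M x a
  refine ⟨U ⊓ V, ⟨hU, hV⟩, rres O inf_le_left r', res M inf_le_right m, ?_, ?_⟩
  · exact TopCat.Presheaf.germ_res_apply O.presheaf (homOfLE inf_le_left) x _ r'
  · exact gm_res M x inf_le_right _ m

/-- the map induced on stalks, as an additive map -/
def stMapAdd {M N : ModSite.Mod O} (φ : M ⟶ N) (x : X) : St M x →+ St N x :=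
  ((TopCat.Presheaf.stalkFunctor Ab x).map ((PresheafOfModules.toPresheaf _).map φ.val)).hom

lemma stMapAdd_gm {M N : ModSite.Mod O} (φ : M ⟶ N) (x : X) (U : Opens X) (hx : x ∈ U)
    (m : M.val.obj (op U)) : stMapAdd φ x (gm M x U hx m) = gm N x U hx (app φ U m) :=
  TopCat.Presheaf.stalkFunctor_map_germ_apply U x hx ((PresheafOfModules.toPresheaf _).map φ.val) m

/-- the map induced on stalks, as a linear map -/
def stMap {M N : ModSite.Mod O} (φ : M ⟶ N) (x : X) : St M x →ₗ[O.presheaf.stalk x] St N x where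
  toFun := stMapAdd φ x
  map_add' := map_add _
  map_smul' r a := by
    obtain ⟨U, hx, r', m, rfl, rfl⟩ := exists_germ_gm_eq M x r a
    rw [RingHom.id_apply, ← gm_smul, stMapAdd_gm, stMapAdd_gm, app_smul, gm_smul]

lemma stMap_gm {M N : ModSite.Mod O} (φ : M ⟶ N) (x : X) (U : Opens X) (hx : x ∈ U)
    (m : M.val.obj (op U)) : stMap φ x (gm M x U hx m) = gm N x U hx (app φ U m) :=
  stMapAdd_gm φ x U hx m

lemma linearMap_ext_gm {M : ModSite.Mod O} {x : X} {Q : Type*} [AddCommGroup Q]
    [Module (O.presheaf.stalk x) Q] {g g' : St M x →ₗ[O.presheaf.stalk x] Q}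
    (h : ∀ (U : Opens X) (hx : x ∈ U) (m : M.val.obj (op U)), g (gm M x U hx m) = g' (gm M x U hx m)) :
    g = g' := by
  ext a
  obtain ⟨U, hx, m, rfl⟩ := exists_gm_eq M x a
  exact h U hx m

/-- the stalk functor -/
def StF (O : TopCat.Sheaf CommRingCat.{u} X) (x : X) :
    ModSite.Mod O ⥤ ModuleCat.{u} (O.presheaf.stalk x) where
  obj M := ModuleCat.of (O.presheaf.stalk x) (St M x)
  map φ := ModuleCat.ofHom (stMap φ x)
  map_id M := by
    ext a
    obtain ⟨U, hx, m, rfl⟩ := exists_gm_eq M x a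
    exact stMap_gm (𝟙 M) x U hx m
  map_comp φ ψ := by
    ext a
    obtain ⟨U, hx, m, rfl⟩ := exists_gm_eq _ x a
    change stMap (φ ≫ ψ) x _ = stMap ψ x (stMap φ x _)
    rw [stMap_gm, stMap_gm, stMap_gm]
    rfl

lemma StF_map_gm {M N : ModSite.Mod O} (φ : M ⟶ N) (x : X) (U : Opens X) (hx : x ∈ U)
    (m : M.val.obj (op U)) :
    ((StF O x).map φ).hom (gm M x U hx m) = gm N x U hx (app φ U m) :=
  stMap_gm φ x U hx m

/-- sections of a sheaf of modules with vanishing germs vanish -/
lemma eq_zero_of_gm_eq_zero (M : ModSite.Mod O) {U : Opens X} (m : M.val.obj (op U))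
    (h : ∀ (x : X) (hx : x ∈ U), gm M x U hx m = 0) : m = 0 := by
  let F : TopCat.Sheaf Ab X := ⟨M.val.presheaf, M.isSheaf⟩
  refine TopCat.Presheaf.section_ext F U m 0 ?_
  intro x hx
  have := h x hx
  change (TopCat.Presheaf.germ M.val.presheaf U x hx) m = (TopCat.Presheaf.germ M.val.presheaf U x hx) 0
  rw [map_zero]
  exact this

/-- a morphism which is injective on stalks is a monomorphism -/
lemma mono_of_stMap_injective {M N : ModSite.Mod O} (φ : M ⟶ N)
    (h : ∀ x : X, Function.Injective (stMap φ x)) : Mono φ := by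
  have hinj : ∀ (U : Opens X) (m : M.val.obj (op U)), app φ U m = 0 → m = 0 := by
    intro U m hm
    apply eq_zero_of_gm_eq_zero
    intro x hx
    apply h x
    rw [stMap_gm, hm, map_zero, map_zero]
  constructor
  intro P g g' e
  apply hom_ext'
  intro U p
  rw [← sub_eq_zero]
  apply hinj
  rw [map_sub, sub_eq_zero]
  have := congrArg (fun ψ => app ψ U p) e
  exact this

/-- a monomorphism is injective on sections -/
lemma app_injective_of_mono {M N : ModSite.Mod O} (φ : M ⟶ N) [Mono φ] (U : Opens X) :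
    Function.Injective (app φ U) := by
  have h1 : Mono φ.val := inferInstanceAs (Mono ((SheafOfModules.forget _).map φ))
  have h2 : Mono (φ.val.app (op U)) :=
    inferInstanceAs (Mono ((PresheafOfModules.evaluation _ (op U)).map φ.val))
  exact (ModuleCat.mono_iff_injective _).1 h2

/-- a monomorphism is injective on stalks -/
lemma stMap_injective_of_mono {M N : ModSite.Mod O} (φ : M ⟶ N) [Mono φ] (x : X) :
    Function.Injective (stMap φ x) := by
  rw [injective_iff_map_eq_zero]
  intro a ha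
  obtain ⟨U, hx, m, rfl⟩ := exists_gm_eq M x a
  rw [stMap_gm, gm_eq_zero_iff] at ha
  obtain ⟨V, hV, hxV, e⟩ := ha
  rw [← app_res] at e
  have : res M hV m = 0 := app_injective_of_mono φ V (by rw [e, map_zero])
  rw [gm_eq_zero_iff]
  exact ⟨V, hV, hxV, this⟩

end

end Groth.Agent.Lib.Helper9.RS
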