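import Mathlib
import Groth.Agent.Lib.Helper9.RS2

/-!
# Skyscraper modules on a ringed space and the adjunction with the stalk functor (helper9)
-/

set_option autoImplicit false

universe u

open CategoryTheory Limits TopologicalSpace Opposite

namespace Groth.Agent.Lib.Helper9.RS

noncomputable section

variable {X : TopCat.{u}} (O : TopCat.Sheaf CommRingCat.{u} X) (y : X)

section Sky

variable (Q : Type u) [AddCommGroup Q] [Module (O.presheaf.stalk y) Q]

/-- The underlying presheaf of abelian groups of the skyscraper module. -/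
def skyAb : (Opens X)ᵒᵖ ⥤ Ab.{u} where
  obj V := AddCommGrpCat.of (PLift (y ∈ V.unop) → Q)
  map {V W} f := AddCommGrpCat.ofHom
    { toFun := fun φ h => φ ⟨f.unop.le h.down⟩
      map_zero' := rfl
      map_add' := fun _ _ => rfl }
  map_id := by intros; rfl
  map_comp := by intros; rfl

/-- The germ map as a ring hom out of the `RingCat`-valued structure sheaf. -/
def skyGerm (V : (Opens X)ᵒᵖ) (h : y ∈ V.unop) :
    ((ModSite.ringSh O).obj.obj V) →+* O.presheaf.stalk y :=
  (O.presheaf.germ V.unop y h).hom

theorem skyGerm_map {V W : (Opens X)ᵒᵖ} (f : V ⟶ W) (h : y ∈ W.unop)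
    (r : (ModSite.ringSh O).obj.obj V) :
    skyGerm O y W h ((ModSite.ringSh O).obj.map f r) = skyGerm O y V (f.unop.le h) r :=
  O.presheaf.germ_res_apply f.unop y h r

instance skyModule (V : (Opens X)ᵒᵖ) :
    Module ((ModSite.ringSh O).obj.obj V) ((skyAb y Q).obj V) where
  smul r φ := fun h => skyGerm O y V h.down r • φ h
  one_smul φ := by
    funext h
    change skyGerm O y V h.down 1 • φ h = φ h
    rw [map_one, one_smul]
  mul_smul r r' φ := by
    funext h
    change skyGerm O y V h.down (r * r') • φ h = skyGerm O y V h.down r • (skyGerm O y V h.down r' • φ h)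
    rw [map_mul, mul_smul]
  smul_zero r := by
    funext h
    exact smul_zero _
  smul_add r φ ψ := by
    funext h
    exact smul_add _ _ _
  add_smul r r' φ := by
    funext h
    change skyGerm O y V h.down (r + r') • φ h = skyGerm O y V h.down r • φ h + skyGerm O y V h.down r' • φ h
    rw [map_add, add_smul]
  zero_smul φ := by
    funext h
    change skyGerm O y V h.down 0 • φ h = 0
    rw [map_zero, zero_smul]

/-- The skyscraper presheaf of modules. -/
def skyPre : PresheafOfModules.{u} (ModSite.ringSh O).obj :=
  PresheafOfModules.ofPresheaf (skyAb y Q) (by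
    intro V W f r m
    funext h
    change skyGerm O y V _ r • m _ = skyGerm O y W h.down ((ModSite.ringSh O).obj.map f r) • m _
    rw [skyGerm_map])

omit [Module (O.presheaf.stalk y) Q] in
theorem skyAb_isSheaf : TopCat.Presheaf.IsSheaf (skyAb y Q) := by
  rw [TopCat.Presheaf.isSheaf_iff_isSheafUniqueGluing]
  intro ι U sf hsf
  have hex : ∀ h : PLift (y ∈ iSup U), ∃ i, y ∈ U i := fun h => Opens.mem_iSup.mp h.down
  refine ⟨fun h => sf (hex h).choose ⟨(hex h).choose_spec⟩, ?_, ?_⟩
  · intro i
    funext h
    have := congrFun (hsf (hex ⟨(Opens.leSupr U i).le h.down⟩).choose i)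
      ⟨⟨(hex ⟨(Opens.leSupr U i).le h.down⟩).choose_spec, h.down⟩⟩
    exact this
  · intro s' hs'
    funext h
    have := congrFun (hs' (hex h).choose) ⟨(hex h).choose_spec⟩
    exact this

/-- The skyscraper module at `y` with value `Q`. -/
def sky : ModSite.Mod O := ⟨skyPre O y Q, skyAb_isSheaf y Q⟩

/-- sections of a skyscraper module, as functions -/
def skySec {Q : Type u} [AddCommGroup Q] [Module (O.presheaf.stalk y) Q] {V : Opens X}
    (φ : (sky O y Q).val.obj (op V)) : PLift (y ∈ V) → Q := φ

/-- functions, as sections of a skyscraper module -/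
def ofSkySec {Q : Type u} [AddCommGroup Q] [Module (O.presheaf.stalk y) Q] {V : Opens X}
    (φ : PLift (y ∈ V) → Q) : (sky O y Q).val.obj (op V) := φ

lemma skySec_smul {V : Opens X} (r : O.presheaf.obj (op V)) (φ : (sky O y Q).val.obj (op V))
    (h : PLift (y ∈ V)) :
    skySec O y ((show (ModSite.ringSh O).obj.obj (op V) from r) • φ) h =
      O.presheaf.germ V y h.down r • skySec O y φ h := rfl

lemma skySec_res {U V : Opens X} (hVU : V ≤ U) (φ : (sky O y Q).val.obj (op U)) (h : PLift (y ∈ V)) :
    skySec O y (res (sky O y Q) hVU φ) h = skySec O y φ ⟨hVU h.down⟩ := rfl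

lemma skySec_add {V : Opens X} (φ ψ : (sky O y Q).val.obj (op V)) (h : PLift (y ∈ V)) :
    skySec O y (φ + ψ) h = skySec O y φ h + skySec O y ψ h := rfl

lemma skySec_ext {V : Opens X} {φ ψ : (sky O y Q).val.obj (op V)}
    (h : ∀ h : PLift (y ∈ V), skySec O y φ h = skySec O y ψ h) : φ = ψ := funext h

variable {Q}

/-- The morphism to the skyscraper module induced by a linear map out of the stalk. -/
def toSky (F : ModSite.Mod O) (g : St F y →ₗ[O.presheaf.stalk y] Q) : F ⟶ sky O y Q :=
  homOfApp (N := sky O y Q)
    (fun V => (show F.val.obj (op V) →+ (PLift (y ∈ V) → Q) from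
      { toFun := fun m h => g (gm F y V h.down m)
        map_zero' := by funext h; simp
        map_add' := fun m m' => by funext h; simp }))
    (fun V r m => by
      funext h
      change g (gm F y V h.down (r • m)) = O.presheaf.germ V y h.down r • g (gm F y V h.down m)
      rw [← map_smul]
      congr 1
      exact gm_smul F y V h.down r m)
    (fun {V V'} hV m => by
      funext h
      change g (gm F y V' h.down (res F hV m)) = g (gm F y V (hV h.down) m)
      rw [gm_res])

theorem toSky_app (F : ModSite.Mod O) (g : St F y →ₗ[O.presheaf.stalk y] Q) (V : Opens X)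
    (m : F.val.obj (op V)) (h : PLift (y ∈ V)) :
    skySec O y (app (toSky O y F g) V m) h = g (gm F y V h.down m) := rfl

end Sky

end

end Groth.Agent.Lib.Helper9.RS
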