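import Mathlib
import Groth.Agent.Lib.Helper9.RS3

/-!
# The adjunction between the stalk functor and the skyscraper functor on a ringed space (helper9)
-/

set_option autoImplicit false

universe u

open CategoryTheory Limits TopologicalSpace Opposite

namespace Groth.Agent.Lib.Helper9.RS

noncomputable section

variable {X : TopCat.{u}} (O : TopCat.Sheaf CommRingCat.{u} X) (y : X)

/-- maps out of a stalk from compatible maps on sections -/
def descAdd (M : ModSite.Mod O) (Q : Type u) [AddCommGroup Q]
    (ψ : ∀ (U : Opens X) (_ : y ∈ U), M.val.obj (op U) →+ Q)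
    (hψ : ∀ (U V : Opens X) (h : V ≤ U) (hy : y ∈ V) (m : M.val.obj (op U)),
      ψ V hy (res M h m) = ψ U (h hy) m) : St M y →+ Q :=
  (colimit.desc ((OpenNhds.inclusion y).op ⋙ M.val.presheaf)
    { pt := AddCommGrpCat.of Q
      ι :=
        { app := fun U => AddCommGrpCat.ofHom (ψ U.unop.1 U.unop.2)
          naturality := by
            intro U V i
            ext m
            exact hψ U.unop.1 V.unop.1 (leOfHom i.unop) V.unop.2 m } }).hom

lemma descAdd_gm (M : ModSite.Mod O) (Q : Type u) [AddCommGroup Q]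
    (ψ : ∀ (U : Opens X) (_ : y ∈ U), M.val.obj (op U) →+ Q)
    (hψ : ∀ (U V : Opens X) (h : V ≤ U) (hy : y ∈ V) (m : M.val.obj (op U)),
      ψ V hy (res M h m) = ψ U (h hy) m) (U : Opens X) (hy : y ∈ U) (m : M.val.obj (op U)) :
    descAdd O y M Q ψ hψ (gm M y U hy m) = ψ U hy m := by
  have := colimit.ι_desc
    ({ pt := AddCommGrpCat.of Q
       ι :=
        { app := fun U => AddCommGrpCat.ofHom (ψ U.unop.1 U.unop.2)
          naturality := by
            intro U V i
            ext m
            exact hψ U.unop.1 V.unop.1 (leOfHom i.unop) V.unop.2 m } } :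
      Cocone ((OpenNhds.inclusion y).op ⋙ M.val.presheaf)) (op ⟨U, hy⟩)
  exact congrArg (fun k => k.hom m) this

variable (Q : ModuleCat.{u} (O.presheaf.stalk y))

/-- evaluation of a germ of the skyscraper -/
def skyEvalAdd : St (sky O y Q) y →+ Q :=
  descAdd O y (sky O y Q) Q
    (fun U hU =>
      { toFun := fun φ => skySec O y φ ⟨hU⟩
        map_zero' := rfl
        map_add' := fun _ _ => rfl })
    (fun _ _ _ _ _ => rfl)

lemma skyEvalAdd_gm (U : Opens X) (hU : y ∈ U) (φ : (sky O y Q).val.obj (op U)) :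
    skyEvalAdd O y Q (gm (sky O y Q) y U hU φ) = skySec O y φ ⟨hU⟩ :=
  descAdd_gm O y (sky O y Q) Q _ _ U hU φ

/-- evaluation of a germ of the skyscraper, as a linear map -/
def skyEval : St (sky O y Q) y →ₗ[O.presheaf.stalk y] Q where
  toFun := skyEvalAdd O y Q
  map_add' := map_add _
  map_smul' r a := by
    obtain ⟨U, hx, r', φ, rfl, rfl⟩ := exists_germ_gm_eq (sky O y Q) y r a
    rw [RingHom.id_apply, ← gm_smul, skyEvalAdd_gm, skyEvalAdd_gm, skySec_smul]

lemma skyEval_gm (U : Opens X) (hU : y ∈ U) (φ : (sky O y Q).val.obj (op U)) :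
    skyEval O y Q (gm (sky O y Q) y U hU φ) = skySec O y φ ⟨hU⟩ :=
  skyEvalAdd_gm O y Q U hU φ

/-! ### the skyscraper functor -/

/-- the skyscraper construction on morphisms -/
def skyMap {Q Q' : ModuleCat.{u} (O.presheaf.stalk y)} (g : Q ⟶ Q') : sky O y Q ⟶ sky O y Q' :=
  homOfApp (M := sky O y Q) (N := sky O y Q')
    (fun V => (show (PLift (y ∈ V) → Q) →+ (PLift (y ∈ V) → Q') from
      { toFun := fun φ h => g.hom (φ h)
        map_zero' := by funext h; exact map_zero g.hom
        map_add' := fun φ ψ => by funext h; exact map_add g.hom _ _ }))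
    (fun V r φ => by
      funext h
      change g.hom (O.presheaf.germ V y h.down r • skySec O y φ h) =
        O.presheaf.germ V y h.down r • g.hom (skySec O y φ h)
      rw [map_smul])
    (fun _ _ => rfl)

lemma skyMap_app {Q Q' : ModuleCat.{u} (O.presheaf.stalk y)} (g : Q ⟶ Q') (V : Opens X)
    (φ : (sky O y Q).val.obj (op V)) (h : PLift (y ∈ V)) :
    skySec O y (app (skyMap O y g) V φ) h = g.hom (skySec O y φ h) := rfl

/-- the skyscraper functor -/
def skyF : ModuleCat.{u} (O.presheaf.stalk y) ⥤ ModSite.Mod O where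
  obj Q := sky O y Q
  map g := skyMap O y g
  map_id Q := by
    apply hom_ext'
    intro U φ
    rfl
  map_comp g g' := by
    apply hom_ext'
    intro U φ
    rfl

/-! ### the adjunction -/

/-- the morphism to a skyscraper attached to a morphism out of the stalk -/
def toSkyF (F : ModSite.Mod O) (Q : ModuleCat.{u} (O.presheaf.stalk y))
    (g : (StF O y).obj F ⟶ Q) : F ⟶ (skyF O y).obj Q :=
  toSky O y F g.hom

lemma toSkyF_app (F : ModSite.Mod O) (Q : ModuleCat.{u} (O.presheaf.stalk y))
    (g : (StF O y).obj F ⟶ Q) (V : Opens X) (m : F.val.obj (op V)) (h : PLift (y ∈ V)) :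
    skySec O y (app (toSkyF O y F Q g) V m) h = g.hom (gm F y V h.down m) := rfl

/-- the morphism out of the stalk attached to a morphism to a skyscraper -/
def ofSkyF (F : ModSite.Mod O) (Q : ModuleCat.{u} (O.presheaf.stalk y))
    (φ : F ⟶ (skyF O y).obj Q) : (StF O y).obj F ⟶ Q :=
  (StF O y).map φ ≫ ModuleCat.ofHom (skyEval O y Q)

lemma ofSkyF_gm (F : ModSite.Mod O) (Q : ModuleCat.{u} (O.presheaf.stalk y))
    (φ : F ⟶ (skyF O y).obj Q) (V : Opens X) (hV : y ∈ V) (m : F.val.obj (op V)) :
    (ofSkyF O y F Q φ).hom (gm F y V hV m) = skySec O y (app φ V m) ⟨hV⟩ := by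
  change skyEval O y Q (((StF O y).map φ).hom (gm F y V hV m)) = _
  rw [StF_map_gm]
  exact skyEval_gm O y Q V hV _

/-- the hom-equivalence of the adjunction stalk ⊣ skyscraper -/
def stalkSkyHomEquiv (F : ModSite.Mod O) (Q : ModuleCat.{u} (O.presheaf.stalk y)) :
    ((StF O y).obj F ⟶ Q) ≃ (F ⟶ (skyF O y).obj Q) where
  toFun g := toSkyF O y F Q g
  invFun φ := ofSkyF O y F Q φ
  left_inv g := by
    ext a
    obtain ⟨U, hU, s, rfl⟩ := exists_gm_eq F y a
    rw [ofSkyF_gm, toSkyF_app]
  right_inv φ := by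
    apply hom_ext'
    intro V m
    apply skySec_ext
    intro h
    rw [toSkyF_app, ofSkyF_gm]

/-- the adjunction between the stalk functor and the skyscraper functor -/
def stalkSkyAdj : StF O y ⊣ skyF O y :=
  Adjunction.mkOfHomEquiv
    { homEquiv := fun F Q => stalkSkyHomEquiv O y F Q
      homEquiv_naturality_left_symm := by
        intro F' F Q f φ
        change ofSkyF O y F' Q (f ≫ φ) = (StF O y).map f ≫ ofSkyF O y F Q φ
        unfold ofSkyF
        rw [Functor.map_comp, Category.assoc]
      homEquiv_naturality_right := by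
        intro F Q Q' g k
        change toSkyF O y F Q' (g ≫ k) = toSkyF O y F Q g ≫ (skyF O y).map k
        apply hom_ext'
        intro V m
        rfl }

end

end Groth.Agent.Lib.Helper9.RS
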