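import Mathlib
import Groth.Agent.Lib.Helper9.RS4

/-!
# Direct image of a skyscraper module along a morphism of ringed spaces (helper9)
-/

set_option autoImplicit false

universe u

open CategoryTheory Limits TopologicalSpace Opposite

namespace Groth.Agent.Lib.Helper9.RS

noncomputable section

variable {X Y : TopCat.{u}} (f : X ⟶ Y)
    {O_X : TopCat.Sheaf CommRingCat.{u} X} {O_Y : TopCat.Sheaf CommRingCat.{u} Y}
    (c : O_Y ⟶ ((TopologicalSpace.Opens.map f).sheafPushforwardContinuous CommRingCat.{u}
      (Opens.grothendieckTopology Y) (Opens.grothendieckTopology X)).obj O_X)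

/-- the morphism of ringed sites -/
abbrev rmor : ModSite.RMor O_X O_Y := ModSite.RMor.ofFlat (TopologicalSpace.Opens.map f) c

/-- preimage of opens -/
abbrev pre (V : Opens Y) : Opens X := (Opens.map f).obj V

/-- the comorphism on sections -/
def cmap (V : Opens Y) : O_Y.presheaf.obj (op V) →+* O_X.presheaf.obj (op (pre f V)) :=
  (c.hom.app (op V)).hom

/-- the ring map on stalks -/
def stalkRingMap (x : X) : O_Y.presheaf.stalk (f x) →+* O_X.presheaf.stalk x :=
  ((TopCat.Presheaf.stalkFunctor CommRingCat.{u} (f x)).map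
      (show O_Y.presheaf ⟶ (TopCat.Presheaf.pushforward CommRingCat.{u} f).obj O_X.presheaf from c.hom) ≫
    TopCat.Presheaf.stalkPushforward CommRingCat.{u} f O_X.presheaf x).hom

lemma stalkRingMap_germ (x : X) (V : Opens Y) (hx : f x ∈ V) (r : O_Y.presheaf.obj (op V)) :
    stalkRingMap f c x (O_Y.presheaf.germ V (f x) hx r) =
      O_X.presheaf.germ (pre f V) x hx (cmap f c V r) := by
  change (TopCat.Presheaf.stalkPushforward CommRingCat.{u} f O_X.presheaf x).hom
    (((TopCat.Presheaf.stalkFunctor CommRingCat.{u} (f x)).map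
      (show O_Y.presheaf ⟶ (TopCat.Presheaf.pushforward CommRingCat.{u} f).obj O_X.presheaf from c.hom)).hom
      (O_Y.presheaf.germ V (f x) hx r)) = _
  rw [TopCat.Presheaf.stalkFunctor_map_germ_apply]
  exact TopCat.Presheaf.stalkPushforward_germ_apply CommRingCat.{u} f O_X.presheaf V x hx _

/-- sections of the direct image -/
def toF (F : ModSite.Mod O_X) {V : Opens Y} (t : ((rmor f c).push.obj F).val.obj (op V)) :
    F.val.obj (op (pre f V)) := t

/-- sections of the direct image -/
def ofF (F : ModSite.Mod O_X) {V : Opens Y} (t : F.val.obj (op (pre f V))) :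
    ((rmor f c).push.obj F).val.obj (op V) := t

lemma toF_smul (F : ModSite.Mod O_X) {V : Opens Y} (b : O_Y.presheaf.obj (op V))
    (t : ((rmor f c).push.obj F).val.obj (op V)) :
    toF f c F ((show (ModSite.ringSh O_Y).obj.obj (op V) from b) • t) =
      (show (ModSite.ringSh O_X).obj.obj (op (pre f V)) from cmap f c V b) • toF f c F t := rfl

lemma toF_res (F : ModSite.Mod O_X) {V W : Opens Y} (h : W ≤ V)
    (t : ((rmor f c).push.obj F).val.obj (op V)) :
    toF f c F (res ((rmor f c).push.obj F) h t) =
      res F ((Opens.map f).monotone h) (toF f c F t) := rfl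

lemma toF_push_map {F G : ModSite.Mod O_X} (φ : F ⟶ G) {V : Opens Y}
    (t : ((rmor f c).push.obj F).val.obj (op V)) :
    toF f c G (app ((rmor f c).push.map φ) V t) = app φ (pre f V) (toF f c F t) := rfl

variable (x : X)

/-- direct image of a skyscraper: the forward map -/
def pushSkyHom (Q : ModuleCat.{u} (O_X.presheaf.stalk x)) :
    (rmor f c).push.obj (sky O_X x Q) ⟶
      sky O_Y (f x) ((ModuleCat.restrictScalars (stalkRingMap f c x)).obj Q) :=
  homOfApp (M := (rmor f c).push.obj (sky O_X x Q))
    (N := sky O_Y (f x) ((ModuleCat.restrictScalars (stalkRingMap f c x)).obj Q))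
    (fun V => (show (PLift (x ∈ pre f V) → Q) →+ (PLift (f x ∈ V) → Q) from
      { toFun := fun φ h => φ ⟨h.down⟩
        map_zero' := rfl
        map_add' := fun _ _ => rfl }))
    (fun V r φ => by
      funext h
      change O_X.presheaf.germ (pre f V) x h.down (cmap f c V r) • skySec O_X x (toF f c _ φ) ⟨h.down⟩ =
        stalkRingMap f c x (O_Y.presheaf.germ V (f x) h.down r) • skySec O_X x (toF f c _ φ) ⟨h.down⟩
      rw [stalkRingMap_germ])
    (fun _ _ => rfl)

/-- direct image of a skyscraper: the backward map -/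
def pushSkyInv (Q : ModuleCat.{u} (O_X.presheaf.stalk x)) :
    sky O_Y (f x) ((ModuleCat.restrictScalars (stalkRingMap f c x)).obj Q) ⟶
      (rmor f c).push.obj (sky O_X x Q) :=
  homOfApp (N := (rmor f c).push.obj (sky O_X x Q))
    (M := sky O_Y (f x) ((ModuleCat.restrictScalars (stalkRingMap f c x)).obj Q))
    (fun V => (show (PLift (f x ∈ V) → Q) →+ (PLift (x ∈ pre f V) → Q) from
      { toFun := fun φ h => φ ⟨h.down⟩
        map_zero' := rfl
        map_add' := fun _ _ => rfl }))
    (fun V r φ => by
      funext h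
      change stalkRingMap f c x (O_Y.presheaf.germ V (f x) h.down r) • φ ⟨h.down⟩ =
        O_X.presheaf.germ (pre f V) x h.down (cmap f c V r) • φ ⟨h.down⟩
      rw [stalkRingMap_germ])
    (fun _ _ => rfl)

/-- direct image of a skyscraper -/
def pushSkyIso (Q : ModuleCat.{u} (O_X.presheaf.stalk x)) :
    (rmor f c).push.obj (sky O_X x Q) ≅
      sky O_Y (f x) ((ModuleCat.restrictScalars (stalkRingMap f c x)).obj Q) where
  hom := pushSkyHom f c x Q
  inv := pushSkyInv f c x Q
  hom_inv_id := by
    apply hom_ext'
    intro V m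
    rfl
  inv_hom_id := by
    apply hom_ext'
    intro V m
    rfl

/-- direct image of skyscrapers, naturally -/
def pushSkyNatIso :
    skyF O_X x ⋙ (rmor f c).push ≅
      ModuleCat.restrictScalars (stalkRingMap f c x) ⋙ skyF O_Y (f x) :=
  NatIso.ofComponents (fun Q => pushSkyIso f c x Q) (by
    intro Q Q' g
    apply hom_ext'
    intro V m
    rfl)

end

end Groth.Agent.Lib.Helper9.RS
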