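import Mathlib
import Groth.Agent.Lib.Helper9.RS5

/-!
# The stalk of the inverse image; flat morphisms of ringed spaces have exact inverse image (helper9)
-/

set_option autoImplicit false

universe u

open CategoryTheory Limits TopologicalSpace Opposite

namespace Groth.Agent.Lib.Helper9.RS

noncomputable section

variable {X Y : TopCat.{u}} (f : X ⟶ Y)
    {O_X : TopCat.Sheaf CommRingCat.{u} X} {O_Y : TopCat.Sheaf CommRingCat.{u} Y}
    (c : O_Y ⟶ ((TopologicalSpace.Opens.map f).sheafPushforwardContinuous CommRingCat.{u}
      (Opens.grothendieckTopology Y) (Opens.grothendieckTopology X)).obj O_X)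
    (x : X)

/-- the stalk of the inverse image is the base change of the stalk -/
def pullStalkIso :
    (rmor f c).pull ⋙ StF O_X x ≅
      StF O_Y (f x) ⋙ ModuleCat.extendScalars (stalkRingMap f c x) :=
  ((rmor f c).adj.comp (stalkSkyAdj O_X x)).leftAdjointUniq
    (((stalkSkyAdj O_Y (f x)).comp
      (ModuleCat.extendRestrictScalarsAdj (stalkRingMap f c x))).ofNatIsoRight
        (pushSkyNatIso f c x).symm)

/-- inverse image along a flat morphism preserves monomorphisms -/
theorem mono_pull_map (hflat : ∀ x : X, (stalkRingMap f c x).Flat) {M N : ModSite.Mod O_Y}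
    (g : M ⟶ N) [Mono g] : Mono ((rmor f c).pull.map g) := by
  apply mono_of_stMap_injective
  intro x
  have := ModuleCat.preservesFiniteLimits_extendScalars_of_flat.{u} (hflat x)
  have h0 : Mono ((StF O_Y (f x)).map g) :=
    (ModuleCat.mono_iff_injective _).2 (stMap_injective_of_mono g (f x))
  have h1 : Mono ((StF O_Y (f x) ⋙ ModuleCat.extendScalars (stalkRingMap f c x)).map g) := by
    change Mono ((ModuleCat.extendScalars (stalkRingMap f c x)).map ((StF O_Y (f x)).map g))
    infer_instance
  have h2 : Mono (((rmor f c).pull ⋙ StF O_X x).map g) := by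
    have e := NatIso.naturality_2 (pullStalkIso f c x) g
    rw [← e]
    exact mono_comp' (IsIso.mono_of_iso _) (mono_comp' h1 (IsIso.mono_of_iso _))
  have h3 : Mono ((StF O_X x).map ((rmor f c).pull.map g)) := h2
  exact (ModuleCat.mono_iff_injective _).1 h3

/-- a morphism of ringed spaces with flat stalk maps is flat -/
theorem isFlat_of_stalk_flat (hflat : ∀ x : X, (stalkRingMap f c x).Flat) :
    ModSite.RMor.IsFlat (rmor f c) := by
  unfold ModSite.RMor.IsFlat
  have hadd : (rmor f c).pull.Additive := (rmor f c).adj.left_adjoint_additive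
  have hc0 : PreservesColimitsOfSize.{0, 0} (rmor f c).pull :=
    (rmor f c).adj.leftAdjoint_preservesColimits
  have hc : PreservesFiniteColimits (rmor f c).pull :=
    PreservesColimitsOfSize.preservesFiniteColimits.{0, 0} (rmor f c).pull
  refine ((Functor.preservesFiniteLimits_tfae (rmor f c).pull).out 0 3 rfl rfl).1 ?_
  intro S hS
  have := hS.mono_f
  exact ⟨(((Functor.preservesFiniteColimits_tfae (rmor f c).pull).out 0 3 rfl rfl).2 hc S hS).1,
    mono_pull_map f c hflat S.f⟩

end

end Groth.Agent.Lib.Helper9.RS
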