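import Mathlib
import Groth.Agent.Lib.Helper9.RS5

/-!
# Flatness of the stalk map from flatness on a basis of good opens (helper9)
-/

set_option autoImplicit false

universe u

open CategoryTheory Limits TopologicalSpace Opposite

namespace Groth.Agent.Lib.Helper9.RS

noncomputable section

variable {X Y : TopCat.{u}} (f : X ⟶ Y)
    {O_X : TopCat.Sheaf CommRingCat.{u} X} {O_Y : TopCat.Sheaf CommRingCat.{u} Y}
    (c : O_Y ⟶ ((TopologicalSpace.Opens.map f).sheafPushforwardContinuous CommRingCat.{u}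
      (Opens.grothendieckTopology Y) (Opens.grothendieckTopology X)).obj O_X)

lemma cmap_rres {V W : Opens Y} (h : W ≤ V) (b : O_Y.presheaf.obj (op V)) :
    cmap f c W (rres O_Y h b) = rres O_X ((Opens.map f).monotone h) (cmap f c V b) := by
  have h1 := c.hom.naturality (homOfLE h).op
  exact congrArg (fun φ => φ.hom b) h1

lemma germ_rres (O : TopCat.Sheaf CommRingCat.{u} X) (x : X) {U V : Opens X} (h : V ≤ U) (hx : x ∈ V)
    (r : O.presheaf.obj (op U)) :
    O.presheaf.germ V x hx (rres O h r) = O.presheaf.germ U x (h hx) r :=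
  TopCat.Presheaf.germ_res_apply O.presheaf (homOfLE h) x hx r

lemma germ_eq_zero (O : TopCat.Sheaf CommRingCat.{u} X) (x : X) (U : Opens X) (hx : x ∈ U)
    (r : O.presheaf.obj (op U)) (h0 : O.presheaf.germ U x hx r = 0) :
    ∃ (V : Opens X) (h : V ≤ U), x ∈ V ∧ rres O h r = 0 := by
  have h1 : O.presheaf.germ U x hx r = O.presheaf.germ U x hx 0 := by rw [h0, map_zero]
  obtain ⟨W, hW, iU, iV, e⟩ := TopCat.Presheaf.germ_eq O.presheaf x hx hx r 0 h1
  refine ⟨W, leOfHom iU, hW, ?_⟩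
  have e2 : rres O (leOfHom iU) r = rres O (leOfHom iV) 0 := e
  rw [e2, map_zero]

/-- finitely many germs are defined on a common neighbourhood -/
lemma exists_common_germ (O : TopCat.Sheaf CommRingCat.{u} X) (x : X) {l : ℕ}
    (a : Fin l → O.presheaf.stalk x) :
    ∃ (U : Opens X) (hx : x ∈ U) (a' : Fin l → O.presheaf.obj (op U)),
      ∀ i, O.presheaf.germ U x hx (a' i) = a i := by
  have h1 : ∀ i, ∃ (U : Opens X) (hx : x ∈ U) (r : O.presheaf.obj (op U)),
      O.presheaf.germ U x hx r = a i := fun i => TopCat.Presheaf.exists_germ_eq O.presheaf (x := x) (a i)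
  choose U hU r hr using h1
  have hle : ∀ i, (⨅ i, U i) ≤ U i := fun i => iInf_le U i
  have hx : x ∈ ⨅ i, U i := by
    rw [← SetLike.mem_coe, Opens.coe_iInf, Set.mem_iInter]
    exact hU
  refine ⟨⨅ i, U i, hx, fun i => rres O (hle i) (r i), fun i => ?_⟩
  rw [germ_rres, hr]

/-- **Flatness of the stalk map from flatness on good opens.** -/
theorem stalkRingMap_flat (x : X) (P : Opens Y → Prop)
    (hP : ∀ (U : Opens X) (V : Opens Y), x ∈ U → f x ∈ V →
      ∃ W : Opens Y, P W ∧ f x ∈ W ∧ W ≤ V ∧ pre f W ≤ U)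
    (hflat : ∀ W : Opens Y, P W → (cmap f c W).Flat) :
    (stalkRingMap f c x).Flat := by
  let _ := (stalkRingMap f c x).toAlgebra
  change Module.Flat (O_Y.presheaf.stalk (f x)) (O_X.presheaf.stalk x)
  apply Module.Flat.of_forall_isTrivialRelation
  intro l fs xs hrel
  have hsmul : ∀ (b : O_Y.presheaf.stalk (f x)) (m : O_X.presheaf.stalk x),
      b • m = stalkRingMap f c x b * m := fun b m => rfl
  -- step 1: common neighbourhoods
  obtain ⟨V, hV, fs', hfs'⟩ := exists_common_germ O_Y (f x) fs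
  obtain ⟨U, hU, xs', hxs'⟩ := exists_common_germ O_X x xs
  obtain ⟨W₁, -, hxW₁, hW₁V, hW₁U⟩ := hP U V hU hV
  -- step 3: the relation holds near `x`
  let s : O_X.presheaf.obj (op (pre f W₁)) :=
    ∑ i, cmap f c W₁ (rres O_Y hW₁V (fs' i)) * rres O_X hW₁U (xs' i)
  have hs : O_X.presheaf.germ (pre f W₁) x hxW₁ s = 0 := by
    rw [← hrel, map_sum]
    refine Finset.sum_congr rfl fun i _ => ?_
    rw [map_mul, hsmul, ← stalkRingMap_germ, germ_rres, germ_rres, hfs', hxs']
  obtain ⟨U', hU', hxU', hs'⟩ := germ_eq_zero O_X x _ hxW₁ s hs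
  obtain ⟨W₂, hPW₂, hxW₂, hW₂W₁, hW₂U'⟩ := hP U' W₁ hxU' hxW₁
  -- step 4: the relation on `W₂`
  let F : Fin l → O_Y.presheaf.obj (op W₂) := fun i => rres O_Y (hW₂W₁.trans hW₁V) (fs' i)
  let G : Fin l → O_X.presheaf.obj (op (pre f W₂)) :=
    fun i => rres O_X (hW₂U'.trans (hU'.trans hW₁U)) (xs' i)
  have hFG : ∑ i, cmap f c W₂ (F i) * G i = 0 := by
    have h1 : rres O_X hW₂U' (rres O_X hU' s) = 0 := by rw [hs', map_zero]
    rw [← h1]
    change _ = rres O_X hW₂U' (rres O_X hU' (∑ i, cmap f c W₁ (rres O_Y hW₁V (fs' i)) * rres O_X hW₁U (xs' i)))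
    rw [map_sum, map_sum]
    refine Finset.sum_congr rfl fun i _ => ?_
    rw [map_mul, map_mul]
    congr 1
    · change cmap f c W₂ (rres O_Y (hW₂W₁.trans hW₁V) (fs' i)) = _
      have e1 : rres O_Y (hW₂W₁.trans hW₁V) (fs' i) = rres O_Y hW₂W₁ (rres O_Y hW₁V (fs' i)) := by
        change _ = (O_Y.presheaf.map (homOfLE hW₁V).op ≫ O_Y.presheaf.map (homOfLE hW₂W₁).op).hom (fs' i)
        rw [← Functor.map_comp]
        rfl
      rw [e1, cmap_rres]
      change _ = (O_X.presheaf.map (homOfLE hU').op ≫ O_X.presheaf.map (homOfLE hW₂U').op).hom _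
      rw [← Functor.map_comp]
      rfl
    · change rres O_X (hW₂U'.trans (hU'.trans hW₁U)) (xs' i) =
        (O_X.presheaf.map (homOfLE hU').op ≫ O_X.presheaf.map (homOfLE hW₂U').op).hom
          ((O_X.presheaf.map (homOfLE hW₁U).op).hom (xs' i))
      rw [← Functor.map_comp]
      change _ = (O_X.presheaf.map (homOfLE hW₁U).op ≫ O_X.presheaf.map _).hom (xs' i)
      rw [← Functor.map_comp]
      rfl
  -- step 5: flatness on `W₂`
  have hfl := hflat W₂ hPW₂
  let _ := (cmap f c W₂).toAlgebra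
  have hfl' : Module.Flat (O_Y.presheaf.obj (op W₂)) (O_X.presheaf.obj (op (pre f W₂))) := hfl
  obtain ⟨k, a, y, hxy, hfa⟩ := Module.Flat.isTrivialRelation_of_sum_smul_eq_zero (f := F) (x := G) hFG
  -- step 6: germs
  refine ⟨k, fun i j => O_Y.presheaf.germ W₂ (f x) hxW₂ (a i j),
    fun j => O_X.presheaf.germ (pre f W₂) x hxW₂ (y j), fun i => ?_, fun j => ?_⟩
  · have h1 : xs i = O_X.presheaf.germ (pre f W₂) x hxW₂ (G i) := by
      rw [germ_rres, hxs']
    rw [h1, hxy i, map_sum]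
    refine Finset.sum_congr rfl fun j _ => ?_
    rw [hsmul, stalkRingMap_germ, ← map_mul]
    rfl
  · have h1 : ∀ i, fs i = O_Y.presheaf.germ W₂ (f x) hxW₂ (F i) := by
      intro i
      rw [germ_rres, hfs']
    simp_rw [h1, ← map_mul]
    rw [← map_sum, hfa j, map_zero]

end

end Groth.Agent.Lib.Helper9.RS
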