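import Mathlib
import Groth.Agent.Lib.Helper9.CplFlat3
import Groth.Agent.Lib.Helper9.RS6
import Groth.Agent.Lib.Helper9.RS7

/-!
# The completion of a locally Noetherian scheme along a closed subscheme is flat over the scheme (helper9)
-/

set_option autoImplicit false

universe u

open CategoryTheory Limits TopologicalSpace Opposite AlgebraicGeometry

namespace Groth.Agent.Lib.Helper9.CplFlat

noncomputable section

variable (X : Scheme.{u}) [IsLocallyNoetherian X] (𝓘 : X.IdealSheafData)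
  (h : (FSch.completionAlong X 𝓘).IsFormal)

omit [IsLocallyNoetherian X] in
lemma qn_surjective (W : X.Opens) (hW : IsAffineOpen W) (n : ℕ) :
    Function.Surjective (qn (FSch.completionAlong X 𝓘) h (FSch.completionToX X 𝓘)
      (FSch.completionToX_comm X 𝓘) W n) := by
  rw [qn_eq]
  exact appLE_surjective_of_eq (FSch.completionToX X 𝓘 n) W _
    (FSch.lvU_p (FSch.completionAlong X 𝓘) h (FSch.completionToX X 𝓘)
      (FSch.completionToX_comm X 𝓘) n W).symm
    ((𝓘 ^ (n + 1)).subschemeι_app_surjective ⟨W, hW⟩)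

omit [IsLocallyNoetherian X] in
lemma ker_qn (W : X.Opens) (hW : IsAffineOpen W) (n : ℕ) :
    RingHom.ker (qn (FSch.completionAlong X 𝓘) h (FSch.completionToX X 𝓘)
      (FSch.completionToX_comm X 𝓘) W n) = (𝓘.ideal ⟨W, hW⟩) ^ (n + 1) := by
  have h1 := ker_appLE_of_eq (FSch.completionToX X 𝓘 n) W _
    (FSch.lvU_p (FSch.completionAlong X 𝓘) h (FSch.completionToX X 𝓘)
      (FSch.completionToX_comm X 𝓘) n W).symm
  exact h1.trans ((𝓘 ^ (n + 1)).ker_subschemeι_app ⟨W, hW⟩)

lemma flat_cmap (W : X.Opens) (hW : IsAffineOpen W) :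
    (RS.cmap (FSch.completionToX X 𝓘 0).base
      (FSch.schSharp (FSch.completionAlong X 𝓘) h (FSch.completionToX X 𝓘)
        (FSch.completionToX_comm X 𝓘)) W).Flat := by
  have : IsNoetherianRing Γ(X, W) := IsLocallyNoetherian.component_noetherian ⟨W, hW⟩
  exact flat_φW (FSch.completionAlong X 𝓘) h (FSch.completionToX X 𝓘)
    (FSch.completionToX_comm X 𝓘) W (𝓘.ideal ⟨W, hW⟩) (qn_surjective X 𝓘 h W hW) (ker_qn X 𝓘 h W hW)

omit [IsLocallyNoetherian X] in
lemma exists_affine_nbhd (x : (FSch.completionAlong X 𝓘).X 0)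
    (U : ((FSch.completionAlong X 𝓘).X 0).Opens) (V : X.Opens) (hxU : x ∈ U)
    (hxV : (FSch.completionToX X 𝓘 0).base x ∈ V) :
    ∃ W : X.Opens, IsAffineOpen W ∧ (FSch.completionToX X 𝓘 0).base x ∈ W ∧ W ≤ V ∧
      (FSch.completionToX X 𝓘 0) ⁻¹ᵁ W ≤ U := by
  have : IsPreimmersion (FSch.completionToX X 𝓘 0) :=
    inferInstanceAs (IsPreimmersion (𝓘 ^ (0 + 1)).subschemeι)
  have hemb : Topology.IsEmbedding (FSch.completionToX X 𝓘 0).base :=
    (FSch.completionToX X 𝓘 0).isEmbedding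
  obtain ⟨U', hU'o, hU'⟩ := hemb.isInducing.isOpen_iff.1 U.2
  let U'' : X.Opens := ⟨U', hU'o⟩
  have hx'' : (FSch.completionToX X 𝓘 0).base x ∈ V ⊓ U'' := by
    refine ⟨hxV, ?_⟩
    have : x ∈ (FSch.completionToX X 𝓘 0).base ⁻¹' U' := by
      rw [hU']
      exact hxU
    exact this
  obtain ⟨_, ⟨W, hW, rfl⟩, hxW, hWV⟩ :=
    X.isBasis_affineOpens.exists_subset_of_mem_open hx'' (V ⊓ U'').2
  refine ⟨W, hW, hxW, fun y hy => (hWV hy).1, ?_⟩
  intro z hz
  have h1 : (FSch.completionToX X 𝓘 0).base z ∈ U' := (hWV hz).2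
  have h2 : z ∈ (FSch.completionToX X 𝓘 0).base ⁻¹' U' := h1
  rw [hU'] at h2
  exact h2

/-- the completion of a locally Noetherian scheme along a closed subscheme is flat -/
theorem isFlat_completion :
    ModSite.RMor.IsFlat (FSch.toSchemeMor (FSch.completionAlong X 𝓘) h (FSch.completionToX X 𝓘)
      (FSch.completionToX_comm X 𝓘)) := by
  refine RS.isFlat_of_stalk_flat (FSch.completionToX X 𝓘 0).base
    (FSch.schSharp (FSch.completionAlong X 𝓘) h (FSch.completionToX X 𝓘)
      (FSch.completionToX_comm X 𝓘)) (fun x => ?_)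
  exact RS.stalkRingMap_flat _ _ x (fun W : X.Opens => IsAffineOpen W)
    (fun U V hxU hxV => exists_affine_nbhd X 𝓘 x U V hxU hxV)
    (fun W hW => flat_cmap X 𝓘 h W hW)

end

end Groth.Agent.Lib.Helper9.CplFlat
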