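import Mathlib
import Groth.Agent.Lib.Helper9.ComplUnram
import Groth.Agent.Lib.Helper18.FlatLocal
import Groth.Agent.Lib.Helper21.RegularLocal
import Groth.Agent.Lib.Helper18.AnUnram3

set_option autoImplicit false
universe u
open IsLocalRing

namespace Groth.Agent.Lib.Helper9.CplIso

section fibre

variable (A C : Type u) [CommRing A] [CommRing C] [IsLocalRing A] [IsLocalRing C]
  [IsNoetherianRing A] [IsNoetherianRing C] [Algebra A C] [IsLocalHom (algebraMap A C)]
  [Module.Flat A C]

/-- For a flat local homomorphism with `𝔪_A C = 𝔪_C`, `dim C = dim A`. -/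
theorem ringKrullDim_eq_of_map_eq (h : (maximalIdeal A).map (algebraMap A C) = maximalIdeal C) :
    ringKrullDim C = ringKrullDim A := by
  have hloc : IsLocalRing (C ⧸ (maximalIdeal A).map (algebraMap A C)) :=
    Groth.Agent.Lib.Helper21.isLocalRing_quotient_of_le_maximalIdeal h.le
  have hmax : ((maximalIdeal A).map (algebraMap A C)).IsMaximal := h ▸ maximalIdeal.isMaximal C
  have hfield : IsField (C ⧸ (maximalIdeal A).map (algebraMap A C)) :=
    (Ideal.Quotient.maximal_ideal_iff_isField_quotient _).mp hmax
  have h0 : ringKrullDim (C ⧸ (maximalIdeal A).map (algebraMap A C)) = 0 :=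
    ringKrullDim_eq_zero_of_isField hfield
  rw [Groth.Agent.Lib.Helper18.FlatLocal.ringKrullDim_eq_add_fibre_of_flat A C, h0, add_zero]

/-- For a flat local homomorphism with `𝔪_A C = 𝔪_C` and `A` regular, `C` is regular. -/
theorem isRegularLocalRing_of_map_eq [IsRegularLocalRing A]
    (h : (maximalIdeal A).map (algebraMap A C) = maximalIdeal C) :
    IsRegularLocalRing C := by
  have hloc : IsLocalRing (C ⧸ (maximalIdeal A).map (algebraMap A C)) :=
    Groth.Agent.Lib.Helper21.isLocalRing_quotient_of_le_maximalIdeal h.le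
  have hbot : maximalIdeal (C ⧸ (maximalIdeal A).map (algebraMap A C)) = ⊥ := by
    rw [Groth.Agent.Lib.Helper21.maximalIdeal_quotient_eq_map, ← h, Ideal.map_quotient_self]
  have hreg : IsRegularLocalRing (C ⧸ (maximalIdeal A).map (algebraMap A C)) := by
    apply IsRegularLocalRing.of_spanFinrank_maximalIdeal_le
    rw [hbot, Submodule.spanFinrank_bot]
    exact ringKrullDim_nonneg_of_nontrivial
  exact Groth.Agent.Lib.Helper18.FlatLocal.isRegularLocalRing_of_flat_of_fibre A C

end fibre

section cpl

variable (R : Type u) [CommRing R] [IsLocalRing R] [IsNoetherianRing R]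

theorem map_eq_cpl :
    (maximalIdeal R).map (algebraMap R (AdicCompletion (maximalIdeal R) R)) =
      maximalIdeal (AdicCompletion (maximalIdeal R) R) :=
  (AdicCompletion.maximalIdeal_eq_map (R := R)).symm

theorem ringKrullDim_cpl :
    ringKrullDim (AdicCompletion (maximalIdeal R) R) = ringKrullDim R := by
  have : IsNoetherianRing (AdicCompletion (maximalIdeal R) R) :=
    Groth.Agent.Lib.Helper18.Nag.isNoetherianRing_cpl R
  exact ringKrullDim_eq_of_map_eq R _ (map_eq_cpl R)

theorem isRegularLocalRing_cpl [IsRegularLocalRing R] :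
    IsRegularLocalRing (AdicCompletion (maximalIdeal R) R) := by
  have : IsNoetherianRing (AdicCompletion (maximalIdeal R) R) :=
    Groth.Agent.Lib.Helper18.Nag.isNoetherianRing_cpl R
  exact isRegularLocalRing_of_map_eq R _ (map_eq_cpl R)

end cpl

end Groth.Agent.Lib.Helper9.CplIso

namespace Groth.Agent.Lib.Helper9.CplIso

open Groth.Agent.Lib.Helper9

theorem main (A B : Type u) [CommRing A]
    [CommRing B] [IsRegularLocalRing A] [IsLocalRing B] [IsNoetherianRing B] (φ : A →+* B) [IsLocalHom φ]
    (hk : Function.Bijective (IsLocalRing.ResidueField.map φ))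
    (hdim : ringKrullDim B = ringKrullDim A)
    (hcot : IsLocalRing.maximalIdeal B ≤
      Ideal.map φ (IsLocalRing.maximalIdeal A) ⊔ IsLocalRing.maximalIdeal B ^ 2)
    (ψ : AdicCompletion (IsLocalRing.maximalIdeal A) A →+* AdicCompletion (IsLocalRing.maximalIdeal B) B)
    (hψ : ψ.comp (algebraMap A (AdicCompletion (IsLocalRing.maximalIdeal A) A)) =
      (algebraMap B (AdicCompletion (IsLocalRing.maximalIdeal B) B)).comp φ) :
    Function.Bijective ψ := by
  let _ : Algebra A B := φ.toAlgebra
  have : IsLocalHom (algebraMap A B) := ‹IsLocalHom φ›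
  have hm : (maximalIdeal A).map (algebraMap A B) = maximalIdeal B := by
    apply le_antisymm (((local_hom_TFAE (algebraMap A B)).out 0 2).mp ‹_›)
    apply Submodule.le_of_le_smul_of_le_jacobson_bot (maximalIdeal B).fg_of_isNoetherianRing
      (IsLocalRing.maximalIdeal_le_jacobson ⊥)
    rw [smul_eq_mul, ← pow_two]
    exact hcot
  have hAN : IsNoetherianRing (AdicCompletion (maximalIdeal A) A) :=
    Groth.Agent.Lib.Helper18.Nag.isNoetherianRing_cpl A
  have hBN : IsNoetherianRing (AdicCompletion (maximalIdeal B) B) :=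
    Groth.Agent.Lib.Helper18.Nag.isNoetherianRing_cpl B
  have hloc : IsLocalHom ψ := ComplUnram.isLocalHom A B ψ hψ
  have hmax : (maximalIdeal (AdicCompletion (maximalIdeal A) A)).map ψ =
      maximalIdeal (AdicCompletion (maximalIdeal B) B) :=
    (ComplUnram.map_maximalIdeal_eq_iff A B ψ hψ).mpr hm
  -- the residue map of ψ is surjective
  have hres : Function.Surjective (ResidueField.map ψ) := by
    intro x
    obtain ⟨y, rfl⟩ := (ComplUnram.resEquiv B).surjective x
    obtain ⟨z, rfl⟩ := hk.2 y
    refine ⟨ComplUnram.resEquiv A z, ?_⟩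
    exact RingHom.congr_fun (ComplUnram.residue_square A B ψ hψ) z
  have hsub : ∀ b : AdicCompletion (maximalIdeal B) B, ∃ a : AdicCompletion (maximalIdeal A) A,
      b - ψ a ∈ maximalIdeal (AdicCompletion (maximalIdeal B) B) := by
    intro b
    obtain ⟨x, hx⟩ := hres (residue _ b)
    obtain ⟨a, rfl⟩ := residue_surjective x
    refine ⟨a, ?_⟩
    rw [ResidueField.map_residue] at hx
    rw [← Ideal.Quotient.eq_zero_iff_mem, map_sub, sub_eq_zero]
    exact hx.symm
  let algψ : Algebra (AdicCompletion (maximalIdeal A) A) (AdicCompletion (maximalIdeal B) B) :=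
    ψ.toAlgebra
  have hmax' : (maximalIdeal (AdicCompletion (maximalIdeal A) A)).map
      (algebraMap (AdicCompletion (maximalIdeal A) A) (AdicCompletion (maximalIdeal B) B)) =
      maximalIdeal (AdicCompletion (maximalIdeal B) B) := hmax
  -- finiteness by complete Nakayama
  have hfin3 : Module.Finite (AdicCompletion (maximalIdeal A) A)
      (AdicCompletion (maximalIdeal B) B ⧸ (maximalIdeal (AdicCompletion (maximalIdeal A) A)).map
      (algebraMap (AdicCompletion (maximalIdeal A) A) (AdicCompletion (maximalIdeal B) B))) := by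
    rw [hmax']
    refine Module.Finite.of_surjective
      ((Ideal.Quotient.mkₐ (AdicCompletion (maximalIdeal A) A)
        (maximalIdeal (AdicCompletion (maximalIdeal B) B))).toLinearMap.comp
        (Algebra.linearMap (AdicCompletion (maximalIdeal A) A) (AdicCompletion (maximalIdeal B) B))) ?_
    intro x
    obtain ⟨b, rfl⟩ := Ideal.Quotient.mk_surjective x
    obtain ⟨a, ha⟩ := hsub b
    refine ⟨a, ?_⟩
    simp only [LinearMap.comp_apply, Algebra.linearMap_apply, AlgHom.toLinearMap_apply,
      Ideal.Quotient.mkₐ_eq_mk]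
    rw [eq_comm, Ideal.Quotient.eq]
    exact ha
  have hH : IsHausdorff ((maximalIdeal (AdicCompletion (maximalIdeal A) A)).map
      (algebraMap (AdicCompletion (maximalIdeal A) A) (AdicCompletion (maximalIdeal B) B)))
      (AdicCompletion (maximalIdeal B) B) := by
    rw [hmax']
    infer_instance
  have hF : Module.Finite (AdicCompletion (maximalIdeal A) A) (AdicCompletion (maximalIdeal B) B) :=
    Groth.Agent.Lib.Helper15.finite_of_finite_quotient_map
      (maximalIdeal (AdicCompletion (maximalIdeal A) A)) _ hfin3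
  -- surjectivity by Nakayama
  have hsurj : Function.Surjective ψ := by
    have htop : (⊤ : Submodule (AdicCompletion (maximalIdeal A) A) (AdicCompletion (maximalIdeal B) B)) ≤
        LinearMap.range (Algebra.linearMap (AdicCompletion (maximalIdeal A) A)
          (AdicCompletion (maximalIdeal B) B)) := by
      apply Submodule.le_of_le_smul_of_le_jacobson_bot (I := maximalIdeal (AdicCompletion (maximalIdeal A) A))
        Module.Finite.fg_top (IsLocalRing.maximalIdeal_le_jacobson ⊥)
      intro b _
      obtain ⟨a, ha⟩ := hsub b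
      rw [Submodule.mem_sup]
      refine ⟨ψ a, ⟨a, rfl⟩, b - ψ a, ?_, by ring⟩
      rw [Ideal.smul_top_eq_map, Submodule.restrictScalars_mem, hmax']
      exact ha
    intro b
    obtain ⟨a, ha⟩ := htop (Submodule.mem_top (x := b))
    exact ⟨a, ha⟩
  refine ⟨?_, hsurj⟩
  -- injectivity by dimension
  have hAreg : IsRegularLocalRing (AdicCompletion (maximalIdeal A) A) := isRegularLocalRing_cpl A
  have hdom : IsDomain (AdicCompletion (maximalIdeal A) A) :=
    Groth.Agent.Lib.Helper21.isDomain_of_isRegularLocalRing _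
  rw [injective_iff_map_eq_zero]
  intro r hr
  by_contra hr0
  have h1 := ringKrullDim_succ_le_of_surjective ψ hsurj (mem_nonZeroDivisors_of_ne_zero hr0) hr
  rw [ringKrullDim_cpl A, ringKrullDim_cpl B, hdim] at h1
  obtain ⟨n, hn⟩ := Groth.Agent.Lib.Helper21.exists_nat_eq_ringKrullDim (R := A)
  rw [hn] at h1
  have : (n : ℕ) + 1 ≤ n := by exact_mod_cast h1
  omega

end Groth.Agent.Lib.Helper9.CplIso
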