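import Mathlib
import Groth.Prelude.Def_FSch3
import Groth.Agent.Lib.Helper25.AdicLift
import Groth.Agent.Lib.Helper9.SemiLocalProd
import Groth.Agent.Lib.Helper14.ComplFlat
import Groth.Agent.Lib.Helper18.AnUnram3

/-!
# The adic completion of a finite algebra over a Noetherian local ring is the base change of the
completion: `AdicCompletion (𝔪 C) C ≃ₐ[A] Â ⊗[A] C`.
-/

set_option autoImplicit false
set_option linter.unusedSectionVars false
set_option linter.style.haveILetI false
universe u

namespace Groth.Agent.Lib.Helper9.CplTensor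

open IsLocalRing TensorProduct

section Uniq

variable {A : Type u} [CommRing A] (I : Ideal A) {T : Type u} [CommRing T] [Algebra A T]

/-- Two `A`-algebra maps out of `AdicCompletion I A` into an `I`-adically separated algebra agree. -/
theorem algHom_ext_of_isHausdorff (hI : I.FG) [IsHausdorff (I.map (algebraMap A T)) T]
    (ψ₁ ψ₂ : AdicCompletion I A →ₐ[A] T) : ψ₁ = ψ₂ := by
  have hH : IsHausdorff (I.map (algebraMap A T)) T := inferInstance
  have key : ∀ (ψ : AdicCompletion I A →ₐ[A] T) (n : ℕ) (x : AdicCompletion I A),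
      AdicCompletion.eval I A n x = 0 → ψ x ∈ (I.map (algebraMap A T)) ^ n := by
    intro ψ n x hx
    have hmem : x ∈ (I ^ n • ⊤ : Submodule A (AdicCompletion I A)) := by
      rw [AdicCompletion.pow_smul_top_eq_ker_eval hI]
      exact hx
    refine Submodule.smul_induction_on hmem ?_ ?_
    · intro r hr y _
      rw [map_smul, Algebra.smul_def]
      refine Ideal.mul_mem_right _ _ ?_
      rw [← Ideal.map_pow]
      exact Ideal.mem_map_of_mem _ hr
    · intro y z hy hz
      rw [map_add]
      exact Ideal.add_mem _ hy hz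
  ext x
  rw [← sub_eq_zero]
  apply hH.haus'
  intro n
  rw [SModEq.sub_mem, smul_eq_mul, Ideal.mul_top, sub_zero]
  obtain ⟨a, rfl⟩ := AdicCompletion.mk_surjective _ _ x
  set c := a.val n with hc
  have hev : AdicCompletion.eval I A n
      (AdicCompletion.mk _ _ a - AdicCompletion.of _ _ c) = 0 := by
    rw [map_sub, sub_eq_zero]
    rfl
  have h1 := key ψ₁ n _ hev
  have h2 := key ψ₂ n _ hev
  rw [map_sub] at h1 h2
  have e1 : ψ₁ (AdicCompletion.of I A c) = algebraMap A T c := ψ₁.commutes c
  have e2 : ψ₂ (AdicCompletion.of I A c) = algebraMap A T c := ψ₂.commutes c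
  rw [e1] at h1
  rw [e2] at h2
  have := Ideal.sub_mem _ h1 h2
  rwa [sub_sub_sub_cancel_right] at this

end Uniq

section Main

variable (A : Type u) [CommRing A] [IsLocalRing A] [IsNoetherianRing A]
  (C : Type u) [CommRing C] [Algebra A C] [Module.Finite A C]

local notation "Â" => AdicCompletion (maximalIdeal A) A
local notation "Ĉ" => AdicCompletion (Ideal.map (algebraMap A C) (maximalIdeal A)) C

instance instNoeth : IsNoetherianRing Â := Groth.Agent.Lib.Helper18.Nag.isNoetherianRing_cpl A

theorem isAdicComplete_tensor :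
    IsAdicComplete ((maximalIdeal A).map (algebraMap A (Â ⊗[A] C))) (Â ⊗[A] C) := by
  have h1 : IsAdicComplete (maximalIdeal Â) (Â ⊗[A] C) :=
    Groth.Agent.Lib.Helper9.SemiLocalProd.isAdicComplete_of_finite Â (Â ⊗[A] C)
  rw [AdicCompletion.maximalIdeal_eq_map (R := A)] at h1
  have h2 : IsAdicComplete (maximalIdeal A) (Â ⊗[A] C) :=
    (IsAdicComplete.map_algebraMap_iff (S := Â) (maximalIdeal A) (Â ⊗[A] C)).mp h1
  exact (IsAdicComplete.map_algebraMap_iff (S := Â ⊗[A] C) (maximalIdeal A) (Â ⊗[A] C)).mpr h2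

theorem isAdicComplete_cpl :
    IsAdicComplete ((maximalIdeal A).map (algebraMap A Ĉ)) Ĉ := by
  have hfg : ((maximalIdeal A).map (algebraMap A C)).FG :=
    Ideal.FG.map (IsNoetherian.noetherian (maximalIdeal A)) _
  have h1 := AdicCompletion.isAdicComplete_self ((maximalIdeal A).map (algebraMap A C)) hfg
  rwa [Ideal.map_map, ← IsScalarTower.algebraMap_eq] at h1

/-- `Ĉ → Â ⊗ C` -/
noncomputable def toTensor : Ĉ →ₐ[A] Â ⊗[A] C :=
  haveI := isAdicComplete_tensor A C
  Groth.Agent.Lib.Helper25.AdicLift.extend (maximalIdeal A)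
    (Algebra.TensorProduct.includeRight : C →ₐ[A] Â ⊗[A] C)

theorem toTensor_of (c : C) :
    toTensor A C (AdicCompletion.of _ _ c) = (1 : Â) ⊗ₜ[A] c := by
  haveI := isAdicComplete_tensor A C
  exact Groth.Agent.Lib.Helper25.AdicLift.extend_of (maximalIdeal A) _ c

/-- `Â → Ĉ` -/
noncomputable def cplHom : Â →ₐ[A] Ĉ :=
  { FSch.complMap (maximalIdeal A) ((maximalIdeal A).map (algebraMap A C)) (algebraMap A C) le_rfl with
    commutes' := fun a => by
      have := Groth.Agent.Lib.Helper14.complMap_of (maximalIdeal A)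
        ((maximalIdeal A).map (algebraMap A C)) (algebraMap A C) le_rfl a
      exact this }

/-- `Â ⊗ C → Ĉ` -/
noncomputable def ofTensor : Â ⊗[A] C →ₐ[A] Ĉ :=
  Algebra.TensorProduct.lift (cplHom A C) (IsScalarTower.toAlgHom A C Ĉ)
    (fun _ _ => Commute.all _ _)

theorem ofTensor_tmul (a : Â) (c : C) :
    ofTensor A C (a ⊗ₜ[A] c) = cplHom A C a * algebraMap C Ĉ c := by
  simp [ofTensor]

theorem toTensor_comp_ofTensor :
    (toTensor A C).comp (ofTensor A C) = AlgHom.id A (Â ⊗[A] C) := by
  haveI := isAdicComplete_tensor A C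
  apply Algebra.TensorProduct.ext
  · exact algHom_ext_of_isHausdorff (maximalIdeal A) (IsNoetherian.noetherian _) _ _
  · ext c
    simp only [AlgHom.coe_comp, AlgHom.coe_restrictScalars', Function.comp_apply,
      Algebra.TensorProduct.includeRight_apply, AlgHom.coe_id, id_eq]
    rw [ofTensor_tmul, map_one, one_mul]
    exact toTensor_of A C c

theorem ofTensor_comp_toTensor :
    (ofTensor A C).comp (toTensor A C) = AlgHom.id A Ĉ := by
  haveI := isAdicComplete_cpl A C
  apply Groth.Agent.Lib.Helper25.AdicLift.ext_of_FG (maximalIdeal A) (IsNoetherian.noetherian _)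
  intro c
  rw [AlgHom.comp_apply, toTensor_of, ofTensor_tmul, map_one, one_mul]
  rfl

/-- **The completion of a finite algebra is the base change of the completion.** -/
noncomputable def equiv : Ĉ ≃ₐ[A] Â ⊗[A] C :=
  AlgEquiv.ofAlgHom (toTensor A C) (ofTensor A C) (toTensor_comp_ofTensor A C)
    (ofTensor_comp_toTensor A C)

end Main

end Groth.Agent.Lib.Helper9.CplTensor
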