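import Mathlib
import Groth.Prelude.Def_EGA4b
import Groth.Agent.Lib.Helper6.NormalTotalFrac
import Groth.Agent.Lib.Helper23.IntClosBC1
import Groth.Agent.Lib.Helper12.Normal2
import Groth.Agent.Lib.Helper18.RedBC

/-!
# Normality of a flat base change of a normal subring `B ⊆ C` (`C` finite) from that of `C`
-/

set_option autoImplicit false
set_option linter.unusedSectionVars false
set_option linter.style.haveILetI false
universe u

namespace Groth.Agent.Lib.Helper9.NormalSub

open TensorProduct

section TotalFrac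

variable (B : Type u) [CommRing B] [IsNoetherianRing B] [IsReduced B]

/-- A prime of a reduced Noetherian ring consisting of zero divisors is a minimal prime. -/
theorem mem_minimalPrimes_of_disjoint (p : Ideal B) [hp : p.IsPrime]
    (hd : Disjoint (nonZeroDivisors B : Set B) (p : Set B)) : p ∈ minimalPrimes B := by
  classical
  have hfin : (minimalPrimes B).Finite := minimalPrimes.finite_of_isNoetherianRing B
  have hsub : (p : Set B) ⊆ ⋃ q ∈ (hfin.toFinset : Set (Ideal B)), (id q : Ideal B) := by
    intro a ha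
    by_contra hcon
    have h1 : ∀ q ∈ minimalPrimes B, a ∉ q := by
      intro q hq haq
      apply hcon
      simp only [Set.mem_iUnion]
      exact ⟨q, by simpa using hq, haq⟩
    have h2 := Groth.Agent.Lib.Helper6.NormalTotalFrac.mem_nonZeroDivisors_of_forall_notMem h1
    exact Set.disjoint_left.mp hd h2 ha
  have hex := (Ideal.subset_union_prime (R := B) (s := hfin.toFinset) (f := id) p p
    (fun q hq _ _ => by
      have : q ∈ minimalPrimes B := by simpa using hq
      exact this.1.1)).mp hsub
  obtain ⟨q, hq, hpq⟩ := hex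
  have hq' : q ∈ minimalPrimes B := by simpa using hq
  have hqp : q ≤ p := hq'.2 ⟨hp, bot_le⟩ hpq
  have : p = q := le_antisymm hpq hqp
  rw [this]
  exact hq'

theorem krullDimLE_zero_fractionRing : Ring.KrullDimLE 0 (FractionRing B) := by
  apply Ring.KrullDimLE.mk₀
  intro P hP
  have hdisj : ∀ (Q : Ideal (FractionRing B)), Q.IsPrime →
      Disjoint (nonZeroDivisors B : Set B) ((Q.comap (algebraMap B (FractionRing B)) : Ideal B) : Set B) := by
    intro Q hQ
    rw [Set.disjoint_left]
    intro s hs hsQ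
    have hu : IsUnit (algebraMap B (FractionRing B) s) :=
      IsLocalization.map_units (FractionRing B) (⟨s, hs⟩ : nonZeroDivisors B)
    exact hQ.ne_top (Q.eq_top_of_isUnit_mem hsQ hu)
  obtain ⟨M, hM, hPM⟩ := Ideal.exists_le_maximal P hP.ne_top
  haveI := hM.isPrime
  have h1 := mem_minimalPrimes_of_disjoint B (M.comap (algebraMap B (FractionRing B)))
    (hdisj M hM.isPrime)
  have h2 : M.comap (algebraMap B (FractionRing B)) ≤ P.comap (algebraMap B (FractionRing B)) :=
    h1.2 ⟨Ideal.comap_isPrime _ _, bot_le⟩ (Ideal.comap_mono hPM)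
  have h3 : M ≤ P := by
    rw [← IsLocalization.map_under (nonZeroDivisors B) (FractionRing B) M,
      ← IsLocalization.map_under (nonZeroDivisors B) (FractionRing B) P]
    exact Ideal.map_mono h2
  rw [le_antisymm hPM h3]
  exact hM

theorem isSemisimpleRing_fractionRing : IsSemisimpleRing (FractionRing B) := by
  haveI := krullDimLE_zero_fractionRing B
  haveI : IsNoetherianRing (FractionRing B) :=
    IsLocalization.isNoetherianRing (nonZeroDivisors B) _ inferInstance
  haveI : IsArtinianRing (FractionRing B) := isArtinianRing_iff_krullDimLE_zero.mpr inferInstance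
  haveI : IsReduced (FractionRing B) := inferInstance
  exact IsArtinianRing.isSemisimpleRing_of_isReduced _

end TotalFrac

section Core

variable (B C : Type u) [CommRing B] [IsNoetherianRing B] [CommRing C] [Algebra B C]
  (hinj : Function.Injective (algebraMap B C)) (hB : EGA4.IsNormalRing B)

local notation "K" => FractionRing B

/-- the submodule `B + torsion` of `C` -/
noncomputable def P : Submodule B C :=
  LinearMap.range (Algebra.linearMap B C) ⊔ Submodule.torsion B C

instance : IsLocalizedModule (nonZeroDivisors B) (TensorProduct.mk B K C 1) :=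
  (isLocalizedModule_iff_isBaseChange (nonZeroDivisors B) K _).mpr
    (TensorProduct.isBaseChange B C K)

theorem mk_eq_zero_iff (M : Type u) [AddCommGroup M] [Module B M] (c : M) :
    (1 : K) ⊗ₜ[B] c = 0 ↔ ∃ s ∈ nonZeroDivisors B, s • c = 0 := by
  haveI : IsLocalizedModule (nonZeroDivisors B) (TensorProduct.mk B K M 1) :=
    (isLocalizedModule_iff_isBaseChange (nonZeroDivisors B) K _).mpr
      (TensorProduct.isBaseChange B M K)
  have := IsLocalizedModule.eq_zero_iff (nonZeroDivisors B) (TensorProduct.mk B K M 1) (m := c)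
  rw [TensorProduct.mk_apply] at this
  rw [this]
  constructor
  · rintro ⟨s, hs⟩
    exact ⟨s, s.2, hs⟩
  · rintro ⟨s, hs, h⟩
    exact ⟨⟨s, hs⟩, h⟩

theorem mem_torsion_iff (c : C) : c ∈ Submodule.torsion B C ↔ (1 : K) ⊗ₜ[B] c = 0 := by
  rw [mk_eq_zero_iff]
  constructor
  · rintro ⟨s, hs⟩
    exact ⟨s, s.2, hs⟩
  · rintro ⟨s, hs, h⟩
    exact ⟨⟨s, hs⟩, h⟩

omit [IsNoetherianRing B] in
/-- for a flat `B`-algebra `F` and an injective `B → D`, the map `F → F ⊗ D` is injective -/
theorem algebraMap_tensor_injective' (F D : Type u) [CommRing F] [Algebra B F] [Module.Flat B F]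
    [CommRing D] [Algebra B D] (hD : Function.Injective (algebraMap B D)) :
    Function.Injective (algebraMap F (F ⊗[B] D)) := by
  have h1 : Function.Injective ((Algebra.linearMap B D).lTensor F) :=
    Module.Flat.lTensor_preserves_injective_linearMap _ hD
  intro x y hxy
  have h2 : (Algebra.linearMap B D).lTensor F (x ⊗ₜ[B] (1 : B)) =
      (Algebra.linearMap B D).lTensor F (y ⊗ₜ[B] (1 : B)) := by
    rw [LinearMap.lTensor_tmul, LinearMap.lTensor_tmul, Algebra.linearMap_apply, map_one]
    exact hxy
  have h3 := h1 h2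
  have h4 := congrArg (TensorProduct.rid B F) h3
  simpa using h4

include hinj in
theorem algebraMap_tensor_injective : Function.Injective (algebraMap K (K ⊗[B] C)) :=
  algebraMap_tensor_injective' B K C hinj

include hinj hB in
/-- `C ⧸ (B + torsion)` has no torsion with respect to the nonzerodivisors of `B`. -/
theorem smul_mem_P [Algebra.IsIntegral B C] {s : B} (hs : s ∈ nonZeroDivisors B) {c : C}
    (h : s • c ∈ P B C) : c ∈ P B C := by
  obtain ⟨y, ⟨b, rfl⟩, t, ht, hyt⟩ := Submodule.mem_sup.mp h
  rw [Algebra.linearMap_apply] at hyt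
  -- work in `K ⊗ C`
  have hu : IsUnit (algebraMap B K s) :=
    IsLocalization.map_units K (⟨s, hs⟩ : nonZeroDivisors B)
  obtain ⟨σ, hσ⟩ := hu
  have h1 : (1 : K) ⊗ₜ[B] (s • c) = (1 : K) ⊗ₜ[B] (algebraMap B C b) := by
    rw [← hyt, TensorProduct.tmul_add, (mem_torsion_iff B C t).mp ht, add_zero]
  have h2 : (1 : K) ⊗ₜ[B] c = algebraMap K (K ⊗[B] C) (↑σ⁻¹ * algebraMap B K b) := by
    rw [Algebra.TensorProduct.algebraMap_apply, Algebra.algebraMap_self, RingHom.id_apply]
    have e1 : (1 : K) ⊗ₜ[B] (s • c) = (algebraMap B K s) ⊗ₜ[B] c := by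
      rw [TensorProduct.tmul_smul, TensorProduct.smul_tmul', Algebra.smul_def, mul_one]
    have e2 : (1 : K) ⊗ₜ[B] (algebraMap B C b) = (algebraMap B K b) ⊗ₜ[B] (1 : C) := by
      rw [Algebra.algebraMap_eq_smul_one, TensorProduct.tmul_smul, TensorProduct.smul_tmul',
        Algebra.smul_def, mul_one]
    rw [e1, e2, ← hσ] at h1
    have e3 : ((↑σ⁻¹ : K) ⊗ₜ[B] (1 : C)) * ((↑σ : K) ⊗ₜ[B] c) =
        ((↑σ⁻¹ : K) ⊗ₜ[B] (1 : C)) * ((algebraMap B K b) ⊗ₜ[B] (1 : C)) := by rw [h1]
    rw [Algebra.TensorProduct.tmul_mul_tmul, Algebra.TensorProduct.tmul_mul_tmul, one_mul,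
      Units.inv_mul, mul_one] at e3
    exact e3
  have h3 : IsIntegral B ((1 : K) ⊗ₜ[B] c) := by
    have := (Algebra.IsIntegral.isIntegral (R := B) c).map
      (Algebra.TensorProduct.includeRight : C →ₐ[B] K ⊗[B] C)
    exact this
  rw [h2, isIntegral_algebraMap_iff (algebraMap_tensor_injective B C hinj)] at h3
  have hic := Groth.Agent.Lib.Helper12.Normal2.isIntegrallyClosedIn_fractionRing B hB
  obtain ⟨b₀, hb₀⟩ := (isIntegrallyClosedIn_iff.mp hic).2 h3
  have h4 : (1 : K) ⊗ₜ[B] (c - algebraMap B C b₀) = 0 := by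
    rw [TensorProduct.tmul_sub, h2, ← hb₀, sub_eq_zero,
      Algebra.TensorProduct.algebraMap_apply, Algebra.algebraMap_self, RingHom.id_apply,
      Algebra.algebraMap_eq_smul_one (R := B) (A := C), TensorProduct.tmul_smul,
      TensorProduct.smul_tmul', Algebra.smul_def, mul_one]
  have h5 : c - algebraMap B C b₀ ∈ Submodule.torsion B C := (mem_torsion_iff B C _).mpr h4
  have h6 : c = algebraMap B C b₀ + (c - algebraMap B C b₀) := by ring
  rw [h6]
  exact Submodule.add_mem _ (Submodule.mem_sup_left ⟨b₀, rfl⟩) (Submodule.mem_sup_right h5)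

section Flat

variable [IsReduced B] (B' : Type u) [CommRing B'] [Algebra B B'] [Module.Flat B B']

/-- every module over the total ring of fractions is flat over `B` -/
theorem flat_of_fractionRing_module (M : Type u) [AddCommGroup M] [Module B M] [Module K M]
    [IsScalarTower B K M] : Module.Flat B M := by
  haveI := isSemisimpleRing_fractionRing B
  haveI : Module.Projective K M := Module.projective_of_isSemisimpleRing K M
  haveI : Module.Flat K M := inferInstance
  exact Module.Flat.trans B K M

/-- a regular element of `B'` stays regular on `B' ⊗ N` for `N` without `B`-torsion. -/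
theorem isSMulRegular_tensor_of_torsionFree (N : Type u) [AddCommGroup N] [Module B N]
    (hN : ∀ s ∈ nonZeroDivisors B, ∀ n : N, s • n = 0 → n = 0)
    {v : B'} (hv : v ∈ nonZeroDivisors B') : IsSMulRegular (B' ⊗[B] N) v := by
  have hj : Function.Injective (TensorProduct.mk B K N 1) := by
    rw [injective_iff_map_eq_zero]
    intro n hn
    rw [TensorProduct.mk_apply, mk_eq_zero_iff] at hn
    obtain ⟨s, hs, h⟩ := hn
    exact hN s hs n h
  have hj' : Function.Injective ((TensorProduct.mk B K N 1).lTensor B') :=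
    Module.Flat.lTensor_preserves_injective_linearMap _ hj
  haveI : Module.Flat B (K ⊗[B] N) := flat_of_fractionRing_module B (K ⊗[B] N)
  haveI : Module.Flat B' (B' ⊗[B] (K ⊗[B] N)) := inferInstance
  have hreg0 := Module.Flat.isSMulRegular_of_nonZeroDivisors (M := B' ⊗[B] (K ⊗[B] N)) hv
  have hreg : IsSMulRegular (B' ⊗[B] (K ⊗[B] N)) v := fun a b hab => hreg0 hab
  intro z w hzw
  apply hj'
  apply hreg
  have e : ∀ x : B' ⊗[B] N, (TensorProduct.mk B K N 1).lTensor B' (v • x) =
      v • (TensorProduct.mk B K N 1).lTensor B' x := by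
    intro x
    induction x using TensorProduct.induction_on with
    | zero => simp
    | tmul a n => rw [TensorProduct.smul_tmul', LinearMap.lTensor_tmul, LinearMap.lTensor_tmul,
        TensorProduct.smul_tmul']
    | add x y hx hy => rw [smul_add, map_add, hx, hy, map_add, smul_add]
  change v • (TensorProduct.mk B K N 1).lTensor B' z = v • (TensorProduct.mk B K N 1).lTensor B' w
  rw [← e, ← e]
  exact congrArg _ hzw

end Flat

section Main

variable [Module.Finite B C] (B' : Type u) [CommRing B'] [Algebra B B'] [Module.Flat B B']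
  (hC' : EGA4.IsNormalRing (B' ⊗[B] C))

include hinj hB hC' in
/-- the key divisibility in `B'` -/
theorem dvd_of_scaleRoots_eval (u v : B') (hv : v ∈ nonZeroDivisors B') (p : Polynomial B')
    (hp : p.Monic) (h : (p.scaleRoots v).eval u = 0) : v ∣ u := by
  haveI hBred : IsReduced B := Groth.Agent.Lib.Helper18.RedBC.isReduced_of_isNormalRing hB
  haveI : Algebra.IsIntegral B C := Algebra.IsIntegral.of_finite B C
  rcases subsingleton_or_nontrivial (B' ⊗[B] C) with hsub | hnt
  · have hinj' := algebraMap_tensor_injective' B B' C hinj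
    have : u = v * 0 := hinj' (Subsingleton.elim _ _)
    exact ⟨0, this⟩
  set g : B' →+* B' ⊗[B] C := algebraMap B' (B' ⊗[B] C) with hgdef
  have hg : ((p.map g).scaleRoots (g v)).eval (g u) = 0 := by
    rw [← Groth.Agent.Lib.Helper12.Normal2.eval_scaleRoots_map g hp, h, map_zero]
  obtain ⟨c, hc⟩ := Groth.Agent.Lib.Helper23.IntClosBC.dvd_of_scaleRoots_normal hC' (g v) (g u)
    (p.map g) (hp.map g) hg
  -- step 1: `c` lies in the image of `B' ⊗ P`
  have hN : ∀ s ∈ nonZeroDivisors B, ∀ n : C ⧸ P B C, s • n = 0 → n = 0 := by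
    intro s hs n hn
    obtain ⟨x, rfl⟩ := Submodule.mkQ_surjective _ n
    rw [← map_smul, Submodule.mkQ_apply, Submodule.Quotient.mk_eq_zero] at hn
    rw [Submodule.mkQ_apply, Submodule.Quotient.mk_eq_zero]
    exact smul_mem_P B C hinj hB hs hn
  have hreg := isSMulRegular_tensor_of_torsionFree B B' (C ⧸ P B C) hN hv
  have h1 : (1 : C) ∈ P B C := Submodule.mem_sup_left ⟨1, by simp⟩
  have hπu : (LinearMap.baseChange B' (P B C).mkQ) (g u) = 0 := by
    rw [hgdef, Algebra.TensorProduct.algebraMap_apply, Algebra.algebraMap_self, RingHom.id_apply,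
      LinearMap.baseChange_tmul, Submodule.mkQ_apply,
      (Submodule.Quotient.mk_eq_zero _).mpr h1, TensorProduct.tmul_zero]
  have hπc : (LinearMap.baseChange B' (P B C).mkQ) c = 0 := by
    apply hreg
    change v • (LinearMap.baseChange B' (P B C).mkQ) c = v • 0
    rw [smul_zero, ← map_smul, Algebra.smul_def, ← hgdef, ← hc, hπu]
  have hex := lTensor_exact B' (LinearMap.exact_subtype_mkQ (P B C))
    (Submodule.mkQ_surjective _) c
  obtain ⟨w, hw⟩ := hex.mp hπc
  -- step 2: map to `B' ⊗ (K ⊗ C)`
  let ρ' : B' ⊗[B] C →ₐ[B'] B' ⊗[B] (K ⊗[B] C) :=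
    Algebra.TensorProduct.map (AlgHom.id B' B')
      (Algebra.TensorProduct.includeRight : C →ₐ[B] K ⊗[B] C)
  have hw' : ∀ w : B' ⊗[B] ↥(P B C), ∃ b'' : B',
      ρ' (((P B C).subtype.lTensor B') w) = b'' ⊗ₜ[B] (1 : K ⊗[B] C) := by
    intro w
    induction w using TensorProduct.induction_on with
    | zero => exact ⟨0, by simp⟩
    | tmul b' x =>
      obtain ⟨x, hx⟩ := x
      obtain ⟨y, ⟨β, rfl⟩, t, ht, rfl⟩ := Submodule.mem_sup.mp hx
      refine ⟨β • b', ?_⟩
      rw [LinearMap.lTensor_tmul, Submodule.subtype_apply, Algebra.TensorProduct.map_tmul,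
        AlgHom.id_apply, Algebra.TensorProduct.includeRight_apply, TensorProduct.tmul_add,
        (mem_torsion_iff B C t).mp ht, add_zero, Algebra.linearMap_apply,
        Algebra.algebraMap_eq_smul_one (R := B) (A := C), TensorProduct.tmul_smul,
        TensorProduct.tmul_smul, TensorProduct.smul_tmul']
      rfl
    | add x y hx hy =>
      obtain ⟨b₁, h₁⟩ := hx
      obtain ⟨b₂, h₂⟩ := hy
      exact ⟨b₁ + b₂, by rw [map_add, map_add, h₁, h₂, TensorProduct.add_tmul]⟩
  obtain ⟨b'', hb''⟩ := hw' w
  rw [hw] at hb''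
  have h2 : ρ' (g u) = ρ' (g v) * ρ' c := by rw [hc, map_mul]
  have e1 : ∀ x : B', ρ' (g x) = x ⊗ₜ[B] (1 : K ⊗[B] C) := by
    intro x
    rw [hgdef, Algebra.TensorProduct.algebraMap_apply, Algebra.algebraMap_self, RingHom.id_apply,
      Algebra.TensorProduct.map_tmul, AlgHom.id_apply, map_one]
  rw [e1, e1, hb'', Algebra.TensorProduct.tmul_mul_tmul, mul_one] at h2
  have hinjK : Function.Injective (algebraMap B (K ⊗[B] C)) := by
    rw [IsScalarTower.algebraMap_eq B K (K ⊗[B] C)]
    exact (algebraMap_tensor_injective B C hinj).comp (IsLocalization.injective K le_rfl)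
  have hinj'' := algebraMap_tensor_injective' B B' (K ⊗[B] C) hinjK
  refine ⟨b'', hinj'' ?_⟩
  rw [Algebra.TensorProduct.algebraMap_apply, Algebra.TensorProduct.algebraMap_apply,
    Algebra.algebraMap_self, RingHom.id_apply, RingHom.id_apply]
  exact h2

include hinj hB hC' in
/-- **Main theorem**: if `B ⊆ C` is a finite extension with `B` a normal Noetherian ring, `B'` is a
flat Noetherian `B`-algebra and `B' ⊗ C` is normal, then `B'` is normal. -/
theorem isNormalRing_of_flat [IsNoetherianRing B'] : EGA4.IsNormalRing B' := by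
  haveI : IsReduced (B' ⊗[B] C) := Groth.Agent.Lib.Helper18.RedBC.isReduced_of_isNormalRing hC'
  haveI : IsReduced B' :=
    isReduced_of_injective (algebraMap B' (B' ⊗[B] C)) (algebraMap_tensor_injective' B B' C hinj)
  have hfin : (minimalPrimes B').Finite := minimalPrimes.finite_of_isNoetherianRing B'
  have hinjQ : Function.Injective (algebraMap B' (FractionRing B')) :=
    IsLocalization.injective _ le_rfl
  intro p hp
  apply Groth.Agent.Lib.Helper6.NormalTotalFrac.normal_of_integrallyClosed_in_totalFrac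
    (FractionRing B') hfin
  intro x hx
  obtain ⟨u, ⟨v, hv⟩, rfl⟩ := IsLocalization.exists_mk'_eq (nonZeroDivisors B') x
  obtain ⟨q, hq, hqx⟩ := hx
  have h1 := Polynomial.scaleRoots_eval₂_mul (p := q) (algebraMap B' (FractionRing B'))
    (IsLocalization.mk' (FractionRing B') u ⟨v, hv⟩) v
  rw [IsLocalization.mk'_spec'_mk, Polynomial.eval₂_at_apply, hqx, mul_zero] at h1
  have h2 : (q.scaleRoots v).eval u = 0 := hinjQ (by rw [h1, map_zero])
  obtain ⟨c, rfl⟩ := dvd_of_scaleRoots_eval B C hinj hB B' hC' u v hv q hq h2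
  refine ⟨c, ?_⟩
  symm
  rw [IsLocalization.eq_mk'_iff_mul_eq, mul_comm, map_mul]

end Main

end Core

end Groth.Agent.Lib.Helper9.NormalSub
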