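import Mathlib
import Groth.Agent.Lib.Helper9.NormalSub
import Groth.Agent.Lib.Helper9.CplTensor
import Groth.Agent.Lib.Helper18.FormFib

set_option autoImplicit false
set_option linter.style.haveILetI false
universe u
open TensorProduct

namespace Groth.Agent.Lib.Helper9.CplNormalSub

/-- Stacks-type lemma: `B ⊆ C` finite algebras over a Noetherian local ring, `B` normal, `Ĉ` normal
⟹ `B̂` normal. -/
theorem main (A : Type u) [CommRing A] [IsLocalRing A] [IsNoetherianRing A]
    (B C : Type u) [CommRing B] [CommRing C] [Algebra A B] [Algebra A C] [Algebra B C] [IsScalarTower A B C]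
    [Module.Finite A B] [Module.Finite A C] (hinj : Function.Injective (algebraMap B C))
    (hB : EGA4.IsNormalRing B)
    (hC : EGA4.IsNormalRing (AdicCompletion ((IsLocalRing.maximalIdeal A).map (algebraMap A C)) C)) :
    EGA4.IsNormalRing (AdicCompletion ((IsLocalRing.maximalIdeal A).map (algebraMap A B)) B) := by
  haveI : IsNoetherianRing B := IsNoetherianRing.of_finite A B
  haveI : Module.Finite B C := Module.Finite.of_restrictScalars_finite A B C
  haveI : IsNoetherianRing (AdicCompletion (IsLocalRing.maximalIdeal A) A) :=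
    Groth.Agent.Lib.Helper18.Nag.isNoetherianRing_cpl A
  -- normality of `Â ⊗ C`
  have hC1 : EGA4.IsNormalRing (AdicCompletion (IsLocalRing.maximalIdeal A) A ⊗[A] C) :=
    Groth.Agent.Lib.Helper18.FormFib.isNormalRing_of_ringEquiv
      (Groth.Agent.Lib.Helper9.CplTensor.equiv A C).toRingEquiv hC
  -- `B' = B ⊗ Â`
  let e1 : (B ⊗[A] AdicCompletion (IsLocalRing.maximalIdeal A) A) ⊗[B] C ≃+*
      AdicCompletion (IsLocalRing.maximalIdeal A) A ⊗[A] C :=
    ((Algebra.TensorProduct.comm B (B ⊗[A] AdicCompletion (IsLocalRing.maximalIdeal A) A)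
        C).toRingEquiv.trans
      ((Algebra.TensorProduct.cancelBaseChange A B B C
        (AdicCompletion (IsLocalRing.maximalIdeal A) A)).toRingEquiv)).trans
        (Algebra.TensorProduct.comm A C
          (AdicCompletion (IsLocalRing.maximalIdeal A) A)).toRingEquiv
  have hC' : EGA4.IsNormalRing
      ((B ⊗[A] AdicCompletion (IsLocalRing.maximalIdeal A) A) ⊗[B] C) :=
    Groth.Agent.Lib.Helper18.FormFib.isNormalRing_of_ringEquiv e1.symm hC1
  let e2 : (B ⊗[A] AdicCompletion (IsLocalRing.maximalIdeal A) A) ≃+*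
      AdicCompletion (IsLocalRing.maximalIdeal A) A ⊗[A] B :=
    (Algebra.TensorProduct.comm A B (AdicCompletion (IsLocalRing.maximalIdeal A) A)).toRingEquiv
  haveI : IsNoetherianRing (AdicCompletion (IsLocalRing.maximalIdeal A) A ⊗[A] B) :=
    IsNoetherianRing.of_finite (AdicCompletion (IsLocalRing.maximalIdeal A) A) _
  haveI : IsNoetherianRing (B ⊗[A] AdicCompletion (IsLocalRing.maximalIdeal A) A) :=
    isNoetherianRing_of_ringEquiv _ e2.symm
  have hB' : EGA4.IsNormalRing (B ⊗[A] AdicCompletion (IsLocalRing.maximalIdeal A) A) :=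
    Groth.Agent.Lib.Helper9.NormalSub.isNormalRing_of_flat B C hinj hB
      (B ⊗[A] AdicCompletion (IsLocalRing.maximalIdeal A) A) hC'
  exact Groth.Agent.Lib.Helper18.FormFib.isNormalRing_of_ringEquiv
    (e2.trans (Groth.Agent.Lib.Helper9.CplTensor.equiv A B).symm.toRingEquiv) hB'

end Groth.Agent.Lib.Helper9.CplNormalSub
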