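import Mathlib
import Groth.Prelude.Def_Found
import Groth.Agent.Lib.Helper9.DLReg
import Groth.Agent.Lib.Helper4.HznLim
import Groth.Agent.Lib.Helper23.SmoothField
import Groth.Agent.Lib.Helper18.PMor2
import Groth.Agent.Lib.Helper23.GeomRegular2

set_option autoImplicit false
universe u

namespace Groth.Agent.Lib.Helper9.DLSmooth

open TensorProduct

section

variable (R : Type u) [CommRing R] {ι : Type u} [Preorder ι] [IsDirectedOrder ι] [Nonempty ι]
  (G : ι → Type u) [∀ i, CommRing (G i)] [∀ i, Algebra R (G i)]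
  (f : ∀ i j : ι, i ≤ j → (G i →ₐ[R] G j)) [DirectedSystem G (fun i j h => f i j h)]
  (K : Type u) [Field K] [Algebra R K]

/-- transition maps of the base-changed system -/
noncomputable def F (i j : ι) (h : i ≤ j) : K ⊗[R] G i →ₐ[K] K ⊗[R] G j :=
  Algebra.TensorProduct.map (AlgHom.id K K) (f i j h)

/-- structure maps of the base-changed system -/
noncomputable def phi (i : ι) : K ⊗[R] G i →ₐ[K] K ⊗[R] DirectLimit G f :=
  Algebra.TensorProduct.map (AlgHom.id K K) (DirectLimit.Algebra.of G f i)

lemma phi_F (i j : ι) (h : i ≤ j) (x : K ⊗[R] G i) :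
    phi R G f K j (F R G f K i j h x) = phi R G f K i x := by
  induction x with
  | zero => simp
  | tmul c g =>
    simp only [F, phi, Algebra.TensorProduct.map_tmul, AlgHom.coe_id, id_eq]
    rw [DirectLimit.Algebra.of_f]
  | add x y hx hy => rw [map_add, map_add, map_add, hx, hy]

lemma F_F (i j k : ι) (h1 : i ≤ j) (h2 : j ≤ k) (x : K ⊗[R] G i) :
    F R G f K j k h2 (F R G f K i j h1 x) = F R G f K i k (h1.trans h2) x := by
  induction x with
  | zero => simp
  | tmul c g =>
    simp only [F, Algebra.TensorProduct.map_tmul, AlgHom.coe_id, id_eq]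
    rw [DirectedSystem.map_map' (f := f)]
  | add x y hx hy => rw [map_add, map_add, map_add, hx, hy]

lemma phi_surj (z : K ⊗[R] DirectLimit G f) : ∃ i x, phi R G f K i x = z := by
  induction z with
  | zero => exact ⟨Classical.arbitrary ι, 0, map_zero _⟩
  | tmul c l =>
    obtain ⟨i, g, rfl⟩ := DirectLimit.exists_eq_mk f l
    exact ⟨i, c ⊗ₜ g, rfl⟩
  | add x y hx hy =>
    obtain ⟨i, x', rfl⟩ := hx
    obtain ⟨j, y', rfl⟩ := hy
    obtain ⟨k, hik, hjk⟩ := exists_ge_ge i j
    exact ⟨k, F R G f K i k hik x' + F R G f K j k hjk y', by rw [map_add, phi_F, phi_F]⟩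

lemma phi_exact (i : ι) (x : K ⊗[R] G i) (hx : phi R G f K i x = 0) :
    ∃ j, ∃ h : i ≤ j, F R G f K i j h x = 0 := by
  classical
  let fl : ∀ i j, i ≤ j → G i →ₗ[R] G j := fun i j h => (f i j h).toLinearMap
  haveI : DirectedSystem G (fun i j h => (fl i j h : G i → G j)) :=
    ‹DirectedSystem G (fun i j h => f i j h)›
  let e : Module.DirectLimit G fl ≃ₗ[R] DirectLimit G f :=
    Module.DirectLimit.linearEquiv (R := R) G fl
  have h1 : (DirectLimit.Algebra.of G f i).toLinearMap =
      e.toLinearMap ∘ₗ Module.DirectLimit.of R ι G fl i := by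
    ext g
    exact (Module.DirectLimit.linearEquiv_of (R := R) (G := G) (f := fl) (i := i) (g := g)).symm
  have h2 : ∀ y : K ⊗[R] G i,
      phi R G f K i y = LinearMap.lTensor K (DirectLimit.Algebra.of G f i).toLinearMap y := by
    intro y
    induction y with
    | zero => simp
    | tmul c g => rfl
    | add x y hx hy => rw [map_add, map_add, hx, hy]
  rw [h2, h1, LinearMap.lTensor_comp, LinearMap.comp_apply] at hx
  have h3 : LinearMap.lTensor K (Module.DirectLimit.of R ι G fl i) x = 0 := by
    have hinj : Function.Injective (LinearMap.lTensor K e.toLinearMap) :=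
      (LinearEquiv.lTensor K e).injective
    exact hinj (by rw [hx, map_zero])
  have h4 : ∀ y : K ⊗[R] G i,
      TensorProduct.directLimitRight fl K (LinearMap.lTensor K (Module.DirectLimit.of R ι G fl i) y) =
      Module.DirectLimit.of R ι (fun i => K ⊗[R] G i) (fun i j h => LinearMap.lTensor K (fl i j h)) i y := by
    intro y
    induction y with
    | zero => simp
    | tmul c g => simp
    | add x y hx hy => rw [map_add, map_add, map_add, hx, hy]
  have h5 := h4 x
  rw [h3, map_zero] at h5
  obtain ⟨j, hij, hj⟩ := Module.DirectLimit.of.zero_exact h5.symm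
  refine ⟨j, hij, ?_⟩
  have h6 : ∀ y : K ⊗[R] G i, F R G f K i j hij y = LinearMap.lTensor K (fl i j hij) y := by
    intro y
    induction y with
    | zero => simp
    | tmul c g => rfl
    | add x y hx hy => rw [map_add, map_add, hx, hy]
  rw [h6]
  exact hj

theorem isRegularRing_stage (hs : ∀ i, Algebra.Smooth R (G i)) (i : ι) :
    IsRegularRing (K ⊗[R] G i) := by
  haveI := hs i
  haveI : Algebra.Smooth K (K ⊗[R] G i) := inferInstance
  haveI : Algebra.FiniteType K (K ⊗[R] G i) := inferInstance
  have h := (Groth.Agent.Lib.Helper23.SmoothField.tfae_global (k₀ := K) (k := K)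
    (C := K ⊗[R] G i)).out 0 3
  exact Groth.Agent.Lib.Helper18.PMor.isRegularRing_of_isGeometricallyRegular
    (h.mp inferInstance)

theorem isRegularRing_tensor (hs : ∀ i, Algebra.Smooth R (G i))
    [IsNoetherianRing (K ⊗[R] DirectLimit G f)] : IsRegularRing (K ⊗[R] DirectLimit G f) := by
  rw [isRegularRing_iff]
  intro p hp
  apply Groth.Agent.Lib.Helper9.DLReg.isRegularLocalRing_of_qr
  apply Groth.Agent.Lib.Helper9.DLReg.qr_of_directLimit (fun i => K ⊗[R] G i)
    (fun i j h => (F R G f K i j h).toRingHom) _ (fun i => (phi R G f K i).toRingHom)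
  · intro i j h x
    exact phi_F R G f K i j h x
  · intro i j k h1 h2 x
    exact F_F R G f K i j k h1 h2 x
  · intro z
    exact phi_surj R G f K z
  · intro i x hx
    exact phi_exact R G f K i x hx
  · intro i
    haveI := isRegularRing_stage R G K hs i
    exact Groth.Agent.Lib.Helper9.DLReg.qr_of_isRegularRing _ _

end

theorem main (R : Type u) [CommRing R] {ι : Type u} [Preorder ι]
    [IsDirectedOrder ι] [Nonempty ι] (G : ι → Type u) [∀ i, CommRing (G i)] [∀ i, Algebra R (G i)]
    (f : ∀ i j : ι, i ≤ j → (G i →ₐ[R] G j)) [DirectedSystem G (fun i j h => f i j h)]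
    (hs : ∀ i, Algebra.Smooth R (G i))
    (hN : ∀ (p : Ideal R) [p.IsPrime], IsNoetherianRing (p.Fiber (DirectLimit G f))) :
    CAlg.IsRegularHom R (DirectLimit G f) := by
  haveI : ∀ i, Module.Flat R (G i) := fun i => by haveI := hs i; infer_instance
  refine ⟨Groth.Agent.Lib.Helper4.Hzn.flat_directLimit f, fun p hp => ⟨hN p, ?_⟩⟩
  intro k' _ _ hfin
  letI : Algebra R k' := ((algebraMap p.ResidueField k').comp (algebraMap R p.ResidueField)).toAlgebra
  haveI : IsScalarTower R p.ResidueField k' := IsScalarTower.of_algebraMap_eq (fun x => rfl)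
  let e := Algebra.TensorProduct.cancelBaseChange R p.ResidueField k' k' (DirectLimit G f)
  haveI := hN p
  haveI : IsNoetherianRing (k' ⊗[p.ResidueField] p.Fiber (DirectLimit G f)) :=
    Groth.Agent.Lib.Helper23.GeomRegular2.isNoetherianRing_tensor_of_essFiniteType k'
  haveI : IsNoetherianRing (k' ⊗[R] DirectLimit G f) := isNoetherianRing_of_ringEquiv _ e.toRingEquiv
  haveI := isRegularRing_tensor R G f k' hs
  exact IsRegularRing.of_ringEquiv e.symm.toRingEquiv

end Groth.Agent.Lib.Helper9.DLSmooth
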