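import Mathlib

/-!
# Lifts of automorphisms over a small extension and derivations (deformation theory)
-/

set_option autoImplicit false
universe u

namespace Groth.Agent.Lib.Helper9.DefAut

variable {A : Type u} [CommRing A] [IsLocalRing A] {B : Type u} [CommRing B] [Algebra A B]

/-- `T` kills `𝔪B`. -/
lemma T_mul_eq_zero (t : A) (htm : ∀ a ∈ IsLocalRing.maximalIdeal A, a * t = 0)
    (x : B) (hx : x ∈ (IsLocalRing.maximalIdeal A).map (algebraMap A B)) :
    algebraMap A B t * x = 0 := by
  rw [Ideal.map, ← Ideal.submodule_span_eq] at hx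
  induction hx using Submodule.span_induction with
  | mem y hy =>
    obtain ⟨a, ha, rfl⟩ := hy
    rw [← map_mul, mul_comm, htm a ha, map_zero]
  | zero => simp
  | add y z _ _ hy hz => rw [mul_add, hy, hz, add_zero]
  | smul c y _ hy => rw [smul_eq_mul, mul_left_comm, hy, mul_zero]

/-- by flatness, the annihilator of `T` in `B` is `𝔪B`. -/
lemma mem_of_T_mul_eq_zero [Module.Flat A B] (t : A) (ht0 : t ≠ 0) (b : B)
    (hb : algebraMap A B t * b = 0) :
    b ∈ (IsLocalRing.maximalIdeal A).map (algebraMap A B) := by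
  obtain ⟨k, a, y, hxy, hay⟩ := Module.Flat.isTrivialRelation_of_sum_smul_eq_zero (R := A) (M := B)
    (ι := Fin 1) (f := fun _ => t) (x := fun _ => b) (by simp [Algebra.smul_def, hb])
  have hb' := hxy 0
  simp only at hb'
  rw [hb']
  refine Ideal.sum_mem _ fun j _ => ?_
  have haj := hay j
  simp only [Finset.univ_unique, Fin.default_eq_zero, Finset.sum_singleton] at haj
  have hmem : a 0 j ∈ IsLocalRing.maximalIdeal A := by
    by_contra hcon
    have hu : IsUnit (a 0 j) := by
      by_contra hnu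
      exact hcon hnu
    exact ht0 (by
      obtain ⟨u, hu⟩ := hu
      have : t * (a 0 j) * ((u⁻¹ : Aˣ) : A) = 0 := by rw [haj, zero_mul]
      rwa [mul_assoc, ← hu, Units.mul_inv, mul_one] at this)
  rw [Algebra.smul_def]
  exact Ideal.mul_mem_right _ _ (Ideal.mem_map_of_mem _ hmem)

/-- multiplication by `T` as a map `B/𝔪B → B`. -/
noncomputable def μ (t : A) (htm : ∀ a ∈ IsLocalRing.maximalIdeal A, a * t = 0) :
    (B ⧸ (IsLocalRing.maximalIdeal A).map (algebraMap A B)) →ₗ[B] B :=
  Submodule.liftQ _ (LinearMap.mulLeft B (algebraMap A B t)) (fun x hx => by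
    rw [LinearMap.mem_ker, LinearMap.mulLeft_apply]
    exact T_mul_eq_zero t htm x hx)

lemma μ_mk (t : A) (htm : ∀ a ∈ IsLocalRing.maximalIdeal A, a * t = 0) (x : B) :
    μ (B := B) t htm (Ideal.Quotient.mk _ x) = algebraMap A B t * x := rfl

lemma μ_injective [Module.Flat A B] (t : A) (ht0 : t ≠ 0)
    (htm : ∀ a ∈ IsLocalRing.maximalIdeal A, a * t = 0) :
    Function.Injective (μ (B := B) t htm) := by
  rw [injective_iff_map_eq_zero]
  intro y hy
  obtain ⟨x, rfl⟩ := Ideal.Quotient.mk_surjective y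
  rw [μ_mk] at hy
  exact Ideal.Quotient.eq_zero_iff_mem.mpr (mem_of_T_mul_eq_zero t ht0 x hy)

lemma T_mem (t : A) (ht : t ∈ IsLocalRing.maximalIdeal A) :
    algebraMap A B t ∈ (IsLocalRing.maximalIdeal A).map (algebraMap A B) :=
  Ideal.mem_map_of_mem _ ht

lemma μ_mem (t : A) (ht : t ∈ IsLocalRing.maximalIdeal A)
    (htm : ∀ a ∈ IsLocalRing.maximalIdeal A, a * t = 0) (y) :
    μ (B := B) t htm y ∈ (IsLocalRing.maximalIdeal A).map (algebraMap A B) := by
  obtain ⟨x, rfl⟩ := Ideal.Quotient.mk_surjective y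
  rw [μ_mk]
  exact Ideal.mul_mem_right _ _ (T_mem t ht)

lemma μ_mul_μ (t : A) (ht : t ∈ IsLocalRing.maximalIdeal A)
    (htm : ∀ a ∈ IsLocalRing.maximalIdeal A, a * t = 0) (y z) :
    μ (B := B) t htm y * μ (B := B) t htm z = 0 := by
  obtain ⟨x, rfl⟩ := Ideal.Quotient.mk_surjective y
  rw [μ_mk, mul_assoc]
  exact T_mul_eq_zero t htm _ (Ideal.mul_mem_left _ _ (μ_mem t ht htm z))

/-- `μ (q b * y) = b * μ y` -/
lemma μ_mk_mul (t : A) (htm : ∀ a ∈ IsLocalRing.maximalIdeal A, a * t = 0) (b : B) (y) :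
    μ (B := B) t htm (Ideal.Quotient.mk _ b * y) = b * μ (B := B) t htm y := by
  obtain ⟨x, rfl⟩ := Ideal.Quotient.mk_surjective y
  rw [← map_mul, μ_mk, μ_mk]; ring


lemma μ_smul {k : Type u} [Field k] [Algebra k A] [Algebra k B] [IsScalarTower k A B]
    (t : A) (htm : ∀ a ∈ IsLocalRing.maximalIdeal A, a * t = 0) (r : k) (y) :
    μ (B := B) t htm (r • y) = r • μ (B := B) t htm y := by
  rw [← algebraMap_smul B r y, map_smul, smul_eq_mul, Algebra.smul_def]


/-- Part 1: two lifts of the same automorphism differ by a derivation. -/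
lemma exists_derivation {k : Type u} [Field k] [Algebra k A] [Algebra k B] [IsScalarTower k A B]
    [Module.Flat A B] (t : A) (ht : t ∈ IsLocalRing.maximalIdeal A) (ht0 : t ≠ 0)
    (htm : ∀ a ∈ IsLocalRing.maximalIdeal A, a * t = 0) (τ η : B ≃ₐ[A] B)
    (h : ∀ b, η b - τ b ∈ Ideal.span {algebraMap A B t})
    (hτ0 : ∀ b : B, τ b - b ∈ (IsLocalRing.maximalIdeal A).map (algebraMap A B)) :
    ∃ d : Derivation k (B ⧸ (IsLocalRing.maximalIdeal A).map (algebraMap A B))
        (B ⧸ (IsLocalRing.maximalIdeal A).map (algebraMap A B)),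
      ∀ b, μ (B := B) t htm (d (Ideal.Quotient.mk _ b)) = η b - τ b := by
  set J := (IsLocalRing.maximalIdeal A).map (algebraMap A B) with hJ
  have hinj := μ_injective (B := B) t ht0 htm
  have hex : ∀ b, ∃ y : B ⧸ J, μ (B := B) t htm y = η b - τ b := by
    intro b
    obtain ⟨c, hc⟩ := Ideal.mem_span_singleton'.mp (h b)
    exact ⟨Ideal.Quotient.mk _ c, by rw [μ_mk, ← hc, mul_comm]⟩
  choose D hD using hex
  have hη0 : ∀ b : B, η b - b ∈ J := by
    intro b
    have h1 : η b - τ b ∈ J := by rw [← hD]; exact μ_mem t ht htm _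
    have := J.add_mem h1 (hτ0 b)
    rwa [sub_add_sub_cancel] at this
  have hDadd : ∀ b c, D (b + c) = D b + D c := by
    intro b c
    apply hinj
    rw [map_add, hD, hD, hD, map_add, map_add]; ring
  have hksmul : ∀ (r : k) (b : B) (e : B ≃ₐ[A] B), e (r • b) = r • e b := by
    intro r b e
    rw [← algebraMap_smul A r b, map_smul, algebraMap_smul]
  have hDsmul : ∀ (r : k) b, D (r • b) = r • D b := by
    intro r b
    apply hinj
    rw [hD, μ_smul, hD, hksmul, hksmul, smul_sub]
  have hDJ : ∀ x ∈ J, D x = 0 := by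
    intro x hx
    apply hinj
    rw [hD, map_zero]
    rw [hJ, Ideal.map, ← Ideal.submodule_span_eq] at hx
    induction hx using Submodule.span_induction with
    | mem y hy =>
      obtain ⟨a, ha, rfl⟩ := hy
      rw [AlgEquiv.commutes, AlgEquiv.commutes, sub_self]
    | zero => simp
    | add y z _ _ hy hz => rw [map_add, map_add, add_sub_add_comm, hy, hz, add_zero]
    | smul c y hy' hy =>
      rw [smul_eq_mul, map_mul, map_mul]
      have h1 : η c * η y - τ c * τ y = (η c - τ c) * η y + τ c * (η y - τ y) := by ring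
      rw [h1, hy, mul_zero, add_zero, ← hD c]
      have hy'' : y ∈ J := by rw [hJ, Ideal.map, ← Ideal.submodule_span_eq]; exact hy'
      have hηy : η y ∈ J := by
        have := J.add_mem (hη0 y) hy''
        rwa [sub_add_cancel] at this
      obtain ⟨w, hw⟩ := Ideal.Quotient.mk_surjective (D c)
      rw [← hw, μ_mk, mul_right_comm, mul_assoc]
      exact T_mul_eq_zero t htm _ (Ideal.mul_mem_right _ _ hηy)
  have hDmul : ∀ b c, D (b * c) = Ideal.Quotient.mk J b * D c + Ideal.Quotient.mk J c * D b := by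
    intro b c
    apply hinj
    rw [hD, map_add, μ_mk_mul, μ_mk_mul, hD, hD, map_mul, map_mul]
    have h1 : η b * η c - τ b * τ c = (η b - τ b) * η c + τ b * (η c - τ c) := by ring
    rw [h1]
    have h2 : (η b - τ b) * η c = c * (η b - τ b) := by
      have : (η b - τ b) * (η c - c) = 0 := by
        rw [← hD b]
        obtain ⟨w, hw⟩ := Ideal.Quotient.mk_surjective (D b)
        rw [← hw, μ_mk, mul_assoc]
        exact T_mul_eq_zero t htm _ (Ideal.mul_mem_left _ _ (hη0 c))
      linear_combination this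
    have h3 : τ b * (η c - τ c) = b * (η c - τ c) := by
      have : (η c - τ c) * (τ b - b) = 0 := by
        rw [← hD c]
        obtain ⟨w, hw⟩ := Ideal.Quotient.mk_surjective (D c)
        rw [← hw, μ_mk, mul_assoc]
        exact T_mul_eq_zero t htm _ (Ideal.mul_mem_left _ _ (hτ0 b))
      linear_combination this
    rw [h2, h3, add_comm]
  -- descend to the quotient
  have hs : Function.Surjective (Ideal.Quotient.mk J) := Ideal.Quotient.mk_surjective
  let s := Function.surjInv hs
  have hsq : ∀ b, D (s (Ideal.Quotient.mk J b)) = D b := by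
    intro b
    have h1 : s (Ideal.Quotient.mk J b) - b ∈ J := by
      rw [← Ideal.Quotient.eq]; exact Function.surjInv_eq hs _
    have h2 := hDJ _ h1
    have h3 : D (s (Ideal.Quotient.mk J b)) = D (s (Ideal.Quotient.mk J b) - b) + D b := by
      rw [← hDadd, sub_add_cancel]
    rw [h3, h2, zero_add]
  let dlin : (B ⧸ J) →ₗ[k] (B ⧸ J) :=
    { toFun := fun y => D (s y)
      map_add' := by
        intro y z
        obtain ⟨b, rfl⟩ := hs y
        obtain ⟨c, rfl⟩ := hs z
        rw [← map_add, hsq, hsq, hsq, hDadd]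
      map_smul' := by
        intro r y
        obtain ⟨b, rfl⟩ := hs y
        have : r • (Ideal.Quotient.mk J) b = Ideal.Quotient.mk J (r • b) := rfl
        rw [this, hsq, hsq, hDsmul]; rfl }
  refine ⟨Derivation.mk' dlin ?_, ?_⟩
  · intro y z
    obtain ⟨b, rfl⟩ := hs y
    obtain ⟨c, rfl⟩ := hs z
    change D (s _) = _ • D (s _) + _ • D (s _)
    rw [← map_mul, hsq, hsq, hsq, hDmul, smul_eq_mul, smul_eq_mul]
  · intro b
    change μ t htm (D (s _)) = _
    rw [hsq, hD]


/-- Part 2: adding a derivation to a lift gives another lift. -/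
lemma exists_lift {k : Type u} [Field k] [Algebra k A] [Algebra k B] [IsScalarTower k A B]
    (hres : ∀ a : A, ∃ c : k, a - algebraMap k A c ∈ IsLocalRing.maximalIdeal A)
    (t : A) (ht : t ∈ IsLocalRing.maximalIdeal A)
    (htm : ∀ a ∈ IsLocalRing.maximalIdeal A, a * t = 0) (τ : B ≃ₐ[A] B)
    (hτ0 : ∀ b : B, τ b - b ∈ (IsLocalRing.maximalIdeal A).map (algebraMap A B))
    (d : Derivation k (B ⧸ (IsLocalRing.maximalIdeal A).map (algebraMap A B))
        (B ⧸ (IsLocalRing.maximalIdeal A).map (algebraMap A B))) :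
    ∃ η : B ≃ₐ[A] B, ∀ b, η b = τ b + μ (B := B) t htm (d (Ideal.Quotient.mk _ b)) := by
  have hτmul : ∀ b y, τ b * μ (B := B) t htm y = b * μ (B := B) t htm y := by
    intro b y
    obtain ⟨w, rfl⟩ := Ideal.Quotient.mk_surjective y
    have : (algebraMap A B t) * ((τ b - b) * w) = 0 :=
      T_mul_eq_zero t htm _ (Ideal.mul_mem_right _ _ (hτ0 b))
    rw [μ_mk]
    linear_combination this
  have hτq : ∀ b, Ideal.Quotient.mk (Ideal.map (algebraMap A B) (IsLocalRing.maximalIdeal A)) (τ b) = Ideal.Quotient.mk (Ideal.map (algebraMap A B) (IsLocalRing.maximalIdeal A)) b := by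
    intro b; rw [Ideal.Quotient.eq]; exact hτ0 b
  have hτsq : ∀ b, Ideal.Quotient.mk (Ideal.map (algebraMap A B) (IsLocalRing.maximalIdeal A)) (τ.symm b) = Ideal.Quotient.mk (Ideal.map (algebraMap A B) (IsLocalRing.maximalIdeal A)) b := by
    intro b
    have := hτq (τ.symm b)
    rw [AlgEquiv.apply_symm_apply] at this
    exact this.symm
  have hqalg : ∀ a : A, ∃ c : k, Ideal.Quotient.mk (Ideal.map (algebraMap A B) (IsLocalRing.maximalIdeal A)) (algebraMap A B a) = algebraMap k (B ⧸ (Ideal.map (algebraMap A B) (IsLocalRing.maximalIdeal A))) c := by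
    intro a
    obtain ⟨c, hc⟩ := hres a
    refine ⟨c, ?_⟩
    have h1 : algebraMap A B (a - algebraMap k A c) ∈ (Ideal.map (algebraMap A B) (IsLocalRing.maximalIdeal A)) := Ideal.mem_map_of_mem _ hc
    rw [map_sub, ← Ideal.Quotient.eq, ← IsScalarTower.algebraMap_apply] at h1
    rw [h1]; rfl
  let η₀ : B →ₐ[A] B :=
    { toFun := fun b => τ b + μ (B := B) t htm (d (Ideal.Quotient.mk (Ideal.map (algebraMap A B) (IsLocalRing.maximalIdeal A)) b))
      map_one' := by
        rw [map_one, map_one, d.map_one_eq_zero, map_zero, add_zero]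
      map_mul' := by
        intro b c
        rw [map_mul, map_mul, d.leibniz, smul_eq_mul, smul_eq_mul, map_add, μ_mk_mul, μ_mk_mul]
        have h1 := μ_mul_μ (B := B) t ht htm (d (Ideal.Quotient.mk (Ideal.map (algebraMap A B) (IsLocalRing.maximalIdeal A)) b)) (d (Ideal.Quotient.mk (Ideal.map (algebraMap A B) (IsLocalRing.maximalIdeal A)) c))
        have h2 := hτmul b (d (Ideal.Quotient.mk (Ideal.map (algebraMap A B) (IsLocalRing.maximalIdeal A)) c))
        have h3 := hτmul c (d (Ideal.Quotient.mk (Ideal.map (algebraMap A B) (IsLocalRing.maximalIdeal A)) b))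
        linear_combination (-1 : B) * h1 - h2 - h3
      map_zero' := by rw [map_zero, map_zero, map_zero, map_zero, add_zero]
      map_add' := by
        intro b c
        rw [map_add, map_add, map_add, map_add]; ring
      commutes' := by
        intro a
        obtain ⟨c, hc⟩ := hqalg a
        rw [AlgEquiv.commutes, hc, d.map_algebraMap, map_zero, add_zero] }
  have hη₀ : ∀ b, η₀ b = τ b + μ (B := B) t htm (d (Ideal.Quotient.mk (Ideal.map (algebraMap A B) (IsLocalRing.maximalIdeal A)) b)) := fun b => rfl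
  have hbij : Function.Bijective η₀ := by
    constructor
    · rw [injective_iff_map_eq_zero]
      intro b hb
      rw [hη₀] at hb
      have h1 : τ b ∈ (Ideal.map (algebraMap A B) (IsLocalRing.maximalIdeal A)) := by
        have : τ b = - μ (B := B) t htm (d (Ideal.Quotient.mk (Ideal.map (algebraMap A B) (IsLocalRing.maximalIdeal A)) b)) := by linear_combination hb
        rw [this]; exact (Ideal.map (algebraMap A B) (IsLocalRing.maximalIdeal A)).neg_mem (μ_mem t ht htm _)
      have h2 : Ideal.Quotient.mk (Ideal.map (algebraMap A B) (IsLocalRing.maximalIdeal A)) b = 0 := by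
        rw [← hτq, Ideal.Quotient.eq_zero_iff_mem]; exact h1
      rw [h2, map_zero, map_zero, add_zero] at hb
      exact (map_eq_zero_iff τ τ.injective).mp hb
    · intro c
      refine ⟨τ.symm (c - μ (B := B) t htm (d (Ideal.Quotient.mk (Ideal.map (algebraMap A B) (IsLocalRing.maximalIdeal A)) c))), ?_⟩
      rw [hη₀, AlgEquiv.apply_symm_apply, hτsq]
      have : Ideal.Quotient.mk (Ideal.map (algebraMap A B) (IsLocalRing.maximalIdeal A)) (c - μ (B := B) t htm (d (Ideal.Quotient.mk (Ideal.map (algebraMap A B) (IsLocalRing.maximalIdeal A)) c))) =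
          Ideal.Quotient.mk (Ideal.map (algebraMap A B) (IsLocalRing.maximalIdeal A)) c := by
        rw [map_sub, Ideal.Quotient.eq_zero_iff_mem.mpr (μ_mem t ht htm _), sub_zero]
      rw [this]; ring
  refine ⟨AlgEquiv.ofBijective η₀ hbij, fun b => ?_⟩
  rw [AlgEquiv.ofBijective_apply, hη₀]


end Groth.Agent.Lib.Helper9.DefAut
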