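import Mathlib
import Groth.Agent.Lib.Helper12.LenFlat

/-!
# Length under faithfully flat base change (alias file)

`Lib/Helper9/LenExt1.lean` imports this module and uses `LenFlatU.length_eq_mul`; the file was never
landed by its author.  This stand-in (written by lead) re-exports helper12's `LenFlat.length_eq_mul`,
which has the signature used there.
-/

set_option autoImplicit false
universe u
open TensorProduct

namespace Groth.Agent.Lib.Helper9.LenFlatU

theorem length_eq_mul {A : Type u} [CommRing A] (B : Type u) [CommRing B] [Algebra A B]
    (N : Type u) [AddCommGroup N] [Module B N] [Module A N] [IsScalarTower A B N]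
    [IsLocalRing A] [Module.FaithfullyFlat A N] (M : Type u) [AddCommGroup M] [Module A M] :
    Module.length B (N ⊗[A] M) = Module.length A M *
      Module.length B (N ⧸ (((IsLocalRing.maximalIdeal A).map (algebraMap A B)) • ⊤ :
        Submodule B N)) :=
  Groth.Agent.Lib.Helper12.LenFlat.length_eq_mul B N M

end Groth.Agent.Lib.Helper9.LenFlatU
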