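import Mathlib
import Groth.Agent.Lib.Helper9.LenFlatU

/-!
# Lengths of local rings under flat base change (helper9): ring-level lemmas
-/

set_option autoImplicit false
universe u
open TensorProduct

namespace Groth.Agent.Lib.Helper9.LenExt

section R

variable {R' R'' : Type u} [CommRing R'] [CommRing R''] [Algebra R' R''] [Module.Flat R' R'']
  (q'' : Ideal R'') [q''.IsPrime] (p' : Ideal R') [p'.IsPrime]
  (hp : p' = q''.comap (algebraMap R' R''))
  (A B : Type u) [CommRing A] [CommRing B] [Algebra R' A] [Algebra R'' B]
  [IsLocalization.AtPrime A p'] [IsLocalization.AtPrime B q'']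
  [Algebra A B] [Algebra R' B] [IsScalarTower R' R'' B] [IsScalarTower R' A B]

omit [Module.Flat R' R''] in
include hp in
theorem comap_maximalIdeal_eq [IsLocalRing A] [IsLocalRing B] :
    (IsLocalRing.maximalIdeal B).comap (algebraMap A B) = IsLocalRing.maximalIdeal A := by
  have h1 : ((IsLocalRing.maximalIdeal B).comap (algebraMap A B)).comap (algebraMap R' A) = p' := by
    rw [Ideal.comap_comap, ← IsScalarTower.algebraMap_eq, IsScalarTower.algebraMap_eq R' R'' B,
      ← Ideal.comap_comap]
    have := IsLocalization.AtPrime.under_maximalIdeal B q''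
    rw [Ideal.under] at this
    rw [this, hp]
  have h2 : (IsLocalRing.maximalIdeal A).comap (algebraMap R' A) = p' :=
    IsLocalization.AtPrime.under_maximalIdeal A p'
  exact (IsLocalization.orderEmbedding p'.primeCompl A).injective (h1.trans h2.symm)

include hp in
theorem flat_localization : Module.Flat A B := by
  have _h := hp
  have h1 : Module.Flat R'' B := IsLocalization.flat B q''.primeCompl
  have h2 : Module.Flat R' B := Module.Flat.trans R' R'' B
  exact (Module.flat_iff_of_isLocalization A p'.primeCompl B).mpr h2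

include hp in
/-- The length formula for the flat local homomorphism `R'_{p'} → R''_{q''}`. -/
theorem length_localization_eq_mul [IsLocalRing A] [IsLocalRing B] :
    Module.length B B = Module.length A A *
      Module.length B (B ⧸ (((IsLocalRing.maximalIdeal A).map (algebraMap A B)) • ⊤ :
        Submodule B B)) := by
  have hflat : Module.Flat A B := flat_localization q'' p' hp A B
  have hloc : IsLocalHom (algebraMap A B) :=
    ((IsLocalRing.local_hom_TFAE (algebraMap A B)).out 0 4).mpr
      (comap_maximalIdeal_eq q'' p' hp A B)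
  have hff : Module.FaithfullyFlat A B := Module.FaithfullyFlat.of_flat_of_isLocalHom
  have key := LenFlatU.length_eq_mul (A := A) B B A
  rw [← key]
  exact (TensorProduct.AlgebraTensorModule.rid A B B).length_eq.symm

end R

section U

variable {R'' : Type u} [CommRing R''] (q'' : Ideal R'') [q''.IsPrime]
  (B : Type u) [CommRing B] [Algebra R'' B] [IsLocalization.AtPrime B q'']

/-- If `q''` is a minimal prime and `P ≤ q''` is a radical ideal, then `P` generates the maximal
ideal of the localization at `q''`. -/
theorem map_eq_maximalIdeal_of_isRadical [IsLocalRing B] (hq : q'' ∈ minimalPrimes R'')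
    (P : Ideal R'') (hP : P.IsRadical) (hPq : P ≤ q'') :
    P.map (algebraMap R'' B) = IsLocalRing.maximalIdeal B := by
  have hq' : q'' ∈ P.minimalPrimes := by
    refine ⟨⟨inferInstance, hPq⟩, fun r hr hrq => ?_⟩
    exact hq.2 ⟨hr.1, bot_le⟩ hrq
  have h1 := IsLocalization.AtPrime.radical_map_of_mem_minimalPrimes (A := B) q'' P hq'
  rw [← IsLocalization.map_radical q''.primeCompl B P, hP.radical] at h1
  rw [h1]
  exact IsLocalization.AtPrime.map_eq_maximalIdeal q'' B

theorem length_quot_maximalIdeal [IsLocalRing B] :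
    Module.length B (B ⧸ ((IsLocalRing.maximalIdeal B) • ⊤ : Submodule B B)) = 1 := by
  have h1 : ((IsLocalRing.maximalIdeal B) • ⊤ : Submodule B B) = IsLocalRing.maximalIdeal B := by
    rw [Ideal.smul_top_eq_map]
    simp
  rw [h1, Module.length_eq_one_iff, isSimpleModule_iff_isCoatom]
  exact Ideal.isMaximal_def.mp inferInstance

end U

section W

variable {k : Type u} [Field k] {R : Type u} [CommRing R] [Algebra k R] {L : Type u} [Field L]
  [Algebra k L] (hred : ∀ (K : Type u) [Field K] [Algebra k K], IsReduced (K ⊗[k] L))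

include hred in
theorem isRadical_map_includeLeft (p : Ideal R) [p.IsPrime] :
    (p.map (Algebra.TensorProduct.includeLeft : R →ₐ[k] R ⊗[k] L)).IsRadical := by
  let K := FractionRing (R ⧸ p)
  let α₁ : R ⊗[k] L →ₐ[k] (R ⧸ p) ⊗[k] L :=
    Algebra.TensorProduct.map (Ideal.Quotient.mkₐ k p) (AlgHom.id k L)
  let ι : (R ⧸ p) →ₐ[k] K := IsScalarTower.toAlgHom k (R ⧸ p) K
  let α₂ : (R ⧸ p) ⊗[k] L →ₐ[k] K ⊗[k] L := Algebra.TensorProduct.map ι (AlgHom.id k L)
  have hker : RingHom.ker α₁ = p.map (Algebra.TensorProduct.includeLeft : R →ₐ[k] R ⊗[k] L) := by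
    have := Algebra.TensorProduct.rTensor_ker (R := k) (S := k) (C := L)
      (Ideal.Quotient.mkₐ k p) (Ideal.Quotient.mkₐ_surjective k p)
    have hk : RingHom.ker (Ideal.Quotient.mkₐ k p) = p := Ideal.Quotient.mkₐ_ker k p
    rw [hk] at this
    exact this
  have hinj : Function.Injective α₂ := by
    have h0 : Function.Injective ι.toLinearMap := IsFractionRing.injective (R ⧸ p) K
    exact Module.Flat.rTensor_preserves_injective_linearMap (M := L) ι.toLinearMap h0
  have hK := hred K
  rw [← hker]
  intro x hx
  obtain ⟨n, hn⟩ := hx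
  rw [RingHom.mem_ker] at hn ⊢
  apply hinj
  rw [map_zero]
  have h2 : (α₂ (α₁ x)) ^ n = 0 := by rw [← map_pow, ← map_pow, hn, map_zero]
  exact IsReduced.eq_zero _ ⟨n, h2⟩

end W

end Groth.Agent.Lib.Helper9.LenExt
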