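import Mathlib
import Groth.Agent.Lib.Helper9.LenExt1

/-!
# Lengths of local rings at minimal primes under separable field extension (helper9): ring level
-/

set_option autoImplicit false
universe u
open TensorProduct

namespace Groth.Agent.Lib.Helper9.LenExt

theorem flat_of_isPushout (k L : Type u) [Field k] [Field L] [Algebra k L]
    {R' R'' : Type u} [CommRing R'] [CommRing R''] [Algebra k R'] [Algebra L R''] [Algebra R' R'']
    [Algebra k R''] [IsScalarTower k R' R''] [IsScalarTower k L R'']
    [Algebra.IsPushout k L R' R''] : Module.Flat R' R'' := by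
  have h : Algebra.IsPushout k R' L R'' := Algebra.IsPushout.symm inferInstance
  exact Module.Flat.isBaseChange (R := k) (S := R') (M := L) R'' h.out

variable {k L : Type u} [Field k] [Field L] [Algebra k L]
  {R' R'' : Type u} [CommRing R'] [CommRing R''] [Algebra k R'] [Algebra L R''] [Algebra R' R'']
  [Algebra k R''] [IsScalarTower k R' R''] [IsScalarTower k L R''] [Algebra.IsPushout k L R' R'']

theorem isRadical_map_of_isPushout
    (hred : ∀ (K : Type u) [Field K] [Algebra k K], IsReduced (K ⊗[k] L))
    (p : Ideal R') [p.IsPrime] : (p.map (algebraMap R' R'')).IsRadical := by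
  have h : Algebra.IsPushout k R' L R'' := Algebra.IsPushout.symm inferInstance
  let e : R' ⊗[k] L ≃ₐ[R'] R'' := Algebra.IsPushout.equiv k R' L R''
  have h1 := isRadical_map_includeLeft (R := R') (L := L) hred p
  have h2 : p.map (algebraMap R' R'') =
      (p.map (Algebra.TensorProduct.includeLeft : R' →ₐ[k] R' ⊗[k] L)).comap
        e.toRingEquiv.symm := by
    rw [← Ideal.map_comap_of_equiv]
    have he : ∀ x : R', e (Algebra.TensorProduct.includeLeft (R := k) (S := k) (B := L) x) =
        algebraMap R' R'' x := fun x => by
      show (Algebra.IsPushout.equiv k R' L R'') (x ⊗ₜ[k] 1) = _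
      rw [Algebra.IsPushout.equiv_tmul, map_one, mul_one]
    apply le_antisymm
    · rw [Ideal.map_le_iff_le_comap]
      intro x hx
      rw [Ideal.mem_comap, ← he x]
      exact Ideal.mem_map_of_mem _ (Ideal.mem_map_of_mem _ hx)
    · rw [Ideal.map_le_iff_le_comap, Ideal.map_le_iff_le_comap]
      intro x hx
      rw [Ideal.mem_comap, Ideal.mem_comap]
      have : (e.toRingEquiv : R' ⊗[k] L →+* R'')
          ((Algebra.TensorProduct.includeLeft : R' →ₐ[k] R' ⊗[k] L) x) = algebraMap R' R'' x :=
        he x
      rw [this]
      exact Ideal.mem_map_of_mem _ hx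
  rw [h2]
  exact h1.comap _

/-- Lengths of local rings at a minimal prime of `R' ⊗_k L` and its contraction agree when `L/k`
is separable. -/
theorem length_eq_of_minimal
    (hred : ∀ (K : Type u) [Field K] [Algebra k K], IsReduced (K ⊗[k] L))
    (q'' : Ideal R'') [q''.IsPrime] (hq : q'' ∈ minimalPrimes R'') (p' : Ideal R') [p'.IsPrime]
    (hp : p' = q''.comap (algebraMap R' R''))
    (A B : Type u) [CommRing A] [CommRing B] [Algebra R' A] [Algebra R'' B]
    [IsLocalization.AtPrime A p'] [IsLocalization.AtPrime B q'']
    [Algebra A B] [Algebra R' B] [IsScalarTower R' R'' B] [IsScalarTower R' A B] :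
    Module.length B B = Module.length A A := by
  have hflat : Module.Flat R' R'' := flat_of_isPushout k L
  have hA : IsLocalRing A := IsLocalization.AtPrime.isLocalRing A p'
  have hB : IsLocalRing B := IsLocalization.AtPrime.isLocalRing B q''
  rw [length_localization_eq_mul q'' p' hp A B]
  have hP : (p'.map (algebraMap R' R'')).IsRadical :=
    isRadical_map_of_isPushout (k := k) (L := L) hred p'
  have hPq : p'.map (algebraMap R' R'') ≤ q'' := by
    rw [Ideal.map_le_iff_le_comap, hp]
  have h1 : (IsLocalRing.maximalIdeal A).map (algebraMap A B) = IsLocalRing.maximalIdeal B := by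
    rw [← IsLocalization.AtPrime.map_eq_maximalIdeal p' A, Ideal.map_map,
      ← IsScalarTower.algebraMap_eq, IsScalarTower.algebraMap_eq R' R'' B, ← Ideal.map_map]
    exact map_eq_maximalIdeal_of_isRadical q'' B hq _ hP hPq
  rw [h1, length_quot_maximalIdeal, mul_one]

end Groth.Agent.Lib.Helper9.LenExt
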