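import Mathlib
import Groth.Agent.Lib.Helper9.LenExt2

/-!
# Radical ideals extend to radical ideals along separable field extensions (helper9)
-/

set_option autoImplicit false
universe u
open TensorProduct

namespace Groth.Agent.Lib.Helper9.DefOver

section free

variable {R S ι : Type*} [CommRing R] [CommRing S] [Algebra R S]

theorem mem_map_iff_repr (b : Module.Basis ι R S) (I : Ideal R) (x : S) :
    x ∈ I.map (algebraMap R S) ↔ ∀ i, b.repr x i ∈ I := by
  have h1 : x ∈ I.map (algebraMap R S) ↔ x ∈ I • (⊤ : Submodule R S) := by
    rw [Ideal.smul_top_eq_map]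
    rfl
  rw [h1, ← b.span_eq, Submodule.mem_ideal_smul_span_iff_exists_sum]
  constructor
  · rintro ⟨a, ha, rfl⟩ i
    have : b.repr (a.sum fun i c => c • b i) = a := by
      have := b.repr_linearCombination a
      rwa [Finsupp.linearCombination_apply] at this
    rw [this]
    exact ha i
  · intro h
    refine ⟨b.repr x, h, ?_⟩
    have := b.linearCombination_repr x
    rwa [Finsupp.linearCombination_apply] at this

theorem isRadical_map_of_free [Module.Free R S]
    (hprime : ∀ p : Ideal R, p.IsPrime → (p.map (algebraMap R S)).IsRadical)
    (I : Ideal R) (hI : I.IsRadical) : (I.map (algebraMap R S)).IsRadical := by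
  let b := Module.Free.chooseBasis R S
  intro x hx
  rw [mem_map_iff_repr b]
  intro i
  rw [← hI.radical, Ideal.radical_eq_sInf, Ideal.mem_sInf]
  rintro p ⟨hIp, hp⟩
  have h1 : x ∈ (p.map (algebraMap R S)).radical :=
    Ideal.radical_mono (Ideal.map_mono hIp) hx
  have h2 := hprime p hp h1
  exact (mem_map_iff_repr b p x).mp h2 i

end free

section sep

variable {k L : Type u} [Field k] [Field L] [Algebra k L]
  {R' R'' : Type u} [CommRing R'] [CommRing R''] [Algebra k R'] [Algebra L R''] [Algebra R' R'']
  [Algebra k R''] [IsScalarTower k R' R''] [IsScalarTower k L R'']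
  [Algebra.IsPushout k L R' R'']

variable (k L) in
include k L in
theorem free_of_isPushout : Module.Free R' R'' := by
  have h : Algebra.IsPushout k R' L R'' := Algebra.IsPushout.symm inferInstance
  exact IsBaseChange.free h.out

theorem isRadical_map_of_isPushout'
    (hred : ∀ (K : Type u) [Field K] [Algebra k K], IsReduced (K ⊗[k] L))
    (I : Ideal R') (hI : I.IsRadical) : (I.map (algebraMap R' R'')).IsRadical := by
  have := free_of_isPushout k L (R' := R') (R'' := R'')
  exact isRadical_map_of_free
    (fun p hp => Groth.Agent.Lib.Helper9.LenExt.isRadical_map_of_isPushout (k := k) (L := L) hred p)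
    I hI

end sep

end Groth.Agent.Lib.Helper9.DefOver
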