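import Mathlib
import Groth.Agent.Lib.Helper7.WeakAss

/-!
# Weakly associated primes and base change: basic tools (helper9)
-/

set_option autoImplicit false
universe u v
open TensorProduct

namespace Groth.Agent.Lib.Helper9.WAExt

open FlatCA Groth.Agent.Lib.Helper7.WeakAss

/-- `GoodRing R S`: weakly associated primes of `S ⊗[R] M` contract to weakly associated primes
of `M`, for every `R`-module `M`. -/
def GoodRing (R S : Type u) [CommRing R] [CommRing S] [Algebra R S] : Prop :=
  ∀ (M : Type u) [AddCommGroup M] [Module R M] (q : Ideal S),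
    q ∈ weakAss S (S ⊗[R] M) → q.comap (algebraMap R S) ∈ weakAss R M

section Basic

variable {R : Type u} [CommRing R]

/-- A criterion for minimality. -/
theorem mem_minimalPrimes_of_forall {I p : Ideal R} [hp : p.IsPrime] (hle : I ≤ p)
    (h : ∀ g ∈ p, ∃ t ∉ p, ∃ n : ℕ, t * g ^ n ∈ I) : p ∈ I.minimalPrimes := by
  refine ⟨⟨hp, hle⟩, ?_⟩
  rintro p' ⟨hp', hIp'⟩ hp'p g hg
  obtain ⟨t, ht, n, htn⟩ := h g hg
  rcases hp'.mem_or_mem (hIp' htn) with h1 | h1
  · exact absurd (hp'p h1) ht
  · exact hp'.mem_of_pow_mem n h1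

variable {M : Type v} [AddCommGroup M] [Module R M] {ι : Type*}

/-- If the annihilator of a finitely supported family lies in a prime, so does the annihilator
of one coordinate. -/
theorem exists_coord_ann_le {p : Ideal R} [hp : p.IsPrime] (x : ι →₀ M)
    (h : (R ∙ x).annihilator ≤ p) : ∃ i, (R ∙ x i).annihilator ≤ p := by
  classical
  by_contra hcon
  push Not at hcon
  have hch : ∀ i, ∃ r : R, r ∈ (R ∙ x i).annihilator ∧ r ∉ p := fun i =>
    SetLike.not_le_iff_exists.1 (hcon i)
  choose r hr hrp using hch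
  set t : R := ∏ i ∈ x.support, r i with ht
  have htp : t ∉ p := by
    intro hmem
    obtain ⟨i, -, hi⟩ := (Ideal.IsPrime.prod_mem_iff).1 hmem
    exact hrp i hi
  have htx : t • x = 0 := by
    ext i
    rw [Finsupp.smul_apply, Finsupp.zero_apply]
    by_cases hi : i ∈ x.support
    · rw [ht, ← Finset.mul_prod_erase _ _ hi, mul_comm, mul_smul]
      have := (mem_ann (R := R)).1 (hr i)
      rw [this, smul_zero]
    · rw [Finsupp.notMem_support_iff.1 hi, smul_zero]
  exact htp (h ((mem_ann (R := R)).2 htx))

/-- A weakly associated prime of a module of finitely supported families is weakly associated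
to the coordinate module. -/
theorem weakAss_finsupp_subset : weakAss R (ι →₀ M) ⊆ weakAss R M := by
  rintro p ⟨x, hx⟩
  have := hx.1.1
  obtain ⟨i, hi⟩ := exists_coord_ann_le x hx.1.2
  refine ⟨x i, minimalPrimes_of_le hx ?_ hi⟩
  intro r hr
  rw [mem_ann] at hr ⊢
  rw [← Finsupp.smul_apply, hr, Finsupp.zero_apply]

end Basic

end Groth.Agent.Lib.Helper9.WAExt
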