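import Mathlib
import Groth.Agent.Lib.Helper9.WAExt1

set_option autoImplicit false
universe u v
open TensorProduct

namespace Groth.Agent.Lib.Helper9.WAExt

open FlatCA Groth.Agent.Lib.Helper7.WeakAss

/-- Transport of weakly associated primes along a semilinear isomorphism. -/
theorem comap_mem_weakAss_of_semilinear {S S' : Type u} [CommRing S] [CommRing S']
    (e : S ≃+* S') {N N' : Type v} [AddCommGroup N] [Module S N] [AddCommGroup N'] [Module S' N']
    (φ : N ≃+ N') (hφ : ∀ (s : S) (n : N), φ (s • n) = e s • φ n)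
    {q' : Ideal S'} (hq' : q' ∈ weakAss S' N') : q'.comap (e : S →+* S') ∈ weakAss S N := by
  obtain ⟨n', hn'⟩ := hq'
  refine ⟨φ.symm n', ?_⟩
  have hann : (S ∙ φ.symm n').annihilator = ((S' ∙ n').annihilator).comap (e : S →+* S') := by
    ext r
    rw [Ideal.mem_comap, mem_ann, mem_ann]
    constructor
    · intro h
      have := hφ r (φ.symm n')
      rw [h, map_zero, AddEquiv.apply_symm_apply] at this
      exact this.symm
    · intro h
      apply φ.injective
      rw [hφ, AddEquiv.apply_symm_apply, map_zero]
      exact h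
  rw [hann]
  exact Ideal.minimalPrimes_comap_of_surjective (f := (e : S →+* S')) e.surjective hn'

theorem GoodRing.trans {R S T : Type u} [CommRing R] [CommRing S] [CommRing T] [Algebra R S]
    [Algebra S T] [Algebra R T] [IsScalarTower R S T]
    (h1 : GoodRing R S) (h2 : GoodRing S T) : GoodRing R T := by
  intro M _ _ q hq
  have e : T ⊗[S] (S ⊗[R] M) ≃ₗ[T] T ⊗[R] M :=
    TensorProduct.AlgebraTensorModule.cancelBaseChange R S T T M
  rw [← weakAss_congr e] at hq
  have := h1 M _ (h2 (S ⊗[R] M) q hq)
  rwa [Ideal.comap_comap, ← IsScalarTower.algebraMap_eq] at this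

theorem GoodRing.of_algEquiv {R S S' : Type u} [CommRing R] [CommRing S] [CommRing S']
    [Algebra R S] [Algebra R S'] (e : S ≃ₐ[R] S') (h : GoodRing R S) : GoodRing R S' := by
  intro M _ _ q' hq'
  let φ : S ⊗[R] M ≃ₗ[R] S' ⊗[R] M := TensorProduct.congr e.toLinearEquiv (LinearEquiv.refl R M)
  have hφ : ∀ (s : S) (n : S ⊗[R] M), φ.toAddEquiv (s • n) = e.toRingEquiv s • φ.toAddEquiv n := by
    intro s n
    induction n using TensorProduct.induction_on with
    | zero => simp
    | tmul a m =>
      simp [φ, TensorProduct.smul_tmul']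
    | add x y hx hy =>
      rw [smul_add, map_add, hx, hy, map_add, smul_add]
  have h1 := comap_mem_weakAss_of_semilinear e.toRingEquiv φ.toAddEquiv hφ hq'
  have h2 := h M _ h1
  rw [Ideal.comap_comap] at h2
  convert h2 using 2
  ext x
  simp

/-- The statement for an arbitrary base change. -/
theorem GoodRing.comap_mem {R S : Type u} [CommRing R] [CommRing S] [Algebra R S]
    (h : GoodRing R S) {M MK : Type u} [AddCommGroup M] [Module R M] [AddCommGroup MK] [Module S MK]
    [Module R MK] [IsScalarTower R S MK] (f : M →ₗ[R] MK) (hf : IsBaseChange S f)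
    {q : Ideal S} (hq : q ∈ weakAss S MK) : q.comap (algebraMap R S) ∈ weakAss R M := by
  rw [← weakAss_congr hf.equiv] at hq
  exact h M q hq

end Groth.Agent.Lib.Helper9.WAExt
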