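import Mathlib
import Groth.Agent.Lib.Helper9.WAExt2

set_option autoImplicit false
universe u v
open TensorProduct

namespace Groth.Agent.Lib.Helper9.WAExt

open FlatCA Groth.Agent.Lib.Helper7.WeakAss

section FlatDescent

variable {A B : Type u} [CommRing A] [CommRing B] [Algebra A B] [Module.Flat A B]

/-- Annihilators of elements commute with flat base change. -/
theorem ann_tmul_eq_map {N : Type v} [AddCommGroup N] [Module A N] (n : N) :
    (B ∙ ((1 : B) ⊗ₜ[A] n)).annihilator = ((A ∙ n).annihilator).map (algebraMap A B) := by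
  apply le_antisymm
  · intro b hb
    rw [mem_ann, TensorProduct.smul_tmul', smul_eq_mul, mul_one] at hb
    set φ : A →ₗ[A] N := LinearMap.toSpanSingleton A N n with hφ
    have hker : ∀ a : A, a ∈ LinearMap.ker φ ↔ a ∈ (A ∙ n).annihilator := by
      intro a
      rw [LinearMap.mem_ker, mem_ann, hφ, LinearMap.toSpanSingleton_apply]
    have h1 : b ⊗ₜ[A] (1 : A) ∈ LinearMap.ker (AlgebraTensorModule.lTensor B B φ) := by
      rw [LinearMap.mem_ker]
      simp [hφ, hb]
    rw [Module.Flat.ker_lTensor_eq] at h1
    obtain ⟨y, hy⟩ := h1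
    have h2 : ∀ y : B ⊗[A] (LinearMap.ker φ),
        TensorProduct.rid A B ((AlgebraTensorModule.lTensor B B (LinearMap.ker φ).subtype) y) ∈
          ((A ∙ n).annihilator).map (algebraMap A B) := by
      intro y
      induction y using TensorProduct.induction_on with
      | zero => simp
      | tmul b' a =>
        simp only [AlgebraTensorModule.lTensor_tmul, Submodule.subtype_apply, TensorProduct.rid_tmul]
        rw [Algebra.smul_def]
        exact Ideal.mul_mem_right _ _ (Ideal.mem_map_of_mem _ ((hker _).1 a.2))
      | add x y hx hy =>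
        rw [map_add, map_add]
        exact Ideal.add_mem _ hx hy
    have h3 := h2 y
    rw [hy, TensorProduct.rid_tmul, one_smul] at h3
    exact h3
  · rw [Ideal.map_le_iff_le_comap]
    intro a ha
    rw [mem_ann] at ha
    rw [Ideal.mem_comap, mem_ann, TensorProduct.smul_tmul', smul_eq_mul, mul_one,
      Algebra.algebraMap_eq_smul_one, TensorProduct.smul_tmul, ha, TensorProduct.tmul_zero]

/-- Going down for minimal primes over an extended ideal. -/
theorem comap_mem_minimalPrimes_of_flat {I : Ideal A} {q : Ideal B}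
    (hq : q ∈ (I.map (algebraMap A B)).minimalPrimes) :
    q.comap (algebraMap A B) ∈ I.minimalPrimes := by
  have hqp : q.IsPrime := hq.1.1
  refine ⟨⟨inferInstance, Ideal.map_le_iff_le_comap.1 hq.1.2⟩, ?_⟩
  rintro p' ⟨hp', hIp'⟩ hle
  have : q.LiesOver (q.comap (algebraMap A B)) := ⟨rfl⟩
  obtain ⟨P, hPq, hP, hPover⟩ := Ideal.exists_ideal_le_liesOver_of_le (p := p')
    (q := q.comap (algebraMap A B)) q hle
  have hIP : I.map (algebraMap A B) ≤ P := by
    rw [Ideal.map_le_iff_le_comap]
    intro a ha
    have := hPover.over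
    rw [Ideal.under_def] at this
    rw [← this]
    exact hIp' ha
  have hqP : q ≤ P := hq.2 ⟨hP, hIP⟩ hPq
  have hPeq : P = q := le_antisymm hPq hqP
  have := hPover.over
  rw [Ideal.under_def, hPeq] at this
  rw [this]

/-- Flat descent of weakly associated primes "through an element". -/
theorem comap_mem_minimalPrimes_ann_of_flat {N : Type v} [AddCommGroup N] [Module A N] (n : N)
    {q : Ideal B} (hq : q ∈ ((B ∙ ((1 : B) ⊗ₜ[A] n)).annihilator).minimalPrimes) :
    q.comap (algebraMap A B) ∈ ((A ∙ n).annihilator).minimalPrimes := by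
  rw [ann_tmul_eq_map] at hq
  exact comap_mem_minimalPrimes_of_flat hq

end FlatDescent

end Groth.Agent.Lib.Helper9.WAExt
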