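import Mathlib
import Groth.Agent.Lib.Helper9.WAExt3
import Groth.Agent.Lib.Helper26.FinitePushAss

set_option autoImplicit false
universe u v
open TensorProduct

namespace Groth.Agent.Lib.Helper9.WAExt

open FlatCA Groth.Agent.Lib.Helper7.WeakAss

/-- A finite free extension is good (Stacks 10.66.13 plus coordinates). -/
theorem goodRing_of_finite_free (R S : Type u) [CommRing R] [CommRing S] [Algebra R S]
    [Module.Finite R S] [Module.Free R S] : GoodRing R S := by
  intro M _ _ q hq
  obtain ⟨z, hz⟩ := hq
  have hfin : ((q.comap (algebraMap R S)).primesOver S).Finite :=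
    Algebra.QuasiFinite.finite_primesOver _
  obtain ⟨y, hy⟩ := Groth.Agent.Lib.Helper26.FinitePushAss.key (R := R) (S := S) _ q hz hfin
  have h1 := hy ((S ∙ (y • z)).annihilator) (fun r => mem_ann_smul)
  rw [← ann_eq_comap] at h1
  have h2 : q.comap (algebraMap R S) ∈ weakAss R (S ⊗[R] M) := ⟨y • z, h1⟩
  rw [weakAss_congr (TensorProduct.equivFinsuppOfBasisLeft (Module.Free.chooseBasis R S))] at h2
  exact weakAss_finsupp_subset h2

end Groth.Agent.Lib.Helper9.WAExt
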