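import Mathlib
import Groth.Agent.Lib.Helper9.WAExt3

set_option autoImplicit false
universe u v
open TensorProduct

namespace Groth.Agent.Lib.Helper9.WAExt

open FlatCA Groth.Agent.Lib.Helper7.WeakAss

section Coord

variable {R S : Type u} [CommRing R] [CommRing S] [Algebra R S] {ι : Type*} [DecidableEq ι]
  (b : Module.Basis ι R S)

/-- Naturality of the coordinates of a free base change. -/
theorem coord_baseChange {N N' : Type v} [AddCommGroup N] [Module R N] [AddCommGroup N']
    [Module R N'] (φ : N →ₗ[R] N') (x : S ⊗[R] N) (i : ι) :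
    TensorProduct.equivFinsuppOfBasisLeft b (φ.baseChange S x) i =
      φ (TensorProduct.equivFinsuppOfBasisLeft b x i) := by
  induction x using TensorProduct.induction_on with
  | zero => simp
  | tmul s n =>
    rw [LinearMap.baseChange_tmul, TensorProduct.equivFinsuppOfBasisLeft_apply_tmul_apply,
      TensorProduct.equivFinsuppOfBasisLeft_apply_tmul_apply, map_smul]
  | add x y hx hy =>
    rw [map_add, map_add, Finsupp.add_apply, hx, hy, map_add, Finsupp.add_apply, map_add]

end Coord

section Killed

variable {R S : Type u} [CommRing R] [CommRing S] [Algebra R S]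

/-- If `I` is maximal in `R` and `I S` is prime, every `g ∉ I S` is a nonzerodivisor on
`S ⊗[R] V` for every `R ⧸ I`-vector space `V`. -/
theorem eq_zero_of_smul_eq_zero_of_killed (I : Ideal R) [hI : I.IsMaximal]
    (hprime : (I.map (algebraMap R S)).IsPrime) (V : Type v) [AddCommGroup V] [Module R V]
    [Module (R ⧸ I) V] [IsScalarTower R (R ⧸ I) V]
    (g : S) (hg : g ∉ I.map (algebraMap R S)) (w : S ⊗[R] V) (hw : g • w = 0) : w = 0 := by
  classical
  let _ : Field (R ⧸ I) := Ideal.Quotient.field I
  let e := Module.Free.chooseBasis (R ⧸ I) V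
  let J := Module.Free.ChooseBasisIndex (R ⧸ I) V
  let E1 : S ⊗[R] V ≃ₗ[S] S ⊗[R] (J →₀ R ⧸ I) :=
    TensorProduct.AlgebraTensorModule.congr (LinearEquiv.refl S S) (e.repr.restrictScalars R)
  let E2 : S ⊗[R] (J →₀ R ⧸ I) ≃ₗ[S] (J →₀ S ⊗[R] (R ⧸ I)) :=
    TensorProduct.finsuppRight R S S (R ⧸ I) J
  let E3 : (J →₀ S ⊗[R] (R ⧸ I)) ≃ₗ[S] (J →₀ S ⧸ I.map (algebraMap R S)) :=
    Finsupp.mapRange.linearEquiv
      (Algebra.TensorProduct.quotIdealMapEquivTensorQuot S I).symm.toLinearEquiv
  let E := E1 ≪≫ₗ E2 ≪≫ₗ E3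
  have hE : g • E w = 0 := by rw [← map_smul, hw, map_zero]
  have hdom : IsDomain (S ⧸ I.map (algebraMap R S)) := Ideal.Quotient.isDomain _
  have hg' : (Ideal.Quotient.mk (I.map (algebraMap R S)) g) ≠ 0 := by
    rwa [Ne, Ideal.Quotient.eq_zero_iff_mem]
  have hEw : E w = 0 := by
    ext j
    have h1 := DFunLike.congr_fun hE j
    rw [Finsupp.smul_apply, Finsupp.zero_apply, Algebra.smul_def] at h1
    rw [Finsupp.zero_apply]
    rcases mul_eq_zero.1 h1 with h2 | h2
    · exact absurd h2 hg'
    · exact h2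
  exact E.map_eq_zero_iff.1 hEw

end Killed

section Local

variable {R S : Type u} [CommRing R] [IsLocalRing R] [CommRing S] [Algebra R S] {ι : Type u}
  (b : Module.Basis ι R S)
  (hprime : ((IsLocalRing.maximalIdeal R).map (algebraMap R S)).IsPrime)

include b hprime in
/-- Over a local ring `R` with `𝔪 S` prime and `S` free, every `g ∉ 𝔪 S` is a nonzerodivisor
on every base change `S ⊗[R] M`. -/
theorem eq_zero_of_smul_eq_zero_local {M : Type u} [AddCommGroup M] [Module R M] (g : S)
    (hg : g ∉ (IsLocalRing.maximalIdeal R).map (algebraMap R S)) (w : S ⊗[R] M)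
    (hw : g • w = 0) : w = 0 := by
  classical
  set c := TensorProduct.equivFinsuppOfBasisLeft (N := M) b with hc
  set x := c w with hx
  let M' : Submodule R M := Submodule.span R (x '' x.support)
  have hmem : ∀ i, x i ∈ M' := by
    intro i
    by_cases hi : i ∈ x.support
    · exact Submodule.subset_span ⟨i, hi, rfl⟩
    · rw [Finsupp.notMem_support_iff.1 hi]
      exact zero_mem _
  let x' : ι →₀ M' := Finsupp.onFinset x.support (fun i => ⟨x i, hmem i⟩) (by
    intro i hi
    rw [Finsupp.mem_support_iff]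
    intro h0
    exact hi (Subtype.ext h0))
  have hx' : ∀ i, (x' i : M) = x i := fun i => rfl
  let c' := TensorProduct.equivFinsuppOfBasisLeft (N := M') b
  let w' : S ⊗[R] M' := c'.symm x'
  have hcw' : c' w' = x' := c'.apply_symm_apply x'
  have hw' : (M'.subtype.baseChange S) w' = w := by
    apply c.injective
    ext i
    rw [hc, coord_baseChange, ← hc, ← hx]
    change M'.subtype (c' w' i) = x i
    rw [hcw']
    rfl
  have hfree : Module.Free R S := Module.Free.of_basis b
  have hflat : Function.Injective (M'.subtype.baseChange S) :=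
    Module.Flat.lTensor_preserves_injective_linearMap (M := S) M'.subtype M'.injective_subtype
  have hgw' : g • w' = 0 := by
    apply hflat
    rw [map_smul, hw', hw, map_zero]
  let V := M' ⧸ ((IsLocalRing.maximalIdeal R) • ⊤ : Submodule R M')
  let π : M' →ₗ[R] V := Submodule.mkQ _
  have h1 : g • (π.baseChange S w') = 0 := by rw [← map_smul, hgw', map_zero]
  have htow : IsScalarTower R (R ⧸ IsLocalRing.maximalIdeal R) V :=
    (Module.isTorsionBySet_quotient_ideal_smul M' (IsLocalRing.maximalIdeal R)).isScalarTower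
  have h2 : π.baseChange S w' = 0 :=
    eq_zero_of_smul_eq_zero_of_killed (IsLocalRing.maximalIdeal R) hprime V g hg _ h1
  have h3 : ∀ i, x' i ∈ ((IsLocalRing.maximalIdeal R) • ⊤ : Submodule R M') := by
    intro i
    have := coord_baseChange b π w' i
    rw [h2, map_zero, Finsupp.zero_apply] at this
    change 0 = π (c' w' i) at this
    rw [hcw'] at this
    exact (Submodule.Quotient.mk_eq_zero _).1 this.symm
  have htop' : Submodule.span R (((↑) : M' → M) ⁻¹' (x '' x.support)) ≤
      ((IsLocalRing.maximalIdeal R) • ⊤ : Submodule R M') := by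
    rw [Submodule.span_le]
    rintro ⟨m, hm⟩ ⟨i, hi, hmi⟩
    have : (⟨m, hm⟩ : M') = x' i := Subtype.ext hmi.symm
    rw [this]
    exact h3 i
  have htop : (⊤ : Submodule R M') ≤ (IsLocalRing.maximalIdeal R) • ⊤ := by
    rwa [Submodule.span_span_coe_preimage] at htop'
  have hfin : Module.Finite R M' :=
    Module.Finite.span_of_finite R (x.support.finite_toSet.image _)
  have hbot : (⊤ : Submodule R M') = ⊥ :=
    Submodule.eq_bot_of_le_smul_of_le_jacobson_bot (IsLocalRing.maximalIdeal R) ⊤
      Module.Finite.fg_top htop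
      (by rw [IsLocalRing.jacobson_eq_maximalIdeal ⊥ bot_ne_top])
  have hx0 : x = 0 := by
    ext i
    have : (⟨x i, hmem i⟩ : M') ∈ (⊤ : Submodule R M') := trivial
    rw [hbot, Submodule.mem_bot] at this
    exact congrArg Subtype.val this
  exact c.map_eq_zero_iff.1 hx0

include b hprime in
/-- The local purely-transcendental-type case: if `S` is free over the local ring `R` and
`𝔪 S` is prime, a weakly associated prime of `S ⊗[R] M` over `𝔪` forces `𝔪 ∈ WeakAss M`. -/
theorem maximalIdeal_mem_weakAss_of_local {M : Type u} [AddCommGroup M] [Module R M]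
    {q : Ideal S} (hq : q ∈ weakAss S (S ⊗[R] M))
    (hqm : q.comap (algebraMap R S) = IsLocalRing.maximalIdeal R) :
    IsLocalRing.maximalIdeal R ∈ weakAss R M := by
  classical
  obtain ⟨z, hz⟩ := hq
  have hqp : q.IsPrime := hz.1.1
  have hmq : (IsLocalRing.maximalIdeal R).map (algebraMap R S) ≤ q := by
    rw [Ideal.map_le_iff_le_comap, hqm]
  set c := TensorProduct.equivFinsuppOfBasisLeft (N := M) b with hc
  set x := c z with hx
  have key : ∀ g ∈ IsLocalRing.maximalIdeal R, ∃ n : ℕ, g ^ n • z = 0 := by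
    intro g hg
    have hgq : algebraMap R S g ∈ q := by
      rw [← Ideal.mem_comap, hqm]
      exact hg
    obtain ⟨s, hs, n, hsn⟩ := exists_mul_pow_mem_of_mem_minimalPrimes hz hgq
    rw [mem_ann, mul_smul] at hsn
    have hs' : s ∉ (IsLocalRing.maximalIdeal R).map (algebraMap R S) := fun h => hs (hmq h)
    have := eq_zero_of_smul_eq_zero_local b hprime s hs' _ hsn
    refine ⟨n, ?_⟩
    rw [← this, ← map_pow, algebraMap_smul]
  have hann : (R ∙ z).annihilator ≤ IsLocalRing.maximalIdeal R := by
    rw [ann_eq_comap (A := S) z, ← hqm]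
    exact Ideal.comap_mono hz.1.2
  have hannx : (R ∙ x).annihilator ≤ IsLocalRing.maximalIdeal R := by
    have := ann_map_of_injective c.toLinearMap c.injective z
    rw [hx]
    exact this.le.trans hann
  obtain ⟨i, hi⟩ := exists_coord_ann_le x hannx
  refine ⟨x i, mem_minimalPrimes_of_forall hi ?_⟩
  intro g hg
  obtain ⟨n, hn⟩ := key g hg
  refine ⟨1, (Ideal.ne_top_iff_one _).1 Ideal.IsPrime.ne_top', n, ?_⟩
  rw [one_mul, mem_ann]
  have h0 : g ^ n • x = 0 := by rw [hx, ← map_smul, hn, map_zero]
  rw [← Finsupp.smul_apply, h0, Finsupp.zero_apply]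

end Local

end Groth.Agent.Lib.Helper9.WAExt
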