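import Mathlib
import Groth.Agent.Lib.Helper9.WAExt5

set_option autoImplicit false
universe u v
open TensorProduct

namespace Groth.Agent.Lib.Helper9.WAExt

open FlatCA Groth.Agent.Lib.Helper7.WeakAss

/-- A free extension `S/R` all of whose extended primes `p S` are prime is good
(the purely transcendental step of Stacks 0EME). -/
theorem goodRing_of_free_of_prime (R S : Type u) [CommRing R] [CommRing S] [Algebra R S]
    [Module.Free R S]
    (hprime : ∀ p : Ideal R, p.IsPrime → (p.map (algebraMap R S)).IsPrime) : GoodRing R S := by
  intro M _ _ q hq
  have hqp : q.IsPrime := isPrime_of_mem_weakAss hq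
  set p := q.comap (algebraMap R S) with hp
  have hpp : p.IsPrime := Ideal.IsPrime.comap _
  let S' := Algebra.algebraMapSubmonoid S p.primeCompl
  -- step 1: localize `q`
  have hdisj : Disjoint (S' : Set S) (q : Set S) := by
    rw [Set.disjoint_left]
    rintro _ ⟨t, ht, rfl⟩ htq
    exact ht htq
  have h1 : q.map (algebraMap S (Localization S')) ∈
      weakAss (Localization S') (LocalizedModule S' (S ⊗[R] M)) :=
    (mem_weakAss_iff_map_mem S' q hdisj).1 hq
  -- step 2: both are base changes of `M` to `Localization S'`
  have hA : IsBaseChange (Localization S')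
      (((LocalizedModule.mkLinearMap S' (S ⊗[R] M)).restrictScalars R).comp
        (TensorProduct.mk R S M 1)) :=
    (TensorProduct.isBaseChange R M S).comp (LocalizedModule.isBaseChange S' (S ⊗[R] M))
  have hB : IsBaseChange (Localization S')
      (((TensorProduct.mk (Localization.AtPrime p) (Localization S')
          (LocalizedModule p.primeCompl M) 1).restrictScalars R).comp
        (LocalizedModule.mkLinearMap p.primeCompl M)) :=
    (LocalizedModule.isBaseChange p.primeCompl M).comp
      (TensorProduct.isBaseChange (Localization.AtPrime p) (LocalizedModule p.primeCompl M)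
        (Localization S'))
  let θ : LocalizedModule S' (S ⊗[R] M) ≃ₗ[Localization S']
      (Localization S') ⊗[Localization.AtPrime p] (LocalizedModule p.primeCompl M) :=
    hA.equiv.symm ≪≫ₗ hB.equiv
  rw [weakAss_congr θ] at h1
  -- step 3: the local theorem
  let bp := (Module.Free.chooseBasis R S).localizationLocalization (Localization.AtPrime p)
    p.primeCompl (Localization S')
  have hmap : (IsLocalRing.maximalIdeal (Localization.AtPrime p)).map
      (algebraMap (Localization.AtPrime p) (Localization S')) =
      (p.map (algebraMap R S)).map (algebraMap S (Localization S')) := by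
    rw [← Localization.AtPrime.map_eq_maximalIdeal, Ideal.map_map, Ideal.map_map,
      ← IsScalarTower.algebraMap_eq, ← IsScalarTower.algebraMap_eq]
  have hpSq : p.map (algebraMap R S) ≤ q := Ideal.map_le_iff_le_comap.2 le_rfl
  have hprime' : ((IsLocalRing.maximalIdeal (Localization.AtPrime p)).map
      (algebraMap (Localization.AtPrime p) (Localization S'))).IsPrime := by
    rw [hmap]
    exact IsLocalization.isPrime_of_isPrime_disjoint S' _ _ (hprime p hpp)
      (Set.disjoint_of_subset_right hpSq hdisj)
  have hcomap : (q.map (algebraMap S (Localization S'))).comap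
      (algebraMap (Localization.AtPrime p) (Localization S')) =
      IsLocalRing.maximalIdeal (Localization.AtPrime p) := by
    have hq'prime : (q.map (algebraMap S (Localization S'))).IsPrime :=
      IsLocalization.isPrime_of_isPrime_disjoint S' _ _ hqp hdisj
    have hle : IsLocalRing.maximalIdeal (Localization.AtPrime p) ≤
        (q.map (algebraMap S (Localization S'))).comap
          (algebraMap (Localization.AtPrime p) (Localization S')) := by
      rw [← Ideal.map_le_iff_le_comap, hmap]
      exact Ideal.map_mono hpSq
    exact ((IsLocalRing.maximalIdeal.isMaximal _).eq_of_le (Ideal.IsPrime.comap _).ne_top hle).symm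
  have h2 := maximalIdeal_mem_weakAss_of_local bp hprime' h1 hcomap
  -- step 4: back to `R`
  rw [← Localization.AtPrime.map_eq_maximalIdeal] at h2
  exact (mem_weakAss_iff_map_mem p.primeCompl p
    (Set.disjoint_left.2 fun x hx hxp => hx hxp)).2 h2

end Groth.Agent.Lib.Helper9.WAExt
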