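import Mathlib
import Groth.Agent.Lib.Helper9.WAExt6

set_option autoImplicit false
universe u v
open TensorProduct

namespace Groth.Agent.Lib.Helper9.WAExt

open FlatCA Groth.Agent.Lib.Helper7.WeakAss

section PureTranscendental

variable (k : Type u) [Field k] (ι : Type u)

/-- A domain tensored with a purely transcendental extension is a domain. -/
theorem isDomain_tensor_fractionRing_mvPolynomial (D : Type u) [CommRing D] [IsDomain D]
    [Algebra k D] : IsDomain (D ⊗[k] FractionRing (MvPolynomial ι k)) := by
  classical
  let P := MvPolynomial ι k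
  let E := FractionRing P
  let φ : D ⊗[k] P →ₐ[D] D ⊗[k] E :=
    Algebra.TensorProduct.map (AlgHom.id D D) (IsScalarTower.toAlgHom k P E)
  let _ : Algebra (D ⊗[k] P) (D ⊗[k] E) := φ.toRingHom.toAlgebra
  have htow : IsScalarTower D (D ⊗[k] P) (D ⊗[k] E) :=
    IsScalarTower.of_algebraMap_eq fun x => (φ.commutes x).symm
  have H : (algebraMap (D ⊗[k] P) (D ⊗[k] E)).comp
      (Algebra.TensorProduct.includeRight (R := k) (A := D) (B := P)).toRingHom =
      (Algebra.TensorProduct.includeRight (R := k) (A := D) (B := E)).toRingHom.comp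
        (algebraMap P E) := by
    ext x
    · simp [RingHom.algebraMap_toAlgebra, φ]
    · simp [RingHom.algebraMap_toAlgebra, φ]
  have hloc := IsLocalization.tensorProduct_tensorProduct_right k D (nonZeroDivisors P) E H
  have hdomP : IsDomain (D ⊗[k] P) :=
    (MvPolynomial.algebraTensorAlgEquiv k D (σ := ι)).toRingEquiv.toMulEquiv.isDomain _
  have hinj : Function.Injective
      (Algebra.TensorProduct.includeRight (R := k) (A := D) (B := P)) :=
    Algebra.TensorProduct.includeRight_injective (algebraMap k D).injective
  refine IsLocalization.isDomain_of_le_nonZeroDivisors (D ⊗[k] E)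
    (M := (nonZeroDivisors P).map (Algebra.TensorProduct.includeRight (R := k) (A := D) (B := P)))
    ?_
  rintro _ ⟨f, hf, rfl⟩
  apply mem_nonZeroDivisors_of_ne_zero
  intro h0
  have : f = 0 := hinj (by rw [map_zero]; exact h0)
  exact (nonZeroDivisors.ne_zero hf) this

/-- `Good k K`: weakly associated primes contract along `R → R ⊗[k] K` for every `k`-algebra
`R`. -/
def Good (k K : Type u) [Field k] [Field K] [Algebra k K] : Prop :=
  ∀ (R : Type u) [CommRing R] [Algebra k R], GoodRing R (R ⊗[k] K)

/-- Purely transcendental extensions are good. -/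
theorem good_fractionRing_mvPolynomial : Good k (FractionRing (MvPolynomial ι k)) := by
  intro R _ _
  apply goodRing_of_free_of_prime
  intro p hp
  have e := Algebra.TensorProduct.quotientTensorEquiv (R := k) R
    (FractionRing (MvPolynomial ι k)) R p
  have hdom : IsDomain ((R ⧸ p) ⊗[k] FractionRing (MvPolynomial ι k)) :=
    isDomain_tensor_fractionRing_mvPolynomial k ι (R ⧸ p)
  have : IsDomain ((R ⊗[k] FractionRing (MvPolynomial ι k)) ⧸
      p.map (algebraMap R (R ⊗[k] FractionRing (MvPolynomial ι k)))) :=
    e.symm.toRingEquiv.toMulEquiv.isDomain _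
  exact (Ideal.Quotient.isDomain_iff_prime _).1 this

end PureTranscendental

end Groth.Agent.Lib.Helper9.WAExt
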