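import Mathlib
import Groth.Agent.Lib.Helper9.WAExt7
import Groth.Agent.Lib.Helper9.WAExt4

set_option autoImplicit false
universe u v
open TensorProduct

namespace Groth.Agent.Lib.Helper9.WAExt

open FlatCA Groth.Agent.Lib.Helper7.WeakAss

section Tower

variable (k L K R : Type u) [Field k] [Field L] [Field K] [Algebra k L] [Algebra k K] [Algebra L K]
  [IsScalarTower k L K] [CommRing R] [Algebra k R]

/-- The map `R ⊗ L → R ⊗ K`. -/
noncomputable def towerMap : R ⊗[k] L →ₐ[R] R ⊗[k] K :=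
  Algebra.TensorProduct.map (AlgHom.id R R) (IsScalarTower.toAlgHom k L K)

/-- `R ⊗ K` as an algebra over `R ⊗ L`. -/
@[reducible] noncomputable def towerAlgebra : Algebra (R ⊗[k] L) (R ⊗[k] K) :=
  (towerMap k L K R).toRingHom.toAlgebra

attribute [local instance] Algebra.TensorProduct.rightAlgebra

/-- `R ⊗ K` as an algebra over `L`. -/
@[reducible] noncomputable def towerAlgebraL : Algebra L (R ⊗[k] K) :=
  ((algebraMap K (R ⊗[k] K)).comp (algebraMap L K)).toAlgebra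

attribute [local instance 50] towerAlgebra towerAlgebraL

instance : IsScalarTower L K (R ⊗[k] K) := IsScalarTower.of_algebraMap_eq fun _ => rfl

instance : IsScalarTower R (R ⊗[k] L) (R ⊗[k] K) :=
  IsScalarTower.of_algebraMap_eq fun x => ((towerMap k L K R).commutes x).symm

theorem towerMap_tmul (r : R) (l : L) : towerMap k L K R (r ⊗ₜ l) = r ⊗ₜ (algebraMap L K l) := by
  simp [towerMap]

instance : IsScalarTower L (R ⊗[k] L) (R ⊗[k] K) :=
  IsScalarTower.of_algebraMap_eq fun l => by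
    change (1 : R) ⊗ₜ[k] (algebraMap L K l) = towerMap k L K R ((1 : R) ⊗ₜ[k] l)
    rw [towerMap_tmul]

instance : IsScalarTower k (R ⊗[k] L) (R ⊗[k] K) :=
  IsScalarTower.of_algebraMap_eq fun x => by
    rw [IsScalarTower.algebraMap_apply k R (R ⊗[k] K), IsScalarTower.algebraMap_apply k R (R ⊗[k] L),
      ← IsScalarTower.algebraMap_apply R (R ⊗[k] L) (R ⊗[k] K)]

theorem tower_isPushout : Algebra.IsPushout L K (R ⊗[k] L) (R ⊗[k] K) :=
  (Algebra.IsPushout.comp_iff k L (T := K) R (R ⊗[k] L) (T' := R ⊗[k] K)).1 inferInstance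

/-- `(R ⊗ L) ⊗_L K ≃ R ⊗ K` over `R ⊗ L`. -/
noncomputable def towerEquiv : (R ⊗[k] L) ⊗[L] K ≃ₐ[R ⊗[k] L] R ⊗[k] K :=
  haveI := (tower_isPushout k L K R).symm
  Algebra.IsPushout.equiv L (R ⊗[k] L) K (R ⊗[k] K)

/-- Goodness is transitive in towers of fields. -/
theorem Good.trans (h1 : Good k L) (h2 : Good L K) : Good k K := by
  intro R _ _
  have g1 : GoodRing R (R ⊗[k] L) := h1 R
  have g2 : GoodRing (R ⊗[k] L) ((R ⊗[k] L) ⊗[L] K) := h2 (R ⊗[k] L)
  have g3 : GoodRing (R ⊗[k] L) (R ⊗[k] K) := g2.of_algEquiv (towerEquiv k L K R)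
  exact g1.trans g3

theorem tower_flat : Module.Flat (R ⊗[k] L) (R ⊗[k] K) :=
  Module.Flat.of_linearEquiv (towerEquiv k L K R).symm.toLinearEquiv

end Tower

section Algebraic

variable (k K : Type u) [Field k] [Field K] [Algebra k K]

attribute [local instance] Algebra.TensorProduct.rightAlgebra
attribute [local instance 50] towerAlgebra towerAlgebraL

/-- Elements of `(R ⊗ K) ⊗[R] M` are `R`-combinations of the `(1 ⊗ κ) ⊗ m`. -/
theorem span_one_tmul_tmul_eq_top (R : Type u) [CommRing R] [Algebra k R] (M : Type u)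
    [AddCommGroup M] [Module R M] :
    Submodule.span R {t : (R ⊗[k] K) ⊗[R] M | ∃ (κ : K) (m : M), t = ((1 : R) ⊗ₜ[k] κ) ⊗ₜ[R] m} =
      ⊤ := by
  rw [eq_top_iff]
  rintro z -
  induction z using TensorProduct.induction_on with
  | zero => exact zero_mem _
  | tmul a m =>
    induction a using TensorProduct.induction_on with
    | zero => rw [TensorProduct.zero_tmul]; exact zero_mem _
    | tmul r κ =>
      have : (r ⊗ₜ[k] κ) ⊗ₜ[R] m = r • (((1 : R) ⊗ₜ[k] κ) ⊗ₜ[R] m) := by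
        rw [TensorProduct.smul_tmul', TensorProduct.smul_tmul', smul_eq_mul, mul_one]
      rw [this]
      exact Submodule.smul_mem _ _ (Submodule.subset_span ⟨κ, m, rfl⟩)
    | add x y hx hy =>
      rw [TensorProduct.add_tmul]
      exact add_mem hx hy
  | add x y hx hy => exact add_mem hx hy

/-- Algebraic extensions are good. -/
theorem good_of_isAlgebraic [Algebra.IsAlgebraic k K] : Good k K := by
  classical
  intro R _ _ M _ _ q hq
  obtain ⟨z, hz⟩ := hq
  -- step 1: a finitely generated subextension through which `z` factors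
  have hz0 : z ∈ Submodule.span R
      {t : (R ⊗[k] K) ⊗[R] M | ∃ (κ : K) (m : M), t = ((1 : R) ⊗ₜ[k] κ) ⊗ₜ[R] m} := by
    rw [span_one_tmul_tmul_eq_top]
    trivial
  obtain ⟨T, hTS, hzT⟩ := Submodule.mem_span_finite_of_mem_span hz0
  have hTS' : ∀ t : (R ⊗[k] K) ⊗[R] M, t ∈ T →
      ∃ (κ : K) (m : M), t = ((1 : R) ⊗ₜ[k] κ) ⊗ₜ[R] m := fun t ht => hTS ht
  choose! κ m hκm using hTS'
  let F : Finset K := T.image κ
  let Lf : IntermediateField k K := IntermediateField.adjoin k (F : Set K)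
  have hfd : FiniteDimensional k Lf :=
    IntermediateField.finiteDimensional_adjoin fun x _ => Algebra.IsIntegral.isIntegral x
  let Φ : (R ⊗[k] Lf) ⊗[R] M →ₗ[R] (R ⊗[k] K) ⊗[R] M :=
    TensorProduct.map (towerMap k Lf K R).toLinearMap LinearMap.id
  have hTΦ : ∀ t ∈ T, t ∈ LinearMap.range Φ := by
    intro t ht
    have hmem : κ t ∈ Lf := IntermediateField.subset_adjoin k _ (Finset.mem_image_of_mem κ ht)
    refine ⟨((1 : R) ⊗ₜ[k] (⟨κ t, hmem⟩ : Lf)) ⊗ₜ[R] m t, ?_⟩
    refine Eq.trans ?_ (hκm t ht).symm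
    simp [Φ, towerMap_tmul]
  have hzΦ : z ∈ LinearMap.range Φ := by
    have : Submodule.span R (T : Set ((R ⊗[k] K) ⊗[R] M)) ≤ LinearMap.range Φ :=
      Submodule.span_le.2 hTΦ
    exact this hzT
  obtain ⟨zL, hzL⟩ := hzΦ
  -- step 2: descend along the flat map `R ⊗ Lf → R ⊗ K`
  have hflat : Module.Flat (R ⊗[k] Lf) (R ⊗[k] K) := tower_flat k Lf K R
  let θ : (R ⊗[k] K) ⊗[R ⊗[k] Lf] ((R ⊗[k] Lf) ⊗[R] M) ≃ₗ[R ⊗[k] K] (R ⊗[k] K) ⊗[R] M :=
    TensorProduct.AlgebraTensorModule.cancelBaseChange R (R ⊗[k] Lf) (R ⊗[k] K) (R ⊗[k] K) M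
  have hθ : ∀ y : (R ⊗[k] Lf) ⊗[R] M, θ ((1 : R ⊗[k] K) ⊗ₜ y) = Φ y := by
    intro y
    induction y using TensorProduct.induction_on with
    | zero => simp
    | tmul b m' =>
      rw [TensorProduct.AlgebraTensorModule.cancelBaseChange_tmul, Algebra.smul_def, mul_one]
      rfl
    | add x y hx hy => rw [TensorProduct.tmul_add, map_add, hx, hy, map_add]
  have hann : ((R ⊗[k] K) ∙ ((1 : R ⊗[k] K) ⊗ₜ[R ⊗[k] Lf] zL)).annihilator =
      ((R ⊗[k] K) ∙ z).annihilator := by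
    rw [← hzL, ← hθ]
    exact (ann_map_of_injective θ.toLinearMap θ.injective _).symm
  rw [← hann] at hz
  have h1 := comap_mem_minimalPrimes_ann_of_flat (A := R ⊗[k] Lf) (B := R ⊗[k] K) zL hz
  have h2 : q.comap (algebraMap (R ⊗[k] Lf) (R ⊗[k] K)) ∈
      weakAss (R ⊗[k] Lf) ((R ⊗[k] Lf) ⊗[R] M) := ⟨zL, h1⟩
  -- step 3: the finite case
  have h3 := goodRing_of_finite_free R (R ⊗[k] Lf) M _ h2
  rwa [Ideal.comap_comap, ← IsScalarTower.algebraMap_eq] at h3

end Algebraic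

end Groth.Agent.Lib.Helper9.WAExt
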