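import Mathlib
import Groth.Agent.Lib.Helper9.WAExt8

set_option autoImplicit false
universe u v
open TensorProduct

namespace Groth.Agent.Lib.Helper9.WAExt

open FlatCA Groth.Agent.Lib.Helper7.WeakAss

/-- Every field extension is good (Stacks, Lemma 0EME-type). -/
theorem good_all (k K : Type u) [Field k] [Field K] [Algebra k K] : Good k K := by
  obtain ⟨s, hs⟩ := exists_isTranscendenceBasis k K
  let E := IntermediateField.adjoin k (Set.range ((↑) : s → K))
  have halg : Algebra.IsAlgebraic E K := hs.isAlgebraic_field
  let e : FractionRing (MvPolynomial s k) ≃ₐ[k] E := hs.1.aevalEquivField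
  let _ : Algebra (FractionRing (MvPolynomial s k)) K :=
    ((algebraMap E K).comp (e : FractionRing (MvPolynomial s k) →+* E)).toAlgebra
  have htow : IsScalarTower k (FractionRing (MvPolynomial s k)) K :=
    IsScalarTower.of_algebraMap_eq fun x => by
      rw [RingHom.algebraMap_toAlgebra, RingHom.comp_apply]
      have : (e : FractionRing (MvPolynomial s k) →+* E)
          (algebraMap k (FractionRing (MvPolynomial s k)) x) = algebraMap k E x := e.commutes x
      rw [this]
      rfl
  have halg' : Algebra.IsAlgebraic (FractionRing (MvPolynomial s k)) K :=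
    Algebra.IsAlgebraic.of_ringHom_of_comp_eq (S := E) (B := K)
      (e : FractionRing (MvPolynomial s k) →+* E) (RingHom.id K) e.surjective
      Function.injective_id rfl
  exact Good.trans k (FractionRing (MvPolynomial s k)) K
    (good_fractionRing_mvPolynomial k s) (good_of_isAlgebraic _ K)

/-- The statement for arbitrary pushouts and base changes. -/
theorem comap_mem_weakAss_of_isPushout {k K R : Type u} [Field k] [Field K] [Algebra k K]
    [CommRing R] [Algebra k R] (RK : Type u) [CommRing RK] [Algebra k RK] [Algebra K RK]
    [Algebra R RK] [IsScalarTower k K RK] [IsScalarTower k R RK] [Algebra.IsPushout k K R RK]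
    (M : Type u) [AddCommGroup M] [Module R M] (MK : Type u) [AddCommGroup MK] [Module RK MK]
    [Module R MK] [IsScalarTower R RK MK] (f : M →ₗ[R] MK) (hf : IsBaseChange RK f)
    (q : Ideal RK) (hq : q ∈ FlatCA.weakAss RK MK) :
    q.comap (algebraMap R RK) ∈ FlatCA.weakAss R M := by
  have hsymm : Algebra.IsPushout k R K RK := Algebra.IsPushout.symm inferInstance
  have g : GoodRing R RK := (good_all k K R).of_algEquiv (Algebra.IsPushout.equiv k R K RK)
  exact g.comap_mem f hf hq

end Groth.Agent.Lib.Helper9.WAExt
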