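import Mathlib
import Groth.Agent.Lib.Helper9.WAExt9
import Groth.Agent.Lib.Helper29.QCohAss2
import Groth.Agent.Lib.Helper29.QCohPullback

/-!
# Weakly associated points and extension of the base field (helper9)
-/

set_option autoImplicit false
universe u
open CategoryTheory CategoryTheory.Limits AlgebraicGeometry TopologicalSpace Opposite TensorProduct

namespace Groth.Agent.Lib.Helper9.WAExt

open FlatCA Groth.Agent.Lib.Helper7.WeakAss Groth.Agent.Lib.Helper29.QCoh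

section chart

variable {k K : Type u} [Field k] [Field K] [Algebra k K] {X : Scheme.{u}}
  (f : X ⟶ Spec (CommRingCat.of k))

/-- Affine charts of `X ×_k K`: the sections over `g⁻¹ U` are the pushout. -/
theorem chart_pushout (U : X.Opens) (hU : IsAffineOpen U) :
    IsAffineOpen ((pullback.fst f (Spec.map (CommRingCat.ofHom (algebraMap k K)))) ⁻¹ᵁ U) ∧
    ∃ (α : k →+* Γ(X, U))
      (β : K →+* Γ(pullback f (Spec.map (CommRingCat.ofHom (algebraMap k K))),
        (pullback.fst f (Spec.map (CommRingCat.ofHom (algebraMap k K)))) ⁻¹ᵁ U)),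
      IsPushout (CommRingCat.ofHom (algebraMap k K)) (CommRingCat.ofHom α) (CommRingCat.ofHom β)
        ((pullback.fst f (Spec.map (CommRingCat.ofHom (algebraMap k K)))).appLE U
          ((pullback.fst f (Spec.map (CommRingCat.ofHom (algebraMap k K)))) ⁻¹ᵁ U) le_rfl) := by
  set h := Spec.map (CommRingCat.ofHom (algebraMap k K)) with hh
  set g := pullback.fst f h with hg
  set iY := pullback.snd f h with hiY
  have Hpb : IsPullback g iY f h := IsPullback.of_hasPullback f h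
  have : IsAffineHom g := MorphismProperty.pullback_fst _ _ (inferInstance : IsAffineHom h)
  have hW : IsAffineOpen (g ⁻¹ᵁ U) := hU.preimage g
  refine ⟨hW, ?_⟩
  have hUY : g ⁻¹ᵁ U = g ⁻¹ᵁ U ⊓ iY ⁻¹ᵁ ⊤ := by simp
  have hiso := isIso_pushoutSection_of_isAffineOpen Hpb (US := ⊤) (UT := ⊤) (UX := U)
    (by simp) (by simp) hUY (isAffineOpen_top _) (isAffineOpen_top _) hU
  have Hpo := (isIso_pushoutSection_iff Hpb _ _ hUY).mp hiso
  let α' : CommRingCat.of k ⟶ Γ(X, U) :=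
    (Scheme.ΓSpecIso (CommRingCat.of k)).inv ≫ f.appLE ⊤ U (by simp)
  let b' : CommRingCat.of K ⟶ Γ(pullback f h, g ⁻¹ᵁ U) :=
    (Scheme.ΓSpecIso (CommRingCat.of K)).inv ≫ iY.appLE ⊤ (g ⁻¹ᵁ U) (by simp)
  have Hpo' : IsPushout (CommRingCat.ofHom (algebraMap k K)) α' b'
      (g.appLE U (g ⁻¹ᵁ U) le_rfl) := by
    refine IsPushout.of_iso Hpo.flip (Scheme.ΓSpecIso (CommRingCat.of k))
      (Scheme.ΓSpecIso (CommRingCat.of K)) (Iso.refl _) (Iso.refl _) ?_ ?_ ?_ ?_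
    · have := Scheme.ΓSpecIso_naturality (CommRingCat.ofHom (algebraMap k K))
      rw [← this]
      congr 1
    · simp [α']
    · simp [b']
    · simp
  exact ⟨α'.hom, b'.hom, Hpo'⟩

end chart

theorem annSection_eq_ann {X : Scheme.{u}} (M : X.Modules) {U : X.Opens} (m : Γ(M, U)) :
    annSection M m = (Γ(X, U) ∙ m).annihilator := by
  ext r
  rw [mem_annSection, mem_ann]

/-- Weakly associated points of a pulled back module along `X_K → X` map to weakly associated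
points. -/
theorem main8900 (k : Type u) [Field k] (K : Type u) [Field K] [Algebra k K] (X : Scheme.{u})
    [X.Over (Spec (CommRingCat.of k))] (F : X.Modules) (hF : Coh.IsQCoh F)
    (y : ↥(Curv2.bc k X K))
    (hy : Curv2.IsWeakAssPoint ((Scheme.Modules.pullback (Curv2.bcFst k X K)).obj F) y) :
    Curv2.IsWeakAssPoint F (Curv2.bcFst k X K y) := by
  have hFq : F.IsQuasicoherent := hF
  set g := Curv2.bcFst k X K with hg
  obtain ⟨U, hU, hxU, -⟩ := exists_isAffineOpen_mem_and_subset (x := g y) (U := ⊤) trivial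
  obtain ⟨hW, α, β, Hpo⟩ := chart_pushout (K := K) (X ↘ Spec (CommRingCat.of k)) U hU
  have hyW : y ∈ g ⁻¹ᵁ U := hxU
  obtain ⟨m, hm⟩ := exists_mem_minimalPrimes_of_isWeakAssPoint
    ((Scheme.Modules.pullback g).obj F) hW y hyW hy
  let _ : Algebra Γ(X, U) Γ(Curv2.bc k X K, g ⁻¹ᵁ U) := (g.appLE U (g ⁻¹ᵁ U) le_rfl).hom.toAlgebra
  let _ : Algebra k Γ(X, U) := α.toAlgebra
  let _ : Algebra K Γ(Curv2.bc k X K, g ⁻¹ᵁ U) := β.toAlgebra
  let _ : Algebra k Γ(Curv2.bc k X K, g ⁻¹ᵁ U) :=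
    ((g.appLE U (g ⁻¹ᵁ U) le_rfl).hom.comp α).toAlgebra
  have ht1 : IsScalarTower k Γ(X, U) Γ(Curv2.bc k X K, g ⁻¹ᵁ U) :=
    IsScalarTower.of_algebraMap_eq fun _ => rfl
  have ht2 : IsScalarTower k K Γ(Curv2.bc k X K, g ⁻¹ᵁ U) :=
    IsScalarTower.of_algebraMap_eq fun x => by
      have := congrArg (fun φ => φ.hom x) Hpo.w
      exact this.symm
  have hpo : Algebra.IsPushout k K Γ(X, U) Γ(Curv2.bc k X K, g ⁻¹ᵁ U) :=
    CommRingCat.isPushout_iff_isPushout.mp Hpo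
  let θ := pullbackSectionsEquiv g F hW hU le_rfl
  have hq : (hW.primeIdealOf ⟨y, hyW⟩).asIdeal ∈
      weakAss Γ(Curv2.bc k X K, g ⁻¹ᵁ U) Γ((Scheme.Modules.pullback g).obj F, g ⁻¹ᵁ U) :=
    ⟨m, by rwa [← annSection_eq_ann]⟩
  rw [weakAss_congr θ] at hq
  have h1 := comap_mem_weakAss_of_isPushout (k := k) (K := K) Γ(Curv2.bc k X K, g ⁻¹ᵁ U)
    Γ(F, U) _ (TensorProduct.mk Γ(X, U) Γ(Curv2.bc k X K, g ⁻¹ᵁ U) Γ(F, U) 1)
    (TensorProduct.isBaseChange Γ(X, U) Γ(F, U) Γ(Curv2.bc k X K, g ⁻¹ᵁ U)) _ hq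
  obtain ⟨n, hn⟩ := h1
  have hprime : (hU.primeIdealOf ⟨g y, hxU⟩).asIdeal =
      Ideal.comap (algebraMap Γ(X, U) Γ(Curv2.bc k X K, g ⁻¹ᵁ U))
        (hW.primeIdealOf ⟨y, hyW⟩).asIdeal := by
    rw [primeIdealOf_map g hU hW y hyW, Scheme.Hom.app_eq_appLE]
    rfl
  refine isWeakAssPoint_of_mem_minimalPrimes F hU n (g y) hxU ?_
  rw [annSection_eq_ann, hprime]
  exact hn

end Groth.Agent.Lib.Helper9.WAExt
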