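import Mathlib
import Groth.Prelude.Def_FDesc
import Groth.Agent.Lib.Helper9.LenExt2
import Groth.Agent.Lib.Helper9.WAExt10
import Groth.Agent.Lib.Helper8.FlatAffine

/-!
# Lengths of local rings at maximal points under separable field extension (helper9)
-/

set_option autoImplicit false
universe u
open CategoryTheory CategoryTheory.Limits AlgebraicGeometry TopologicalSpace Opposite TensorProduct

namespace Groth.Agent.Lib.Helper9.LenExt

open Groth.Agent.Lib.Helper29.QCoh

section red

variable {k' k'' : Type u} [Field k'] [Field k''] [Algebra k' k'']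

theorem hred_of_geometricallyReduced
    [GeometricallyReduced (Spec.map (CommRingCat.ofHom (algebraMap k' k'')))]
    (K : Type u) [Field K] [Algebra k' K] : IsReduced (K ⊗[k'] k'') := by
  have hg : GeometricallyReduced (Spec.map (CommRingCat.ofHom (algebraMap k' k''))) := inferInstance
  have hpo := CommRingCat.isPushout_tensorProduct k' k'' K
  have hpb := isPullback_SpecMap_of_isPushout _ _ _ _ hpo
  have h1 : IsReduced (Spec (CommRingCat.of (k'' ⊗[k'] K))) :=
    hg.geometrically_isReduced (Spec.map (CommRingCat.ofHom (algebraMap k' K))) _ _ hpb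
  have h2 : _root_.IsReduced (k'' ⊗[k'] K) := (affine_isReduced_iff _).mp h1
  exact isReduced_of_injective (Algebra.TensorProduct.comm k' K k'').toRingEquiv.toRingHom
    (Algebra.TensorProduct.comm k' K k'').injective

end red

section pt

variable {X : Scheme.{u}}

/-- A point without proper generizations gives a minimal prime on every affine chart. -/
theorem primeIdealOf_mem_minimalPrimes {U : X.Opens} (hU : IsAffineOpen U) (x : X) (hx : x ∈ U)
    (hmax : ∀ z : X, z ⤳ x → z = x) :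
    (hU.primeIdealOf ⟨x, hx⟩).asIdeal ∈ minimalPrimes Γ(X, U) := by
  refine ⟨⟨(hU.primeIdealOf ⟨x, hx⟩).2, bot_le⟩, fun r hr hle => ?_⟩
  have hrp : r.IsPrime := hr.1
  let y : PrimeSpectrum Γ(X, U) := ⟨r, hrp⟩
  have hspec : y ⤳ hU.primeIdealOf ⟨x, hx⟩ := (PrimeSpectrum.le_iff_specializes _ _).mp hle
  have h1 : hU.fromSpec y ⤳ hU.fromSpec (hU.primeIdealOf ⟨x, hx⟩) :=
    hspec.map hU.fromSpec.continuous
  rw [hU.fromSpec_primeIdealOf ⟨x, hx⟩] at h1
  have h2 := hmax _ h1
  have h3 : hU.fromSpec y = hU.fromSpec (hU.primeIdealOf ⟨x, hx⟩) := by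
    rw [hU.fromSpec_primeIdealOf ⟨x, hx⟩]; exact h2
  have h4 : y = hU.primeIdealOf ⟨x, hx⟩ := hU.fromSpec.isOpenEmbedding.injective h3
  rw [← h4]

end pt

section main

variable {k' k'' : Type u} [Field k'] [Field k''] [Algebra k' k''] {X' : Scheme.{u}}
  (f' : X' ⟶ Spec (CommRingCat.of k'))

/-- Lengths of the local rings at a maximal point of `X' ⊗_{k'} k''` and at its image agree when
`k''/k'` is separable. -/
theorem length_stalk_eq
    (hred : ∀ (K : Type u) [Field K] [Algebra k' K], IsReduced (K ⊗[k'] k''))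
    (x'' : ↥(FBase.bc f' k'')) (hx'' : ∀ z : ↥(FBase.bc f' k''), z ⤳ x'' → z = x'') :
    Module.length ((FBase.bc f' k'').presheaf.stalk x'') ((FBase.bc f' k'').presheaf.stalk x'') =
      Module.length (X'.presheaf.stalk (FBase.bcπ f' k'' x''))
        (X'.presheaf.stalk (FBase.bcπ f' k'' x'')) := by
  unfold FBase.bc FBase.bcπ at *
  set g := pullback.fst f' (Spec.map (CommRingCat.ofHom (algebraMap k' k''))) with hg
  obtain ⟨U, hU, hxU, -⟩ := exists_isAffineOpen_mem_and_subset (x := g x'') (U := ⊤) trivial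
  obtain ⟨hW, α, β, Hpo⟩ := WAExt.chart_pushout (K := k'') f' U hU
  have hyW : x'' ∈ g ⁻¹ᵁ U := hxU
  let _ : Algebra Γ(X', U) Γ(pullback f' (Spec.map (CommRingCat.ofHom (algebraMap k' k''))),
    g ⁻¹ᵁ U) := (g.appLE U (g ⁻¹ᵁ U) le_rfl).hom.toAlgebra
  let _ : Algebra k' Γ(X', U) := α.toAlgebra
  let _ : Algebra k'' Γ(pullback f' (Spec.map (CommRingCat.ofHom (algebraMap k' k''))),
    g ⁻¹ᵁ U) := β.toAlgebra
  let _ : Algebra k' Γ(pullback f' (Spec.map (CommRingCat.ofHom (algebraMap k' k''))),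
    g ⁻¹ᵁ U) := ((g.appLE U (g ⁻¹ᵁ U) le_rfl).hom.comp α).toAlgebra
  have ht1 : IsScalarTower k' Γ(X', U)
      Γ(pullback f' (Spec.map (CommRingCat.ofHom (algebraMap k' k''))), g ⁻¹ᵁ U) :=
    IsScalarTower.of_algebraMap_eq fun _ => rfl
  have ht2 : IsScalarTower k' k''
      Γ(pullback f' (Spec.map (CommRingCat.ofHom (algebraMap k' k''))), g ⁻¹ᵁ U) :=
    IsScalarTower.of_algebraMap_eq fun x => by
      have := congrArg (fun φ => φ.hom x) Hpo.w
      exact this.symm
  have hpo : Algebra.IsPushout k' k'' Γ(X', U)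
      Γ(pullback f' (Spec.map (CommRingCat.ofHom (algebraMap k' k''))), g ⁻¹ᵁ U) :=
    CommRingCat.isPushout_iff_isPushout.mp Hpo
  have hq := primeIdealOf_mem_minimalPrimes hW x'' hyW hx''
  have hprime : (hU.primeIdealOf ⟨g x'', hxU⟩).asIdeal =
      Ideal.comap (algebraMap Γ(X', U)
        Γ(pullback f' (Spec.map (CommRingCat.ofHom (algebraMap k' k''))), g ⁻¹ᵁ U))
        (hW.primeIdealOf ⟨x'', hyW⟩).asIdeal := by
    rw [primeIdealOf_map g hU hW x'' hyW, Scheme.Hom.app_eq_appLE]
    rfl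
  let _ : Algebra Γ(X', U) (X'.presheaf.stalk (g x'')) :=
    TopCat.Presheaf.algebra_section_stalk X'.presheaf ⟨g x'', hxU⟩
  have hlocA := hU.isLocalization_stalk ⟨g x'', hxU⟩
  let _ : Algebra Γ(pullback f' (Spec.map (CommRingCat.ofHom (algebraMap k' k''))), g ⁻¹ᵁ U)
      ((pullback f' (Spec.map (CommRingCat.ofHom (algebraMap k' k'')))).presheaf.stalk x'') :=
    TopCat.Presheaf.algebra_section_stalk _ ⟨x'', hyW⟩
  have hlocB := hW.isLocalization_stalk ⟨x'', hyW⟩
  let _ : Algebra (X'.presheaf.stalk (g x''))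
      ((pullback f' (Spec.map (CommRingCat.ofHom (algebraMap k' k'')))).presheaf.stalk x'') :=
    (g.stalkMap x'').hom.toAlgebra
  let _ : Algebra Γ(X', U)
      ((pullback f' (Spec.map (CommRingCat.ofHom (algebraMap k' k'')))).presheaf.stalk x'') :=
    ((algebraMap Γ(pullback f' (Spec.map (CommRingCat.ofHom (algebraMap k' k''))), g ⁻¹ᵁ U)
      ((pullback f' (Spec.map (CommRingCat.ofHom (algebraMap k' k'')))).presheaf.stalk x'')).comp
      (algebraMap Γ(X', U) Γ(pullback f' (Spec.map (CommRingCat.ofHom (algebraMap k' k''))),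
        g ⁻¹ᵁ U))).toAlgebra
  have ht3 : IsScalarTower Γ(X', U)
      Γ(pullback f' (Spec.map (CommRingCat.ofHom (algebraMap k' k''))), g ⁻¹ᵁ U)
      ((pullback f' (Spec.map (CommRingCat.ofHom (algebraMap k' k'')))).presheaf.stalk x'') :=
    IsScalarTower.of_algebraMap_eq fun _ => rfl
  have ht4 : IsScalarTower Γ(X', U) (X'.presheaf.stalk (g x''))
      ((pullback f' (Spec.map (CommRingCat.ofHom (algebraMap k' k'')))).presheaf.stalk x'') :=
    IsScalarTower.of_algebraMap_eq fun r =>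
      Groth.Agent.Lib.Helper8.FlatAffine.germ_appLE g (le_refl (g ⁻¹ᵁ U)) x'' hyW r
  exact length_eq_of_minimal (k := k') (L := k'') hred _ hq _ hprime _ _

end main

end Groth.Agent.Lib.Helper9.LenExt
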