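import Mathlib
import Groth.Prelude.Def_FDesc
import Groth.Agent.Lib.Helper9.DefOver1
import Groth.Agent.Lib.Helper9.LenExt3
import Groth.Agent.Lib.Helper1.IdealSheafComap

/-!
# Closed subsets defined over a subfield (helper9)
-/

set_option autoImplicit false
universe u
open CategoryTheory CategoryTheory.Limits AlgebraicGeometry TopologicalSpace Opposite TensorProduct

namespace Groth.Agent.Lib.Helper9.DefOver

variable {K' K : Type u} [Field K'] [Field K] [Algebra K' K] {Y : Scheme.{u}}
  (fY : Y ⟶ Spec (CommRingCat.of K'))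

/-- The inverse image of a radical ideal sheaf under a separable field extension is radical. -/
theorem radical_comap_eq
    (hred : ∀ (F : Type u) [Field F] [Algebra K' F], IsReduced (F ⊗[K'] K))
    (J : Y.IdealSheafData) (hJ : ∀ U : Y.affineOpens, (J.ideal U).IsRadical) :
    (J.comap (pullback.fst fY (Spec.map (CommRingCat.ofHom (algebraMap K' K))))).radical =
      J.comap (pullback.fst fY (Spec.map (CommRingCat.ofHom (algebraMap K' K)))) := by
  let g := pullback.fst fY (Spec.map (CommRingCat.ofHom (algebraMap K' K)))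
  have hWaff : ∀ U : Y.affineOpens, IsAffineOpen (g ⁻¹ᵁ U.1) := fun U =>
    (Groth.Agent.Lib.Helper9.WAExt.chart_pushout (K := K) fY U.1 U.2).1
  refine Scheme.IdealSheafData.ext_of_iSup_eq_top
    (fun U : Y.affineOpens => (⟨g ⁻¹ᵁ U.1, hWaff U⟩ : (pullback fY _).affineOpens)) ?_ ?_
  · have h1 : ⨆ U : Y.affineOpens, g ⁻¹ᵁ U.1 = g ⁻¹ᵁ (⨆ U : Y.affineOpens, U.1) := by
      rw [Scheme.Hom.preimage_iSup]
    change ⨆ U : Y.affineOpens, g ⁻¹ᵁ U.1 = ⊤
    rw [h1, iSup_affineOpens_eq_top Y]
    rfl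
  · intro U
    obtain ⟨hW, α, β, Hpo⟩ := Groth.Agent.Lib.Helper9.WAExt.chart_pushout (K := K) fY U.1 U.2
    rw [Scheme.IdealSheafData.radical_ideal,
      Groth.Agent.Lib.Helper1.ideal_comap J g ⟨g ⁻¹ᵁ U.1, hWaff U⟩ U le_rfl]
    let _ : Algebra Γ(Y, U.1) Γ(pullback fY (Spec.map (CommRingCat.ofHom (algebraMap K' K))),
      g ⁻¹ᵁ U.1) := (g.appLE U.1 (g ⁻¹ᵁ U.1) le_rfl).hom.toAlgebra
    let _ : Algebra K' Γ(Y, U.1) := α.toAlgebra
    let _ : Algebra K Γ(pullback fY (Spec.map (CommRingCat.ofHom (algebraMap K' K))),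
      g ⁻¹ᵁ U.1) := β.toAlgebra
    let _ : Algebra K' Γ(pullback fY (Spec.map (CommRingCat.ofHom (algebraMap K' K))),
      g ⁻¹ᵁ U.1) := ((g.appLE U.1 (g ⁻¹ᵁ U.1) le_rfl).hom.comp α).toAlgebra
    have ht1 : IsScalarTower K' Γ(Y, U.1)
        Γ(pullback fY (Spec.map (CommRingCat.ofHom (algebraMap K' K))), g ⁻¹ᵁ U.1) :=
      IsScalarTower.of_algebraMap_eq fun _ => rfl
    have ht2 : IsScalarTower K' K
        Γ(pullback fY (Spec.map (CommRingCat.ofHom (algebraMap K' K))), g ⁻¹ᵁ U.1) :=
      IsScalarTower.of_algebraMap_eq fun x => by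
        have := congrArg (fun φ => φ.hom x) Hpo.w
        exact this.symm
    have hpo : Algebra.IsPushout K' K Γ(Y, U.1)
        Γ(pullback fY (Spec.map (CommRingCat.ofHom (algebraMap K' K))), g ⁻¹ᵁ U.1) :=
      CommRingCat.isPushout_iff_isPushout.mp Hpo
    exact (isRadical_map_of_isPushout' (k := K') (L := K) hred (J.ideal U) (hJ U)).radical

theorem isRadical_vanishingIdeal_ideal (T' : Closeds Y) (U : Y.affineOpens) :
    ((Scheme.IdealSheafData.vanishingIdeal T').ideal U).IsRadical := by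
  rw [Scheme.IdealSheafData.vanishingIdeal_ideal]
  exact PrimeSpectrum.isRadical_vanishingIdeal _

theorem main4682
    (hred : ∀ (F : Type u) [Field F] [Algebra K' F], IsReduced (F ⊗[K'] K))
    (T : TopologicalSpace.Closeds ↥(FBase.bc fY K)) :
    (∃ T' : TopologicalSpace.Closeds ↥Y,
        (T : Set ↥(FBase.bc fY K)) = ⇑(FBase.bcπ fY K) ⁻¹' (T' : Set ↥Y)) ↔
      ∃ J : Y.IdealSheafData,
        J.comap (FBase.bcπ fY K) = Scheme.IdealSheafData.vanishingIdeal T := by
  unfold FBase.bc FBase.bcπ at *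
  constructor
  · rintro ⟨T', hT'⟩
    refine ⟨Scheme.IdealSheafData.vanishingIdeal T', ?_⟩
    have h1 : ((Scheme.IdealSheafData.vanishingIdeal T').comap
        (pullback.fst fY (Spec.map (CommRingCat.ofHom (algebraMap K' K))))).support = T := by
      apply SetLike.coe_injective
      rw [Scheme.IdealSheafData.support_comap, hT']
      simp
    rw [← h1, Scheme.IdealSheafData.vanishingIdeal_support,
      radical_comap_eq fY hred _ (isRadical_vanishingIdeal_ideal T')]
  · rintro ⟨J, hJ⟩
    refine ⟨J.support, ?_⟩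
    have h1 : (J.comap (pullback.fst fY (Spec.map (CommRingCat.ofHom (algebraMap K' K))))).support
        = (Scheme.IdealSheafData.vanishingIdeal T).support := by rw [hJ]
    have h2 := congrArg (fun C : Closeds ↥(pullback fY (Spec.map (CommRingCat.ofHom
      (algebraMap K' K)))) => (C : Set ↥(pullback fY (Spec.map (CommRingCat.ofHom
      (algebraMap K' K)))))) h1
    simp only [Scheme.IdealSheafData.support_comap] at h2
    rw [Scheme.IdealSheafData.coe_support_vanishingIdeal] at h2
    rw [← h2]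
    rfl

end Groth.Agent.Lib.Helper9.DefOver
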