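import Mathlib
import Groth.Agent.Lib.Helper9.DeltaInv

set_option autoImplicit false
universe u
open TensorProduct IsLocalRing

namespace Groth.Agent.Lib.Helper9.DeltaLe

open Groth.Agent.Lib.Helper9.DeltaInv

variable (A B : Type u) [CommRing A] [IsLocalRing A] [CommRing B] [IsLocalRing B] [Algebra A B]
  [IsLocalHom (algebraMap A B)] [Module.Flat A B]

/-- The δ-invariant does not decrease along a flat local homomorphism of local rings. -/
theorem deltaInv_le_of_flat : Curv2.deltaInv A ≤ Curv2.deltaInv B := by
  unfold Curv2.deltaInv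
  have key := length_quot_baseChange A B (integralClosure A (FractionRing A))
  have hne : (maximalIdeal A).map (algebraMap A B) ≠ ⊤ := by
    intro h
    have h1 : (maximalIdeal A).map (algebraMap A B) ≤ maximalIdeal B :=
      ((local_hom_TFAE (algebraMap A B)).out 0 2).mp (inferInstance : IsLocalHom (algebraMap A B))
    rw [h] at h1
    exact (IsLocalRing.maximalIdeal.isMaximal B).ne_top (top_le_iff.mp h1)
  have : Nontrivial (B ⧸ (maximalIdeal A).map (algebraMap A B)) :=
    Ideal.Quotient.nontrivial_iff.mpr hne
  have hpos : 1 ≤ Module.length B (B ⧸ (maximalIdeal A).map (algebraMap A B)) := by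
    rw [Order.one_le_iff_ne_zero, ne_eq, Module.length_eq_zero_iff]
    exact not_subsingleton _
  have h1 : Module.length A (↥(integralClosure A (FractionRing A)) ⧸
      LinearMap.range (Algebra.linearMap A ↥(integralClosure A (FractionRing A)))) ≤
      Module.length B ((B ⊗[A] (integralClosure A (FractionRing A))) ⧸
        LinearMap.range (Algebra.linearMap B (B ⊗[A] (integralClosure A (FractionRing A))))) := by
    rw [key]
    exact le_mul_of_one_le_right' hpos
  refine h1.trans ?_
  -- the injection `(B ⊗ A')/B → B'/B`
  set P := LinearMap.range (Algebra.linearMap B (B ⊗[A] (integralClosure A (FractionRing A))))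
  set Q := LinearMap.range (Algebra.linearMap B (integralClosure B (FractionRing B)))
  have hinj : Function.Injective (muRes A B) := by
    intro z w hzw
    apply mu_injective A B
    exact congrArg Subtype.val hzw
  have hPQ : P ≤ Q.comap (muRes A B).toLinearMap := by
    rintro _ ⟨b, rfl⟩
    refine ⟨b, ?_⟩
    simp only [Algebra.linearMap_apply, AlgHom.toLinearMap_apply, AlgHom.commutes]
  apply Module.length_le_of_injective (P.mapQ Q (muRes A B).toLinearMap hPQ)
  rw [← LinearMap.ker_eq_bot, LinearMap.ker_eq_bot']
  intro z hz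
  obtain ⟨z, rfl⟩ := P.mkQ_surjective z
  rw [Submodule.mkQ_apply, Submodule.mapQ_apply, Submodule.Quotient.mk_eq_zero] at hz
  obtain ⟨b, hb⟩ := hz
  rw [Submodule.mkQ_apply, Submodule.Quotient.mk_eq_zero]
  refine ⟨b, ?_⟩
  apply hinj
  rw [AlgHom.toLinearMap_apply] at hb
  rw [← hb]
  simp only [Algebra.linearMap_apply, AlgHom.commutes]

end Groth.Agent.Lib.Helper9.DeltaLe
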