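import Mathlib
import Groth.Agent.Lib.Helper9.Dev11

/-!
# Devissage: the map `A^{⊕r} → i_*(O_Z^r)` induced by `A → i_* O_Z` (helper9)
-/

set_option autoImplicit false
universe u
open CategoryTheory CategoryTheory.Limits AlgebraicGeometry TopologicalSpace Opposite

namespace Groth.Agent.Lib.Helper9.Dev

open Groth.Agent.Lib.Helper29.QCoh Groth.Agent.Lib.Helper5.LocBasisScheme

variable {X Z : Scheme.{u}} (i : Z ⟶ X) {A : X.Modules} (a : A ⟶ T i) (r : ℕ)

/-- The map `A^{⊕r} → i_*(O_Z^{⊕r})` induced by `a : A → i_* O_Z`. -/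
noncomputable def beta : (∐ fun _ : Fin r => A) ⟶ G i r :=
  Sigma.desc (fun k : Fin r => a ≫ Q i r k)

theorem ι_beta (k : Fin r) : Sigma.ι (fun _ : Fin r => A) k ≫ beta i a r = a ≫ Q i r k := by
  unfold beta
  rw [Sigma.ι_desc]

theorem beta_P (k : Fin r) : beta i a r ≫ P i r k = proj A k ≫ a := by
  apply Sigma.hom_ext
  intro j
  rw [← Category.assoc, ι_beta, Category.assoc, Q_P]
  unfold proj
  rw [Sigma.ι_desc_assoc]
  split_ifs with h
  · rw [Category.comp_id, Category.id_comp]
  · rw [comp_zero, zero_comp]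

theorem beta_P_app (k : Fin r) (W : X.Opens) (s : Γ(∐ fun _ : Fin r => A, W)) :
    (P i r k).app W ((beta i a r).app W s) = a.app W ((proj A k).app W s) := by
  have h := congrArg (fun φ => φ.app W s) (beta_P i a r k)
  exact h

theorem decomp_coprod (W : X.Opens) (s : Γ(∐ fun _ : Fin r => A, W)) :
    s = ∑ k, (Sigma.ι (fun _ : Fin r => A) k).app W ((proj A k).app W s) := by
  have h1 := sum_app_apply Finset.univ
    (fun k => proj A k ≫ Sigma.ι (fun _ : Fin r => A) k) W s
  rw [sum_proj_ι] at h1
  exact h1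

theorem beta_app_injective (W : X.Opens) (h : Function.Injective (a.app W)) :
    Function.Injective ((beta i a r).app W) := by
  rw [injective_iff_map_eq_zero]
  intro s hs
  rw [decomp_coprod r W s]
  refine Finset.sum_eq_zero fun k _ => ?_
  have h1 := beta_P_app i a r k W s
  rw [hs, map_zero] at h1
  have h2 : (proj A k).app W s = 0 := by
    apply h
    rw [← h1, map_zero]
  rw [h2, map_zero]

theorem beta_app_surjective (W : X.Opens) (h : Function.Surjective (a.app W)) :
    Function.Surjective ((beta i a r).app W) := by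
  intro t
  choose u hu using fun k : Fin r => h ((P i r k).app W t)
  refine ⟨∑ k, (Sigma.ι (fun _ : Fin r => A) k).app W (u k), ?_⟩
  rw [map_sum]
  conv_rhs => rw [decomp i r W t]
  refine Finset.sum_congr rfl fun k _ => ?_
  have h1 := congrArg (fun φ => φ.app W (u k)) (ι_beta i a r k)
  have h2 : (beta i a r).app W ((Sigma.ι (fun _ : Fin r => A) k).app W (u k)) =
      (Q i r k).app W (a.app W (u k)) := h1
  rw [h2, hu]

end Groth.Agent.Lib.Helper9.Dev
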