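import Mathlib
import Groth.Agent.Lib.Helper9.Dev11
import Groth.Agent.Lib.Helper3.SubShExt

/-!
# Devissage: an ideal of an integral scheme which is nonzero at the generic point is the unit
ideal near the generic point (helper9)
-/

set_option autoImplicit false
universe u
open CategoryTheory CategoryTheory.Limits AlgebraicGeometry TopologicalSpace Opposite

namespace Groth.Agent.Lib.Helper9.Dev

open Groth.Agent.Lib.Helper29.QCoh

variable {Z : Scheme.{u}}

theorem res_unitM_eq {V W : Z.Opens} (h : W ≤ V) (s : Γ(unitM Z, V)) :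
    fromUnit (res (unitM Z) h s) = Z.presheaf.map (homOfLE h).op (fromUnit s) := rfl

theorem exists_open_app_surjective [IsIntegral Z] (I : Z.Modules) (ι : I ⟶ unitM Z)
    (hinj : ∀ V : Z.Opens, Function.Injective (ι.app V))
    (hne : Nontrivial (I.presheaf.stalk (genericPoint Z))) :
    ∃ V : Z.Opens, genericPoint Z ∈ V ∧
      ∀ W' : Z.Opens, W' ≤ V → Function.Surjective (ι.app W') := by
  obtain ⟨t, ht⟩ := exists_ne (0 : I.presheaf.stalk (genericPoint Z))
  obtain ⟨V₁, hη, s, rfl⟩ := I.presheaf.exists_germ_eq t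
  have hs : s ≠ 0 := by
    rintro rfl
    exact ht (map_zero _)
  set f : Γ(Z, V₁) := fromUnit (ι.app V₁ s) with hf
  have hf0 : f ≠ 0 := by
    intro h0
    apply hs
    apply hinj V₁
    rw [map_zero]
    exact h0
  have hVne : Z.basicOpen f ≠ ⊥ := fun h => hf0 ((basicOpen_eq_bot_iff f).mp h)
  have hηV : genericPoint Z ∈ Z.basicOpen f := by
    have hne' : ((Z.basicOpen f : Z.Opens) : Set Z).Nonempty := by
      rw [Set.nonempty_iff_ne_empty]
      intro h
      apply hVne
      ext x
      simp only [Opens.coe_bot]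
      exact Set.ext_iff.mp h x
    obtain ⟨x, hx⟩ := hne'
    exact ((genericPoint_spec Z).mem_open_set_iff (Z.basicOpen f).isOpen).mpr
      ⟨x, trivial, hx⟩
  refine ⟨Z.basicOpen f, hηV, fun W' hW' t' => ?_⟩
  have hle : W' ≤ V₁ := hW'.trans (Z.basicOpen_le f)
  have hu : IsUnit (Z.presheaf.map (homOfLE hle).op f) :=
    Groth.Agent.Lib.Helper3.SubSh.isUnit_res_of_le_basicOpen f hle hW'
  obtain ⟨g', hg'⟩ := hu.exists_right_inv
  refine ⟨(fromUnit t' * g') • res I hle s, ?_⟩
  have h1 : ι.app W' ((fromUnit t' * g') • res I hle s) =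
      (fromUnit t' * g') • res (unitM Z) hle (ι.app V₁ s) := by
    rw [app_smul', app_res]
  rw [h1]
  have h2 : fromUnit ((fromUnit t' * g') • res (unitM Z) hle (ι.app V₁ s)) = fromUnit t' := by
    rw [fromUnit_smul, res_unitM_eq, ← hf, mul_assoc, mul_comm g', hg', mul_one]
  exact h2

end Groth.Agent.Lib.Helper9.Dev
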