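import Mathlib
import Groth.Prelude.Def_Dual3
import Groth.Agent.Lib.Helper9.IdMul3

/-!
# Morphisms `IⁿG → F` vanishing off `V(I)` vanish on `I^N G` (helper9)
-/

set_option autoImplicit false
universe u
open CategoryTheory CategoryTheory.Limits AlgebraicGeometry TopologicalSpace Opposite TensorProduct

namespace Groth.Agent.Lib.Helper9.IdMul

open Groth.Agent.Lib.Helper29.QCoh

variable {X : Scheme.{u}} (I : X.IdealSheafData)

/-- Sections of `I^(n+k) G` over an affine open, seen in `Γ(IⁿG, W)`, lie in `I^k Γ(IⁿG, W)`. -/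
theorem idealMulLE_app_mem (G : X.Modules) [G.IsQuasicoherent] (n k : ℕ) (W : X.affineOpens)
    (z : Γ((Dual3.idealMul (I ^ (n + k))).obj G, W.1)) :
    (idealMulLE (pow_le_pow_of_le I (Nat.le_add_right n k)) G).app W.1 z ∈
      ((I.ideal W) ^ k) • (⊤ : Submodule Γ(X, W.1) Γ((Dual3.idealMul (I ^ n)).obj G, W.1)) := by
  set p := (idealMulLE (pow_le_pow_of_le I (Nat.le_add_right n k)) G).app W.1 z with hp
  let j := appₗ (Dual3.idealMulι (I ^ n) G) W.1
  have hjinj : Function.Injective j := idealMulι_app_injective (I ^ n) G W.1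
  have hrange : LinearMap.range j =
      ((I.ideal W) ^ n) • (⊤ : Submodule Γ(X, W.1) Γ(G, W.1)) := by
    ext m
    have := mem_range_idealMulι_app_iff (I ^ n) G W m
    rw [Scheme.IdealSheafData.ideal_pow] at this
    exact this
  have hjp : j p = (Dual3.idealMulι (I ^ (n + k)) G).app W.1 z := by
    have := congrArg (fun φ => (Scheme.Modules.Hom.app φ W.1).hom z)
      (idealMulLE_ι (pow_le_pow_of_le I (Nat.le_add_right n k)) G)
    exact this
  have h1 : j p ∈ ((I.ideal W) ^ (n + k)) • (⊤ : Submodule Γ(X, W.1) Γ(G, W.1)) := by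
    rw [hjp]
    have := idealMulι_app_mem (I ^ (n + k)) G W z
    rw [Scheme.IdealSheafData.ideal_pow] at this
    exact this
  have h2 : ((I.ideal W) ^ (n + k)) • (⊤ : Submodule Γ(X, W.1) Γ(G, W.1)) =
      Submodule.map j (((I.ideal W) ^ k) • ⊤) := by
    rw [Submodule.map_smul'', Submodule.map_top, hrange, ← Submodule.mul_smul, add_comm,
      pow_add]
  rw [h2] at h1
  obtain ⟨p', hp', hpp⟩ := h1
  rw [← hjinj hpp]
  exact hp'

theorem main9516 (X : Scheme.{u}) [IsNoetherian X] (F G : X.Modules)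
    (hF : Coh.IsQCoh F) (hG : Coh.IsCoh G) (I : X.IdealSheafData)
    (U : X.Opens) (hU : (U : Set X) = (I.support : Set X)ᶜ) (n : ℕ)
    (ψ : (Dual3.idealMul (I ^ n)).obj G ⟶ F)
    (hψ : (Scheme.Modules.restrictFunctor U.ι).map ψ = 0) :
    ∃ (N : ℕ) (ι : (Dual3.idealMul (I ^ N)).obj G ⟶ (Dual3.idealMul (I ^ n)).obj G),
      ι ≫ Dual3.idealMulι (I ^ n) G = Dual3.idealMulι (I ^ N) G ∧ ι ≫ ψ = 0 := by
  have : F.IsQuasicoherent := hF
  have : G.IsQuasicoherent := hG.1
  have : G.IsFiniteType := hG.2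
  have : ((Dual3.idealMul (I ^ n)).obj G).IsFiniteType := isFiniteType_idealMul _ G
  -- local exponents
  have hloc := fun W : X.affineOpens => exists_pow_smul_app_eq_zero I ψ U hU hψ W
  choose kk hkk using hloc
  -- a finite affine cover
  have hcov : ∀ x : X, ∃ W : X.affineOpens, x ∈ W.1 := by
    intro x
    obtain ⟨W, hW, hxW, -⟩ := Opens.isBasis_iff_nbhd.mp X.isBasis_affineOpens (Opens.mem_top x)
    exact ⟨⟨W, hW⟩, hxW⟩
  choose Wx hWx using hcov
  obtain ⟨t, ht⟩ := isCompact_univ.elim_finite_subcover (fun x : X => ((Wx x).1 : Set X))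
    (fun x => (Wx x).1.isOpen) (fun x _ => Set.mem_iUnion.mpr ⟨x, hWx x⟩)
  let k : ℕ := t.sup fun x => kk (Wx x)
  refine ⟨n + k, idealMulLE (pow_le_pow_of_le I (Nat.le_add_right n k)) G,
    idealMulLE_ι _ G, ?_⟩
  refine Groth.Agent.Lib.Helper12.H12ModLim.hom_ext_of_affine_cover _ _
    (fun x : t => ((Wx x.1).1 : X.Opens)) (fun x => (Wx x.1).2) ?_ (fun _ => Set.univ)
    (fun _ => Submodule.span_univ) ?_
  · intro x
    obtain ⟨y, hy, hxy⟩ := Set.mem_iUnion₂.mp (ht (Set.mem_univ x))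
    exact ⟨⟨y, hy⟩, hxy⟩
  · rintro ⟨y, hy⟩ z -
    change ψ.app (Wx y).1 ((idealMulLE (pow_le_pow_of_le I (Nat.le_add_right n k)) G).app
      (Wx y).1 z) = Scheme.Modules.Hom.app
        (0 : (Dual3.idealMul (I ^ (n + k))).obj G ⟶ F) (Wx y).1 z
    have hmem := idealMulLE_app_mem I G n k (Wx y) z
    have hzero : ∀ p ∈ ((I.ideal (Wx y)) ^ k) • (⊤ : Submodule Γ(X, (Wx y).1)
        Γ((Dual3.idealMul (I ^ n)).obj G, (Wx y).1)), ψ.app (Wx y).1 p = 0 := by
      intro p hp
      refine Submodule.smul_induction_on hp ?_ ?_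
      · intro b hb q _
        rw [app_smul']
        have hle : kk (Wx y) ≤ k := Finset.le_sup (f := fun x => kk (Wx x)) hy
        exact hkk (Wx y) b (Ideal.pow_le_pow_right hle hb) q
      · intro a b ha hb
        rw [map_add, ha, hb, add_zero]
    rw [hzero _ hmem]
    rfl

end Groth.Agent.Lib.Helper9.IdMul
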