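import Mathlib
import Groth.Agent.Lib.Helper9.Dev12
import Groth.Agent.Lib.Helper9.Dev13
import Groth.Agent.Lib.Helper9.IdMul4
import Groth.Agent.Lib.Helper12.Dev8

/-!
# Devissage: the class contains `i_* I` for the ideals of the reduced subscheme on `Z₀` (helper9)
-/

set_option autoImplicit false
universe u
open CategoryTheory CategoryTheory.Limits AlgebraicGeometry TopologicalSpace Opposite

namespace Groth.Agent.Lib.Helper9.Dev

open Groth.Agent.Lib.Helper29.QCoh Groth.Agent.Lib.Helper9.IdMul Groth.Agent.Lib.Helper12.H12Dev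

section general

variable {X : Scheme.{u}}

theorem notMem_support_pow_vanishingIdeal_compl (U : X.Opens) (x : X) (hx : x ∈ U) (n : ℕ) :
    x ∉ (((Scheme.IdealSheafData.vanishingIdeal
      ⟨(U : Set X)ᶜ, U.isOpen.isClosed_compl⟩) ^ n).support : Set X) := by
  obtain ⟨W, hW, hxW, hWU⟩ := Opens.isBasis_iff_nbhd.mp X.isBasis_affineOpens hx
  intro hmem
  have h1 := (Scheme.IdealSheafData.mem_support_iff_of_mem (U := ⟨W, hW⟩) hxW).mp hmem
  rw [pow_ideal_eq_top _ n ⟨W, hW⟩ (vanishingIdeal_compl_ideal_eq_top U ⟨W, hW⟩ hWU)] at h1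
  have h2 := (Scheme.mem_zeroLocus_iff _ _ _).mp h1 1 Submodule.mem_top
  apply h2
  rw [Scheme.basicOpen_of_isUnit _ isUnit_one]
  exact hxW

/-- If `f` is surjective on sections over `W`, the cokernel projection vanishes on sections
over `W`. -/
theorem cokernel_π_app_eq_zero {A B : X.Modules} (f : A ⟶ B) (W : X.Opens)
    (h : Function.Surjective (f.app W)) (b : Γ(B, W)) : (cokernel.π f).app W b = 0 := by
  obtain ⟨a, rfl⟩ := h b
  have := congrArg (fun φ => φ.app W a) (cokernel.condition f)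
  exact this

theorem app_bijective_of_comp {A B C : X.Modules} (f : A ⟶ B) (g : B ⟶ C) (h : A ⟶ C)
    (e : f ≫ g = h) (W : X.Opens) (hg : Function.Bijective (g.app W))
    (hh : Function.Bijective (h.app W)) : Function.Bijective (f.app W) := by
  have hfun : (h.app W : _ → _) = (g.app W : _ → _) ∘ (f.app W : _ → _) := by
    subst e
    rfl
  rw [hfun] at hh
  exact ⟨(Function.Injective.of_comp_iff hg.1 _).mp hh.1,
    (Function.Surjective.of_comp_iff' hg _).mp hh.2⟩

end general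

section main

theorem main9521'' (X Z : Scheme.{u}) [IsNoetherian X]
    (i : Z ⟶ X) [IsClosedImmersion i] [IsIntegral Z] (F : X.Modules) (hF : Coh.IsCoh F)
    (hann : ∀ a ∈ IsLocalRing.maximalIdeal (X.presheaf.stalk (i (genericPoint Z))),
      ∀ m : ↑(F.presheaf.stalk (i (genericPoint Z))), a • m = 0) :
    ∃ (r : ℕ) (U : X.Opens) (Jn : X.IdealSheafData)
      (ψ : (Dual3.idealMul Jn).obj (G i r) ⟶ F),
      i (genericPoint Z) ∈ U ∧ Mono ψ ∧
        (∀ W : X.Opens, W ≤ U → Function.Bijective (ψ.app W)) ∧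
        (∀ W : X.Opens, W ≤ U → Function.Bijective ((Dual3.idealMulι Jn (G i r)).app W)) := by
  obtain ⟨r, U, n, ψ, h⟩ := main9521' X Z i F hF hann
  exact ⟨r, U, _, ψ, h⟩

theorem mem_push_ideal (X Z : Scheme.{u}) [IsNoetherian X] (i : Z ⟶ X) [IsClosedImmersion i]
    [IsIntegral Z] (Z₀ : Set X) (hrange : Set.range i = Z₀) (P : X.Modules → Prop)
    (h₁ : ∀ S : ShortComplex X.Modules, S.ShortExact → Coh.IsCoh S.X₁ → Coh.IsCoh S.X₂ →
      Coh.IsCoh S.X₃ → P S.X₁ → P S.X₃ → P S.X₂)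
    (h₂ : ∀ (F : X.Modules) (r : ℕ), Coh.IsCoh F → 1 ≤ r → P (∐ fun _ : Fin r => F) → P F)
    (hsmall : ∀ F : X.Modules, Coh.IsCoh F → CohB1.support F ⊆ Z₀ →
      i (genericPoint Z) ∉ CohB1.support F → P F)
    (h₄ : ∃ G : X.Modules, Coh.IsCoh G ∧ CohB1.support G = Z₀ ∧
      (∀ a ∈ IsLocalRing.maximalIdeal (X.presheaf.stalk (i (genericPoint Z))),
        ∀ m : ↑(G.presheaf.stalk (i (genericPoint Z))), a • m = 0) ∧
      ∀ J : X.IdealSheafData, i (genericPoint Z) ∉ (J.support : Set X) →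
        ∃ (G' : X.Modules) (ι' : G' ⟶ (Dual3.idealMul J).obj G), Mono ι' ∧ Coh.IsQCoh G' ∧
          IsIso ((TopCat.Presheaf.stalkFunctor _ (i (genericPoint Z))).map
            (ι' ≫ Dual3.idealMulι J G).mapPresheaf) ∧ P G')
    (I : Z.Modules) (ι : I ⟶ unitM Z) (hι : Mono ι) (hI : I.IsQuasicoherent) :
    P ((Scheme.Modules.pushforward i).obj I) := by
  have hZ : IsLocallyNoetherian Z := LocallyOfFiniteType.isLocallyNoetherian i
  have hUq : (unitM Z).IsQuasicoherent := inferInstance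
  have hUf : (unitM Z).IsFiniteType := (isCoh_unitM (X := Z)).2
  have hIf : I.IsFiniteType := isFiniteType_of_mono ι
  set A := (Scheme.Modules.pushforward i).obj I with hAdef
  have hAq : A.IsQuasicoherent := isQuasicoherent_pushforward_of_isAffineHom i I
  have hAf : A.IsFiniteType := isFiniteType_pushforward_of_isFinite i I
  have hA : Coh.IsCoh A := ⟨hAq, hAf⟩
  have hAsupp : CohB1.support A ⊆ Z₀ := by
    rw [hAdef, Groth.Agent.Helper19.ClImmSupp.support_pushforward, ← hrange]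
    exact Set.image_subset_range _ _
  by_cases hξA : i (genericPoint Z) ∈ CohB1.support A
  swap
  · exact hsmall A hA hAsupp hξA
  -- the ideal is nonzero at the generic point
  have hne : Nontrivial (I.presheaf.stalk (genericPoint Z)) := by
    rw [← not_subsingleton_iff_nontrivial]
    intro hs
    apply hξA
    exact (Groth.Agent.Helper19.ClImmSupp.subsingleton_stalk_pushforward_iff i I
      (genericPoint Z)).mpr hs
  have hιinj : ∀ V : Z.Opens, Function.Injective (ι.app V) := fun V =>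
    Groth.Agent.Lib.Helper12.H12ModLim.app_injective_of_mono ι V
  obtain ⟨V, hηV, hVsurj⟩ := exists_open_app_surjective I ι hιinj hne
  obtain ⟨UT, hUT⟩ := exists_preimage_eq i V
  have hξUT : i (genericPoint Z) ∈ UT := by
    have : genericPoint Z ∈ i ⁻¹ᵁ UT := hUT ▸ hηV
    exact this
  -- the map `a : A → i_* O_Z`
  let a : A ⟶ T i := (Scheme.Modules.pushforward i).map ι
  have hainj : ∀ W : X.Opens, Function.Injective (a.app W) := fun W => hιinj (i ⁻¹ᵁ W)
  have hasurj : ∀ W : X.Opens, W ≤ UT → Function.Surjective (a.app W) := fun W hW =>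
    hVsurj (i ⁻¹ᵁ W) (by
      rw [← hUT]
      exact fun z hz => hW hz)
  -- the module `G` of (4)
  obtain ⟨G₀, hG₀, hG₀supp, hG₀ann, hG₀J⟩ := h₄
  have hG₀q : G₀.IsQuasicoherent := hG₀.1
  have hG₀f : G₀.IsFiniteType := hG₀.2
  obtain ⟨r, U, Jn, ψ, hξU, hψmono, hψbij, hβ'bij⟩ := main9521'' X Z i G₀ hG₀ hG₀ann
  have hGcoh := isCoh_G i r
  have hGq : (G i r).IsQuasicoherent := hGcoh.1
  have hGf : (G i r).IsFiniteType := hGcoh.2
  have hξZ₀ : i (genericPoint Z) ∈ Z₀ := hrange ▸ Set.mem_range_self _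
  -- `r ≥ 1`
  have hr : 1 ≤ r := by
    by_contra hr0
    have hr0' : r = 0 := by omega
    subst hr0'
    have hz0 : IsZero (∐ fun _ : Fin 0 => unitM Z) := by
      rw [IsZero.iff_id_eq_zero]
      exact Sigma.hom_ext _ _ (fun j => Fin.elim0 j)
    have hz : IsZero (G i 0) := (Scheme.Modules.pushforward i).map_isZero hz0
    have hs0 : Subsingleton ((G i 0).presheaf.stalk (i (genericPoint Z))) :=
      (isZero_iff_stalk_subsingleton _).mp hz _
    have hinj := (mono_iff_stalkMap_injective (Dual3.idealMulι Jn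
      (G i 0))).mp inferInstance (i (genericPoint Z))
    have hsurj := stalkMap_surjective_of_app_surjective ψ U (i (genericPoint Z)) hξU
      (fun W hW => (hψbij W hW).2)
    have hsub : Subsingleton (G₀.presheaf.stalk (i (genericPoint Z))) := by
      refine ⟨fun x y => ?_⟩
      obtain ⟨x', rfl⟩ := hsurj x
      obtain ⟨y', rfl⟩ := hsurj y
      rw [hinj (Subsingleton.elim (stalkMap _ _ x') (stalkMap _ _ y'))]
    have : i (genericPoint Z) ∈ CohB1.support G₀ := hG₀supp ▸ hξZ₀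
    exact this hsub
  -- notation
  let U₃ : X.Opens := U ⊓ UT
  have hξU₃ : i (genericPoint Z) ∈ U₃ := ⟨hξU, hξUT⟩
  set J : X.IdealSheafData := Scheme.IdealSheafData.vanishingIdeal
    ⟨(U₃ : Set X)ᶜ, U₃.isOpen.isClosed_compl⟩ with hJ
  have hU₃ : (U₃ : Set X) = (J.support : Set X)ᶜ := by
    have : (J.support : Set X) = (U₃ : Set X)ᶜ :=
      Scheme.IdealSheafData.coe_support_vanishingIdeal _
    rw [this, compl_compl]
  have hJbij : ∀ (k : ℕ) (W : X.Opens), W ≤ U₃ →
      Function.Bijective ((Dual3.idealMulι (J ^ k) G₀).app W) := fun k W hW =>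
    idealMulι_app_bijective_of_ideal_eq_top (J ^ k) G₀ W fun U' hU' =>
      pow_ideal_eq_top J k U' (vanishingIdeal_compl_ideal_eq_top U₃ U' (hU'.trans hW))
  -- the map `β : A^r → i_*(O_Z^r)`
  let βm : (∐ fun _ : Fin r => A) ⟶ G i r := beta i a r
  have hβinj : ∀ W : X.Opens, Function.Injective (βm.app W) := fun W =>
    beta_app_injective i a r W (hainj W)
  have hβmono : Mono βm := (mono_iff_app_injective βm).mpr hβinj
  have hβbij : ∀ W : X.Opens, W ≤ UT → Function.Bijective (βm.app W) := fun W hW =>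
    ⟨hβinj W, beta_app_surjective i a r W (hasurj W hW)⟩
  have hTq : (∐ fun _ : Fin r => A).IsQuasicoherent :=
    isQuasicoherent_colimit_aux (Discrete.functor fun _ : Fin r => A) (fun _ => hAq)
  have hTf : (∐ fun _ : Fin r => A).IsFiniteType := isFiniteType_of_mono βm
  have hT : Coh.IsCoh (∐ fun _ : Fin r => A) := ⟨hTq, hTf⟩
  -- Step 1
  have hT'q : ((Dual3.idealMul Jn).obj (G i r)).IsQuasicoherent := isQuasicoherent_idealMul Jn (G i r)
  let ψ₁ : (Dual3.idealMul (J ^ 0)).obj G₀ ⟶ cokernel ψ := Dual3.idealMulι (J ^ 0) G₀ ≫ cokernel.π ψ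
  have hψ₁ : (Scheme.Modules.restrictFunctor U₃.ι).map ψ₁ = 0 := by
    refine restrict_map_eq_zero ψ₁ U₃ fun W hW z => ?_
    exact cokernel_π_app_eq_zero ψ W (hψbij W (hW.trans inf_le_left)).2 _
  obtain ⟨M, ι₁, hι₁, hι₁0⟩ := main9516 X (cokernel ψ) G₀ inferInstance hG₀ J U₃ hU₃ 0 ψ₁ hψ₁
  have h1 : Dual3.idealMulι (J ^ M) G₀ ≫ cokernel.π ψ = 0 := by
    rw [← hι₁, Category.assoc]
    exact hι₁0
  let δ := Abelian.monoLift ψ (Dual3.idealMulι (J ^ M) G₀) h1
  have hδ : δ ≫ ψ = Dual3.idealMulι (J ^ M) G₀ := Abelian.monoLift_comp ψ _ h1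
  have hδmono : Mono δ := mono_of_mono_fac hδ
  -- Step 2
  let ψ₂ : (Dual3.idealMul (J ^ M)).obj G₀ ⟶ cokernel βm :=
    δ ≫ Dual3.idealMulι Jn (G i r) ≫ cokernel.π βm
  have hψ₂ : (Scheme.Modules.restrictFunctor U₃.ι).map ψ₂ = 0 := by
    refine restrict_map_eq_zero ψ₂ U₃ fun W hW z => ?_
    exact cokernel_π_app_eq_zero βm W (hβbij W (hW.trans inf_le_right)).2 _
  obtain ⟨N, ι₂, hι₂, hι₂0⟩ := main9516 X (cokernel βm) G₀ inferInstance hG₀ J U₃ hU₃ M ψ₂ hψ₂
  have h2 : (ι₂ ≫ δ ≫ Dual3.idealMulι Jn (G i r)) ≫ cokernel.π βm = 0 := by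
    rw [Category.assoc, Category.assoc]
    exact hι₂0
  let ε := Abelian.monoLift βm (ι₂ ≫ δ ≫ Dual3.idealMulι Jn (G i r)) h2
  have hε : ε ≫ βm = ι₂ ≫ δ ≫ Dual3.idealMulι Jn (G i r) := Abelian.monoLift_comp βm _ h2
  have hι₂mono : Mono ι₂ := mono_of_mono_fac hι₂
  have hεmono : Mono ε := by
    have : Mono (ε ≫ βm) := by
      rw [hε]
      infer_instance
    exact mono_of_mono ε βm
  -- `ε` is bijective on sections near the generic point
  have hεbij : ∀ W : X.Opens, W ≤ U₃ → Function.Bijective (ε.app W) := by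
    intro W hW
    have hWU : W ≤ U := hW.trans inf_le_left
    have hWUT : W ≤ UT := hW.trans inf_le_right
    have b1 : Function.Bijective (ι₂.app W) :=
      app_bijective_of_comp ι₂ _ _ hι₂ W (hJbij M W hW) (hJbij N W hW)
    have b2 : Function.Bijective (δ.app W) :=
      app_bijective_of_comp δ ψ _ hδ W (hψbij W hWU) (hJbij M W hW)
    have b3 : Function.Bijective ((Dual3.idealMulι Jn (G i r)).app W) := hβ'bij W hWU
    have b4 : Function.Bijective ((ι₂ ≫ δ ≫ Dual3.idealMulι Jn (G i r)).app W) := by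
      have hfun : ((ι₂ ≫ δ ≫ Dual3.idealMulι Jn (G i r)).app W : _ → _) =
          ((Dual3.idealMulι Jn (G i r)).app W : _ → _) ∘ (δ.app W : _ → _) ∘
            (ι₂.app W : _ → _) := rfl
      rw [hfun]
      exact b3.comp (b2.comp b1)
    exact app_bijective_of_comp ε βm _ hε W (hβbij W hWUT) b4
  -- Step 3: hypothesis (4)
  have hξJ : i (genericPoint Z) ∉ ((J ^ N).support : Set X) :=
    notMem_support_pow_vanishingIdeal_compl U₃ _ hξU₃ N
  obtain ⟨G', ι'', hι''mono, hG'q, hiso, hPG'⟩ := hG₀J (J ^ N) hξJ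
  have hG'q' : G'.IsQuasicoherent := hG'q
  let μ : G' ⟶ ∐ fun _ : Fin r => A := ι'' ≫ ε
  have hμmono : Mono μ := mono_comp _ _
  have hG'f : G'.IsFiniteType := isFiniteType_of_mono μ
  have hG' : Coh.IsCoh G' := ⟨hG'q', hG'f⟩
  have hC' : Coh.IsCoh (cokernel μ) := isCoh_cokernel μ hG' hT
  have hS : (ShortComplex.mk μ (cokernel.π μ) (cokernel.condition μ)).ShortExact :=
    ShortComplex.ShortExact.mk (ShortComplex.exact_cokernel μ)
  have hGsupp : CohB1.support (G i r) ⊆ Z₀ := by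
    have hqc : (∐ fun _ : Fin r => unitM Z).IsQuasicoherent := by
      have hfp : (∐ fun _ : Fin r => unitM Z).IsFinitePresentation :=
        isFinitePresentation_of_isFinLocFree (isFinLocFree_freeMod Z r)
      infer_instance
    change CohB1.support ((Scheme.Modules.pushforward i).obj (∐ fun _ : Fin r => unitM Z)) ⊆ Z₀
    rw [Groth.Agent.Helper19.ClImmSupp.support_pushforward, ← hrange]
    exact Set.image_subset_range _ _
  have hTsupp : CohB1.support (∐ fun _ : Fin r => A) ⊆ Z₀ :=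
    (support_subset_of_mono βm).trans hGsupp
  have hC'supp : CohB1.support (cokernel μ) ⊆ Z₀ :=
    (support_subset_of_epi (cokernel.π μ)).trans hTsupp
  -- surjectivity on stalks
  have hs2 : Function.Surjective (stalkMap ε (i (genericPoint Z))) :=
    stalkMap_surjective_of_app_surjective ε U₃ _ hξU₃ (fun W hW => (hεbij W hW).2)
  have hbij0 : Function.Bijective (stalkMap (ι'' ≫ Dual3.idealMulι (J ^ N) G₀)
      (i (genericPoint Z))) := by
    have hiso' : IsIso (stalkMap (ι'' ≫ Dual3.idealMulι (J ^ N) G₀) (i (genericPoint Z))) := hiso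
    exact ConcreteCategory.bijective_of_isIso _
  have hinj0 := (mono_iff_stalkMap_injective (Dual3.idealMulι (J ^ N) G₀)).mp inferInstance
    (i (genericPoint Z))
  have hs1 : Function.Surjective (stalkMap ι'' (i (genericPoint Z))) := by
    intro t
    obtain ⟨t', ht'⟩ := hbij0.2 (stalkMap (Dual3.idealMulι (J ^ N) G₀) _ t)
    refine ⟨t', hinj0 ?_⟩
    rw [← stalkMap_comp_apply]
    exact ht'
  have hsμ : Function.Surjective (stalkMap μ (i (genericPoint Z))) := by
    intro t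
    obtain ⟨t₁, rfl⟩ := hs2 t
    obtain ⟨t₂, rfl⟩ := hs1 t₁
    exact ⟨t₂, stalkMap_comp_apply ι'' ε _ t₂⟩
  have hξC' : i (genericPoint Z) ∉ CohB1.support (cokernel μ) :=
    notMem_support_cokernel μ _ hsμ
  have hPT : P (∐ fun _ : Fin r => A) :=
    h₁ _ hS hG' hT hC' hPG' (hsmall _ hC' hC'supp hξC')
  exact h₂ A r hA hr hPT

theorem mem_push_ideal' (X Z : Scheme.{u}) [IsNoetherian X] (i : Z ⟶ X) [IsClosedImmersion i]
    [IsIntegral Z] (Z₀ : Set X) (hrange : Set.range i = Z₀) (ξ : X)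
    (hξi : i (genericPoint Z) = ξ) (P : X.Modules → Prop)
    (h₁ : ∀ S : ShortComplex X.Modules, S.ShortExact → Coh.IsCoh S.X₁ → Coh.IsCoh S.X₂ →
      Coh.IsCoh S.X₃ → P S.X₁ → P S.X₃ → P S.X₂)
    (h₂ : ∀ (F : X.Modules) (r : ℕ), Coh.IsCoh F → 1 ≤ r → P (∐ fun _ : Fin r => F) → P F)
    (hsmall : ∀ F : X.Modules, Coh.IsCoh F → CohB1.support F ⊆ Z₀ →
      ξ ∉ CohB1.support F → P F)
    (h₄ : ∃ G : X.Modules, Coh.IsCoh G ∧ CohB1.support G = Z₀ ∧
      (∀ a ∈ IsLocalRing.maximalIdeal (X.presheaf.stalk ξ),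
        ∀ m : ↑(G.presheaf.stalk ξ), a • m = 0) ∧
      ∀ J : X.IdealSheafData, ξ ∉ (J.support : Set X) →
        ∃ (G' : X.Modules) (ι' : G' ⟶ (Dual3.idealMul J).obj G), Mono ι' ∧ Coh.IsQCoh G' ∧
          IsIso ((TopCat.Presheaf.stalkFunctor _ ξ).map
            (ι' ≫ Dual3.idealMulι J G).mapPresheaf) ∧ P G')
    (I : Z.Modules) (ι : I ⟶ unitM Z) (hι : Mono ι) (hI : I.IsQuasicoherent) :
    P ((Scheme.Modules.pushforward i).obj I) := by
  subst hξi
  exact mem_push_ideal X Z i Z₀ hrange P h₁ h₂ hsmall h₄ I ι hι hI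

end main

end Groth.Agent.Lib.Helper9.Dev
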