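import Mathlib
import Groth.Agent.Lib.Helper9.Dev14
import Groth.Agent.Lib.Helper12.Dev8

/-!
# Devissage relative to an irreducible closed subset with hypothesis (4) (Stacks 01YL-type) (helper9)
-/

set_option autoImplicit false
universe u
open CategoryTheory CategoryTheory.Limits AlgebraicGeometry TopologicalSpace Opposite

namespace Groth.Agent.Lib.Helper9.Dev

open Groth.Agent.Lib.Helper29.QCoh Groth.Agent.Lib.Helper12.H12Dev

theorem main9522 (X : Scheme.{u}) [IsNoetherian X]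
    (Z₀ : Set X) (hZ₀ : IsClosed Z₀) (hirr : IsIrreducible Z₀) (ξ : X) (hξ : ξ ∈ Z₀ ∧ closure {ξ} = Z₀)
    (P : X.Modules → Prop) (hP : ∀ M N : X.Modules, Nonempty (M ≅ N) → P M → P N)
    (h₀ : ∀ M : X.Modules, IsZero M → P M)
    (h₁ : ∀ S : ShortComplex X.Modules, S.ShortExact → Coh.IsCoh S.X₁ → Coh.IsCoh S.X₂ → Coh.IsCoh S.X₃ →
      P S.X₁ → P S.X₃ → P S.X₂)
    (h₂ : ∀ (F : X.Modules) (r : ℕ), Coh.IsCoh F → 1 ≤ r → P (∐ fun _ : Fin r => F) → P F)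
    (h₃ : ∀ (Z : Scheme.{u}) (i : Z ⟶ X), IsClosedImmersion i → IsIntegral Z →
      Set.range ⇑i ⊆ Z₀ → Set.range ⇑i ≠ Z₀ →
      ∀ (I : Z.Modules) (ι : I ⟶ Coh.structureModule Z), Mono ι → Coh.IsQCoh I → P ((Coh.push i).obj I))
    (h₄ : ∃ G : X.Modules, Coh.IsCoh G ∧ CohB1.support G = Z₀ ∧
      (∀ a ∈ IsLocalRing.maximalIdeal (X.presheaf.stalk ξ), ∀ m : ↑(G.presheaf.stalk ξ), a • m = 0) ∧
      ∀ J : X.IdealSheafData, ξ ∉ (J.support : Set X) →
        ∃ (G' : X.Modules) (ι' : G' ⟶ (Dual3.idealMul J).obj G), Mono ι' ∧ Coh.IsQCoh G' ∧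
          IsIso ((TopCat.Presheaf.stalkFunctor _ ξ).map (ι' ≫ Dual3.idealMulι J G).mapPresheaf) ∧ P G')
    (F : X.Modules) (hF : Coh.IsCoh F) (hsupp : CohB1.support F ⊆ Z₀) : P F := by
  have hiso : ∀ M N : X.Modules, (M ≅ N) → P M → P N := fun M N e h => hP M N ⟨e⟩ h
  refine devissage_core (K' := P) h₀ h₁ Z₀ ?_ F hF hsupp
  intro Z hZ hZirr hZZ₀ y hy hsmall T hT hTsupp hTs
  refine mem_of_simple_stalk_of_push hiso h₁ Z hZ hZirr y hy ?_ hsmall T hT hTsupp hTs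
  intro I ι hm hq
  have hint : IsIntegral (Scheme.IdealSheafData.vanishingIdeal ⟨Z, hZ⟩).subscheme :=
    isIntegral_subscheme_vanishingIdeal ⟨Z, hZ⟩ hZirr
  have hr : Set.range (Scheme.IdealSheafData.vanishingIdeal ⟨Z, hZ⟩).subschemeι = Z :=
    range_subschemeι_vanishingIdeal ⟨Z, hZ⟩
  by_cases hZeq : Z = Z₀
  · subst hZeq
    have hyξ : y = ξ := (show IsGenericPoint y Z from hy).eq hξ.2
    subst hyξ
    have hpt : (Scheme.IdealSheafData.vanishingIdeal ⟨Z, hZ⟩).subschemeι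
        (genericPoint (Scheme.IdealSheafData.vanishingIdeal ⟨Z, hZ⟩).subscheme) = y :=
      closedImmersion_genericPoint _ y (hy.trans hr.symm)
    exact mem_push_ideal' X _ _ Z hr y hpt P h₁ h₂ hsmall h₄ I ι hm hq
  · exact h₃ _ (Scheme.IdealSheafData.vanishingIdeal ⟨Z, hZ⟩).subschemeι inferInstance hint
      (hr.le.trans hZZ₀) (fun h => hZeq (hr.symm.trans h)) I ι hm hq

end Groth.Agent.Lib.Helper9.Dev
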