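import Mathlib

/-!
# One-dimensional Noetherian local rings and the product of localizations at minimal primes

For a Noetherian local ring `A` of Krull dimension one, `LocMin A := ∏_{p minimal} A_p`.
* `exists_pow_le_span`: if `s` lies in no minimal prime then `m ^ k ≤ (s)`.
* `exists_mul_eq`: every `l : LocMin A` is `x / s` with `s` in no minimal prime.
* `exists_pow_le_annihilator`: if `z ↦ 0` in `LocMin A`, then `m ^ k • z = 0`.
* `isLocalization_away`: for `f ∈ m` in no minimal prime, `LocMin A` is the localization `A_f`.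
-/

set_option autoImplicit false
set_option linter.unusedSectionVars false
universe u

namespace Groth.Agent.Lib.Helper9.DimOneLocal

variable (A : Type u) [CommRing A]

/-- The minimal primes, as a subtype of the prime spectrum. -/
abbrev MinP := {p : PrimeSpectrum A // p.asIdeal ∈ minimalPrimes A}

/-- The product of the localizations at the minimal primes. -/
abbrev LocMin := ∀ p : MinP A, Localization.AtPrime p.1.asIdeal

variable {A}

theorem finite_minP [IsNoetherianRing A] : Finite (MinP A) := by
  have h1 : (minimalPrimes A).Finite := minimalPrimes.finite_of_isNoetherianRing A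
  have : Finite (minimalPrimes A) := h1
  refine Finite.of_injective (fun p : MinP A => (⟨p.1.asIdeal, p.2⟩ : minimalPrimes A)) ?_
  intro p q h
  apply Subtype.ext
  apply PrimeSpectrum.ext
  exact congrArg Subtype.val h

/-- elements of a minimal prime are nilpotent in the localization -/
theorem isNilpotent_algebraMap_of_mem (q : MinP A) (x : A) (hx : x ∈ q.1.asIdeal) :
    IsNilpotent (algebraMap A (Localization.AtPrime q.1.asIdeal) x) := by
  have h1 := IsLocalization.AtPrime.radical_map_of_mem_minimalPrimes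
    (A := Localization.AtPrime q.1.asIdeal) q.1.asIdeal ⊥ q.2
  rw [Ideal.map_bot] at h1
  have h2 : algebraMap A (Localization.AtPrime q.1.asIdeal) x ∈
      q.1.asIdeal.map (algebraMap A (Localization.AtPrime q.1.asIdeal)) :=
    Ideal.mem_map_of_mem _ hx
  rw [← h1] at h2
  obtain ⟨n, hn⟩ := h2
  exact ⟨n, hn⟩

theorem isUnit_algebraMap_of_notMem (q : MinP A) (x : A) (hx : x ∉ q.1.asIdeal) :
    IsUnit (algebraMap A (Localization.AtPrime q.1.asIdeal) x) :=
  IsLocalization.map_units (Localization.AtPrime q.1.asIdeal) (⟨x, hx⟩ : q.1.asIdeal.primeCompl)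

theorem notMem_of_isUnit_algebraMap (q : MinP A) (x : A)
    (hx : IsUnit (algebraMap A (Localization.AtPrime q.1.asIdeal) x)) : x ∉ q.1.asIdeal := by
  intro h
  have h1 : algebraMap A (Localization.AtPrime q.1.asIdeal) x ∈
      IsLocalRing.maximalIdeal (Localization.AtPrime q.1.asIdeal) := by
    rw [← IsLocalization.AtPrime.map_eq_maximalIdeal q.1.asIdeal]
    exact Ideal.mem_map_of_mem _ h
  exact h1 hx

theorem isUnit_algebraMap_locMin (s : A) (hs : ∀ p : MinP A, s ∉ p.1.asIdeal) :
    IsUnit (algebraMap A (LocMin A) s) := by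
  rw [Pi.isUnit_iff]
  intro q
  exact isUnit_algebraMap_of_notMem q s (hs q)

/-- "idempotent-like" elements: `e p` is a unit at `p` and vanishes at the other minimal primes. -/
theorem exists_orthogonal [IsNoetherianRing A] (p : MinP A) : ∃ e : A, e ∉ p.1.asIdeal ∧
    ∀ q : MinP A, q ≠ p → algebraMap A (Localization.AtPrime q.1.asIdeal) e = 0 := by
  classical
  have : Finite (MinP A) := finite_minP
  have : Fintype (MinP A) := Fintype.ofFinite _
  have hc : ∀ q : MinP A, q ≠ p → ∃ c : A, c ∈ q.1.asIdeal ∧ c ∉ p.1.asIdeal := by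
    intro q hqp
    by_contra hcon
    push Not at hcon
    have hle : q.1.asIdeal ≤ p.1.asIdeal := fun c hc => hcon c hc
    have hle' : p.1.asIdeal ≤ q.1.asIdeal := p.2.2 ⟨q.1.isPrime, bot_le⟩ hle
    apply hqp
    apply Subtype.ext
    apply PrimeSpectrum.ext
    exact le_antisymm hle hle'
  let c : MinP A → A := fun q => if h : q ≠ p then (hc q h).choose else 1
  have hcq : ∀ q : MinP A, q ≠ p → c q ∈ q.1.asIdeal := by
    intro q h
    simp only [c, dif_pos h]
    exact (hc q h).choose_spec.1
  have hcp : ∀ q : MinP A, c q ∉ p.1.asIdeal := by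
    intro q
    by_cases h : q ≠ p
    · simp only [c, dif_pos h]
      exact (hc q h).choose_spec.2
    · simp only [c, dif_neg h]
      exact fun h1 => p.1.isPrime.ne_top ((Ideal.eq_top_iff_one _).mpr h1)
  let u : A := ∏ q, c q
  have hup : u ∉ p.1.asIdeal := by
    intro h
    obtain ⟨q, -, hq⟩ := (Ideal.IsPrime.prod_mem_iff (hp := p.1.isPrime)).mp h
    exact hcp q hq
  have huq : ∀ q : MinP A, q ≠ p → u ∈ q.1.asIdeal := by
    intro q h
    exact Ideal.prod_mem _ (Finset.mem_univ q) (hcq q h)
  have hr : ∀ q : MinP A, q ≠ p → ∃ r : ℕ,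
      (algebraMap A (Localization.AtPrime q.1.asIdeal) u) ^ r = 0 := fun q h =>
    isNilpotent_algebraMap_of_mem q u (huq q h)
  let r : MinP A → ℕ := fun q => if h : q ≠ p then (hr q h).choose else 0
  refine ⟨u ^ (∑ q, r q), fun h => hup (p.1.isPrime.mem_of_pow_mem _ h), fun q hq => ?_⟩
  have h1 : (algebraMap A (Localization.AtPrime q.1.asIdeal) u) ^ r q = 0 := by
    simp only [r, dif_pos hq]
    exact (hr q hq).choose_spec
  rw [map_pow]
  have h2 : r q ≤ ∑ q, r q := Finset.single_le_sum (f := r) (fun _ _ => Nat.zero_le _)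
    (Finset.mem_univ q)
  rw [← Nat.sub_add_cancel h2, pow_add, h1, mul_zero]

/-- every element of `LocMin A` is a fraction `x / s` with `s` in no minimal prime. -/
theorem exists_mul_eq [IsNoetherianRing A] (l : LocMin A) :
    ∃ s x : A, (∀ p : MinP A, s ∉ p.1.asIdeal) ∧
      algebraMap A (LocMin A) s * l = algebraMap A (LocMin A) x := by
  classical
  have : Finite (MinP A) := finite_minP
  have : Fintype (MinP A) := Fintype.ofFinite _
  choose e hep heq using exists_orthogonal (A := A)
  have hl : ∀ p : MinP A, ∃ (x : A) (t : p.1.asIdeal.primeCompl),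
      IsLocalization.mk' (Localization.AtPrime p.1.asIdeal) x t = l p := fun p =>
    IsLocalization.exists_mk'_eq p.1.asIdeal.primeCompl (l p)
  choose x t hxt using hl
  have hcomp : ∀ (f : MinP A → A) (q : MinP A),
      algebraMap A (Localization.AtPrime q.1.asIdeal) (∑ p, e p * f p) =
      algebraMap A (Localization.AtPrime q.1.asIdeal) (e q * f q) := by
    intro f q
    rw [map_sum, Finset.sum_eq_single q]
    · intro p _ hpq
      rw [map_mul, heq p q (Ne.symm hpq), zero_mul]
    · intro h; exact absurd (Finset.mem_univ q) h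
  refine ⟨∑ p, e p * (t p : A), ∑ p, e p * x p, fun q hq => ?_, ?_⟩
  · have h1 : algebraMap A (Localization.AtPrime q.1.asIdeal) (∑ p, e p * (t p : A)) ∈
        IsLocalRing.maximalIdeal (Localization.AtPrime q.1.asIdeal) := by
      rw [← IsLocalization.AtPrime.map_eq_maximalIdeal q.1.asIdeal]
      exact Ideal.mem_map_of_mem _ hq
    rw [hcomp] at h1
    have h2 : IsUnit (algebraMap A (Localization.AtPrime q.1.asIdeal) (e q * (t q : A))) := by
      apply IsLocalization.map_units (Localization.AtPrime q.1.asIdeal)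
        (⟨e q * (t q : A), ?_⟩ : q.1.asIdeal.primeCompl)
      exact fun h => (q.1.isPrime.mem_or_mem h).elim (hep q) (t q).2
    exact h1 h2
  · funext q
    rw [Pi.mul_apply, Pi.algebraMap_apply, Pi.algebraMap_apply, hcomp, hcomp, ← hxt q,
      map_mul, map_mul, mul_assoc, mul_comm (algebraMap A _ (t q : A)),
      IsLocalization.mk'_spec]

section DimOne

variable [IsLocalRing A] [IsNoetherianRing A] (hdim : ringKrullDim A = 1)

include hdim

/-- in dimension one, a prime strictly containing another prime is the maximal ideal -/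
theorem eq_maximalIdeal_of_lt {p q : Ideal A} (hp : p.IsPrime) (hq : q.IsPrime) (hlt : p < q) :
    q = IsLocalRing.maximalIdeal A := by
  by_contra hqm
  have hqm' : q < IsLocalRing.maximalIdeal A :=
    lt_of_le_of_ne (IsLocalRing.le_maximalIdeal hq.ne_top) hqm
  let sr : LTSeries (PrimeSpectrum A) :=
    { length := 2
      toFun := ![⟨p, hp⟩, ⟨q, hq⟩,
        ⟨IsLocalRing.maximalIdeal A, (IsLocalRing.maximalIdeal.isMaximal A).isPrime⟩]
      step := by
        intro i
        fin_cases i
        · exact hlt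
        · exact hqm' }
  have h2 : ((2 : ℕ) : WithBot ℕ∞) ≤ ringKrullDim A := Order.LTSeries.length_le_krullDim sr
  rw [hdim] at h2
  norm_cast at h2

/-- in dimension one, the maximal ideal is not a minimal prime -/
theorem maximalIdeal_notMem_minimalPrimes : IsLocalRing.maximalIdeal A ∉ minimalPrimes A := by
  intro hmin
  -- then every prime equals m, so the dimension is ≤ 0
  have hall : ∀ q : PrimeSpectrum A, q.asIdeal = IsLocalRing.maximalIdeal A := by
    intro q
    exact le_antisymm (IsLocalRing.le_maximalIdeal q.isPrime.ne_top)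
      (hmin.2 ⟨q.isPrime, bot_le⟩ (IsLocalRing.le_maximalIdeal q.isPrime.ne_top))
  have hsub : Subsingleton (PrimeSpectrum A) :=
    ⟨fun p q => PrimeSpectrum.ext ((hall p).trans (hall q).symm)⟩
  have h0 : ringKrullDim A ≤ 0 := by
    rw [ringKrullDim]
    exact Order.krullDim_nonpos_of_subsingleton
  rw [hdim] at h0
  norm_cast at h0

theorem exists_pow_le_of_forall_prime {J : Ideal A}
    (hJ : ∀ p : MinP A, ¬ J ≤ p.1.asIdeal) :
    ∃ k : ℕ, IsLocalRing.maximalIdeal A ^ k ≤ J := by
  have hprime : ∀ q : Ideal A, J ≤ q → q.IsPrime → q = IsLocalRing.maximalIdeal A := by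
    intro q hJq hq
    obtain ⟨p, hp, hpq⟩ := Ideal.exists_minimalPrimes_le (I := ⊥) (J := q) bot_le
    have hpp : p.IsPrime := hp.1.1
    have hne : p ≠ q := by
      intro h
      apply hJ ⟨⟨p, hpp⟩, hp⟩
      change J ≤ p
      rw [h]
      exact hJq
    exact eq_maximalIdeal_of_lt hdim hpp hq (lt_of_le_of_ne hpq hne)
  have hrad : IsLocalRing.maximalIdeal A ≤ J.radical := by
    rw [Ideal.radical_eq_sInf]
    refine le_sInf fun q hq => ?_
    rw [hprime q hq.1 hq.2]
  exact Ideal.exists_pow_le_of_le_radical_of_fg hrad (IsNoetherian.noetherian _)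

theorem exists_pow_le_span (s : A) (hs : ∀ p : MinP A, s ∉ p.1.asIdeal) :
    ∃ k : ℕ, IsLocalRing.maximalIdeal A ^ k ≤ Ideal.span {s} :=
  exists_pow_le_of_forall_prime hdim fun p h => hs p (h (Ideal.subset_span rfl))

theorem exists_pow_le_annihilator (z : A) (hz : algebraMap A (LocMin A) z = 0) :
    ∃ k : ℕ, ∀ y ∈ IsLocalRing.maximalIdeal A ^ k, y * z = 0 := by
  let J : Ideal A := (Ideal.span {z}).annihilator
  have hJmem : ∀ x, x ∈ J ↔ x * z = 0 := by
    intro x
    change x ∈ (Ideal.span {z}).annihilator ↔ _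
    rw [Submodule.mem_annihilator_span_singleton]; rfl
  have hann : ∀ p : MinP A, ¬ J ≤ p.1.asIdeal := by
    intro p hle
    have h1 : algebraMap A (Localization.AtPrime p.1.asIdeal) z = 0 := by
      have := congrFun hz p
      rwa [Pi.algebraMap_apply] at this
    rw [← map_zero (algebraMap A (Localization.AtPrime p.1.asIdeal))] at h1
    obtain ⟨s, hs⟩ := (IsLocalization.eq_iff_exists p.1.asIdeal.primeCompl _).mp h1
    have : (s : A) ∈ J := by
      rw [hJmem, hs, mul_zero]
    exact s.2 (hle this)
  obtain ⟨k, hk⟩ := exists_pow_le_of_forall_prime hdim hann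
  exact ⟨k, fun y hy => (hJmem y).mp (hk hy)⟩

/-- For `f ∈ m` in no minimal prime, `LocMin A` is the localization of `A` away from `f`. -/
theorem isLocalization_away (f : A) (hf : f ∈ IsLocalRing.maximalIdeal A)
    (hfp : ∀ p : MinP A, f ∉ p.1.asIdeal) : IsLocalization.Away f (LocMin A) := by
  apply IsLocalization.Away.mk f (isUnit_algebraMap_locMin f hfp)
  · intro l
    obtain ⟨s, x, hs, hsx⟩ := exists_mul_eq l
    obtain ⟨k, hk⟩ := exists_pow_le_span hdim s hs
    have hfk : f ^ k ∈ Ideal.span {s} := hk (Ideal.pow_mem_pow hf k)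
    obtain ⟨c, hc⟩ := Ideal.mem_span_singleton'.mp hfk
    refine ⟨k, c * x, ?_⟩
    rw [← map_pow, ← hc, map_mul, map_mul, ← hsx]
    ring
  · intro a b hab
    have hz : algebraMap A (LocMin A) (a - b) = 0 := by rw [map_sub, hab, sub_self]
    obtain ⟨k, hk⟩ := exists_pow_le_annihilator hdim (a - b) hz
    refine ⟨k, ?_⟩
    have := hk (f ^ k) (Ideal.pow_mem_pow hf k)
    rw [mul_sub, sub_eq_zero] at this
    exact this

end DimOne

end Groth.Agent.Lib.Helper9.DimOneLocal
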