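import Mathlib

set_option autoImplicit false
universe u

namespace Groth.Agent.Lib.Helper9.DomDim1

open IsLocalRing

section choose

variable {K : Type u} [Field K] (V : ValuationSubring K)

/-- in a valuation ring, a finite nonempty family has an element dividing all the others -/
theorem exists_dvd_all (s : Finset K) (hs : s.Nonempty) :
    ∃ x ∈ s, ∀ y ∈ s, ∃ v ∈ V, y = v * x := by
  classical
  induction hs using Finset.Nonempty.cons_induction with
  | singleton a =>
    refine ⟨a, Finset.mem_singleton_self a, fun y hy => ⟨1, V.one_mem, ?_⟩⟩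
    rw [Finset.mem_singleton.1 hy, one_mul]
  | cons a t ha ht ih =>
    obtain ⟨x, hxt, hx⟩ := ih
    by_cases hx0 : x = 0
    · refine ⟨a, Finset.mem_cons_self a t, fun y hy => ?_⟩
      rcases Finset.mem_cons.1 hy with rfl | hy
      · exact ⟨1, V.one_mem, (one_mul _).symm⟩
      · obtain ⟨v, _, hv⟩ := hx y hy
        refine ⟨0, V.zero_mem, ?_⟩
        rw [hv, hx0, mul_zero, zero_mul]
    by_cases ha0 : a = 0
    · refine ⟨x, Finset.mem_cons.2 (Or.inr hxt), fun y hy => ?_⟩
      rcases Finset.mem_cons.1 hy with rfl | hy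
      · exact ⟨0, V.zero_mem, by rw [ha0, zero_mul]⟩
      · exact hx y hy
    rcases V.mem_or_inv_mem (a / x) with h | h
    · refine ⟨x, Finset.mem_cons.2 (Or.inr hxt), fun y hy => ?_⟩
      rcases Finset.mem_cons.1 hy with rfl | hy
      · exact ⟨y / x, h, by field_simp⟩
      · exact hx y hy
    · refine ⟨a, Finset.mem_cons_self a t, fun y hy => ?_⟩
      rcases Finset.mem_cons.1 hy with rfl | hy
      · exact ⟨1, V.one_mem, (one_mul _).symm⟩
      · obtain ⟨v, hvV, hv⟩ := hx y hy
        refine ⟨v * (a / x)⁻¹, V.mul_mem _ _ hvV h, ?_⟩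
        rw [hv]
        field_simp

end choose

section main

variable (R : Type u) [CommRing R] [IsDomain R] [IsNoetherianRing R] [IsLocalRing R]

local notation "K" => FractionRing R

/-- the blow-up chart: a finite type subalgebra `R''` of `K` in which `m R'' = x R''` for a non-unit
nonzero `x` -/
theorem exists_chart (hR : ¬ IsField R) :
    ∃ (R'' : Subalgebra R K) (x : R), x ≠ 0 ∧ R''.FG ∧
      ¬ IsUnit (algebraMap R R'' x) ∧
      ∀ y ∈ maximalIdeal R, ∃ z : R'', algebraMap R R'' y = z * algebraMap R R'' x := by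
  classical
  obtain ⟨V, hV, hloc⟩ := IsLocalRing.exists_factor_valuationRing (algebraMap R K)
  obtain ⟨s, hs⟩ := (isNoetherianRing_iff_ideal_fg R).1 inferInstance (maximalIdeal R)
  have hm : maximalIdeal R ≠ ⊥ := fun h => hR (IsLocalRing.isField_iff_maximalIdeal_eq.2 h)
  have hsne : s.Nonempty := by
    rw [Finset.nonempty_iff_ne_empty]
    rintro rfl
    apply hm
    rw [← hs, Finset.coe_empty, Ideal.span_empty]
  obtain ⟨x', hx's, hx'⟩ := exists_dvd_all V (s.image (algebraMap R K)) (hsne.image _)
  obtain ⟨x, hxs, rfl⟩ := Finset.mem_image.1 hx's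
  have hxm : x ∈ maximalIdeal R := by rw [← hs]; exact Ideal.subset_span hxs
  have hinj : Function.Injective (algebraMap R K) := IsFractionRing.injective R K
  -- x ≠ 0
  have hx0 : x ≠ 0 := by
    rintro rfl
    apply hm
    rw [← hs, Ideal.span_eq_bot]
    intro y hy
    obtain ⟨v, _, hv⟩ := hx' _ (Finset.mem_image_of_mem _ hy)
    rw [map_zero, mul_zero] at hv
    exact hinj (hv.trans (map_zero _).symm)
  have hxK : algebraMap R K x ≠ 0 := fun h => hx0 (hinj (h.trans (map_zero _).symm))
  let T : Set K := (fun y : R => algebraMap R K y / algebraMap R K x) '' (s : Set R)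
  let R'' : Subalgebra R K := Algebra.adjoin R T
  have hTV : ∀ t ∈ T, t ∈ V := by
    rintro _ ⟨y, hy, rfl⟩
    obtain ⟨v, hvV, hv⟩ := hx' _ (Finset.mem_image_of_mem _ hy)
    change algebraMap R K y / algebraMap R K x ∈ V
    rw [hv, mul_div_assoc, div_self hxK, mul_one]
    exact hvV
  have hle : ∀ z ∈ R'', z ∈ V := by
    intro z hz
    induction hz using Algebra.adjoin_induction with
    | mem t ht => exact hTV t ht
    | algebraMap r => exact hV r
    | add a b _ _ ha hb => exact V.add_mem _ _ ha hb
    | mul a b _ _ ha hb => exact V.mul_mem _ _ ha hb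
  refine ⟨R'', x, hx0, ?_, ?_, ?_⟩
  · have h := Subalgebra.fg_adjoin_finset (R := R)
      (s.image fun y : R => algebraMap R K y / algebraMap R K x)
    rw [Finset.coe_image] at h
    exact h
  · intro hu
    -- x is a unit of V, contradiction with domination
    have hxV : IsUnit ((algebraMap R K).codRestrict V.toSubring hV x) := by
      obtain ⟨⟨u, w, huw, hwu⟩, hu'⟩ := hu
      have hu'' : u = algebraMap R R'' x := hu'
      refine isUnit_iff_exists_inv.2 ⟨⟨w.1, hle _ w.2⟩, ?_⟩
      apply Subtype.ext
      have := congrArg Subtype.val huw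
      rw [hu''] at this
      exact this
    have := hloc.map_nonunit x hxV
    exact (IsLocalRing.mem_maximalIdeal x).1 hxm this
  · intro y hy
    rw [← hs] at hy
    induction hy using Submodule.span_induction with
    | mem y hy =>
      refine ⟨⟨algebraMap R K y / algebraMap R K x, Algebra.subset_adjoin ⟨y, hy, rfl⟩⟩, ?_⟩
      apply Subtype.ext
      change algebraMap R K y = algebraMap R K y / algebraMap R K x * algebraMap R K x
      rw [div_mul_cancel₀ _ hxK]
    | zero => exact ⟨0, by rw [map_zero, zero_mul]⟩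
    | add a b _ _ ha hb =>
      obtain ⟨za, hza⟩ := ha
      obtain ⟨zb, hzb⟩ := hb
      exact ⟨za + zb, by rw [map_add, hza, hzb, add_mul]⟩
    | smul r a _ ha =>
      obtain ⟨za, hza⟩ := ha
      exact ⟨algebraMap R R'' r * za, by rw [smul_eq_mul, map_mul, hza, mul_assoc]⟩

theorem main (hR : ¬ IsField R) :
    ∃ R' : Subalgebra R K, ∃ _ : IsLocalRing R',
      IsNoetherianRing R' ∧ ringKrullDim R' = 1 ∧ IsLocalHom (algebraMap R R') ∧
        Algebra.EssFiniteType R R' := by
  obtain ⟨R'', x, hx0, hfg, hxu, hmx⟩ := exists_chart R hR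
  have hft : Algebra.FiniteType R R'' := R''.fg_iff_finiteType.1 hfg
  have hN : IsNoetherianRing R'' := Algebra.FiniteType.isNoetherianRing R R''
  have hspan : Ideal.span {algebraMap R R'' x} ≠ ⊤ := by
    rwa [Ne, Ideal.span_singleton_eq_top]
  obtain ⟨q, hq⟩ := Ideal.nonempty_minimalPrimes hspan
  have hqp : q.IsPrime := hq.1.1
  have hxq : algebraMap R R'' x ∈ q := hq.1.2 (Ideal.mem_span_singleton_self _)
  have hx''0 : algebraMap R R'' x ≠ 0 := by
    intro h
    apply hx0
    have h1 : algebraMap R K x = 0 := congrArg Subtype.val h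
    exact IsFractionRing.injective R K (h1.trans (map_zero _).symm)
  have hht : q.height = 1 := by
    apply le_antisymm
    · exact Ideal.height_le_one_of_isPrincipal_of_mem_minimalPrimes _ q hq
    · rw [Order.one_le_iff_ne_zero, Ne, Ideal.height_eq_zero_iff_eq_bot]
      rintro rfl
      exact hx''0 ((Ideal.mem_bot).1 hxq)
  have hS : q.primeCompl ≤ nonZeroDivisors R'' := q.primeCompl_le_nonZeroDivisors
  let L : Subalgebra R'' K := Localization.subalgebra.ofField K q.primeCompl hS
  have hLloc : IsLocalization.AtPrime L q :=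
    Localization.subalgebra.isLocalization_ofField K q.primeCompl hS
  have hLlocal : IsLocalRing L := IsLocalization.AtPrime.isLocalRing L q
  have hLN : IsNoetherianRing L := IsLocalization.isNoetherianRing q.primeCompl L hN
  have hLdim : ringKrullDim L = 1 := by
    rw [IsLocalization.AtPrime.ringKrullDim_eq_height q L, hht]
    rfl
  refine ⟨L.restrictScalars R, hLlocal, hLN, hLdim, ?_, ?_⟩
  · refine ⟨fun r hr => ?_⟩
    by_contra hnu
    have hrm : r ∈ maximalIdeal R := (IsLocalRing.mem_maximalIdeal r).2 hnu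
    obtain ⟨z, hz⟩ := hmx r hrm
    have hrq : algebraMap R R'' r ∈ q := by rw [hz]; exact q.mul_mem_left z hxq
    have h1 : algebraMap R'' L (algebraMap R R'' r) ∈ maximalIdeal L :=
      (IsLocalization.AtPrime.to_map_mem_maximal_iff L q _).2 hrq
    have h2 : (algebraMap R (L.restrictScalars R) r : ↥(L.restrictScalars R)) =
        algebraMap R'' L (algebraMap R R'' r) := Subtype.ext rfl
    rw [h2] at hr
    exact (IsLocalRing.mem_maximalIdeal _).1 h1 hr
  · have h1 : Algebra.EssFiniteType R'' L := Algebra.EssFiniteType.of_isLocalization L q.primeCompl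
    let _ : Algebra R'' ↥(L.restrictScalars R) := inferInstanceAs (Algebra R'' L)
    have : IsScalarTower R R'' ↥(L.restrictScalars R) :=
      IsScalarTower.of_algebraMap_eq (fun r => Subtype.ext rfl)
    have : Algebra.EssFiniteType R'' ↥(L.restrictScalars R) := h1
    exact Algebra.EssFiniteType.comp R R'' ↥(L.restrictScalars R)

end main

end Groth.Agent.Lib.Helper9.DomDim1
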