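import Mathlib
import Groth.Agent.Lib.Helper9.RefStalk2
import Groth.Agent.Lib.Helper9.TFGen1
import Groth.Agent.Lib.Helper6.FTPoints
import Groth.Prelude.Def_CurvBase

/-!
# The dual of a coherent module on a reduced curve is torsion-free (helper9)
-/

set_option autoImplicit false
universe u
open CategoryTheory CategoryTheory.Limits AlgebraicGeometry TopologicalSpace Opposite

namespace Groth.Agent.Lib.Helper9.DualTF

open Groth.Agent.Lib.Helper29.QCoh

/-- In a reduced Noetherian ring an ideal contained in no minimal prime contains a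
non-zero-divisor. -/
theorem exists_mem_nonZeroDivisors_of_not_le {A : Type*} [CommRing A] [IsNoetherianRing A]
    [_root_.IsReduced A] (I : Ideal A) (h : ∀ q ∈ minimalPrimes A, ¬ I ≤ q) :
    ∃ a ∈ I, a ∈ nonZeroDivisors A := by
  have hfin : (minimalPrimes A).Finite := minimalPrimes.finite_of_isNoetherianRing _
  have hnsub : ¬ ((I : Set A) ⊆
      ⋃ q ∈ (↑hfin.toFinset : Set (Ideal A)), (q : Set A)) := by
    intro hsub
    obtain ⟨q, hq, hle⟩ := (Ideal.subset_union_prime (s := hfin.toFinset) (f := fun q => q) ⊥ ⊥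
      (fun q hq _ _ => (hfin.mem_toFinset.mp hq).1.1)).mp hsub
    exact h q (hfin.mem_toFinset.mp hq) hle
  rw [Set.not_subset] at hnsub
  obtain ⟨a, ha, hau⟩ := hnsub
  refine ⟨a, ha, TFGen.mem_nonZeroDivisors_of_forall_notMem a fun q hq haq => hau ?_⟩
  exact Set.mem_biUnion (show q ∈ (↑hfin.toFinset : Set (Ideal A)) from
    Finset.mem_coe.mpr (hfin.mem_toFinset.mpr hq)) haq

/-- A non-minimal prime of a reduced Noetherian ring is not associated to a dual module. -/
theorem not_isAssociatedPrime_dual {R M : Type*} [CommRing R] [IsNoetherianRing R]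
    [_root_.IsReduced R] [AddCommGroup M] [Module R M] (p : Ideal R)
    (hp : ∀ q ∈ minimalPrimes R, ¬ p ≤ q) : ¬ IsAssociatedPrime p (Module.Dual R M) := by
  intro h
  rw [isAssociatedPrime_iff] at h
  obtain ⟨hprime, f, hf⟩ := h
  obtain ⟨a, hap, ha⟩ := exists_mem_nonZeroDivisors_of_not_le p hp
  have haf : a • f = 0 := by
    rw [hf, Submodule.mem_colon_singleton, Submodule.mem_bot] at hap
    exact hap
  have hf0 : f = 0 := by
    apply LinearMap.ext
    intro v
    have h1 : a * f v = 0 := by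
      have := congrArg (fun g : Module.Dual R M => g v) haf
      simpa using this
    rw [LinearMap.zero_apply]
    exact (mem_nonZeroDivisors_iff_right.mp ha) _ (by rw [mul_comm]; exact h1)
  apply hprime.ne_top
  rw [hf, hf0]
  ext r
  simp [Submodule.mem_colon_singleton]

variable {X : Scheme.{u}}

/-- A prime of an affine chart whose local ring is a field is minimal. -/
theorem mem_minimalPrimes_of_isField {W : X.Opens} (hW : IsAffineOpen W) (x : X) (hxW : x ∈ W)
    (hf : IsField (X.presheaf.stalk x)) :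
    (hW.primeIdealOf ⟨x, hxW⟩).asIdeal ∈ minimalPrimes Γ(X, W) := by
  let _ : Algebra Γ(X, W) (X.presheaf.stalk x) :=
    TopCat.Presheaf.algebra_section_stalk X.presheaf ⟨x, hxW⟩
  have := hW.isLocalization_stalk ⟨x, hxW⟩
  refine ⟨⟨(hW.primeIdealOf ⟨x, hxW⟩).2, bot_le⟩, ?_⟩
  rintro q ⟨hq, -⟩ hqp a ha
  have hnu : ¬ IsUnit (algebraMap Γ(X, W) (X.presheaf.stalk x) a) := by
    rw [IsLocalization.AtPrime.isUnit_to_map_iff (X.presheaf.stalk x)
      (hW.primeIdealOf ⟨x, hxW⟩).asIdeal a]
    exact fun h => h ha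
  have h0 : algebraMap Γ(X, W) (X.presheaf.stalk x) a = 0 := by
    by_contra hne
    let _ : Field (X.presheaf.stalk x) := hf.toField
    exact hnu (isUnit_iff_ne_zero.mpr hne)
  rw [IsLocalization.map_eq_zero_iff (hW.primeIdealOf ⟨x, hxW⟩).asIdeal.primeCompl] at h0
  obtain ⟨s, hs⟩ := h0
  have hsq : (s : Γ(X, W)) ∉ q := fun h => s.2 (hqp h)
  have : (s : Γ(X, W)) * a ∈ q := by rw [hs]; exact q.zero_mem
  exact (hq.mem_or_mem this).resolve_left hsq

/-- On a locally Noetherian scheme a closed point whose local ring is a field is open. -/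
theorem isOpen_singleton_of_isField [IsLocallyNoetherian X] (x : X) (hx : IsClosed ({x} : Set X))
    (hf : IsField (X.presheaf.stalk x)) : IsOpen ({x} : Set X) := by
  classical
  obtain ⟨W, hW, hxW, -⟩ := Opens.isBasis_iff_nbhd.mp X.isBasis_affineOpens
    (show x ∈ (⊤ : X.Opens) from trivial)
  have : IsNoetherianRing Γ(X, W) := IsLocallyNoetherian.component_noetherian ⟨W, hW⟩
  set p := (hW.primeIdealOf ⟨x, hxW⟩).asIdeal with hpdef
  have hpprime : p.IsPrime := (hW.primeIdealOf ⟨x, hxW⟩).2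
  have hpmin : p ∈ minimalPrimes Γ(X, W) := mem_minimalPrimes_of_isField hW x hxW hf
  have hpmax : p.IsMaximal := by
    refine (Groth.Agent.Lib.Helper6.isClosed_singleton_iff_isMaximal hW x hxW).mp ?_
    have : ({⟨x, hxW⟩} : Set ↥W) = Subtype.val ⁻¹' ({x} : Set X) := by
      ext y
      simp only [Set.mem_singleton_iff, Set.mem_preimage]
      exact ⟨fun h => by rw [h], fun h => Subtype.ext h⟩
    rw [this]
    exact hx.preimage continuous_subtype_val
  have hfin : (minimalPrimes Γ(X, W)).Finite := minimalPrimes.finite_of_isNoetherianRing _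
  have hex : ∀ q : Ideal Γ(X, W), ∃ s : Γ(X, W), s ∉ p ∧ (q ∈ minimalPrimes Γ(X, W) → q ≠ p → s ∈ q) := by
    intro q
    by_cases hq : q ∈ minimalPrimes Γ(X, W) ∧ q ≠ p
    · have hnle : ¬ q ≤ p := by
        intro hle
        exact hq.2 (le_antisymm hle (hpmin.2 hq.1.1 hle))
      obtain ⟨s, hsq, hsp⟩ := Set.not_subset.mp hnle
      exact ⟨s, hsp, fun _ _ => hsq⟩
    · exact ⟨1, fun h => hpprime.ne_top ((Ideal.eq_top_iff_one _).mpr h),
        fun h1 h2 => (hq ⟨h1, h2⟩).elim⟩
  choose sf hsf1 hsf2 using hex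
  set s : Γ(X, W) := ∏ q ∈ hfin.toFinset, sf q with hsdef
  have hsp : s ∉ p := by
    rw [hsdef, Ideal.IsPrime.prod_mem_iff]
    rintro ⟨q, -, hq⟩
    exact hsf1 q hq
  have hset : ((X.basicOpen s : X.Opens) : Set X) = {x} := by
    ext y
    simp only [SetLike.mem_coe, Set.mem_singleton_iff]
    constructor
    · intro hy
      have hyW : y ∈ W := X.basicOpen_le s hy
      have hys : s ∉ (hW.primeIdealOf ⟨y, hyW⟩).asIdeal :=
        (mem_basicOpen_iff_notMem_primeIdealOf hW y hyW s).mp hy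
      have : (hW.primeIdealOf ⟨y, hyW⟩).asIdeal.IsPrime := (hW.primeIdealOf ⟨y, hyW⟩).2
      obtain ⟨q, hq, hqy⟩ := Ideal.exists_minimalPrimes_le
        (show (⊥ : Ideal Γ(X, W)) ≤ (hW.primeIdealOf ⟨y, hyW⟩).asIdeal from bot_le)
      have hqp : q = p := by
        by_contra hne
        exact hys (hqy (Ideal.prod_mem q (hfin.mem_toFinset.mpr hq) (hsf2 q hq hne)))
      have hpy : p = (hW.primeIdealOf ⟨y, hyW⟩).asIdeal :=
        hpmax.eq_of_le (hW.primeIdealOf ⟨y, hyW⟩).2.ne_top (hqp ▸ hqy)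
      have h1 : hW.primeIdealOf ⟨y, hyW⟩ = hW.primeIdealOf ⟨x, hxW⟩ :=
        PrimeSpectrum.ext hpy.symm
      have h2 := congrArg hW.fromSpec h1
      rw [hW.fromSpec_primeIdealOf, hW.fromSpec_primeIdealOf] at h2
      exact h2
    · rintro rfl
      exact (mem_basicOpen_iff_notMem_primeIdealOf hW y hxW s).mpr hsp
  rw [← hset]
  exact (X.basicOpen s).2

theorem main18916 (k : Type u) [Field k]
    (X : Scheme.{u}) [X.Over (Spec (CommRingCat.of k))] [IsProper (X ↘ Spec (CommRingCat.of k))]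
    [AlgebraicGeometry.IsReduced X]
    (hpure : ∀ x : X, IsClosed ({x} : Set X) → ¬ IsOpen ({x} : Set X))
    (F : X.Modules) (hF : Coh.IsCoh F) (x : X) (hx : IsClosed ({x} : Set X)) :
    ¬ Curv2.IsAssPoint (RefHull.dual F) x := by
  have : IsLocallyNoetherian X :=
    LocallyOfFiniteType.isLocallyNoetherian (X ↘ Spec (CommRingCat.of k))
  have hFP := RefStalk.isFP_of_isCoh F hF
  unfold Curv2.IsAssPoint
  rw [(RefStalk.dualStalkEquiv F hFP x).isAssociatedPrime_iff]
  obtain ⟨W, hW, hxW, -⟩ := Opens.isBasis_iff_nbhd.mp X.isBasis_affineOpens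
    (show x ∈ (⊤ : X.Opens) from trivial)
  have : IsNoetherianRing Γ(X, W) := IsLocallyNoetherian.component_noetherian ⟨W, hW⟩
  let _ : Algebra Γ(X, W) (X.presheaf.stalk x) :=
    TopCat.Presheaf.algebra_section_stalk X.presheaf ⟨x, hxW⟩
  have := hW.isLocalization_stalk ⟨x, hxW⟩
  have : IsNoetherianRing (X.presheaf.stalk x) :=
    IsLocalization.isNoetherianRing (hW.primeIdealOf ⟨x, hxW⟩).asIdeal.primeCompl _ inferInstance
  refine not_isAssociatedPrime_dual _ ?_
  intro q hq hle
  have hqmax : q = IsLocalRing.maximalIdeal (X.presheaf.stalk x) :=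
    ((IsLocalRing.maximalIdeal.isMaximal _).eq_of_le hq.1.1.ne_top hle).symm
  have hdim : Ring.KrullDimLE 0 (X.presheaf.stalk x) := by
    rw [Ring.krullDimLE_zero_iff]
    intro I hI
    have h1 : I ≤ IsLocalRing.maximalIdeal (X.presheaf.stalk x) := IsLocalRing.le_maximalIdeal hI.ne_top
    have h2 : q ≤ I := hq.2 ⟨hI, bot_le⟩ (hqmax ▸ h1)
    have : I = IsLocalRing.maximalIdeal (X.presheaf.stalk x) := le_antisymm h1 (hqmax ▸ h2)
    rw [this]
    infer_instance
  exact hpure x hx (isOpen_singleton_of_isField x hx Ring.KrullDimLE.isField_of_isReduced)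

end Groth.Agent.Lib.Helper9.DualTF
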