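import Mathlib

/-! Lengths of torsion modules over a DVR (helper9). -/

set_option autoImplicit false
set_option linter.unusedSectionVars false
universe u v

namespace Groth.Agent.Lib.Helper9.DvrTorsionLen

open scoped TensorProduct Pointwise
open IsLocalRing

variable {R : Type u} [CommRing R] [IsDomain R] [IsDiscreteValuationRing R]

/-- `dim_k (k ⊗ N) = len_R (N / ϖ N)` (universe-polymorphic copy of helper12's lemma). -/
theorem finrank_residue_tensor (ϖ : R) (hϖ : Irreducible ϖ) (N : Type v) [AddCommGroup N]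
    [Module R N] [Module.Finite R N] :
    (Module.finrank (ResidueField R) (ResidueField R ⊗[R] N) : ℕ∞) =
      Module.length R (QuotSMulTop ϖ N) := by
  rw [← Module.length_eq_finrank, ← Module.length_eq_of_surjective (S := R)
    (R := ResidueField R) (M := ResidueField R ⊗[R] N) Ideal.Quotient.mk_surjective]
  have hm : maximalIdeal R = Ideal.span {ϖ} := (Irreducible.maximalIdeal_eq hϖ)
  have e1 : (ResidueField R ⊗[R] N) ≃ₗ[R] N ⧸ (maximalIdeal R • (⊤ : Submodule R N)) :=
    TensorProduct.quotTensorEquivQuotSMul N (maximalIdeal R)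
  have e2 : (N ⧸ (maximalIdeal R • (⊤ : Submodule R N))) ≃ₗ[R] QuotSMulTop ϖ N :=
    Submodule.quotEquivOfEq _ _ (by rw [hm, Submodule.ideal_span_singleton_smul])
  exact (e1.trans e2).length_eq

/-- `ϖ • ⊤` as the range of multiplication by `ϖ`. -/
theorem smul_top_eq_range (ϖ : R) (X : Type v) [AddCommGroup X] [Module R X] :
    (ϖ • (⊤ : Submodule R X)) = LinearMap.range (DistribSMul.toLinearMap R X ϖ) := by
  rw [← Submodule.map_top]
  rfl

/-- `len X = len X[ϖ] + len ϖX`. -/
theorem length_eq_torsionBy_add (ϖ : R) (X : Type v) [AddCommGroup X] [Module R X] :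
    Module.length R X = Module.length R (Submodule.torsionBy R X ϖ) +
      Module.length R ↥(ϖ • (⊤ : Submodule R X)) := by
  rw [smul_top_eq_range]
  exact Module.length_eq_add_of_exact (Submodule.torsionBy R X ϖ).subtype
    (DistribSMul.toLinearMap R X ϖ).rangeRestrict (Submodule.injective_subtype _)
    (LinearMap.surjective_rangeRestrict _)
    (by
      rw [LinearMap.exact_iff]
      ext x
      simp [Submodule.mem_torsionBy_iff, LinearMap.mem_ker])

/-- `len X = len ϖX + len X/ϖX`. -/
theorem length_eq_add_quotSMulTop (ϖ : R) (X : Type v) [AddCommGroup X] [Module R X] :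
    Module.length R X = Module.length R ↥(ϖ • (⊤ : Submodule R X)) +
      Module.length R (QuotSMulTop ϖ X) :=
  Module.length_eq_add_of_exact (ϖ • (⊤ : Submodule R X)).subtype
    (ϖ • (⊤ : Submodule R X)).mkQ (Submodule.injective_subtype _)
    (Submodule.mkQ_surjective _) (LinearMap.exact_subtype_mkQ _)

/-- A finite module over a DVR killed by `ϖ ^ n` has finite length. -/
theorem length_ne_top (ϖ : R) (hϖ : Irreducible ϖ) (n : ℕ) :
    ∀ (X : Type v) [AddCommGroup X] [Module R X] [Module.Finite R X],
      (∀ x : X, ϖ ^ n • x = 0) → Module.length R X ≠ ⊤ := by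
  induction n with
  | zero =>
    intro X _ _ _ h
    have : Subsingleton X := ⟨fun a b => by
      have ha := h a; have hb := h b
      simp only [pow_zero, one_smul] at ha hb
      rw [ha, hb]⟩
    rw [Module.length_eq_zero]
    exact ENat.zero_ne_top
  | succ n ih =>
    intro X _ _ _ h
    rw [length_eq_add_quotSMulTop ϖ X]
    have h1 : Module.length R ↥(ϖ • (⊤ : Submodule R X)) ≠ ⊤ := by
      apply ih
      rintro ⟨y, hy⟩
      obtain ⟨x, -, rfl⟩ := (Submodule.mem_smul_pointwise_iff_exists _ _ _).mp hy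
      apply Subtype.ext
      show ϖ ^ n • ϖ • x = 0
      rw [smul_smul, ← pow_succ]
      exact h x
    have h2 : Module.length R (QuotSMulTop ϖ X) ≠ ⊤ := by
      rw [← finrank_residue_tensor ϖ hϖ X]
      exact ENat.natCast_ne_top _
    exact WithTop.add_ne_top.mpr ⟨h1, h2⟩

/-- For a finite module killed by `ϖ ^ n`: `len X/ϖX = len X[ϖ]`. -/
theorem length_quotSMulTop_eq_torsionBy (ϖ : R) (hϖ : Irreducible ϖ) (n : ℕ)
    (X : Type v) [AddCommGroup X] [Module R X] [Module.Finite R X]
    (h : ∀ x : X, ϖ ^ n • x = 0) :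
    Module.length R (QuotSMulTop ϖ X) = Module.length R (Submodule.torsionBy R X ϖ) := by
  have h1 := length_eq_torsionBy_add ϖ X
  have h2 := length_eq_add_quotSMulTop ϖ X
  have hfin := length_ne_top ϖ hϖ n X h
  have h3 : Module.length R ↥(ϖ • (⊤ : Submodule R X)) ≠ ⊤ := by
    intro htop
    rw [htop, top_add] at h2
    exact hfin h2
  rw [h1, add_comm] at h2
  exact ((ENat.add_right_injective_of_ne_top h3) h2).symm

/-- `dim_k (k ⊗ X) = len X[ϖ]` for a finite module killed by `ϖ ^ n`. -/
theorem finrank_residue_tensor_eq_length_torsionBy (ϖ : R) (hϖ : Irreducible ϖ) (n : ℕ)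
    (X : Type v) [AddCommGroup X] [Module R X] [Module.Finite R X]
    (h : ∀ x : X, ϖ ^ n • x = 0) :
    (Module.finrank (ResidueField R) (ResidueField R ⊗[R] X) : ℕ∞) =
      Module.length R (Submodule.torsionBy R X ϖ) := by
  rw [finrank_residue_tensor ϖ hϖ X, length_quotSMulTop_eq_torsionBy ϖ hϖ n X h]

end Groth.Agent.Lib.Helper9.DvrTorsionLen
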