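import Mathlib
import Groth.Prelude.Def_EtRam

/-!
# `A[x]/(x^n - π)` over a DVR `A` with uniformizer `π` (Eisenstein): it is a totally ramified DVR.
-/

set_option autoImplicit false
open Polynomial

namespace Groth.Agent.Lib.Helper9.EisDVR
set_option linter.unusedSectionVars false
set_option linter.style.haveILetI false
universe u
variable {A : Type u} [CommRing A] [IsDomain A] [IsDiscreteValuationRing A] {π : A}
  (hπ : Irreducible π) {n : ℕ} (hn : 2 ≤ n)

include hπ hn in
lemma irred : Irreducible (X ^ n - C π : A[X]) := by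
  have hn0 : n ≠ 0 := by omega
  have hmonic : (X ^ n - C π : A[X]).Monic := monic_X_pow_sub_C π hn0
  have hdeg : (X ^ n - C π : A[X]).natDegree = n := natDegree_X_pow_sub_C
  have hP : (Ideal.span {π}).IsPrime := by
    rw [Ideal.span_singleton_prime hπ.ne_zero]
    exact hπ.prime
  apply irreducible_of_eisenstein_criterion hP
  · rw [hmonic.leadingCoeff]
    intro h
    exact hP.ne_top ((Ideal.eq_top_iff_one _).mpr h)
  · intro m hm
    rw [degree_eq_natDegree hmonic.ne_zero, hdeg, Nat.cast_lt] at hm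
    rw [coeff_sub, coeff_X_pow, if_neg hm.ne, coeff_C]
    split_ifs with h0
    · simp
    · simp
  · rw [degree_eq_natDegree hmonic.ne_zero, hdeg]
    exact_mod_cast Nat.pos_of_ne_zero hn0
  · rw [coeff_sub, coeff_X_pow, if_neg (Ne.symm hn0), coeff_C_zero, zero_sub, neg_mem_iff,
      Ideal.span_singleton_pow, Ideal.mem_span_singleton]
    rintro ⟨c, hc⟩
    have : π * (1 - π * c) = 0 := by rw [mul_sub, mul_one, ← mul_assoc, ← sq, ← hc, sub_self]
    rcases mul_eq_zero.mp this with h | h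
    · exact hπ.ne_zero h
    · exact hπ.not_isUnit (isUnit_iff_exists_inv.mpr ⟨c, by linear_combination -h⟩)
  · exact hmonic.isPrimitive


lemma root_pow : (AdjoinRoot.root (X ^ n - C π : A[X])) ^ n = AdjoinRoot.of (X ^ n - C π : A[X]) π := by
  have h := AdjoinRoot.mk_self (f := (X ^ n - C π : A[X]))
  rw [map_sub, map_pow, AdjoinRoot.mk_X, AdjoinRoot.mk_C, sub_eq_zero] at h
  exact h

include hn in
lemma of_inj : Function.Injective (AdjoinRoot.of (X ^ n - C π : A[X])) := by
  apply AdjoinRoot.of.injective_of_degree_ne_zero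
  rw [degree_X_pow_sub_C (by omega) π]
  exact_mod_cast (by omega : n ≠ 0)

lemma exists_decomp (z : AdjoinRoot (X ^ n - C π : A[X])) :
    ∃ (a : A) (w : AdjoinRoot (X ^ n - C π : A[X])),
      z = AdjoinRoot.of _ a + AdjoinRoot.root _ * w := by
  induction z using AdjoinRoot.induction_on with
  | ih g =>
    refine ⟨g.coeff 0, AdjoinRoot.mk _ g.divX, ?_⟩
    conv_lhs => rw [← Polynomial.divX_mul_X_add g]
    rw [map_add, map_mul, AdjoinRoot.mk_X, AdjoinRoot.mk_C, add_comm, mul_comm]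

include hn in
/-- the residue map `A' → A/(π)` -/
noncomputable def resid : AdjoinRoot (X ^ n - C π : A[X]) →+* A ⧸ Ideal.span {π} :=
  AdjoinRoot.lift (Ideal.Quotient.mk _) 0 (by
    rw [eval₂_sub, eval₂_pow, eval₂_X, eval₂_C, zero_pow (by omega), zero_sub, neg_eq_zero,
      Ideal.Quotient.eq_zero_iff_mem]
    exact Ideal.mem_span_singleton_self π)

lemma resid_of (a : A) : resid hn (AdjoinRoot.of (X ^ n - C π : A[X]) a) = Ideal.Quotient.mk _ a := by
  simp [resid]

lemma resid_root : resid hn (AdjoinRoot.root (X ^ n - C π : A[X])) = 0 := by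
  simp [resid]

lemma ker_resid : RingHom.ker (resid (π := π) hn) = Ideal.span {AdjoinRoot.root (X ^ n - C π : A[X])} := by
  apply le_antisymm
  · intro z hz
    obtain ⟨a, w, rfl⟩ := exists_decomp z
    rw [RingHom.mem_ker, map_add, map_mul, resid_root, zero_mul, add_zero, resid_of,
      Ideal.Quotient.eq_zero_iff_mem, Ideal.mem_span_singleton] at hz
    obtain ⟨c, rfl⟩ := hz
    rw [Ideal.mem_span_singleton]
    refine ⟨AdjoinRoot.root _ ^ (n - 1) * AdjoinRoot.of _ c + w, ?_⟩
    rw [map_mul, ← root_pow, mul_add, ← mul_assoc, ← pow_succ', Nat.sub_add_cancel (by omega)]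
  · rw [Ideal.span_le, Set.singleton_subset_iff]
    exact resid_root hn

lemma resid_surj : Function.Surjective (resid (π := π) hn) := by
  intro y
  obtain ⟨a, rfl⟩ := Ideal.Quotient.mk_surjective y
  exact ⟨AdjoinRoot.of _ a, resid_of hn a⟩

include hπ hn in
lemma span_root_isMaximal :
    (Ideal.span {AdjoinRoot.root (X ^ n - C π : A[X])}).IsMaximal := by
  rw [← ker_resid hn]
  have : (Ideal.span {π}).IsMaximal := by
    rw [← hπ.maximalIdeal_eq]; infer_instance
  have : IsField (A ⧸ Ideal.span {π}) := (Ideal.Quotient.maximal_ideal_iff_isField_quotient _).mp this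
  letI := this.toField
  exact RingHom.ker_isMaximal_of_surjective _ (resid_surj hn)


include hπ hn in
lemma eq_span_root_of_isMaximal (M : Ideal (AdjoinRoot (X ^ n - C π : A[X]))) (hM : M.IsMaximal) :
    M = Ideal.span {AdjoinRoot.root (X ^ n - C π : A[X])} := by
  have hmonic : (X ^ n - C π : A[X]).Monic := monic_X_pow_sub_C π (by omega)
  have : Module.Finite A (AdjoinRoot (X ^ n - C π : A[X])) := hmonic.finite_adjoinRoot
  have hint : Algebra.IsIntegral A (AdjoinRoot (X ^ n - C π : A[X])) := Algebra.IsIntegral.of_finite _ _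
  have h1 := Ideal.isMaximal_comap_of_isIntegral_of_isMaximal (R := A) M
  have h2 := IsLocalRing.eq_maximalIdeal h1
  have h3 : π ∈ Ideal.comap (algebraMap A (AdjoinRoot (X ^ n - C π : A[X]))) M := by
    rw [h2, hπ.maximalIdeal_eq]; exact Ideal.mem_span_singleton_self π
  rw [Ideal.mem_comap, AdjoinRoot.algebraMap_eq, ← root_pow] at h3
  have h4 : AdjoinRoot.root (X ^ n - C π : A[X]) ∈ M := hM.isPrime.mem_of_pow_mem _ h3
  symm
  apply (span_root_isMaximal hπ hn).eq_of_le hM.ne_top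
  rw [Ideal.span_le, Set.singleton_subset_iff]
  exact h4

include hπ hn in
lemma isLocalRing : IsLocalRing (AdjoinRoot (X ^ n - C π : A[X])) :=
  IsLocalRing.of_unique_max_ideal ⟨_, span_root_isMaximal hπ hn, fun M hM => eq_span_root_of_isMaximal hπ hn M hM⟩

include hπ hn in
lemma maximalIdeal_eq (h : IsLocalRing (AdjoinRoot (X ^ n - C π : A[X]))) :
    IsLocalRing.maximalIdeal (AdjoinRoot (X ^ n - C π : A[X])) =
      Ideal.span {AdjoinRoot.root (X ^ n - C π : A[X])} :=
  eq_span_root_of_isMaximal hπ hn _ (IsLocalRing.maximalIdeal.isMaximal _)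


include hπ hn in
lemma isDomain : IsDomain (AdjoinRoot (X ^ n - C π : A[X])) :=
  AdjoinRoot.isDomain_of_prime (irred hπ hn).prime

include hπ hn in
lemma root_ne_zero : AdjoinRoot.root (X ^ n - C π : A[X]) ≠ 0 := by
  intro h
  have h2 := root_pow (π := π) (n := n)
  rw [h, zero_pow (by omega)] at h2
  exact hπ.ne_zero (of_inj hn (by rw [← h2, map_zero]))

include hπ hn in
lemma isDVR (hdom : IsDomain (AdjoinRoot (X ^ n - C π : A[X]))) :
    IsDiscreteValuationRing (AdjoinRoot (X ^ n - C π : A[X])) := by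
  haveI hloc : IsLocalRing (AdjoinRoot (X ^ n - C π : A[X])) := isLocalRing hπ hn
  have hnf : ¬ IsField (AdjoinRoot (X ^ n - C π : A[X])) := by
    rw [IsLocalRing.isField_iff_maximalIdeal_eq, maximalIdeal_eq hπ hn hloc, Ideal.span_singleton_eq_bot]
    exact root_ne_zero hπ hn
  have h4 : Submodule.IsPrincipal (IsLocalRing.maximalIdeal (AdjoinRoot (X ^ n - C π : A[X]))) :=
    ⟨⟨_, maximalIdeal_eq hπ hn hloc⟩⟩
  exact ((IsDiscreteValuationRing.TFAE _ hnf).out 0 4).mpr h4


section ram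

variable [hdom : IsDomain (AdjoinRoot (X ^ n - C π : A[X]))]
  [hdvr : IsDiscreteValuationRing (AdjoinRoot (X ^ n - C π : A[X]))]
  (K₁ : Type u) [Field K₁] [Algebra (AdjoinRoot (X ^ n - C π : A[X])) K₁]
  [IsFractionRing (AdjoinRoot (X ^ n - C π : A[X])) K₁]

variable (π n) in
/-- the canonical valuation subring -/
noncomputable def V₀ : ValuationSubring K₁ :=
  { (algebraMap (AdjoinRoot (X ^ n - C π : A[X])) K₁).range with
    mem_or_inv_mem' := fun x => by
      rcases ValuationRing.isInteger_or_isInteger (AdjoinRoot (X ^ n - C π : A[X])) x with h | h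
      · left; obtain ⟨a, ha⟩ := h; exact ⟨a, ha⟩
      · right; obtain ⟨a, ha⟩ := h; exact ⟨a, ha⟩ }

lemma mem_V₀ (x : K₁) : x ∈ V₀ π n K₁ ↔
    ∃ z, algebraMap (AdjoinRoot (X ^ n - C π : A[X])) K₁ z = x := Iff.rfl

include hπ hn in
/-- key: valuation of the root is < 1 for dominating `V`. -/
lemma val_root_lt (V : ValuationSubring K₁)
    (h : EtRam.Dominates A ((algebraMap (AdjoinRoot (X ^ n - C π : A[X])) K₁).comp
      (algebraMap A (AdjoinRoot (X ^ n - C π : A[X])))) V) :
    V.valuation (algebraMap (AdjoinRoot (X ^ n - C π : A[X])) K₁ (AdjoinRoot.root _)) < 1 := by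
  by_contra hcon
  push Not at hcon
  have h1 := h.2 π (by rw [hπ.maximalIdeal_eq]; exact Ideal.mem_span_singleton_self π)
  rw [RingHom.comp_apply, AdjoinRoot.algebraMap_eq, ← root_pow, map_pow, map_pow] at h1
  exact absurd h1 (not_lt.mpr (one_le_pow₀ hcon))

include hπ hn in
lemma algebraMap_mem (V : ValuationSubring K₁)
    (h : EtRam.Dominates A ((algebraMap (AdjoinRoot (X ^ n - C π : A[X])) K₁).comp
      (algebraMap A (AdjoinRoot (X ^ n - C π : A[X])))) V) (z : AdjoinRoot (X ^ n - C π : A[X])) :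
    algebraMap (AdjoinRoot (X ^ n - C π : A[X])) K₁ z ∈ V := by
  have hr : algebraMap (AdjoinRoot (X ^ n - C π : A[X])) K₁ (AdjoinRoot.root _) ∈ V :=
    (V.valuation_le_one_iff _).mp (val_root_lt hπ hn K₁ V h).le
  induction z using AdjoinRoot.induction_on with
  | ih p =>
    induction p using Polynomial.induction_on' with
    | add p q hp hq => rw [map_add, map_add]; exact V.add_mem _ _ hp hq
    | monomial i a =>
      rw [← C_mul_X_pow_eq_monomial, map_mul, map_pow, AdjoinRoot.mk_C, AdjoinRoot.mk_X, map_mul,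
        map_pow]
      exact V.mul_mem _ _ (h.1 a) (V.pow_mem hr i)

include hπ hn in
lemma eq_V₀ (V : ValuationSubring K₁)
    (h : EtRam.Dominates A ((algebraMap (AdjoinRoot (X ^ n - C π : A[X])) K₁).comp
      (algebraMap A (AdjoinRoot (X ^ n - C π : A[X])))) V) : V = V₀ π n K₁ := by
  apply le_antisymm
  · intro y hy
    by_contra hy0
    have hyne : y ≠ 0 := fun h0 => hy0 (h0 ▸ (V₀ π n K₁).zero_mem)
    have hinv : y⁻¹ ∈ V₀ π n K₁ := ((V₀ π n K₁).mem_or_inv_mem y).resolve_left hy0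
    obtain ⟨z, hz⟩ := hinv
    have hzu : ¬ IsUnit z := by
      intro hu
      obtain ⟨u, rfl⟩ := hu
      apply hy0
      refine ⟨((u⁻¹ : (AdjoinRoot (X ^ n - C π : A[X]))ˣ) : AdjoinRoot (X ^ n - C π : A[X])), ?_⟩
      have : algebraMap (AdjoinRoot (X ^ n - C π : A[X])) K₁ ((u⁻¹ : (AdjoinRoot (X ^ n - C π : A[X]))ˣ) :
          AdjoinRoot (X ^ n - C π : A[X])) * y⁻¹ = 1 := by
        rw [← hz, ← map_mul, Units.inv_mul, map_one]
      exact eq_of_mul_inv_eq_one (by rw [this]) |>.trans (by simp) 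
    have hzm : z ∈ IsLocalRing.maximalIdeal (AdjoinRoot (X ^ n - C π : A[X])) := hzu
    rw [maximalIdeal_eq hπ hn, Ideal.mem_span_singleton] at hzm
    obtain ⟨w, rfl⟩ := hzm
    have h1 : V.valuation y⁻¹ < 1 := by
      rw [← hz, map_mul, map_mul]
      exact mul_lt_one_of_nonneg_of_lt_one_left zero_le (val_root_lt hπ hn K₁ V h)
        ((V.valuation_le_one_iff _).mpr (algebraMap_mem hπ hn K₁ V h w))
    have h2 : V.valuation y ≤ 1 := (V.valuation_le_one_iff _).mpr hy
    have h3 : V.valuation y * V.valuation y⁻¹ = 1 := by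
      rw [← map_mul, mul_inv_cancel₀ hyne, map_one]
    have : V.valuation y * V.valuation y⁻¹ < 1 := by
      calc V.valuation y * V.valuation y⁻¹ ≤ 1 * V.valuation y⁻¹ := by gcongr
        _ < 1 := by rwa [one_mul]
    exact absurd h3 this.ne
  · rintro y ⟨z, rfl⟩
    exact algebraMap_mem hπ hn K₁ V h z


include hπ hn in
lemma dominates_V₀ : EtRam.Dominates A ((algebraMap (AdjoinRoot (X ^ n - C π : A[X])) K₁).comp
      (algebraMap A (AdjoinRoot (X ^ n - C π : A[X])))) (V₀ π n K₁) := by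
  refine ⟨fun a => ⟨_, rfl⟩, fun a ha => ?_⟩
  have hmem : ((algebraMap (AdjoinRoot (X ^ n - C π : A[X])) K₁).comp
      (algebraMap A (AdjoinRoot (X ^ n - C π : A[X])))) a ∈ V₀ π n K₁ := ⟨_, rfl⟩
  have := (V₀ π n K₁).valuation_lt_one_iff ⟨_, hmem⟩
  rw [← this]
  change ¬ IsUnit _
  intro hu
  obtain ⟨u, hu⟩ := hu
  obtain ⟨b, hb⟩ := ((u⁻¹ : (V₀ π n K₁)ˣ) : V₀ π n K₁).2
  have h1 : (u : V₀ π n K₁) * ((u⁻¹ : (V₀ π n K₁)ˣ) : V₀ π n K₁) = 1 := u.mul_inv
  have h2 := congrArg Subtype.val h1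
  rw [hu] at h2
  simp only [MulMemClass.coe_mul, OneMemClass.coe_one, ← hb, RingHom.comp_apply, ← map_mul] at h2
  have h3 : algebraMap A (AdjoinRoot (X ^ n - C π : A[X])) a * b = 1 :=
    IsFractionRing.injective (AdjoinRoot (X ^ n - C π : A[X])) K₁ (by rw [h2, map_one])
  rw [hπ.maximalIdeal_eq, Ideal.mem_span_singleton] at ha
  obtain ⟨c, rfl⟩ := ha
  have h4 : IsUnit (AdjoinRoot.root (X ^ n - C π : A[X])) := by
    have hpow : AdjoinRoot.root (X ^ n - C π : A[X]) ^ n =
        AdjoinRoot.root (X ^ n - C π : A[X]) * AdjoinRoot.root (X ^ n - C π : A[X]) ^ (n - 1) := by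
      rw [← pow_succ', Nat.sub_add_cancel (by omega)]
    rw [map_mul, AdjoinRoot.algebraMap_eq, ← root_pow, hpow] at h3
    exact IsUnit.of_mul_eq_one (AdjoinRoot.root (X ^ n - C π : A[X]) ^ (n - 1) *
      AdjoinRoot.of (X ^ n - C π : A[X]) c * b) (by rw [← h3]; ring)
  have h5 : AdjoinRoot.root (X ^ n - C π : A[X]) ∈
      IsLocalRing.maximalIdeal (AdjoinRoot (X ^ n - C π : A[X])) := by
    rw [maximalIdeal_eq hπ hn]; exact Ideal.mem_span_singleton_self _
  exact h5 h4

include hπ hn in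
lemma isTotallyRamified : EtRam.IsTotallyRamified A
    ((algebraMap (AdjoinRoot (X ^ n - C π : A[X])) K₁).comp
      (algebraMap A (AdjoinRoot (X ^ n - C π : A[X])))) := by
  refine ⟨⟨V₀ π n K₁, dominates_V₀ hπ hn K₁⟩, fun V V' hV hV' => ?_, fun V hV y => ?_⟩
  · rw [eq_V₀ hπ hn K₁ V hV, eq_V₀ hπ hn K₁ V' hV']
  · obtain ⟨y, rfl⟩ := IsLocalRing.residue_surjective y
    have hy : (y : K₁) ∈ V₀ π n K₁ := by rw [← eq_V₀ hπ hn K₁ V hV]; exact y.2
    obtain ⟨z, hz⟩ := hy
    obtain ⟨a, w, rfl⟩ := exists_decomp z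
    refine ⟨a, ?_⟩
    symm
    change IsLocalRing.residue V y = IsLocalRing.residue V _
    rw [← sub_eq_zero, ← map_sub, IsLocalRing.residue_eq_zero_iff, V.valuation_lt_one_iff]
    have : ((y - RingHom.codRestrict _ V hV.1 a : V) : K₁) =
        algebraMap (AdjoinRoot (X ^ n - C π : A[X])) K₁ (AdjoinRoot.root _) *
          algebraMap (AdjoinRoot (X ^ n - C π : A[X])) K₁ w := by
      rw [AddSubgroupClass.coe_sub, ← hz, map_add, map_mul]
      change _ + _ - (algebraMap (AdjoinRoot (X ^ n - C π : A[X])) K₁)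
        (algebraMap A (AdjoinRoot (X ^ n - C π : A[X])) a) = _
      rw [AdjoinRoot.algebraMap_eq]
      ring
    rw [this, map_mul]
    exact mul_lt_one_of_nonneg_of_lt_one_left zero_le (val_root_lt hπ hn K₁ V hV)
        ((V.valuation_le_one_iff _).mpr (algebraMap_mem hπ hn K₁ V hV w))

end ram


end Groth.Agent.Lib.Helper9.EisDVR
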