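import Mathlib

set_option autoImplicit false
universe u

namespace Groth.Agent.Lib.Helper9.EndInv

open scoped nonZeroDivisors

variable {S : Type u} [CommRing S] {M : Type u} [AddCommGroup M] [Module S M]

/-- The trace ideal of `M`. -/
def tr (S : Type u) [CommRing S] (M : Type u) [AddCommGroup M] [Module S M] : Ideal S :=
  Ideal.span {a | ∃ (φ : Module.Dual S M) (m : M), φ m = a}

lemma mem_tr (φ : Module.Dual S M) (m : M) : φ m ∈ tr S M := Ideal.subset_span ⟨φ, m, rfl⟩

/-- Every linear form on the trace ideal of a reflexive module with `End = S` is a homothety. -/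
theorem hom_tr_eq_mul (heval : Function.Bijective (Module.Dual.eval S M))
    (hend : Function.Surjective (algebraMap S (Module.End S M)))
    (ψ : tr S M →ₗ[S] S) : ∃ s : S, ∀ a : tr S M, ψ a = s * a := by
  let u : M →ₗ[S] Module.Dual S (Module.Dual S M) :=
    { toFun := fun m =>
        { toFun := fun φ => ψ ⟨φ m, mem_tr φ m⟩
          map_add' := fun φ φ' => by
            rw [← map_add]; rfl
          map_smul' := fun c φ => by
            rw [RingHom.id_apply, ← map_smul]; rfl }
      map_add' := fun m m' => by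
        ext φ
        simp only [LinearMap.coe_mk, AddHom.coe_mk, LinearMap.add_apply]
        rw [← map_add]
        congr 1
        ext
        simp
      map_smul' := fun c m => by
        ext φ
        simp only [LinearMap.coe_mk, AddHom.coe_mk, LinearMap.smul_apply, RingHom.id_apply]
        rw [← map_smul]
        congr 1
        ext
        simp }
  let E := LinearEquiv.ofBijective (Module.Dual.eval S M) heval
  let e : Module.End S M := E.symm.toLinearMap ∘ₗ u
  obtain ⟨s, hs⟩ := hend e
  have key : ∀ (φ : Module.Dual S M) (m : M), ψ ⟨φ m, mem_tr φ m⟩ = s * φ m := by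
    intro φ m
    have h1 : Module.Dual.eval S M (e m) = u m := by
      show E (E.symm (u m)) = u m
      exact E.apply_symm_apply _
    have h2 : e m = s • m := by
      rw [← hs]; rfl
    have h3 := congrArg (fun ξ => ξ φ) h1
    simp only [Module.Dual.eval_apply] at h3
    rw [h2, map_smul, smul_eq_mul] at h3
    exact h3.symm
  refine ⟨s, fun a => ?_⟩
  obtain ⟨a, ha⟩ := a
  refine Submodule.span_induction (p := fun a ha => ψ ⟨a, ha⟩ = s * a) ?_ ?_ ?_ ?_ ha
  · rintro _ ⟨φ, m, rfl⟩
    exact key φ m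
  · have : (⟨0, zero_mem _⟩ : tr S M) = 0 := rfl
    rw [this, map_zero, mul_zero]
  · intro a b ha hb iha ihb
    have : (⟨a + b, add_mem ha hb⟩ : tr S M) = ⟨a, ha⟩ + ⟨b, hb⟩ := rfl
    rw [this, map_add, iha, ihb, mul_add]
  · intro c a ha iha
    have : (⟨c • a, Submodule.smul_mem _ c ha⟩ : tr S M) = c • ⟨a, ha⟩ := rfl
    rw [this, map_smul, iha, smul_eq_mul, smul_eq_mul]
    ring

/-- The trace ideal of a torsionless faithful module is faithful. -/
theorem ann_tr (hinj : Function.Injective (Module.Dual.eval S M))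
    (hend : Function.Injective (algebraMap S (Module.End S M))) (t : S)
    (ht : ∀ a ∈ tr S M, t * a = 0) : t = 0 := by
  apply hend
  rw [map_zero]
  ext m
  rw [Module.algebraMap_end_apply, LinearMap.zero_apply]
  apply hinj
  rw [map_zero]
  ext φ
  rw [Module.Dual.eval_apply, LinearMap.zero_apply, map_smul, smul_eq_mul]
  exact ht _ (mem_tr φ m)

/-- A faithful ideal of a Noetherian ring contains a nonzerodivisor. -/
theorem exists_nzd [IsNoetherianRing S] (I : Ideal S)
    (hI : ∀ t : S, (∀ a ∈ I, t * a = 0) → t = 0) : ∃ x ∈ I, x ∈ S⁰ := by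
  by_contra hcon
  push Not at hcon
  have hsub : (I : Set S) ⊆ ⋃ p ∈ associatedPrimes S S, (p : Set S) := by
    rw [biUnion_associatedPrimes_eq_compl_nonZeroDivisors]
    intro x hx
    exact hcon x hx
  have hfin := associatedPrimes.finite S S
  have hsub' : (I : Set S) ⊆ ⋃ p ∈ (hfin.toFinset : Set (Ideal S)), ((id p : Ideal S) : Set S) := by
    simpa using hsub
  obtain ⟨q, hq, hIq⟩ := (Ideal.subset_union_prime (s := hfin.toFinset) (f := id) ⊤ ⊤
    (fun i hi _ _ => by
      have : i ∈ associatedPrimes S S := by simpa using hi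
      exact this.isPrime)).1 hsub'
  have hq' : q ∈ associatedPrimes S S := by simpa using hq
  obtain ⟨hqp, t, ht⟩ := (isAssociatedPrime_iff).mp hq'
  have ht0 : t = 0 := by
    apply hI
    intro a ha
    have : a ∈ Submodule.colon (⊥ : Submodule S S) {t} := ht ▸ hIq ha
    rw [Submodule.mem_colon_singleton] at this
    rw [mul_comm]
    simpa using this
  apply hqp.ne_top
  rw [ht, ht0]
  ext a
  simp [Submodule.mem_colon_singleton]

/-- In a Noetherian ring of dimension `≤ 1`, an ideal containing a nonzerodivisor all of whose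
linear forms are homotheties is the unit ideal. -/
theorem eq_top_of_hom [IsNoetherianRing S] (hdim : ringKrullDim S ≤ 1) (I : Ideal S) (x : S)
    (hxI : x ∈ I) (hx : x ∈ S⁰)
    (hψ : ∀ ψ : I →ₗ[S] S, ∃ s : S, ∀ a : I, ψ a = s * a) : I = ⊤ := by
  by_contra hne
  obtain ⟨⟨P0, hP0⟩⟩ := Ideal.nonempty_minimalPrimes hne
  have hP0prime : P0.IsPrime := hP0.1.1
  have hIP0 : I ≤ P0 := hP0.1.2
  have hK : Ring.KrullDimLE 1 S := Ring.krullDimLE_iff.mpr hdim
  have hmin : P0 ∈ (Ideal.span {x}).minimalPrimes := by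
    refine ⟨⟨hP0prime, (Ideal.span_singleton_le_iff_mem _).2 (hIP0 hxI)⟩, fun Q hQ hQP => ?_⟩
    obtain ⟨hQp, hxQ⟩ := hQ
    rcases Ring.krullDimLE_one_iff.mp hK Q hQp with h | h
    · exfalso
      exact Set.disjoint_left.mp (Ideal.disjoint_nonZeroDivisors_of_mem_minimalPrimes h)
        ((Ideal.span_singleton_le_iff_mem _).1 hxQ) hx
    · exact (h.eq_of_le hP0prime.ne_top hQP).ge
  have hass : P0 ∈ associatedPrimes S (S ⧸ Ideal.span {x}) := by
    apply Module.associatedPrimes.minimalPrimes_annihilator_subset_associatedPrimes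
    rwa [Ideal.annihilator_quotient]
  obtain ⟨-, ybar, hy⟩ := (isAssociatedPrime_iff).mp hass
  obtain ⟨y, rfl⟩ := Ideal.Quotient.mk_surjective ybar
  have key : ∀ a, a ∈ P0 ↔ a * y ∈ Ideal.span {x} := by
    intro a
    rw [hy, Submodule.mem_colon_singleton, Submodule.mem_bot, ← Ideal.Quotient.eq_zero_iff_mem,
      map_mul]
    rfl
  have hy_not : y ∉ Ideal.span {x} := by
    intro h
    apply hP0prime.ne_top
    rw [Ideal.eq_top_iff_one, key, one_mul]
    exact h
  have hdiv : ∀ a : I, ∃ s, (a : S) * y = x * s := fun a => by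
    have := (key a).1 (hIP0 a.2)
    rw [Ideal.mem_span_singleton'] at this
    obtain ⟨s, hs⟩ := this
    exact ⟨s, by rw [← hs, mul_comm]⟩
  choose g hg using hdiv
  let ψ : I →ₗ[S] S :=
    { toFun := g
      map_add' := fun a b => by
        rw [← mul_cancel_left_mem_nonZeroDivisors hx, mul_add, ← hg, ← hg, ← hg]
        push_cast
        ring
      map_smul' := fun c a => by
        rw [← mul_cancel_left_mem_nonZeroDivisors hx, RingHom.id_apply, smul_eq_mul, ← hg]
        rw [mul_left_comm, ← hg]
        push_cast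
        rw [smul_eq_mul]
        ring }
  obtain ⟨s0, hs0⟩ := hψ ψ
  have h1 := hs0 ⟨x, hxI⟩
  have h2 := hg ⟨x, hxI⟩
  apply hy_not
  rw [Ideal.mem_span_singleton']
  refine ⟨s0, ?_⟩
  rw [← mul_cancel_left_mem_nonZeroDivisors hx]
  have h3 : g ⟨x, hxI⟩ = s0 * x := h1
  have h4 : x * y = x * g ⟨x, hxI⟩ := h2
  rw [h4, h3]

end Groth.Agent.Lib.Helper9.EndInv
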