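import Mathlib
import Groth.Agent.Lib.Helper9.EndInv1

set_option autoImplicit false
universe u

namespace Groth.Agent.Lib.Helper9.EndInv

open scoped nonZeroDivisors

variable {S : Type u} [CommRing S] {M : Type u} [AddCommGroup M] [Module S M]

/-- The trace ideal is the unit ideal. -/
theorem tr_eq_top [IsNoetherianRing S] (hdim : ringKrullDim S ≤ 1)
    (heval : Function.Bijective (Module.Dual.eval S M))
    (hend : Function.Bijective (algebraMap S (Module.End S M))) : tr S M = ⊤ := by
  obtain ⟨x, hxI, hx⟩ := exists_nzd (tr S M) (ann_tr heval.1 hend.1)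
  exact eq_top_of_hom hdim (tr S M) x hxI hx (hom_tr_eq_mul heval hend.2)

/-- Local freeness of rank one from `End = S` and a form `φ` with `φ m ∉ P`. -/
theorem locIso_of_form (hend : Function.Surjective (algebraMap S (Module.End S M)))
    (P : Ideal S) [P.IsPrime] (φ : Module.Dual S M) (m : M) (hu : φ m ∉ P) :
    Nonempty (LocalizedModule P.primeCompl M ≃ₗ[Localization.AtPrime P] Localization.AtPrime P) := by
  set u := φ m with hu_def
  let e : Module.End S M := φ.smulRight m
  obtain ⟨s, hs⟩ := hend e
  have hsz : ∀ z : M, φ z • m = s • z := by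
    intro z
    have : e z = s • z := by rw [← hs]; rfl
    rw [← this]
    rfl
  have hus : u * u = s * u := by
    have := congrArg φ (hsz m)
    rw [map_smul, map_smul, smul_eq_mul, smul_eq_mul] at this
    exact this
  have hsP : s ∉ P := by
    intro hsP
    have h1 : (u - s) * u = 0 := by rw [sub_mul, hus, sub_self]
    have h2 : (u - s) * u ∈ P := by rw [h1]; exact zero_mem _
    rcases Ideal.IsPrime.mem_or_mem inferInstance h2 with h | h
    · exact hu (by simpa using P.add_mem h hsP)
    · exact hu h
  let f : M →ₗ[S] Localization.AtPrime P := (Algebra.linearMap S (Localization.AtPrime P)) ∘ₗ φ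
  have hf : IsLocalizedModule P.primeCompl f := by
    refine ⟨fun t => IsLocalizedModule.map_units (Algebra.linearMap S (Localization.AtPrime P)) t,
      fun y => ?_, @fun z z' hzz' => ?_⟩
    · obtain ⟨⟨b, t⟩, hbt⟩ := IsLocalization.surj P.primeCompl y
      refine ⟨⟨b • m, ⟨t * u, P.primeCompl.mul_mem t.2 hu⟩⟩, ?_⟩
      show (t * u : S) • y = algebraMap S _ (φ (b • m))
      rw [map_smul, smul_eq_mul, Algebra.smul_def, map_mul, map_mul]
      simp only at hbt
      rw [mul_comm (algebraMap S _ (t : S)), mul_assoc, mul_comm (algebraMap S _ (t : S)), hbt]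
      ring
    · have h1 : algebraMap S (Localization.AtPrime P) (φ z) = algebraMap S _ (φ z') := hzz'
      obtain ⟨c, hc⟩ := (IsLocalization.eq_iff_exists P.primeCompl _).1 h1
      refine ⟨⟨s * c, P.primeCompl.mul_mem hsP c.2⟩, ?_⟩
      show (s * (c : S)) • z = (s * (c : S)) • z'
      rw [mul_smul, mul_smul, ← hsz, ← hsz, map_smul, map_smul, smul_eq_mul, smul_eq_mul, hc]
  exact ⟨LinearEquiv.extendScalarsOfIsLocalization P.primeCompl (Localization.AtPrime P)
    (IsLocalizedModule.iso P.primeCompl f)⟩

/-- `⇐` direction. -/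
theorem locIso_of_end [IsNoetherianRing S] (hdim : ringKrullDim S ≤ 1)
    (heval : Function.Bijective (Module.Dual.eval S M))
    (hend : Function.Bijective (algebraMap S (Module.End S M)))
    (P : Ideal S) [hP : P.IsPrime] :
    Nonempty (LocalizedModule P.primeCompl M ≃ₗ[Localization.AtPrime P] Localization.AtPrime P) := by
  have htop := tr_eq_top hdim heval hend
  have : ∃ (φ : Module.Dual S M) (m : M), φ m ∉ P := by
    by_contra hcon
    push Not at hcon
    apply hP.ne_top
    rw [eq_top_iff, ← htop]
    apply Ideal.span_le.2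
    rintro _ ⟨φ, m, rfl⟩
    exact hcon φ m
  obtain ⟨φ, m, hu⟩ := this
  exact locIso_of_form hend.2 P φ m hu

end Groth.Agent.Lib.Helper9.EndInv
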