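import Mathlib
import Groth.Agent.Lib.Helper9.EndInv2

set_option autoImplicit false
universe u

namespace Groth.Agent.Lib.Helper9.EndInv

variable {S : Type u} [CommRing S] {M : Type u} [AddCommGroup M] [Module S M]

/-- A local generator: from `M_P ≃ S_P` get `z : M` such that every element of `M` is, up to an
element outside `P`, a multiple of `z`. -/
theorem exists_local_gen (P : Ideal S) [P.IsPrime]
    (g : LocalizedModule P.primeCompl M ≃ₗ[Localization.AtPrime P] Localization.AtPrime P) :
    ∃ z : M, ∀ m : M, ∃ t ∈ P.primeCompl, t • m ∈ Submodule.span S {z} := by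
  obtain ⟨z, t0, hz⟩ : ∃ (z : M) (t0 : P.primeCompl), LocalizedModule.mk z t0 = g.symm 1 := by
    induction g.symm 1 using LocalizedModule.induction_on with
    | h z t0 => exact ⟨z, t0, rfl⟩
  refine ⟨z, fun m => ?_⟩
  obtain ⟨⟨b, t⟩, hbt⟩ := IsLocalization.surj P.primeCompl (g (LocalizedModule.mk m 1))
  simp only at hbt
  have h1 : (t : S) • LocalizedModule.mk m (1 : P.primeCompl) =
      b • LocalizedModule.mk z t0 := by
    apply g.injective
    rw [← algebraMap_smul (Localization.AtPrime P) (t : S), map_smul,
      ← algebraMap_smul (Localization.AtPrime P) b, map_smul, hz, g.apply_symm_apply,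
      smul_eq_mul, smul_eq_mul, mul_one, mul_comm, hbt]
  rw [LocalizedModule.smul'_mk, LocalizedModule.smul'_mk, LocalizedModule.mk_eq] at h1
  obtain ⟨c, hc⟩ := h1
  refine ⟨c * t0 * t, P.primeCompl.mul_mem (P.primeCompl.mul_mem c.2 t0.2) t.2, ?_⟩
  rw [Submodule.mem_span_singleton]
  refine ⟨c * b, ?_⟩
  rw [one_smul] at hc
  have : ((c : S) * t0 * t) • m = c • t0 • (t : S) • m := by
    rw [mul_smul, mul_smul]; rfl
  rw [this, hc, mul_smul]
  rfl

/-- Uniform version for finite modules. -/
theorem exists_local_gen_unif [Module.Finite S M] (P : Ideal S) [P.IsPrime]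
    (g : LocalizedModule P.primeCompl M ≃ₗ[Localization.AtPrime P] Localization.AtPrime P) :
    ∃ z : M, ∃ t ∈ P.primeCompl, ∀ m : M, t • m ∈ Submodule.span S {z} := by
  obtain ⟨z, hz⟩ := exists_local_gen P g
  refine ⟨z, ?_⟩
  let Q := M ⧸ Submodule.span S {z}
  have hsupp : (⟨P, inferInstance⟩ : PrimeSpectrum S) ∉ Module.support S Q := by
    rw [Module.notMem_support_iff']
    intro q
    obtain ⟨m, rfl⟩ := Submodule.mkQ_surjective _ q
    obtain ⟨t, ht, htm⟩ := hz m
    refine ⟨t, ht, ?_⟩
    rw [← map_smul]
    exact (Submodule.Quotient.mk_eq_zero _).2 htm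
  rw [Module.mem_support_iff_of_finite, SetLike.not_le_iff_exists] at hsupp
  obtain ⟨t, htann, htP⟩ := hsupp
  refine ⟨t, htP, fun m => ?_⟩
  have := Module.mem_annihilator.1 htann (Submodule.mkQ _ m)
  rw [← map_smul] at this
  exact (Submodule.Quotient.mk_eq_zero _).1 this

/-- `⇒` direction. -/
theorem end_bijective_of_locIso [Module.Finite S M]
    (h : ∀ (P : Ideal S) (_ : P.IsPrime),
        Nonempty (LocalizedModule P.primeCompl M ≃ₗ[Localization.AtPrime P]
          Localization.AtPrime P)) :
    Function.Bijective (algebraMap S (Module.End S M)) := by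
  constructor
  · rw [injective_iff_map_eq_zero]
    intro a ha
    by_contra ha0
    have ham : ∀ m : M, a • m = 0 := fun m => by
      have := congrArg (fun e : Module.End S M => e m) ha
      simpa using this
    let J : Ideal S := LinearMap.ker (LinearMap.toSpanSingleton S S a)
    have hJ : J ≠ ⊤ := by
      intro hJ
      have : (1 : S) ∈ J := by rw [hJ]; trivial
      rw [LinearMap.mem_ker, LinearMap.toSpanSingleton_apply, one_smul] at this
      exact ha0 this
    obtain ⟨P, hPmax, hJP⟩ := Ideal.exists_le_maximal J hJ
    have := hPmax.isPrime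
    obtain ⟨g⟩ := h P hPmax.isPrime
    obtain ⟨z, t0, hz⟩ : ∃ (z : M) (t0 : P.primeCompl), LocalizedModule.mk z t0 = g.symm 1 := by
      induction g.symm 1 using LocalizedModule.induction_on with
      | h z t0 => exact ⟨z, t0, rfl⟩
    have h1 : a • LocalizedModule.mk z t0 = 0 := by
      rw [LocalizedModule.smul'_mk, ham, LocalizedModule.zero_mk]
    have h2 : algebraMap S (Localization.AtPrime P) a = 0 := by
      have := congrArg g h1
      rw [← algebraMap_smul (Localization.AtPrime P) a, map_smul, hz, g.apply_symm_apply,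
        map_zero, smul_eq_mul, mul_one] at this
      exact this
    rw [IsLocalization.map_eq_zero_iff P.primeCompl] at h2
    obtain ⟨c, hc⟩ := h2
    have : (c : S) ∈ J := by
      rw [LinearMap.mem_ker, LinearMap.toSpanSingleton_apply, smul_eq_mul]
      exact hc
    exact c.2 (hJP this)
  · intro e
    let N : Submodule S (Module.End S M) := LinearMap.range (Algebra.linearMap S (Module.End S M))
    let J : Ideal S := N.colon {e}
    have hJtop : J = ⊤ := by
      by_contra hJ
      obtain ⟨P, hPmax, hJP⟩ := Ideal.exists_le_maximal J hJ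
      have := hPmax.isPrime
      obtain ⟨g⟩ := h P hPmax.isPrime
      obtain ⟨z, t1, ht1, hz⟩ := exists_local_gen_unif P g
      obtain ⟨a, ha⟩ := Submodule.mem_span_singleton.1 (hz (e z))
      have hmem : t1 * t1 ∈ J := by
        rw [Submodule.mem_colon_singleton]
        refine ⟨a * t1, ?_⟩
        ext m
        obtain ⟨b, hb⟩ := Submodule.mem_span_singleton.1 (hz m)
        show (a * t1) • m = (t1 * t1) • e m
        rw [mul_smul, mul_smul, ← map_smul e t1 m, ← hb, map_smul, smul_comm t1 b, ← ha,
          smul_comm a b]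
      exact (P.primeCompl.mul_mem ht1 ht1) (hJP hmem)
    have : (1 : S) ∈ J := by rw [hJtop]; trivial
    rw [Submodule.mem_colon_singleton, one_smul] at this
    obtain ⟨a, ha⟩ := this
    exact ⟨a, ha⟩

/-- S17990 in general form: over a Noetherian ring of dimension `≤ 1`, a finite reflexive module is
locally free of rank one iff `S → End_S(M)` is bijective. -/
theorem main [IsNoetherianRing S] (hdim : ringKrullDim S ≤ 1) [Module.Finite S M]
    [Module.IsReflexive S M] :
    (∀ (P : Ideal S) (_ : P.IsPrime),
        Nonempty (LocalizedModule P.primeCompl M ≃ₗ[Localization.AtPrime P]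
          Localization.AtPrime P)) ↔
      Function.Bijective (algebraMap S (Module.End S M)) := by
  constructor
  · exact end_bijective_of_locIso
  · intro hend P hP
    exact locIso_of_end hdim (Module.IsReflexive.bijective_dual_eval') hend P

end Groth.Agent.Lib.Helper9.EndInv
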