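import Mathlib
import Groth.Agent.Lib.Helper9.JacobianPt

/-! `R[X_1..X_n]/(f_1..f_n)` is étale (and quasi-finite) over `R` at every prime where the Jacobian determinant
does not vanish. -/

set_option autoImplicit false
universe u

namespace Groth.Agent.Lib.Helper9.EtalePt

open TensorProduct KaehlerDifferential MvPolynomial
open Groth.Agent.Lib.Helper9

variable {R : Type u} [CommRing R] (n : ℕ) (f : Fin n → MvPolynomial (Fin n) R)

/-- the ideal `(f_1, …, f_n)` -/
noncomputable abbrev II : Ideal (MvPolynomial (Fin n) R) := Ideal.span (Set.range f)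

/-- Jacobian matrix -/
noncomputable def jac : Matrix (Fin n) (Fin n) (MvPolynomial (Fin n) R) :=
  Matrix.of fun i j => pderiv j (f i)

instance : Algebra.Smooth R (MvPolynomial (Fin n) R) := {}

section smooth

variable (P : Ideal (MvPolynomial (Fin n) R ⧸ II n f)) [P.IsPrime]
  (hdet : Ideal.Quotient.mk (II n f) (jac n f).det ∉ P)

include hdet in
theorem linearIndependent_D :
    LinearIndependent (JacobianPt.qq (II n f) P).ResidueField
      (fun i : Fin n => (1 : (JacobianPt.qq (II n f) P).ResidueField) ⊗ₜ[MvPolynomial (Fin n) R]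
        D R (MvPolynomial (Fin n) R) (f i)) := by
  classical
  set q := JacobianPt.qq (II n f) P
  set κ := q.ResidueField
  let b' := (mvPolynomialBasis R (Fin n)).baseChange κ
  have hM : IsUnit ((jac n f).map (algebraMap (MvPolynomial (Fin n) R) κ)) := by
    rw [Matrix.isUnit_iff_isUnit_det, ← RingHom.mapMatrix_apply, ← RingHom.map_det,
      isUnit_iff_ne_zero, Ne, Ideal.algebraMap_residueField_eq_zero]
    exact hdet
  have := Matrix.linearIndependent_rows_iff_isUnit.mpr hM
  apply LinearIndependent.of_comp b'.equivFun.toLinearMap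
  convert this using 1
  ext i j
  simp [b', Matrix.row, jac, Algebra.smul_def]

include hdet in
theorem isSmoothAt [IsNoetherianRing R] : Algebra.IsSmoothAt R P := by
  classical
  rw [JacobianPt.isSmoothAt_iff]
  have hli := linearIndependent_D n f P hdet
  refine ⟨Finset.univ.image f, ?_, ?_, ?_⟩
  · intro g hg
    obtain ⟨i, -, rfl⟩ := Finset.mem_image.mp hg
    exact Ideal.subset_span ⟨i, rfl⟩
  · rw [Ideal.map_span]
    congr 2
    ext g
    simp
  · have hex : ∀ g : ↥(Finset.univ.image f), ∃ i, f i = g.1 := by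
      intro g
      obtain ⟨i, -, hi⟩ := Finset.mem_image.mp g.2
      exact ⟨i, hi⟩
    choose r hr using hex
    have hr_inj : Function.Injective r := by
      intro g g' h
      apply Subtype.ext
      rw [← hr g, ← hr g', h]
    have h1 := hli.comp r hr_inj
    have hfun : ((fun i : Fin n => (1 : (JacobianPt.qq (II n f) P).ResidueField) ⊗ₜ[MvPolynomial (Fin n) R]
        D R (MvPolynomial (Fin n) R) (f i)) ∘ r) = fun g : ↥(Finset.univ.image f) =>
        (1 : (JacobianPt.qq (II n f) P).ResidueField) ⊗ₜ[MvPolynomial (Fin n) R]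
          D R (MvPolynomial (Fin n) R) (g : MvPolynomial (Fin n) R) := by
      funext g
      simp only [Function.comp_apply, hr]
    rw [hfun] at h1
    exact h1

end smooth

section unram

variable (P : Ideal (MvPolynomial (Fin n) R ⧸ II n f)) [P.IsPrime]
  (hdet : Ideal.Quotient.mk (II n f) (jac n f).det ∉ P)

local notation "B" => MvPolynomial (Fin n) R ⧸ II n f

/-- chain rule in `Ω[B⁄R]` -/
theorem D_mk (a : MvPolynomial (Fin n) R) :
    D R B (Ideal.Quotient.mk _ a) =
      ∑ j, Ideal.Quotient.mk (II n f) (pderiv j a) • D R B (Ideal.Quotient.mk _ (X j)) := by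
  have h1 : D R (MvPolynomial (Fin n) R) a = ∑ j, pderiv j a • D R (MvPolynomial (Fin n) R) (X j) := by
    have := (mvPolynomialBasis R (Fin n)).sum_repr (D R (MvPolynomial (Fin n) R) a)
    simpa using this.symm
  have h2 := congrArg (KaehlerDifferential.map R R (MvPolynomial (Fin n) R) B) h1
  rw [KaehlerDifferential.map_D, map_sum] at h2
  rw [show Ideal.Quotient.mk (II n f) a = algebraMap (MvPolynomial (Fin n) R) B a from rfl, h2]
  refine Finset.sum_congr rfl fun j _ => ?_
  rw [LinearMap.map_smul, KaehlerDifferential.map_D, ← algebraMap_smul B (pderiv j a)]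
  rfl

omit [P.IsPrime] in
theorem tmul_smul_eq {κ : Type*} [CommRing κ] [Algebra B κ] (c : κ) (b : B) (y : Ω[B⁄R]) :
    c ⊗ₜ[B] (b • y) = (algebraMap B κ b * c) • ((1 : κ) ⊗ₜ[B] y) := by
  have h1 : c ⊗ₜ[B] (b • y) = (b • c) ⊗ₜ[B] y := (TensorProduct.smul_tmul b c y).symm
  rw [h1, TensorProduct.smul_tmul', smul_eq_mul, mul_one, Algebra.smul_def]

include hdet in
theorem subsingleton_fibre : Subsingleton (P.ResidueField ⊗[B] Ω[B⁄R]) := by
  classical
  set κ := P.ResidueField
  let t : Fin n → κ ⊗[B] Ω[B⁄R] := fun j => 1 ⊗ₜ D R B (Ideal.Quotient.mk _ (X j))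
  let M : Matrix (Fin n) (Fin n) κ :=
    (jac n f).map (fun a => algebraMap B κ (Ideal.Quotient.mk _ a))
  have hMt : ∀ i, ∑ j, M i j • t j = 0 := by
    intro i
    have h0 : D R B (Ideal.Quotient.mk _ (f i)) = 0 := by
      rw [Ideal.Quotient.eq_zero_iff_mem.mpr (Ideal.subset_span (Set.mem_range_self i)), map_zero]
    have h1 := congrArg (fun x => (1 : κ) ⊗ₜ[B] x) (D_mk n f (f i))
    simp only [h0, TensorProduct.tmul_zero, TensorProduct.tmul_sum] at h1
    rw [h1]
    refine Finset.sum_congr rfl fun j _ => ?_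
    simp only [M, t, jac, Matrix.map_apply, Matrix.of_apply]
    rw [tmul_smul_eq, mul_one]
  have hMunit : IsUnit M := by
    rw [Matrix.isUnit_iff_isUnit_det]
    have : M = ((algebraMap B κ).comp (Ideal.Quotient.mk (II n f))).mapMatrix (jac n f) := rfl
    rw [this, ← RingHom.map_det, isUnit_iff_ne_zero, Ne, RingHom.comp_apply,
      Ideal.algebraMap_residueField_eq_zero]
    exact hdet
  have ht : ∀ j, t j = 0 := by
    obtain ⟨N, hN⟩ : ∃ N : Matrix (Fin n) (Fin n) κ, N * M = 1 :=
      ⟨M⁻¹, Matrix.nonsing_inv_mul M ((Matrix.isUnit_iff_isUnit_det M).mp hMunit)⟩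
    intro k
    calc t k = ∑ j, (1 : Matrix (Fin n) (Fin n) κ) k j • t j := by
          simp [Matrix.one_apply, ite_smul]
      _ = ∑ j, (∑ i, N k i * M i j) • t j := by rw [← hN]; simp [Matrix.mul_apply]
      _ = ∑ i, N k i • ∑ j, M i j • t j := by
          simp only [Finset.sum_smul, Finset.smul_sum, mul_smul]
          rw [Finset.sum_comm]
      _ = 0 := by simp [hMt]
  refine ⟨fun z z' => ?_⟩
  suffices h : ∀ z : κ ⊗[B] Ω[B⁄R], z = 0 by rw [h z, h z']
  intro z
  induction z using TensorProduct.induction_on with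
  | zero => rfl
  | add x y hx hy => rw [hx, hy, add_zero]
  | tmul c m =>
    have hm : m ∈ Submodule.span B (Set.range (D R B)) :=
      KaehlerDifferential.span_range_derivation R B ▸ Submodule.mem_top
    induction hm using Submodule.span_induction generalizing c with
    | mem x hx =>
      obtain ⟨b, rfl⟩ := hx
      obtain ⟨a, rfl⟩ := Ideal.Quotient.mk_surjective b
      rw [D_mk, TensorProduct.tmul_sum]
      refine Finset.sum_eq_zero fun j _ => ?_
      rw [tmul_smul_eq]
      change _ • t j = 0
      rw [ht, smul_zero]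
    | zero => simp
    | add x y _ _ hx hy => rw [TensorProduct.tmul_add, hx, hy, add_zero]
    | smul r x _ hx =>
      rw [← TensorProduct.smul_tmul]
      exact hx _

include hdet in
theorem isUnramifiedAt : Algebra.IsUnramifiedAt R P := by
  have h1 : (⟨P, inferInstance⟩ : PrimeSpectrum B) ∉ Module.support B Ω[B⁄R] := by
    rw [Module.mem_support_iff_nontrivial_residueField_tensorProduct, not_nontrivial_iff_subsingleton]
    exact subsingleton_fibre n f P hdet
  have h2 : (⟨P, inferInstance⟩ : PrimeSpectrum B) ∈ Algebra.unramifiedLocus R B := by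
    rw [Algebra.unramifiedLocus_eq_compl_support]
    exact h1
  exact h2

include hdet in
/-- `R[X_1..X_n]/(f_1..f_n)` is étale over `R` at primes where the Jacobian determinant does not vanish. -/
theorem isEtaleAt [IsNoetherianRing R] : Algebra.IsEtaleAt R P := by
  have h1 : Algebra.FormallyUnramified R (Localization.AtPrime P) := isUnramifiedAt n f P hdet
  have h2 : Algebra.FormallySmooth R (Localization.AtPrime P) := isSmoothAt n f P hdet
  exact Algebra.FormallyEtale.iff_formallyUnramified_and_formallySmooth.mpr ⟨h1, h2⟩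

include hdet in
theorem quasiFiniteAt : Algebra.QuasiFiniteAt R P := by
  have h1 : Algebra.FormallyUnramified R (Localization.AtPrime P) := isUnramifiedAt n f P hdet
  change Algebra.QuasiFinite R (Localization.AtPrime P)
  infer_instance

end unram

end Groth.Agent.Lib.Helper9.EtalePt
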