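import Mathlib
import Groth.Prelude.Def_EGA4b
import Groth.Agent.Lib.Helper4.ExcFin2
import Groth.Agent.Lib.Helper18.Exc
import Groth.Agent.Lib.Helper18.PMor2
import Groth.Agent.Lib.Helper18.FibBridge
import Groth.Agent.Lib.Helper15.ResFieldExt
import Groth.Agent.Lib.Helper9.FFib

set_option autoImplicit false
set_option linter.unusedSectionVars false
set_option linter.style.haveILetI false
universe u
open IsLocalRing TensorProduct

namespace Groth.Agent.Lib.Helper9.FFib4

open Groth.Agent.Lib.Helper23.GenericFormalFibre Groth.Agent.Lib.Helper9.FFib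

/-- local-global principle for regularity along a base ring. -/
theorem isRegularRing_of_local {T X : Type u} [CommRing T] [CommRing X] [Algebra T X]
    [IsNoetherianRing X]
    (h : ∀ (𝔓 : Ideal X) [𝔓.IsPrime], ∃ (N : Ideal T) (_ : N.IsPrime),
      𝔓.comap (algebraMap T X) ≤ N ∧ IsRegularRing (X ⊗[T] Localization.AtPrime N)) :
    IsRegularRing X := by
  rw [isRegularRing_iff]
  intro 𝔓 h𝔓
  obtain ⟨N, hN, hle, hreg⟩ := h 𝔓
  refine isRegularLocalRing_atPrime_of_isLocalization (S := X)
    (T := X ⊗[T] Localization.AtPrime N)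
    (Algebra.algebraMapSubmonoid X N.primeCompl) 𝔓 ?_
  rw [Set.disjoint_left]
  rintro x ⟨t, ht, rfl⟩ hx
  exact ht (hle hx)

set_option maxHeartbeats 800000 in
set_option synthInstance.maxHeartbeats 100000 in
theorem chain_rev (A B C Ah D Ch L : Type u) [CommRing A] [CommRing B] [CommRing C] [CommRing Ah]
    [CommRing D] [CommRing Ch] [CommRing L]
    [Algebra A B] [Algebra A Ah] [Algebra B C]
    (S : Submonoid B) [IsLocalization S C] (M : Submonoid (B ⊗[A] Ah))
    [Algebra (B ⊗[A] Ah) D] [IsLocalization M D] [Algebra B D] [IsScalarTower B (B ⊗[A] Ah) D]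
    [Algebra C D] [IsScalarTower B C D] [Algebra C Ch] (eA : Ch ≃ₐ[C] D)
    [Algebra C L] [Algebra B L] [IsScalarTower B C L]
    (h : IsRegularRing (L ⊗[C] Ch)) :
    IsRegularRing (((B ⊗[A] Ah) ⊗[B] L) ⊗[B ⊗[A] Ah] D) := by
  have hZ'' : IsRegularRing (L ⊗[C] D) :=
    reg_of_equiv (Algebra.TensorProduct.congr (AlgEquiv.refl (R := C) (A₁ := L))
      eA).toRingEquiv h
  have hZ' : IsRegularRing (L ⊗[B] D) :=
    reg_of_equiv (IsLocalization.algebraTensorEquiv S C L D).toRingEquiv hZ''
  have hZ : IsRegularRing (D ⊗[B] L) :=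
    reg_of_equiv (Algebra.TensorProduct.comm B L D).toRingEquiv hZ'
  have hY' : IsRegularRing (D ⊗[B ⊗[A] Ah] ((B ⊗[A] Ah) ⊗[B] L)) :=
    reg_of_equiv (Algebra.TensorProduct.cancelBaseChange B (B ⊗[A] Ah) D D L).symm.toRingEquiv hZ
  exact reg_of_equiv (Algebra.TensorProduct.comm (B ⊗[A] Ah) D ((B ⊗[A] Ah) ⊗[B] L)).toRingEquiv hY'

set_option maxHeartbeats 800000 in
set_option synthInstance.maxHeartbeats 100000 in
theorem chain_fwd2 (A B Ah L : Type u) [CommRing A] [CommRing B] [CommRing Ah] [CommRing L]
    [Algebra A B] [Algebra A Ah] [Algebra B L] [Algebra A L] [IsScalarTower A B L]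
    (h : IsRegularRing ((B ⊗[A] Ah) ⊗[B] L)) : IsRegularRing (L ⊗[A] Ah) := by
  have hW : IsRegularRing (L ⊗[B] (B ⊗[A] Ah)) :=
    reg_of_equiv (Algebra.TensorProduct.comm B (B ⊗[A] Ah) L).toRingEquiv h
  exact reg_of_equiv (Algebra.TensorProduct.cancelBaseChange A B L L Ah).toRingEquiv hW

set_option maxHeartbeats 800000 in
set_option synthInstance.maxHeartbeats 100000 in
theorem noeth_rev (A B Ah L : Type u) [CommRing A] [CommRing B] [CommRing Ah] [CommRing L]
    [Algebra A B] [Algebra A Ah] [Algebra B L] [Algebra A L] [IsScalarTower A B L]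
    (h : IsNoetherianRing (L ⊗[A] Ah)) : IsNoetherianRing ((B ⊗[A] Ah) ⊗[B] L) := by
  have hW : IsNoetherianRing (L ⊗[B] (B ⊗[A] Ah)) :=
    isNoetherianRing_of_ringEquiv _
      (Algebra.TensorProduct.cancelBaseChange A B L L Ah).symm.toRingEquiv
  exact isNoetherianRing_of_ringEquiv _ (Algebra.TensorProduct.comm B L (B ⊗[A] Ah)).toRingEquiv


set_option maxHeartbeats 3200000 in
set_option synthInstance.maxHeartbeats 200000 in
theorem key {S A B L : Type u} [CommRing S] [CommRing A] [CommRing B] [Field L]
    [Algebra A B] [Algebra S B] (M₀ : Submonoid S) [IsLocalization M₀ B]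
    [IsLocalRing A] [IsNoetherianRing A] [Module.Finite A B]
    [Algebra B L] [Algebra S L] [Algebra A L] [IsScalarTower S B L] [IsScalarTower A B L]
    (hgen : ∀ z : L, ∃ a b : S, algebraMap S L b ≠ 0 ∧ z * algebraMap S L b = algebraMap S L a)
    (hNoeth : IsNoetherianRing (L ⊗[A] AdicCompletion (maximalIdeal A) A))
    (H : ∀ (q : Ideal S) [q.IsPrime] (p : Ideal (Localization.AtPrime q)) [p.IsPrime],
      IsRegularRing (EGA4.formalFibre (Localization.AtPrime q) p)) :
    IsRegularRing (L ⊗[A] AdicCompletion (maximalIdeal A) A) := by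
  classical
  haveI hXN := noeth_rev A B (AdicCompletion (maximalIdeal A) A) L hNoeth
  refine chain_fwd2 A B (AdicCompletion (maximalIdeal A) A) L ?_
  refine isRegularRing_of_local (T := B ⊗[A] AdicCompletion (maximalIdeal A) A) fun 𝔓 h𝔓 => ?_
  obtain ⟨N, hNmax, hN'⟩ := Ideal.exists_le_maximal
    (𝔓.comap (algebraMap (B ⊗[A] AdicCompletion (maximalIdeal A) A)
      ((B ⊗[A] AdicCompletion (maximalIdeal A) A) ⊗[B] L))) (Ideal.IsPrime.ne_top inferInstance)
  obtain ⟨n, hn_def⟩ : ∃ n : Ideal B,
      n = N.comap (algebraMap B (B ⊗[A] AdicCompletion (maximalIdeal A) A)) := ⟨_, rfl⟩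
  haveI hnprime : n.IsPrime := hn_def ▸ Ideal.comap_isPrime _ N
  have hn : maximalIdeal A ≤ n.comap (algebraMap A B) := by
    letI := Algebra.TensorProduct.rightAlgebra (R := A) (A := B)
      (B := AdicCompletion (maximalIdeal A) A)
    haveI := Groth.Agent.Lib.Helper4.ExcFin.finite_right' (A := A) (B := B)
    haveI : Algebra.IsIntegral (AdicCompletion (maximalIdeal A) A)
      (B ⊗[A] AdicCompletion (maximalIdeal A) A) := Algebra.IsIntegral.of_finite _ _
    have h1 : (N.comap (algebraMap (AdicCompletion (maximalIdeal A) A)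
        (B ⊗[A] AdicCompletion (maximalIdeal A) A))).IsMaximal :=
      Ideal.isMaximal_comap_of_isIntegral_of_isMaximal N
    have h2 := IsLocalRing.eq_maximalIdeal h1
    intro a ha
    rw [Ideal.mem_comap, hn_def, Ideal.mem_comap]
    have h3 : algebraMap A (AdicCompletion (maximalIdeal A) A) a ∈
        maximalIdeal (AdicCompletion (maximalIdeal A) A) := by
      rw [mem_maximalIdeal, mem_nonunits_iff]
      intro hu
      exact ha (isUnit_of_map_unit _ a hu)
    rw [← h2, Ideal.mem_comap] at h3
    have h4 : algebraMap B (B ⊗[A] AdicCompletion (maximalIdeal A) A) (algebraMap A B a) =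
        algebraMap (AdicCompletion (maximalIdeal A) A) (B ⊗[A] AdicCompletion (maximalIdeal A) A)
          (algebraMap A (AdicCompletion (maximalIdeal A) A) a) := by
      rw [← IsScalarTower.algebraMap_apply A B, ← IsScalarTower.algebraMap_apply A
        (AdicCompletion (maximalIdeal A) A)]
    rw [h4]
    exact h3
  haveI hBint : Algebra.IsIntegral A B := Algebra.IsIntegral.of_finite _ _
  haveI hnmax : n.IsMaximal := by
    have h1 : n.comap (algebraMap A B) = maximalIdeal A :=
      le_antisymm (IsLocalRing.le_maximalIdeal (Ideal.IsPrime.ne_top inferInstance)) hn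
    have h2 : (n.comap (algebraMap A B)).IsMaximal := h1 ▸ inferInstance
    exact Ideal.isMaximal_of_isIntegral_of_isMaximal_comap n h2
  have hNeq : N = n.map (algebraMap B (B ⊗[A] AdicCompletion (maximalIdeal A) A)) := by
    have hmax := isMaximal_map n hn
    have hle : n.map (algebraMap B (B ⊗[A] AdicCompletion (maximalIdeal A) A)) ≤ N := by
      rw [hn_def]; exact Ideal.map_comap_le
    exact (hmax.eq_of_le hNmax.ne_top hle).symm
  subst hNeq
  -- the prime of `S`
  obtain ⟨n', hn'_def⟩ : ∃ n' : Ideal S, n' = n.comap (algebraMap S B) := ⟨_, rfl⟩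
  haveI hn'prime : n'.IsPrime := hn'_def ▸ Ideal.comap_isPrime _ n
  have hM₀le : M₀ ≤ n'.primeCompl := by
    intro y hy hy'
    have h1 : algebraMap S B y ∈ n := by rw [hn'_def] at hy'; exact hy'
    exact hnprime.ne_top (Ideal.eq_top_of_isUnit_mem _ h1 (IsLocalization.map_units B ⟨y, hy⟩))
  have hunits : ∀ y : M₀, IsUnit (algebraMap S (Localization.AtPrime n') y) := fun y =>
    IsLocalization.map_units (M := n'.primeCompl) _ ⟨y, hM₀le y.2⟩
  letI algBC : Algebra B (Localization.AtPrime n') :=
    (IsLocalization.lift (M := M₀) hunits).toAlgebra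
  haveI towSBC : IsScalarTower S B (Localization.AtPrime n') :=
    IsScalarTower.of_algebraMap_eq (fun s => (IsLocalization.lift_eq hunits s).symm)
  haveI hlocC : IsLocalization.AtPrime (Localization.AtPrime n') n := by
    haveI h1 : IsLocalization (n'.primeCompl.map (algebraMap S B)) (Localization.AtPrime n') :=
      IsLocalization.isLocalization_of_submonoid_le B (Localization.AtPrime n') M₀ n'.primeCompl
        hM₀le
    refine IsLocalization.isLocalization_of_is_exists_mul_mem (Localization.AtPrime n')
      (n'.primeCompl.map (algebraMap S B)) n.primeCompl ?_ ?_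
    · rintro _ ⟨s, hs, rfl⟩ hs'
      apply hs
      rw [hn'_def]
      exact hs'
    · intro x
      obtain ⟨⟨s, t⟩, hst⟩ := IsLocalization.surj M₀ (x : B)
      refine ⟨algebraMap S B t, s, ?_, ?_⟩
      · intro hs
        have h2 : algebraMap S B s ∈ n := by rw [hn'_def] at hs; exact hs
        rw [← hst] at h2
        rcases hnprime.mem_or_mem h2 with h3 | h3
        · exact x.2 h3
        · exact hnprime.ne_top (Ideal.eq_top_of_isUnit_mem _ h3 (IsLocalization.map_units B t))
      · rw [← hst, mul_comm]
  letI algAC : Algebra A (Localization.AtPrime n') :=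
    ((algebraMap B (Localization.AtPrime n')).comp (algebraMap A B)).toAlgebra
  haveI towABC : IsScalarTower A B (Localization.AtPrime n') :=
    IsScalarTower.of_algebraMap_eq (fun _ => rfl)
  -- the completion of `C` as a localization of `B ⊗ Â`
  have hcomap := comap_map n hn
  have hres : ∀ x : B ⊗[A] AdicCompletion (maximalIdeal A) A, ∃ b : B,
      x - algebraMap B _ b ∈ n.map (algebraMap B (B ⊗[A] AdicCompletion (maximalIdeal A) A)) :=
    fun x => exists_sub_mem n hn x
  have hTnoeth : IsNoetherianRing (B ⊗[A] AdicCompletion (maximalIdeal A) A) :=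
    letI := Algebra.TensorProduct.rightAlgebra (R := A) (A := B)
      (B := AdicCompletion (maximalIdeal A) A)
    haveI := Groth.Agent.Lib.Helper4.ExcFin.finite_right' (A := A) (B := B)
    IsNoetherianRing.of_finite (AdicCompletion (maximalIdeal A) A) _
  obtain ⟨hDnoeth, hDcomp⟩ :=
    letI := Algebra.TensorProduct.rightAlgebra (R := A) (A := B)
      (B := AdicCompletion (maximalIdeal A) A)
    haveI := Groth.Agent.Lib.Helper4.ExcFin.finite_right' (A := A) (B := B)
    complete_of_finite (AdicCompletion (maximalIdeal A) A)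
      (B ⊗[A] AdicCompletion (maximalIdeal A) A)
      (n.map (algebraMap B (B ⊗[A] AdicCompletion (maximalIdeal A) A)))
  have hBN : IsNoetherianRing B := IsNoetherianRing.of_finite A B
  have hCN : IsNoetherianRing (Localization.AtPrime n') :=
    IsLocalization.isNoetherianRing n.primeCompl _ inferInstance
  obtain ⟨e, he⟩ := exists_equiv (C := Localization.AtPrime n') (D := Localization.AtPrime
    (n.map (algebraMap B (B ⊗[A] AdicCompletion (maximalIdeal A) A)))) n
    (n.map (algebraMap B (B ⊗[A] AdicCompletion (maximalIdeal A) A))) rfl hcomap hres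
  let _ : Algebra (Localization.AtPrime n') (Localization.AtPrime
      (n.map (algebraMap B (B ⊗[A] AdicCompletion (maximalIdeal A) A)))) :=
    (phi (C := Localization.AtPrime n') (D := Localization.AtPrime
      (n.map (algebraMap B (B ⊗[A] AdicCompletion (maximalIdeal A) A)))) n
      (n.map (algebraMap B (B ⊗[A] AdicCompletion (maximalIdeal A) A))) hcomap).toAlgebra
  have htow2 : IsScalarTower B (Localization.AtPrime n') (Localization.AtPrime
      (n.map (algebraMap B (B ⊗[A] AdicCompletion (maximalIdeal A) A)))) :=
    by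
    refine IsScalarTower.of_algebraMap_eq (fun b => ?_)
    rw [IsScalarTower.algebraMap_apply B (B ⊗[A] AdicCompletion (maximalIdeal A) A)]
    exact (phi_algebraMap (C := Localization.AtPrime n') (D := Localization.AtPrime
      (n.map (algebraMap B (B ⊗[A] AdicCompletion (maximalIdeal A) A)))) n
      (n.map (algebraMap B (B ⊗[A] AdicCompletion (maximalIdeal A) A))) hcomap b).symm
  have hcomm : ∀ c : Localization.AtPrime n',
      e (algebraMap (Localization.AtPrime n')
        (AdicCompletion (maximalIdeal (Localization.AtPrime n')) (Localization.AtPrime n')) c) =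
      algebraMap (Localization.AtPrime n') (Localization.AtPrime
        (n.map (algebraMap B (B ⊗[A] AdicCompletion (maximalIdeal A) A)))) c := by
    have h1 : (e.toRingHom.comp (algebraMap (Localization.AtPrime n')
        (AdicCompletion (maximalIdeal (Localization.AtPrime n')) (Localization.AtPrime n')))) =
        algebraMap (Localization.AtPrime n') (Localization.AtPrime
          (n.map (algebraMap B (B ⊗[A] AdicCompletion (maximalIdeal A) A)))) := by
      refine IsLocalization.ringHom_ext n.primeCompl ?_
      ext b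
      simp only [RingHom.comp_apply]
      rw [← IsScalarTower.algebraMap_apply B (Localization.AtPrime n') (Localization.AtPrime
        (n.map (algebraMap B (B ⊗[A] AdicCompletion (maximalIdeal A) A)))),
        IsScalarTower.algebraMap_apply B (B ⊗[A] AdicCompletion (maximalIdeal A) A)
          (Localization.AtPrime
            (n.map (algebraMap B (B ⊗[A] AdicCompletion (maximalIdeal A) A))))]
      exact he b
    exact fun c => congrArg (fun φ => φ c) h1
  let eA : AdicCompletion (maximalIdeal (Localization.AtPrime n')) (Localization.AtPrime n')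
      ≃ₐ[Localization.AtPrime n'] Localization.AtPrime
      (n.map (algebraMap B (B ⊗[A] AdicCompletion (maximalIdeal A) A))) :=
    AlgEquiv.ofRingEquiv (f := e) hcomm
  -- `L` as a `C`-algebra
  have hkerle : ∀ y : S, algebraMap S L y = 0 → y ∈ n' := by
    intro y hy
    rw [hn'_def, Ideal.mem_comap, hn_def, Ideal.mem_comap]
    apply hN'
    rw [Ideal.mem_comap]
    convert Ideal.zero_mem 𝔓 using 1
    rw [Algebra.TensorProduct.algebraMap_apply, Algebra.algebraMap_self, RingHom.id_apply,
      Algebra.algebraMap_eq_smul_one (algebraMap S B y), TensorProduct.smul_tmul,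
      ← Algebra.algebraMap_eq_smul_one, ← IsScalarTower.algebraMap_apply S B L, hy,
      TensorProduct.tmul_zero]
  have hunitsL : ∀ y : n'.primeCompl, IsUnit (algebraMap S L y) := by
    intro y
    rw [isUnit_iff_ne_zero]
    intro h0
    exact y.2 (hkerle y h0)
  letI algCL : Algebra (Localization.AtPrime n') L :=
    (IsLocalization.lift (M := n'.primeCompl) hunitsL).toAlgebra
  haveI towSCL : IsScalarTower S (Localization.AtPrime n') L :=
    IsScalarTower.of_algebraMap_eq (fun s => (IsLocalization.lift_eq hunitsL s).symm)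
  haveI towBCL : IsScalarTower B (Localization.AtPrime n') L := by
    refine IsScalarTower.of_algebraMap_eq' ?_
    refine IsLocalization.ringHom_ext M₀ (RingHom.ext fun s => ?_)
    simp only [RingHom.comp_apply]
    rw [← IsScalarTower.algebraMap_apply S B L, ← IsScalarTower.algebraMap_apply S B
      (Localization.AtPrime n'), ← IsScalarTower.algebraMap_apply S (Localization.AtPrime n') L]
  -- the prime of `C`
  obtain ⟨p, hp_def⟩ : ∃ p : Ideal (Localization.AtPrime n'),
      p = RingHom.ker (algebraMap (Localization.AtPrime n') L) := ⟨_, rfl⟩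
  haveI hpprime : p.IsPrime := hp_def ▸ RingHom.ker_isPrime _
  have hreg := H n' p
  have hp2 : p.primeCompl ≤ (IsUnit.submonoid L).comap
      (Algebra.ofId (Localization.AtPrime n') L) := by
    intro c hc
    show IsUnit (algebraMap (Localization.AtPrime n') L c)
    rw [isUnit_iff_ne_zero]
    intro h0
    apply hc
    rw [hp_def]
    exact RingHom.mem_ker.mpr h0
  let ψ : p.ResidueField →ₐ[Localization.AtPrime n'] L :=
    Ideal.ResidueField.liftₐ p (Algebra.ofId (Localization.AtPrime n') L) (by rw [hp_def]; exact le_rfl) hp2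
  have hψ : ∀ c : Localization.AtPrime n', ψ (algebraMap _ _ c) =
      algebraMap (Localization.AtPrime n') L c := fun c =>
    Ideal.ResidueField.liftₐ_algebraMap p _ _ hp2 c
  have hψbij : Function.Bijective ψ := by
    refine ⟨ψ.toRingHom.injective, fun z => ?_⟩
    obtain ⟨a, b, hb, hab⟩ := hgen z
    refine ⟨algebraMap (Localization.AtPrime n') p.ResidueField (algebraMap S _ a) /
      algebraMap (Localization.AtPrime n') p.ResidueField (algebraMap S _ b), ?_⟩
    rw [map_div₀, hψ, hψ, ← IsScalarTower.algebraMap_apply S (Localization.AtPrime n') L,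
      ← IsScalarTower.algebraMap_apply S (Localization.AtPrime n') L, ← hab,
      mul_div_cancel_right₀ _ hb]
  let ψe : p.ResidueField ≃ₐ[Localization.AtPrime n'] L := AlgEquiv.ofBijective ψ hψbij
  have h5 : IsRegularRing (L ⊗[Localization.AtPrime n']
      AdicCompletion (maximalIdeal (Localization.AtPrime n')) (Localization.AtPrime n')) :=
    reg_of_equiv (Algebra.TensorProduct.congr ψe (AlgEquiv.refl (R := Localization.AtPrime n')
      (A₁ := AdicCompletion (maximalIdeal (Localization.AtPrime n'))
        (Localization.AtPrime n')))).toRingEquiv hreg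
  refine ⟨n.map (algebraMap B (B ⊗[A] AdicCompletion (maximalIdeal A) A)), inferInstance, hN', ?_⟩
  exact chain_rev A B (Localization.AtPrime n') (AdicCompletion (maximalIdeal A) A)
    (Localization.AtPrime (n.map (algebraMap B (B ⊗[A] AdicCompletion (maximalIdeal A) A))))
    (AdicCompletion (maximalIdeal (Localization.AtPrime n')) (Localization.AtPrime n')) L
    n.primeCompl (n.map (algebraMap B (B ⊗[A] AdicCompletion (maximalIdeal A) A))).primeCompl eA h5


set_option maxHeartbeats 1600000 in
set_option synthInstance.maxHeartbeats 200000 in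
theorem key' {R S A L : Type u} [CommRing R] [CommRing S] [CommRing A] [Field L]
    [Algebra R S] [Algebra R A] (P : Ideal R) [P.IsPrime] [IsLocalization.AtPrime A P]
    [IsLocalRing A] [IsNoetherianRing A] [Module.Finite R S]
    [Algebra R L] [Algebra S L] [Algebra A L] [IsScalarTower R S L] [IsScalarTower R A L]
    (hgen : ∀ z : L, ∃ a b : S, algebraMap S L b ≠ 0 ∧ z * algebraMap S L b = algebraMap S L a)
    (hNoeth : IsNoetherianRing (L ⊗[A] AdicCompletion (maximalIdeal A) A))
    (H : ∀ (q : Ideal S) [q.IsPrime] (p : Ideal (Localization.AtPrime q)) [p.IsPrime],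
      IsRegularRing (EGA4.formalFibre (Localization.AtPrime q) p)) :
    IsRegularRing (L ⊗[A] AdicCompletion (maximalIdeal A) A) := by
  letI := Algebra.TensorProduct.rightAlgebra (R := R) (A := A) (B := S)
  letI algBL : Algebra (A ⊗[R] S) L :=
    (Algebra.TensorProduct.productMap (IsScalarTower.toAlgHom R A L)
      (IsScalarTower.toAlgHom R S L)).toRingHom.toAlgebra
  haveI : IsScalarTower S (A ⊗[R] S) L := IsScalarTower.of_algebraMap_eq (fun s => by
    change algebraMap S L s = Algebra.TensorProduct.productMap (IsScalarTower.toAlgHom R A L)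
      (IsScalarTower.toAlgHom R S L) ((1 : A) ⊗ₜ[R] s)
    rw [Algebra.TensorProduct.productMap_apply_tmul, map_one, one_mul]
    rfl)
  haveI : IsScalarTower A (A ⊗[R] S) L := IsScalarTower.of_algebraMap_eq (fun a => by
    change algebraMap A L a = Algebra.TensorProduct.productMap (IsScalarTower.toAlgHom R A L)
      (IsScalarTower.toAlgHom R S L) (a ⊗ₜ[R] (1 : S))
    rw [Algebra.TensorProduct.productMap_apply_tmul, map_one, mul_one]
    rfl)
  exact key (B := A ⊗[R] S) (Algebra.algebraMapSubmonoid S P.primeCompl) hgen hNoeth H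

set_option maxHeartbeats 3200000 in
set_option synthInstance.maxHeartbeats 200000 in
theorem main (R : Type u) [CommRing R] [IsNoetherianRing R] :
    CAlg.IsGRing R ↔
      ∀ (S : Type u) [CommRing S] [Algebra R S] [Module.Finite R S] [Module.Free R S]
        (q : Ideal S) [q.IsPrime] (p : Ideal (Localization.AtPrime q)) [p.IsPrime],
        IsRegularRing (EGA4.formalFibre (Localization.AtPrime q) p) := by
  constructor
  · intro hR S _ _ _ _ q _ p _
    have hS := Groth.Agent.Lib.Helper4.ExcFin.isGRing_of_finite R S hR
    exact Groth.Agent.Lib.Helper18.PMor.isRegularRing_of_isGeometricallyRegular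
      (((hS.2 q).2 p).2)
  · intro H
    refine ⟨inferInstance, fun P _ => ?_⟩
    haveI : IsNoetherianRing (Localization.AtPrime P) :=
      IsLocalization.isNoetherianRing P.primeCompl _ inferInstance
    refine ⟨inferInstance, fun Q _ => ⟨inferInstance, ?_⟩⟩
    intro L _ _ hfin
    -- algebra structures on `L`
    letI algAL : Algebra (Localization.AtPrime P) L :=
      ((algebraMap Q.ResidueField L).comp
        (algebraMap (Localization.AtPrime P) Q.ResidueField)).toAlgebra
    haveI : IsScalarTower (Localization.AtPrime P) Q.ResidueField L :=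
      IsScalarTower.of_algebraMap_eq (fun _ => rfl)
    letI algRL : Algebra R L :=
      ((algebraMap (Localization.AtPrime P) L).comp
        (algebraMap R (Localization.AtPrime P))).toAlgebra
    haveI : IsScalarTower R (Localization.AtPrime P) L :=
      IsScalarTower.of_algebraMap_eq (fun _ => rfl)
    obtain ⟨q₀, hq₀⟩ : ∃ q₀ : Ideal R, q₀ = Q.comap (algebraMap R (Localization.AtPrime P)) :=
      ⟨_, rfl⟩
    haveI : q₀.IsPrime := hq₀ ▸ Ideal.comap_isPrime _ Q
    haveI : Q.LiesOver q₀ := ⟨hq₀⟩
    letI := Localization.AtPrime.algebraOfLiesOver q₀ Q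
    letI algQL : Algebra q₀.ResidueField L :=
      ((algebraMap Q.ResidueField L).comp
        (algebraMap q₀.ResidueField Q.ResidueField)).toAlgebra
    haveI : IsScalarTower q₀.ResidueField Q.ResidueField L :=
      IsScalarTower.of_algebraMap_eq (fun _ => rfl)
    haveI : IsScalarTower R q₀.ResidueField L := by
      refine IsScalarTower.of_algebraMap_eq (fun a => ?_)
      change algebraMap Q.ResidueField L (algebraMap (Localization.AtPrime P) Q.ResidueField
          (algebraMap R (Localization.AtPrime P) a)) =
        algebraMap Q.ResidueField L (algebraMap q₀.ResidueField Q.ResidueField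
          (algebraMap R q₀.ResidueField a))
      rw [← IsScalarTower.algebraMap_apply R (Localization.AtPrime P) Q.ResidueField,
        ← IsScalarTower.algebraMap_apply R q₀.ResidueField Q.ResidueField]
    haveI : Algebra.QuasiFinite R (Localization.AtPrime P) :=
      Algebra.QuasiFinite.of_isLocalization P.primeCompl
    haveI : Module.Finite q₀.ResidueField L := Module.Finite.trans Q.ResidueField L
    obtain ⟨S, _, _, hSfin, hSfree, hprime, e, he⟩ :=
      Groth.Agent.Lib.Helper15.ResFieldExt.main R q₀ L
    letI algSL : Algebra S L :=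
      (e.toRingHom.comp (algebraMap S (q₀.map (algebraMap R S)).ResidueField)).toAlgebra
    have halgSL : ∀ s : S, algebraMap S L s =
        e (algebraMap S (q₀.map (algebraMap R S)).ResidueField s) := fun _ => rfl
    haveI towRSL : IsScalarTower R S L := by
      refine IsScalarTower.of_algebraMap_eq (fun r => ?_)
      rw [halgSL, ← IsScalarTower.algebraMap_apply R S, he]
    have hgen : ∀ z : L, ∃ a b : S, algebraMap S L b ≠ 0 ∧
        z * algebraMap S L b = algebraMap S L a := by
      intro z
      obtain ⟨a, b, hb, hab⟩ := IsFractionRing.div_surjective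
        (A := S ⧸ (q₀.map (algebraMap R S))) (e.symm z)
      obtain ⟨a, rfl⟩ := Ideal.Quotient.mk_surjective a
      obtain ⟨b, rfl⟩ := Ideal.Quotient.mk_surjective b
      rw [Ideal.algebraMap_quotient_residueField_mk,
        Ideal.algebraMap_quotient_residueField_mk] at hab
      have hb0 : algebraMap S (q₀.map (algebraMap R S)).ResidueField b ≠ 0 := by
        rw [← Ideal.algebraMap_quotient_residueField_mk]
        intro h0
        exact nonZeroDivisors.ne_zero hb
          ((injective_iff_map_eq_zero' _).mp (IsFractionRing.injective _ _) _ |>.mp h0)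
      refine ⟨a, b, ?_, ?_⟩
      · rw [halgSL]
        exact (EmbeddingLike.map_ne_zero_iff (f := e)).mpr hb0
      · rw [halgSL, halgSL, ← e.apply_symm_apply z, ← hab, ← map_mul,
          div_mul_cancel₀ _ hb0]
    have hNoeth₀ : IsNoetherianRing (L ⊗[Q.ResidueField] Q.Fiber (AdicCompletion
        (maximalIdeal (Localization.AtPrime P)) (Localization.AtPrime P))) :=
      Groth.Agent.Lib.Helper23.GeomRegular2.isNoetherianRing_tensor_of_essFiniteType L
    have hNoeth : IsNoetherianRing (L ⊗[Localization.AtPrime P] AdicCompletion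
        (maximalIdeal (Localization.AtPrime P)) (Localization.AtPrime P)) :=
      isNoetherianRing_of_ringEquiv _ (Algebra.TensorProduct.cancelBaseChange
        (Localization.AtPrime P) Q.ResidueField L L
        (AdicCompletion (maximalIdeal (Localization.AtPrime P))
          (Localization.AtPrime P))).toRingEquiv
    have h5 := key' (A := Localization.AtPrime P) P hgen hNoeth (H S)
    exact reg_of_equiv (Algebra.TensorProduct.cancelBaseChange
        (Localization.AtPrime P) Q.ResidueField L L
        (AdicCompletion (maximalIdeal (Localization.AtPrime P))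
          (Localization.AtPrime P))).symm.toRingEquiv h5

end Groth.Agent.Lib.Helper9.FFib4
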