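import Mathlib
import Groth.Agent.Lib.Helper9.SmoothPt
import Groth.Agent.Lib.Helper12.IntegralDim

set_option autoImplicit false
universe u

namespace Groth.Agent.Lib.Helper9.FibreGen

open TensorProduct IsLocalRing

section FieldBC

variable {A B : Type*} [CommRing A] [CommRing B] [Algebra A B]

/-- the fibre dimension of an `A`-module at a prime `q` of an `A`-algebra `B` equals the fibre
dimension at the contraction of `q`. -/
theorem finrank_fibre_comap (q : Ideal B) [q.IsPrime] (p : Ideal A) [p.IsPrime]
    (hpq : p = q.comap (algebraMap A B)) (W : Type*) [AddCommGroup W] [Module A W] :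
    Module.finrank q.ResidueField (q.ResidueField ⊗[A] W) =
      Module.finrank p.ResidueField (p.ResidueField ⊗[A] W) := by
  let φ : p.ResidueField →+* q.ResidueField := Ideal.ResidueField.map p q (algebraMap A B) hpq
  let _ : Algebra p.ResidueField q.ResidueField := φ.toAlgebra
  have : IsScalarTower A p.ResidueField q.ResidueField := IsScalarTower.of_algebraMap_eq (fun a => by
    rw [RingHom.algebraMap_toAlgebra, Ideal.ResidueField.map_algebraMap,
      ← IsScalarTower.algebraMap_apply])
  let e := AlgebraTensorModule.cancelBaseChange A p.ResidueField q.ResidueField q.ResidueField W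
  rw [← e.finrank_eq, Module.finrank_baseChange]

end FieldBC

section Nak

variable {A : Type u} [CommRing A] (p : Ideal A) [p.IsPrime] (W : Type u) [AddCommGroup W]
  [Module A W] [Module.Finite A W]

/-- Nakayama: the localization of a finite module at `p` is generated by as many elements as the
dimension of its fibre at `p`. -/
theorem exists_finset_span_localizedModule (n : ℕ)
    (h : Module.finrank p.ResidueField (p.ResidueField ⊗[A] W) ≤ n) :
    ∃ s : Finset (LocalizedModule p.primeCompl W),
      s.card ≤ n ∧ Submodule.span (Localization.AtPrime p)
        (s : Set (LocalizedModule p.primeCompl W)) = ⊤ := by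
  classical
  set R := Localization.AtPrime p
  set M := LocalizedModule p.primeCompl W
  set k := ResidueField R
  have hfinM : Module.Finite R M := inferInstance
  let e : k ⊗[R] M ≃ₗ[k] k ⊗[A] W :=
    (AlgebraTensorModule.congr (LinearEquiv.refl k k)
      (LocalizedModule.equivTensorProduct p.primeCompl W)).trans
      (AlgebraTensorModule.cancelBaseChange A R k k W)
  have hfin : Module.Finite k (k ⊗[R] M) := inferInstance
  have hrank : Module.finrank k (k ⊗[R] M) ≤ n := by
    rw [e.finrank_eq]; exact h
  let b := Module.finBasis k (k ⊗[R] M)
  have hsurj : Function.Surjective (TensorProduct.mk R k M 1) :=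
    TensorProduct.mk_surjective R M k residue_surjective
  choose f hf using fun i => hsurj (b i)
  have hspan := IsLocalRing.span_eq_top_of_tmul_eq_basis (R := R) f b hf
  refine ⟨Finset.univ.image f, ?_, ?_⟩
  · refine (Finset.card_image_le).trans ?_
    rw [Finset.card_univ, Fintype.card_fin]
    exact hrank
  · rw [Finset.coe_image, Finset.coe_univ, Set.image_univ]
    exact hspan

end Nak

end Groth.Agent.Lib.Helper9.FibreGen
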