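import Mathlib

set_option autoImplicit false
open TensorProduct

namespace Groth.Agent.Lib.Helper9.FibreLoc

variable {A : Type*} [CommRing A] (p : Ideal A) [p.IsPrime]

/-- the natural iso `κ(p) ⊗_{A_p} X_p ≃ κ(p) ⊗_A X` (additive). -/
noncomputable def fibEquiv (X : Type*) [AddCommGroup X] [Module A X] :
    (IsLocalRing.ResidueField (Localization.AtPrime p)) ⊗[Localization.AtPrime p]
        (LocalizedModule p.primeCompl X) ≃+ p.ResidueField ⊗[A] X :=
  (LinearEquiv.lTensor _ (LocalizedModule.equivTensorProduct p.primeCompl X)).toAddEquiv.trans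
    (AlgebraTensorModule.cancelBaseChange A (Localization.AtPrime p) p.ResidueField
      p.ResidueField X).toAddEquiv

lemma fibEquiv_tmul_mk (X : Type*) [AddCommGroup X] [Module A X]
    (c : IsLocalRing.ResidueField (Localization.AtPrime p)) (x : X) (s : p.primeCompl) :
    fibEquiv p X (c ⊗ₜ LocalizedModule.mk x s) =
      ((Localization.mk 1 s : Localization.AtPrime p) • c) ⊗ₜ x := by
  simp [fibEquiv, LocalizedModule.equivTensorProduct_apply_mk]

lemma fibEquiv_natural {X Y : Type*} [AddCommGroup X] [Module A X] [AddCommGroup Y] [Module A Y]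
    (f : X →ₗ[A] Y) (z) :
    fibEquiv p Y (LinearMap.lTensor (IsLocalRing.ResidueField (Localization.AtPrime p))
      (LocalizedModule.map p.primeCompl f) z) =
    LinearMap.lTensor p.ResidueField f (fibEquiv p X z) := by
  induction z using TensorProduct.induction_on with
  | zero => simp
  | add a b ha hb => simp only [map_add, ha, hb]
  | tmul c m =>
    induction m using LocalizedModule.induction_on with
    | h x s =>
      rw [LinearMap.lTensor_tmul, LocalizedModule.map_mk, fibEquiv_tmul_mk, fibEquiv_tmul_mk,
        LinearMap.lTensor_tmul]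

/-- injectivity of `κ(p) ⊗_A f` can be tested after localizing at `p`. -/
lemma lTensor_residueField_injective_iff {X Y : Type*} [AddCommGroup X] [Module A X]
    [AddCommGroup Y] [Module A Y] (f : X →ₗ[A] Y) :
    Function.Injective (LinearMap.lTensor p.ResidueField f) ↔
      Function.Injective (LinearMap.lTensor (IsLocalRing.ResidueField (Localization.AtPrime p))
        (LocalizedModule.map p.primeCompl f)) := by
  constructor
  · intro h a b hab
    apply (fibEquiv p X).injective
    apply h
    rw [← fibEquiv_natural, ← fibEquiv_natural, hab]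
  · intro h a b hab
    obtain ⟨a, rfl⟩ := (fibEquiv p X).surjective a
    obtain ⟨b, rfl⟩ := (fibEquiv p X).surjective b
    rw [← fibEquiv_natural, ← fibEquiv_natural] at hab
    rw [h ((fibEquiv p Y).injective hab)]

end Groth.Agent.Lib.Helper9.FibreLoc
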