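import Mathlib
import Groth.Agent.Lib.Helper29.QCohGen
import Groth.Agent.Lib.Helper29.QCohAss2

/-!
# Generic bases of direct images under finite morphisms: general lemmas (helper9)
-/

set_option autoImplicit false
universe u
open CategoryTheory CategoryTheory.Limits AlgebraicGeometry TopologicalSpace Opposite

namespace Groth.Agent.Lib.Helper9.FinGen

open Groth.Agent.Lib.Helper29.QCoh

variable {X : Scheme.{u}}

theorem exists_fin_basis_of_isField {R M : Type*} [CommRing R] [AddCommGroup M] [Module R M]
    (hR : IsField R) [Module.Finite R M] :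
    ∃ (r : ℕ) (b : Fin r → M), LinearIndependent R b ∧ Submodule.span R (Set.range b) = ⊤ := by
  let _ := hR.toField
  exact ⟨_, Module.finBasis R M, (Module.finBasis R M).linearIndependent,
    (Module.finBasis R M).span_eq⟩

/-- Transport of a basis along `κ⁻¹ ∘ θ`. -/
theorem li_span_of_comm {R L N Q : Type*} [CommRing R] [AddCommGroup L] [Module R L]
    [AddCommGroup N] [Module R N] [AddCommGroup Q] [Module R Q] {ι : Type*} [Fintype ι]
    (b : ι → L) (hli : LinearIndependent R b) (hsp : Submodule.span R (Set.range b) = ⊤)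
    (κ : L →ₗ[R] Q) (hκ : Function.Bijective κ) (θ : N →ₗ[R] Q) (hθ : Function.Injective θ)
    (g : ι → N) (hg : ∀ i, θ (g i) = κ (b i)) :
    LinearIndependent R g ∧ Submodule.span R (Set.range g) = ⊤ := by
  constructor
  · rw [Fintype.linearIndependent_iff] at hli ⊢
    intro c hc
    apply hli c
    apply hκ.1
    rw [map_zero, map_sum]
    have : ∑ i, κ (c i • b i) = θ (∑ i, c i • g i) := by
      rw [map_sum]
      refine Finset.sum_congr rfl fun i _ => ?_
      rw [map_smul, map_smul, hg]
    rw [this, hc, map_zero]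
  · rw [eq_top_iff]
    rintro z -
    obtain ⟨w, hw⟩ := hκ.2 (θ z)
    have hw' : w ∈ Submodule.span R (Set.range b) := by rw [hsp]; trivial
    obtain ⟨c, hc⟩ := (Submodule.mem_span_range_iff_exists_fun R).mp hw'
    have : z = ∑ i, c i • g i := by
      apply hθ
      rw [← hw, ← hc, map_sum, map_sum]
      refine Finset.sum_congr rfl fun i _ => ?_
      rw [map_smul, map_smul, hg]
    rw [this]
    exact Submodule.sum_mem _ fun i _ => Submodule.smul_mem _ _ (Submodule.subset_span ⟨i, rfl⟩)

theorem res_bijective (M : X.Modules) {A B : X.Opens} (h : A ≤ B) (h' : B ≤ A) :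
    Function.Bijective (res M h) := by
  refine Function.bijective_iff_has_inverse.mpr ⟨res M h', fun m => ?_, fun m => ?_⟩
  · rw [res_res]; exact res_self M m
  · rw [res_res]; exact res_self M m

/-- A morphism bijective on sections over all opens inside a neighbourhood of `x` is bijective
on stalks at `x`. -/
theorem stalkMap_bijective_of_app_bijective {A B : X.Modules} (f : A ⟶ B) (U : X.Opens) (x : X)
    (hx : x ∈ U) (h : ∀ W : X.Opens, W ≤ U → Function.Bijective (f.app W)) :
    Function.Bijective (stalkMap f x) := by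
  constructor
  · intro a a' haa
    obtain ⟨V, hxV, s, rfl⟩ := A.presheaf.exists_germ_eq a
    obtain ⟨V', hxV', s', rfl⟩ := A.presheaf.exists_germ_eq a'
    rw [stalkMap_germ, stalkMap_germ] at haa
    obtain ⟨W, hxW, iV, iV', hW⟩ := B.presheaf.germ_eq x hxV hxV' _ _ haa
    have hle : W ⊓ U ≤ W := inf_le_left
    have h1 : f.app (W ⊓ U) (res A (hle.trans (leOfHom iV)) s) =
        f.app (W ⊓ U) (res A (hle.trans (leOfHom iV')) s') := by
      rw [app_res, app_res, ← res_res B (leOfHom iV) hle, ← res_res B (leOfHom iV') hle]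
      exact congrArg (res B hle) hW
    have h2 := (h (W ⊓ U) inf_le_right).1 h1
    rw [← germ_res A (hle.trans (leOfHom iV)) x ⟨hxW, hx⟩ s, h2, germ_res]
  · intro t
    obtain ⟨V, hxV, b, rfl⟩ := B.presheaf.exists_germ_eq t
    obtain ⟨a, ha⟩ := (h (V ⊓ U) inf_le_right).2 (res B (inf_le_left : V ⊓ U ≤ V) b)
    refine ⟨A.presheaf.germ (V ⊓ U) x ⟨hxV, hx⟩ a, ?_⟩
    rw [stalkMap_germ, ha, germ_res]

/-- For finitely many global sections whose germs at `y` form a basis of the stalk, the
associated morphism from the free module is bijective on stalks at `y`. -/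
theorem stalkMap_homOfSections_bijective (N : X.Modules) {I : Type u} [Fintype I]
    (s : I → Γ(N, ⊤)) (y : X)
    (hli : LinearIndependent (X.presheaf.stalk y) (fun i => N.presheaf.germ ⊤ y trivial (s i)))
    (hsp : Submodule.span (X.presheaf.stalk y)
      (Set.range fun i => N.presheaf.germ ⊤ y trivial (s i)) = ⊤) :
    Function.Bijective (stalkMap (homOfSections N s) y) := by
  set α := homOfSections N s with hα
  let e : I → (freeM X I).presheaf.stalk y := fun i =>
    (freeM X I).presheaf.germ ⊤ y trivial ((ιFreeM X i ≫ 𝟙 (freeM X I)).app ⊤ (toUnit 1))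
  have he : ∀ i, stalkMapₗ α y (e i) = N.presheaf.germ ⊤ y trivial (s i) := by
    intro i
    rw [stalkMapₗ_apply]
    refine (stalkMap_germ α y ⊤ trivial _).trans ?_
    have := ι_homOfSections_app_one N s i
    rw [Category.comp_id]
    change N.presheaf.germ ⊤ y trivial ((ιFreeM X i ≫ homOfSections N s).app ⊤ (toUnit 1)) = _
    rw [this]
  have hspan : ∀ t : (freeM X I).presheaf.stalk y, ∃ c : I → X.presheaf.stalk y,
      ∑ i, c i • e i = t := by
    intro t
    have h1 := stalkMap_free_mem_span (𝟙 (freeM X I)) y t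
    have h2 : stalkMap (𝟙 (freeM X I)) y t = t := by rw [stalkMap_id]; rfl
    rw [h2] at h1
    exact (Submodule.mem_span_range_iff_exists_fun _).mp h1
  have hmap : ∀ c : I → X.presheaf.stalk y, stalkMapₗ α y (∑ i, c i • e i) =
      ∑ i, c i • N.presheaf.germ ⊤ y trivial (s i) := by
    intro c
    rw [map_sum]
    refine Finset.sum_congr rfl fun i _ => ?_
    rw [map_smul, he]
  constructor
  · intro t t' htt
    obtain ⟨c, rfl⟩ := hspan t
    obtain ⟨c', rfl⟩ := hspan t'
    have h1 : stalkMapₗ α y (∑ i, c i • e i) = stalkMapₗ α y (∑ i, c' i • e i) := htt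
    rw [hmap, hmap, ← sub_eq_zero, ← Finset.sum_sub_distrib] at h1
    have h2 : ∑ i, (c i - c' i) • N.presheaf.germ ⊤ y trivial (s i) = 0 := by
      rw [← h1]
      refine Finset.sum_congr rfl fun i _ => ?_
      rw [sub_smul]
    have h3 := (Fintype.linearIndependent_iff.mp hli) _ h2
    refine Finset.sum_congr rfl fun i _ => ?_
    rw [sub_eq_zero.mp (h3 i)]
  · intro z
    have hz : z ∈ Submodule.span (X.presheaf.stalk y)
        (Set.range fun i => N.presheaf.germ ⊤ y trivial (s i)) := by rw [hsp]; trivial
    obtain ⟨c, hc⟩ := (Submodule.mem_span_range_iff_exists_fun _).mp hz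
    refine ⟨∑ i, c i • e i, ?_⟩
    have := hmap c
    rw [stalkMapₗ_apply] at this
    rw [this, hc]

end Groth.Agent.Lib.Helper9.FinGen
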