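import Mathlib
import Groth.Agent.Lib.Helper9.FinGen1
import Groth.Agent.Lib.Helper9.Dev11
import Groth.Agent.Lib.Helper9.RefStalk2
import Groth.Agent.Lib.Helper3.ExtendLN2
import Groth.Agent.Lib.Helper12.Dev7

/-!
# Hartshorne III Ex. 4.2 (a): generic bases of direct images under finite morphisms (helper9)
-/

set_option autoImplicit false
universe u
open CategoryTheory CategoryTheory.Limits AlgebraicGeometry TopologicalSpace Opposite

namespace Groth.Agent.Lib.Helper9.FinGen

open Groth.Agent.Lib.Helper29.QCoh Groth.Agent.Lib.Helper9.Dev Groth.Agent.Lib.Helper3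

variable {X Y : Scheme.{u}}

/-- The module `j_* j^* O_X` for the inclusion `j` of an open `U`. -/
noncomputable abbrev Qmod (U : X.Opens) : X.Modules :=
  (Scheme.Modules.restrictFunctor U.ι ⋙ Scheme.Modules.pushforward U.ι).obj (unitM X)

/-- The unit `O_X ⟶ j_* j^* O_X`. -/
noncomputable abbrev uMap (U : X.Opens) : unitM X ⟶ Qmod U :=
  (Scheme.Modules.restrictAdjunction U.ι).unit.app (unitM X)

theorem isQuasicoherent_Qmod [IsLocallyNoetherian X] (U : X.Opens) : (Qmod U).IsQuasicoherent := by
  have hOq : (unitM X).IsQuasicoherent := (Groth.Agent.Lib.Helper9.RefStalk.isCoh_unit X).1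
  have h2 : ((unitM X).restrict U.ι).IsQuasicoherent :=
    Scheme.Modules.isQuasicoherent_restrictFunctor U.ι (unitM X)
  exact isQuasicoherent_pushforward_of_qcqs U.ι ((unitM X).restrict U.ι)

theorem germ_pushforward_toUnit_one_ne_zero (f : X ⟶ Y) [Surjective f] (y : Y) :
    ((Scheme.Modules.pushforward f).obj (unitM X)).presheaf.germ ⊤ y trivial
      (toUnit (1 : Γ(X, f ⁻¹ᵁ ⊤))) ≠ 0 := by
  intro h
  obtain ⟨V, hV, hyV, h0⟩ := Groth.Agent.Lib.Helper29.QCoh.exists_res_eq_zero_of_germ_eq_zero
    ((Scheme.Modules.pushforward f).obj (unitM X)) (U := ⊤) y trivial _ h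
  have h1 : (1 : Γ(X, f ⁻¹ᵁ V)) = 0 := by
    have := res_toUnit_one (X := X) (show f ⁻¹ᵁ V ≤ f ⁻¹ᵁ ⊤ from fun x _ => trivial)
    have h0' : res (unitM X) (show f ⁻¹ᵁ V ≤ f ⁻¹ᵁ ⊤ from fun x _ => trivial)
        (toUnit (1 : Γ(X, f ⁻¹ᵁ ⊤))) = 0 := h0
    rw [this] at h0'
    exact h0'
  obtain ⟨x, hx⟩ := f.surjective y
  have : Nonempty (f ⁻¹ᵁ V : X.Opens) := ⟨⟨x, by change f x ∈ V; rw [hx]; exact hyV⟩⟩
  exact one_ne_zero h1

theorem main10948' [IsIntegral X] [IsNoetherian X] [IsIntegral Y] [IsNoetherian Y]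
    (f : X ⟶ Y) [IsFinite f] [Surjective f] :
    ∃ (r : ℕ) (M : X.Modules)
      (α : freeM Y (ULift.{u} (Fin r)) ⟶ (Scheme.Modules.pushforward f).obj M),
      0 < r ∧ Coh.IsCoh M ∧ Function.Bijective (stalkMap α (genericPoint Y)) := by
  classical
  have hOcoh : Coh.IsCoh (unitM X) := Groth.Agent.Lib.Helper9.RefStalk.isCoh_unit X
  have hOq : (unitM X).IsQuasicoherent := hOcoh.1
  have hOf : (unitM X).IsFiniteType := hOcoh.2
  have hN₀ : Coh.IsCoh ((Scheme.Modules.pushforward f).obj (unitM X)) :=
    ⟨isQuasicoherent_pushforward_of_isAffineHom f _, isFiniteType_pushforward_of_isFinite f _⟩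
  have hfield : IsField (Y.presheaf.stalk (genericPoint Y)) := Field.toIsField Y.functionField
  have hfin : Module.Finite (Y.presheaf.stalk (genericPoint Y))
      (((Scheme.Modules.pushforward f).obj (unitM X)).presheaf.stalk (genericPoint Y)) :=
    Groth.Agent.Lib.Helper9.RefStalk.finite_stalk_of_isCoh _ hN₀ _
  obtain ⟨r, b, hli, hsp⟩ := exists_fin_basis_of_isField hfield
    (M := ((Scheme.Modules.pushforward f).obj (unitM X)).presheaf.stalk (genericPoint Y))
  -- representatives of the basis
  have hrep : ∀ i, ∃ (V : Y.Opens) (hV : genericPoint Y ∈ V)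
      (n : Γ((Scheme.Modules.pushforward f).obj (unitM X), V)),
      ((Scheme.Modules.pushforward f).obj (unitM X)).presheaf.germ V (genericPoint Y) hV n = b i :=
    fun i => ((Scheme.Modules.pushforward f).obj (unitM X)).presheaf.exists_germ_eq (b i)
  choose Vi hVi ni hni using hrep
  let V : Y.Opens := ⟨⋂ i, (Vi i : Set Y), isOpen_iInter_of_finite fun i => (Vi i).isOpen⟩
  have hVle : ∀ i, V ≤ Vi i := fun i x hx => Set.mem_iInter.mp hx i
  have hηV : genericPoint Y ∈ V := Set.mem_iInter.mpr hVi
  let U : X.Opens := f ⁻¹ᵁ V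
  let n : Fin r → Γ(unitM X, U) := fun i =>
    res ((Scheme.Modules.pushforward f).obj (unitM X)) (hVle i) (ni i)
  have hn : ∀ i, ((Scheme.Modules.pushforward f).obj (unitM X)).presheaf.germ V (genericPoint Y)
      hηV (n i) = b i := fun i => by
    rw [← hni i]
    exact germ_res ((Scheme.Modules.pushforward f).obj (unitM X)) (hVle i) (genericPoint Y) hηV (ni i)
  have hQq : (Qmod U).IsQuasicoherent := isQuasicoherent_Qmod U
  have hUtop : U.ι ''ᵁ (U.ι ⁻¹ᵁ ⊤) ≤ U := image_le U _
  let q : Fin r → Γ(Qmod U, ⊤) := fun i => res (unitM X) hUtop (n i)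
  let S : Set Γ(Qmod U, ⊤) := Set.range q
  have hSfin : S.Finite := Set.finite_range q
  let Msub : SubSh (Qmod U) := SubSh.genSub ⊤ S
  have hMq : Msub.toModules.IsQuasicoherent :=
    SubSh.isQuasicoherent_toModules Msub _ (isOpenCover_affineOpens X) (fun T => T.2)
      (fun T => SubSh.isQCOn_genSub ⊤ S T.2 le_top)
  have hMf : Msub.toModules.IsFiniteType :=
    SubSh.isFiniteType_toModules Msub _ (isOpenCover_affineOpens X) (fun T => T.2)
      (fun T => SubSh.genSub_fg ⊤ S hSfin T.2 le_top)
  have hqmem : ∀ i, q i ∈ Msub.carrier ⊤ := fun i =>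
    SubSh.mem_genSub_of_mem_spanRes ⊤ S le_rfl
      (Submodule.subset_span ⟨q i, ⟨i, rfl⟩, res_self (Qmod U) (q i)⟩)
  let s : ULift.{u} (Fin r) → Γ((Scheme.Modules.pushforward f).obj Msub.toModules, ⊤) := fun i =>
    Msub.mkSec (f ⁻¹ᵁ ⊤) (res (Qmod U) le_top (q i.down)) (Msub.res_mem le_top (hqmem i.down))
  refine ⟨r, Msub.toModules, homOfSections ((Scheme.Modules.pushforward f).obj Msub.toModules) s,
    ?_, ⟨hMq, hMf⟩, ?_⟩
  · -- `r` is positive
    rcases Nat.eq_zero_or_pos r with h0 | h0
    · exfalso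
      subst h0
      have hbot : Submodule.span (Y.presheaf.stalk (genericPoint Y)) (Set.range b) = ⊥ := by
        rw [Set.range_eq_empty b, Submodule.span_empty]
      have h1 : ((Scheme.Modules.pushforward f).obj (unitM X)).presheaf.germ ⊤ (genericPoint Y)
          trivial (toUnit (1 : Γ(X, f ⁻¹ᵁ ⊤))) ∈ (⊤ : Submodule (Y.presheaf.stalk (genericPoint Y))
            (((Scheme.Modules.pushforward f).obj (unitM X)).presheaf.stalk (genericPoint Y))) :=
        Submodule.mem_top
      rw [← hsp, hbot, Submodule.mem_bot] at h1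
      exact germ_pushforward_toUnit_one_ne_zero f (genericPoint Y) h1
    · exact h0
  · -- bijectivity at the generic point
    have hθ : Function.Injective
        (stalkMapₗ ((Scheme.Modules.pushforward f).map Msub.ι) (genericPoint Y)) := by
      have : Mono ((Scheme.Modules.pushforward f).map Msub.ι) := by
        rw [mono_iff_app_injective]
        intro W
        exact Msub.ι_app_injective (f ⁻¹ᵁ W)
      exact (mono_iff_stalkMap_injective _).mp this (genericPoint Y)
    have hκ : Function.Bijective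
        (stalkMapₗ ((Scheme.Modules.pushforward f).map (uMap U)) (genericPoint Y)) := by
      refine stalkMap_bijective_of_app_bijective _ V (genericPoint Y) hηV fun W hW => ?_
      have hle : f ⁻¹ᵁ W ≤ U := fun x hx => hW hx
      have hfun : (((Scheme.Modules.pushforward f).map (uMap U)).app W : _ → _) =
          res (unitM X) (U.ι.image_preimage_le (f ⁻¹ᵁ W)) := funext fun x => rfl
      rw [hfun]
      exact res_bijective (unitM X) _ (by rw [image_preimage_eq_of_le U _ hle])
    have hF1 : ∀ i : ULift.{u} (Fin r),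
        stalkMapₗ ((Scheme.Modules.pushforward f).map Msub.ι) (genericPoint Y)
          (((Scheme.Modules.pushforward f).obj Msub.toModules).presheaf.germ ⊤ (genericPoint Y)
            trivial (s i)) =
        stalkMapₗ ((Scheme.Modules.pushforward f).map (uMap U)) (genericPoint Y) (b i.down) := by
      intro i
      rw [stalkMapₗ_apply, stalkMapₗ_apply, ← hn i.down, stalkMap_germ, stalkMap_germ,
        ← germ_res ((Scheme.Modules.pushforward f).obj (Qmod U)) (le_top : V ≤ ⊤)
          (genericPoint Y) hηV]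
      congr 1
      change res (unitM X) _ (res (unitM X) _ (res (unitM X) hUtop (n i.down))) =
        res (unitM X) _ (n i.down)
      rw [res_res, res_res]
    have hli' : LinearIndependent (Y.presheaf.stalk (genericPoint Y))
        (fun i : ULift.{u} (Fin r) => b i.down) := hli.comp _ ULift.down_injective
    have hsp' : Submodule.span (Y.presheaf.stalk (genericPoint Y))
        (Set.range fun i : ULift.{u} (Fin r) => b i.down) = ⊤ := by
      have : (Set.range fun i : ULift.{u} (Fin r) => b i.down) = Set.range b :=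
        ULift.down_surjective.range_comp b
      rw [this, hsp]
    obtain ⟨h1, h2⟩ := li_span_of_comm (fun i : ULift.{u} (Fin r) => b i.down) hli' hsp'
      (stalkMapₗ ((Scheme.Modules.pushforward f).map (uMap U)) (genericPoint Y)) hκ
      (stalkMapₗ ((Scheme.Modules.pushforward f).map Msub.ι) (genericPoint Y)) hθ
      (fun i => ((Scheme.Modules.pushforward f).obj Msub.toModules).presheaf.germ ⊤
        (genericPoint Y) trivial (s i)) hF1
    exact stalkMap_homOfSections_bijective _ s (genericPoint Y) h1 h2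

theorem main10948 [IsIntegral X] [IsNoetherian X] [IsIntegral Y] [IsNoetherian Y]
    (f : X ⟶ Y) [IsFinite f] [Surjective f] :
    ∃ (r : ℕ) (M : X.Modules) (α : (SheafOfModules.free (ULift.{u} (Fin r)) : Y.Modules) ⟶
        (Scheme.Modules.pushforward f).obj M),
      0 < r ∧ Coh.IsCoh M ∧
      IsIso ((TopCat.Presheaf.stalkFunctor AddCommGrpCat.{u} (genericPoint ↥Y)).map
        ((SheafOfModules.toSheaf Y.ringCatSheaf).map α).hom) := by
  obtain ⟨r, M, α, hr, hM, hα⟩ := main10948' f
  refine ⟨r, M, α, hr, hM, ?_⟩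
  have : IsIso (stalkMap α (genericPoint Y)) := (ConcreteCategory.isIso_iff_bijective _).mpr hα
  exact this

end Groth.Agent.Lib.Helper9.FinGen
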