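import Mathlib
import Groth.Agent.Lib.Helper9.FinGen2
import Groth.Agent.Lib.Helper5.LocBasisScheme

/-!
# Finite decompositions of modules and ranks of stalks (helper9)
-/

set_option autoImplicit false
universe u w
open CategoryTheory CategoryTheory.Limits AlgebraicGeometry TopologicalSpace Opposite

namespace Groth.Agent.Lib.Helper9.FinGen

open Groth.Agent.Lib.Helper29.QCoh

section algebra

variable {R M M' : Type*} [CommRing R] [AddCommGroup M] [Module R M] [AddCommGroup M'] [Module R M']

/-- A module with a finite family of injections and projections from/to `M` is `ι → M`. -/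
noncomputable def decompEquiv {ι : Type*} [Fintype ι] [DecidableEq ι] (inj : ι → M →ₗ[R] M')
    (prj : ι → M' →ₗ[R] M) (h1 : ∀ i j x, prj i (inj j x) = if j = i then x else 0)
    (h2 : ∀ y, ∑ i, inj i (prj i y) = y) : M' ≃ₗ[R] (ι → M) where
  toFun y := fun i => prj i y
  map_add' a b := by funext i; simp
  map_smul' c a := by funext i; simp
  invFun g := ∑ i, inj i (g i)
  left_inv y := h2 y
  right_inv g := by
    funext i
    simp only [map_sum]
    rw [Finset.sum_congr rfl (fun j _ => h1 i j (g j))]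
    simp

theorem finrank_eq_card_mul_of_decomp (hR : IsField R) [Module.Finite R M] {ι : Type*} [Fintype ι]
    [DecidableEq ι] (inj : ι → M →ₗ[R] M')
    (prj : ι → M' →ₗ[R] M) (h1 : ∀ i j x, prj i (inj j x) = if j = i then x else 0)
    (h2 : ∀ y, ∑ i, inj i (prj i y) = y) :
    Module.finrank R M' = Fintype.card ι * Module.finrank R M := by
  let _ := hR.toField
  rw [LinearEquiv.finrank_eq (decompEquiv inj prj h1 h2), Module.finrank_pi_fintype]
  simp

theorem finite_of_decomp [Module.Finite R M] {ι : Type*} [Fintype ι]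
    [DecidableEq ι] (inj : ι → M →ₗ[R] M')
    (prj : ι → M' →ₗ[R] M) (h1 : ∀ i j x, prj i (inj j x) = if j = i then x else 0)
    (h2 : ∀ y, ∑ i, inj i (prj i y) = y) : Module.Finite R M' :=
  Module.Finite.equiv (decompEquiv inj prj h1 h2).symm

theorem nonempty_linearEquiv_of_finrank_eq' (hR : IsField R) [Module.Finite R M]
    [Module.Finite R M'] (h : Module.finrank R M = Module.finrank R M') :
    Nonempty (M ≃ₗ[R] M') := by
  let _ := hR.toField
  exact ⟨LinearEquiv.ofFinrankEq M M' h⟩

theorem finrank_pos_of_isField (hR : IsField R) [Module.Finite R M] [Nontrivial M] :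
    0 < Module.finrank R M := by
  let _ := hR.toField
  exact Module.finrank_pos

end algebra

variable {X Y : Scheme.{u}}

theorem stalkMap_zero_apply {A B : Y.Modules} (y : Y) (x : A.presheaf.stalk y) :
    stalkMap (0 : A ⟶ B) y x = 0 := by
  have : stalkMap (0 : A ⟶ B) y = 0 := (stalkFunctor Y y).map_zero _ _
  rw [this]
  rfl

theorem stalkMap_sum_apply {A B : Y.Modules} {ι : Type*} (s : Finset ι) (φ : ι → (A ⟶ B)) (y : Y)
    (x : A.presheaf.stalk y) :
    stalkMap (∑ i ∈ s, φ i) y x = ∑ i ∈ s, stalkMap (φ i) y x := by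
  rw [stalkMap_sum]
  have := map_sum (AddCommGrpCat.homAddEquiv (M := A.presheaf.stalk y)
    (N := B.presheaf.stalk y)) (fun i => stalkMap (φ i) y) s
  have h3 : (∑ i ∈ s, stalkMap (φ i) y).hom = ∑ i ∈ s, (stalkMap (φ i) y).hom := this
  change (∑ i ∈ s, stalkMap (φ i) y).hom x = _
  rw [h3, AddMonoidHom.finsetSum_apply]

/-- A finite decomposition of `B` into copies of `A`. -/
structure Decomp (A B : Y.Modules) (ι : Type w) [Fintype ι] [DecidableEq ι] where
  inj : ι → (A ⟶ B)
  prj : ι → (B ⟶ A)
  h1 : ∀ i j, inj j ≫ prj i = if j = i then 𝟙 A else 0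
  h2 : ∑ i, prj i ≫ inj i = 𝟙 B

namespace Decomp

variable {ι : Type w} [Fintype ι] [DecidableEq ι]

/-- The decomposition of a finite coproduct of copies. -/
noncomputable def sigma (A : Y.Modules) (ι : Type w) [Fintype ι] [DecidableEq ι]
    [HasCoproduct (fun _ : ι => A)] : Decomp A (∐ fun _ : ι => A) ι where
  inj i := Sigma.ι (fun _ : ι => A) i
  prj i := Sigma.desc (fun j => if j = i then 𝟙 A else 0)
  h1 i j := by simp
  h2 := by
    apply Sigma.hom_ext
    intro j
    rw [Preadditive.comp_sum, Category.comp_id, Finset.sum_eq_single j]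
    · rw [← Category.assoc, Sigma.ι_desc, if_pos rfl, Category.id_comp]
    · intro i _ hij
      rw [← Category.assoc, Sigma.ι_desc, if_neg (Ne.symm hij), zero_comp]
    · intro h; exact absurd (Finset.mem_univ j) h

/-- Transport along an additive functor. -/
def map {A B : X.Modules} (D : Decomp A B ι) (Φ : X.Modules ⥤ Y.Modules) [Φ.Additive] :
    Decomp (Φ.obj A) (Φ.obj B) ι where
  inj i := Φ.map (D.inj i)
  prj i := Φ.map (D.prj i)
  h1 i j := by
    rw [← Φ.map_comp, D.h1]
    split_ifs
    · exact Φ.map_id A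
    · exact Φ.map_zero _ _
  h2 := by
    rw [← Φ.map_id, ← D.h2, Φ.map_sum]
    exact Finset.sum_congr rfl fun i _ => (Φ.map_comp _ _).symm

variable {A B : Y.Modules} (D : Decomp A B ι)

theorem stalk_h1 (y : Y) (i j : ι) (x : A.presheaf.stalk y) :
    stalkMapₗ (D.prj i) y (stalkMapₗ (D.inj j) y x) = if j = i then x else 0 := by
  rw [stalkMapₗ_apply, stalkMapₗ_apply, ← stalkMap_comp_apply, D.h1]
  split_ifs
  · rw [stalkMap_id]; rfl
  · exact stalkMap_zero_apply y x

theorem stalk_h2 (y : Y) (z : B.presheaf.stalk y) :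
    ∑ i, stalkMapₗ (D.inj i) y (stalkMapₗ (D.prj i) y z) = z := by
  have h : stalkMap (∑ i, D.prj i ≫ D.inj i) y z = z := by
    rw [D.h2, stalkMap_id]; rfl
  refine Eq.trans ?_ h
  rw [stalkMap_sum_apply]
  refine Finset.sum_congr rfl fun i _ => ?_
  rw [stalkMapₗ_apply, stalkMapₗ_apply, stalkMap_comp_apply]

theorem finrank_stalk (D : Decomp A B ι) (y : Y) (hR : IsField (Y.presheaf.stalk y))
    [Module.Finite (Y.presheaf.stalk y) (A.presheaf.stalk y)] :
    Module.finrank (Y.presheaf.stalk y) (B.presheaf.stalk y) =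
      Fintype.card ι * Module.finrank (Y.presheaf.stalk y) (A.presheaf.stalk y) :=
  finrank_eq_card_mul_of_decomp hR (fun i => stalkMapₗ (D.inj i) y) (fun i => stalkMapₗ (D.prj i) y)
    (fun i j x => D.stalk_h1 y i j x) (fun z => D.stalk_h2 y z)

theorem isFiniteType (D : Decomp A B ι) [A.IsQuasicoherent] [A.IsFiniteType] [B.IsQuasicoherent] : B.IsFiniteType := by
  rw [isFiniteType_iff_forall_module_finite]
  intro U hU
  have hA : Module.Finite Γ(Y, U) Γ(A, U) := (isFiniteType_iff_forall_module_finite A).mp inferInstance U hU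
  refine finite_of_decomp (fun i => appₗ (D.inj i) U) (fun i => appₗ (D.prj i) U) (fun i j x => ?_)
    (fun z => ?_)
  · rw [appₗ_apply, appₗ_apply]
    have h : (D.inj j ≫ D.prj i).app U x = (if j = i then 𝟙 A else 0 : A ⟶ A).app U x := by
      rw [D.h1]
    have h' : (D.inj j ≫ D.prj i).app U x = (D.prj i).app U ((D.inj j).app U x) := rfl
    rw [← h', h]
    split_ifs <;> rfl
  · have h1 := Groth.Agent.Lib.Helper5.LocBasisScheme.sum_app_apply Finset.univ
      (fun k => D.prj k ≫ D.inj k) U z
    rw [D.h2] at h1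
    exact h1.symm

end Decomp

end Groth.Agent.Lib.Helper9.FinGen
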