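import Mathlib
import Groth.Agent.Lib.Helper9.StalkExt

set_option autoImplicit false
universe u
open CategoryTheory CategoryTheory.Limits AlgebraicGeometry TopologicalSpace Opposite

namespace Groth.Agent.Lib.Helper9.StalkExt

open Groth.Agent.Lib.Helper29.QCoh Groth.Agent.Lib.Helper29.QCoh.Dual
  Groth.Agent.Lib.Helper29.QCoh.HomSec

variable {X : Scheme.{u}} {G F : X.Modules}

/-- The stalk map of `homOfSection θ` at `x`, transported to the stalks of `G` and `F`, is the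
value of `θ` at `x`. -/
theorem stalk_homOfSection {U : X.Opens} (θ : Γ(RefHull.homSh G F, U)) (x : X) (hx : x ∈ U)
    (t : G.presheaf.stalk x) :
    (restrictStalkIso U.ι F ⟨x, hx⟩).hom
      (((TopCat.Presheaf.stalkFunctor _ (⟨x, hx⟩ : U)).map (homOfSection θ).mapPresheaf).hom
        ((restrictStalkIso U.ι G ⟨x, hx⟩).inv t)) = θ.1 ⟨x, hx⟩ t := by
  obtain ⟨V, hxV, m, hm⟩ := (G.restrict U.ι).presheaf.exists_germ_eq
    ((restrictStalkIso U.ι G ⟨x, hx⟩).inv t)
  have ht : t = G.presheaf.germ (U.ι ''ᵁ V) x ⟨⟨x, hx⟩, hxV, rfl⟩ m := by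
    have h1 := restrictStalkIso_germ U.ι G ⟨x, hx⟩ V hxV m
    rw [hm] at h1
    refine Eq.trans ?_ h1
    rw [← ConcreteCategory.comp_apply, Iso.inv_hom_id]
    rfl
  rw [← hm, TopCat.Presheaf.stalkFunctor_map_germ_apply, restrictStalkIso_germ, ht]
  exact germ_evAt θ (image_le U V) m x _

theorem main9526 (X : Scheme.{u}) [IsLocallyNoetherian X]
    (F G : X.Modules) (hF : Coh.IsCoh F) (hG : Coh.IsCoh G) (x : X)
    (ψ : ↑(G.presheaf.stalk x) →ₗ[X.presheaf.stalk x] ↑(F.presheaf.stalk x)) :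
    ∃ (U : X.Opens) (hx : x ∈ U)
      (φ : (Scheme.Modules.restrictFunctor U.ι).obj G ⟶ (Scheme.Modules.restrictFunctor U.ι).obj F),
      (Scheme.Modules.restrictStalkNatIso U.ι (⟨x, hx⟩ : U)).inv.app G ≫
          (TopCat.Presheaf.stalkFunctor _ (⟨x, hx⟩ : U)).map φ.mapPresheaf ≫
            (Scheme.Modules.restrictStalkNatIso U.ι (⟨x, hx⟩ : U)).hom.app F =
        AddCommGrpCat.ofHom ψ.toAddMonoidHom := by
  have : G.IsFinitePresentation := RefStalk.isFP_of_isCoh G hG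
  obtain ⟨θx, hθx⟩ := evalStalk_surjective (F := G) (G := F) x ψ
  obtain ⟨U, hxU, θ, rfl⟩ := (RefHull.homSh G F).presheaf.exists_germ_eq θx
  rw [RefHull.evalStalk_germ] at hθx
  refine ⟨U, hxU, homOfSection θ, ?_⟩
  ext t
  have := stalk_homOfSection θ x hxU t
  rw [hθx] at this
  exact this

end Groth.Agent.Lib.Helper9.StalkExt
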