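import Mathlib
import Groth.Agent.Lib.Helper9.FinGen3
import Groth.Agent.Lib.Helper9.Dev10
import Groth.Agent.Lib.Helper9.StalkExt2
import Groth.Agent.S9525

/-!
# Hartshorne III Ex. 4.2 (b) (helper9)
-/

set_option autoImplicit false
universe u
open CategoryTheory CategoryTheory.Limits AlgebraicGeometry TopologicalSpace Opposite

namespace Groth.Agent.Lib.Helper9.FinGen

open Groth.Agent.Lib.Helper29.QCoh Groth.Agent.Lib.Helper9.Dev Groth.Agent.Lib.Helper9.IdMul

variable {X Y : Scheme.{u}}

theorem main10949' [IsIntegral X] [IsNoetherian X] [IsIntegral Y] [IsNoetherian Y]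
    (f : X ⟶ Y) [IsFinite f] [Surjective f] (F : Y.Modules) (hF : Coh.IsCoh F) :
    ∃ (r : ℕ) (G : X.Modules)
      (β : (Scheme.Modules.pushforward f).obj G ⟶ ∐ fun _ : ULift.{u} (Fin r) => F),
      0 < r ∧ Coh.IsCoh G ∧ Function.Bijective (stalkMap β (genericPoint Y)) := by
  classical
  have hFq : F.IsQuasicoherent := hF.1
  have hFf : F.IsFiniteType := hF.2
  have hOcoh : Coh.IsCoh (unitM X) := Groth.Agent.Lib.Helper9.RefStalk.isCoh_unit X
  have hOq : (unitM X).IsQuasicoherent := hOcoh.1
  have hOf : (unitM X).IsFiniteType := hOcoh.2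
  have hN₀ : Coh.IsCoh ((Scheme.Modules.pushforward f).obj (unitM X)) :=
    ⟨isQuasicoherent_pushforward_of_isAffineHom f _, isFiniteType_pushforward_of_isFinite f _⟩
  have hfield : IsField (Y.presheaf.stalk (genericPoint Y)) := Field.toIsField Y.functionField
  have hfin₀ : Module.Finite (Y.presheaf.stalk (genericPoint Y))
      (((Scheme.Modules.pushforward f).obj (unitM X)).presheaf.stalk (genericPoint Y)) :=
    Groth.Agent.Lib.Helper9.RefStalk.finite_stalk_of_isCoh _ hN₀ _
  have hfinF : Module.Finite (Y.presheaf.stalk (genericPoint Y))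
      (F.presheaf.stalk (genericPoint Y)) :=
    Groth.Agent.Lib.Helper9.RefStalk.finite_stalk_of_isCoh _ hF _
  have hnt : Nontrivial (((Scheme.Modules.pushforward f).obj (unitM X)).presheaf.stalk
      (genericPoint Y)) :=
    ⟨⟨_, 0, germ_pushforward_toUnit_one_ne_zero f (genericPoint Y)⟩⟩
  -- the ranks
  set r := Module.finrank (Y.presheaf.stalk (genericPoint Y))
      (((Scheme.Modules.pushforward f).obj (unitM X)).presheaf.stalk (genericPoint Y)) with hr
  set m := Module.finrank (Y.presheaf.stalk (genericPoint Y))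
      (F.presheaf.stalk (genericPoint Y)) with hm
  have hrpos : 0 < r := finrank_pos_of_isField hfield
  -- the modules
  have hPfp : (∐ fun _ : Fin m => unitM X).IsFinitePresentation :=
    isFinitePresentation_of_isFinLocFree (isFinLocFree_freeMod X m)
  have hPq : (∐ fun _ : Fin m => unitM X).IsQuasicoherent := inferInstance
  have hPf : (∐ fun _ : Fin m => unitM X).IsFiniteType := inferInstance
  have hN : Coh.IsCoh ((Scheme.Modules.pushforward f).obj (∐ fun _ : Fin m => unitM X)) :=
    ⟨isQuasicoherent_pushforward_of_isAffineHom f _, isFiniteType_pushforward_of_isFinite f _⟩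
  have hTq : (∐ fun _ : ULift.{u} (Fin r) => F).IsQuasicoherent :=
    isQuasicoherent_colimit_aux (Discrete.functor fun _ : ULift.{u} (Fin r) => F) (fun _ => hFq)
  have hTf : (∐ fun _ : ULift.{u} (Fin r) => F).IsFiniteType :=
    (Decomp.sigma F (ULift.{u} (Fin r))).isFiniteType
  have hT : Coh.IsCoh (∐ fun _ : ULift.{u} (Fin r) => F) := ⟨hTq, hTf⟩
  -- ranks of the generic stalks
  have hrkT : Module.finrank (Y.presheaf.stalk (genericPoint Y))
      ((∐ fun _ : ULift.{u} (Fin r) => F).presheaf.stalk (genericPoint Y)) = r * m := by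
    rw [(Decomp.sigma F (ULift.{u} (Fin r))).finrank_stalk (genericPoint Y) hfield,
      Fintype.card_ulift, Fintype.card_fin, ← hm]
  have hrkN : Module.finrank (Y.presheaf.stalk (genericPoint Y))
      (((Scheme.Modules.pushforward f).obj (∐ fun _ : Fin m => unitM X)).presheaf.stalk
        (genericPoint Y)) = m * r := by
    rw [((Decomp.sigma (unitM X) (Fin m)).map (Scheme.Modules.pushforward f)).finrank_stalk
      (genericPoint Y) hfield, Fintype.card_fin, ← hr]
  have hfinN : Module.Finite (Y.presheaf.stalk (genericPoint Y))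
      (((Scheme.Modules.pushforward f).obj (∐ fun _ : Fin m => unitM X)).presheaf.stalk
        (genericPoint Y)) := Groth.Agent.Lib.Helper9.RefStalk.finite_stalk_of_isCoh _ hN _
  have hfinT : Module.Finite (Y.presheaf.stalk (genericPoint Y))
      ((∐ fun _ : ULift.{u} (Fin r) => F).presheaf.stalk (genericPoint Y)) :=
    Groth.Agent.Lib.Helper9.RefStalk.finite_stalk_of_isCoh _ hT _
  obtain ⟨lam⟩ := nonempty_linearEquiv_of_finrank_eq' hfield
    (M := ((Scheme.Modules.pushforward f).obj (∐ fun _ : Fin m => unitM X)).presheaf.stalk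
        (genericPoint Y))
    (M' := (∐ fun _ : ULift.{u} (Fin r) => F).presheaf.stalk (genericPoint Y))
    (by rw [hrkT, hrkN, mul_comm])
  -- spread out
  obtain ⟨V, hηV, φ, hφ⟩ := Groth.Agent.Lib.Helper9.StalkExt.main9526 Y
    (∐ fun _ : ULift.{u} (Fin r) => F)
    ((Scheme.Modules.pushforward f).obj (∐ fun _ : Fin m => unitM X)) hT hN (genericPoint Y)
    lam.toLinearMap
  have hφbij : Function.Bijective (stalkMap φ (⟨genericPoint Y, hηV⟩ : V)) := by
    have h0 : IsIso (AddCommGrpCat.ofHom lam.toLinearMap.toAddMonoidHom) :=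
      (ConcreteCategory.isIso_iff_bijective _).mpr lam.bijective
    let a := (Scheme.Modules.restrictStalkNatIso V.ι (⟨genericPoint Y, hηV⟩ : V)).app
      ((Scheme.Modules.pushforward f).obj (∐ fun _ : Fin m => unitM X))
    let b := (Scheme.Modules.restrictStalkNatIso V.ι (⟨genericPoint Y, hηV⟩ : V)).app
      (∐ fun _ : ULift.{u} (Fin r) => F)
    have hφ' : a.inv ≫ (TopCat.Presheaf.stalkFunctor _ (⟨genericPoint Y, hηV⟩ : V)).map
        φ.mapPresheaf ≫ b.hom = AddCommGrpCat.ofHom lam.toLinearMap.toAddMonoidHom := hφ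
    have ha : Function.Bijective a.inv := ConcreteCategory.bijective_of_isIso a.inv
    have hb : Function.Bijective b.hom := ConcreteCategory.bijective_of_isIso b.hom
    have hfun : ∀ x, b.hom (((TopCat.Presheaf.stalkFunctor _ (⟨genericPoint Y, hηV⟩ : V)).map
        φ.mapPresheaf) (a.inv x)) = lam x := fun x => ConcreteCategory.congr_hom hφ' x
    have hcomp : Function.Bijective ((b.hom : _ → _) ∘
        (((TopCat.Presheaf.stalkFunctor _ (⟨genericPoint Y, hηV⟩ : V)).map
          φ.mapPresheaf : _ → _)) ∘ (a.inv : _ → _)) := by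
      have : ((b.hom : _ → _) ∘ (((TopCat.Presheaf.stalkFunctor _ (⟨genericPoint Y, hηV⟩ : V)).map
          φ.mapPresheaf : _ → _)) ∘ (a.inv : _ → _)) = (lam : _ → _) := funext hfun
      rw [this]
      exact lam.bijective
    have h3 := (Function.Bijective.of_comp_iff' hb _).mp hcomp
    exact (Function.Bijective.of_comp_iff _ ha).mp h3
  -- extend to a power of the ideal of the complement
  have hU : (V : Set Y) = ((Scheme.IdealSheafData.vanishingIdeal
      ⟨(V : Set Y)ᶜ, V.isOpen.isClosed_compl⟩).support : Set Y)ᶜ := by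
    have : ((Scheme.IdealSheafData.vanishingIdeal
        ⟨(V : Set Y)ᶜ, V.isOpen.isClosed_compl⟩).support : Set Y) = (V : Set Y)ᶜ :=
      Scheme.IdealSheafData.coe_support_vanishingIdeal _
    rw [this, compl_compl]
  obtain ⟨n, ψ, hψ⟩ := main9515 Y (∐ fun _ : ULift.{u} (Fin r) => F)
    ((Scheme.Modules.pushforward f).obj (∐ fun _ : Fin m => unitM X)) hT.1 hN _ V hU φ
  have hJn : ∀ U' : Y.affineOpens, U'.1 ≤ V → ((Scheme.IdealSheafData.vanishingIdeal
      ⟨(V : Set Y)ᶜ, V.isOpen.isClosed_compl⟩) ^ n).ideal U' = ⊤ := fun U' hU' =>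
    pow_ideal_eq_top _ n U' (vanishingIdeal_compl_ideal_eq_top V U' hU')
  have hNq : ((Scheme.Modules.pushforward f).obj (∐ fun _ : Fin m => unitM X)).IsQuasicoherent :=
    hN.1
  have hιiso := isIso_restrict_idealMulι ((Scheme.IdealSheafData.vanishingIdeal
      ⟨(V : Set Y)ᶜ, V.isOpen.isClosed_compl⟩) ^ n)
      ((Scheme.Modules.pushforward f).obj (∐ fun _ : Fin m => unitM X)) V hJn
  obtain ⟨e, -⟩ := main9523 f (∐ fun _ : Fin m => unitM X) hPq
    ((Scheme.IdealSheafData.vanishingIdeal ⟨(V : Set Y)ᶜ, V.isOpen.isClosed_compl⟩) ^ n)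
  refine ⟨r, _, e.inv ≫ ψ, hrpos,
    ⟨isQuasicoherent_idealMul _ (∐ fun _ : Fin m => unitM X),
      isFiniteType_idealMul _ (∐ fun _ : Fin m => unitM X)⟩, ?_⟩
  -- bijectivity of the stalk of ψ
  have hψbij : Function.Bijective (stalkMap ψ (genericPoint Y)) := by
    have h1 : Function.Bijective (stalkMap ((Scheme.Modules.restrictFunctor V.ι).map ψ)
        (⟨genericPoint Y, hηV⟩ : V)) := by
      rw [hψ]
      have h2 : Function.Bijective (stalkMap ((Scheme.Modules.restrictFunctor V.ι).map
          (Dual3.idealMulι ((Scheme.IdealSheafData.vanishingIdeal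
            ⟨(V : Set Y)ᶜ, V.isOpen.isClosed_compl⟩) ^ n)
            ((Scheme.Modules.pushforward f).obj (∐ fun _ : Fin m => unitM X))))
          (⟨genericPoint Y, hηV⟩ : V)) := by
        have : IsIso (stalkMap ((Scheme.Modules.restrictFunctor V.ι).map
          (Dual3.idealMulι ((Scheme.IdealSheafData.vanishingIdeal
            ⟨(V : Set Y)ᶜ, V.isOpen.isClosed_compl⟩) ^ n)
            ((Scheme.Modules.pushforward f).obj (∐ fun _ : Fin m => unitM X))))
          (⟨genericPoint Y, hηV⟩ : V)) := Functor.map_isIso _ _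
        exact ConcreteCategory.bijective_of_isIso _
      have h3 : (stalkMap ((Scheme.Modules.restrictFunctor V.ι).map
          (Dual3.idealMulι ((Scheme.IdealSheafData.vanishingIdeal
            ⟨(V : Set Y)ᶜ, V.isOpen.isClosed_compl⟩) ^ n)
            ((Scheme.Modules.pushforward f).obj (∐ fun _ : Fin m => unitM X))) ≫ φ)
          (⟨genericPoint Y, hηV⟩ : V) : _ → _) =
          (stalkMap φ (⟨genericPoint Y, hηV⟩ : V) : _ → _) ∘
          (stalkMap ((Scheme.Modules.restrictFunctor V.ι).map
          (Dual3.idealMulι ((Scheme.IdealSheafData.vanishingIdeal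
            ⟨(V : Set Y)ᶜ, V.isOpen.isClosed_compl⟩) ^ n)
            ((Scheme.Modules.pushforward f).obj (∐ fun _ : Fin m => unitM X))))
          (⟨genericPoint Y, hηV⟩ : V) : _ → _) := funext fun x => stalkMap_comp_apply _ _ _ x
      rw [h3]
      exact hφbij.comp h2
    obtain ⟨hi, hs⟩ := Groth.Agent.S9525.stalkMap_restrict_iff ψ V ⟨genericPoint Y, hηV⟩
    exact ⟨hi.mp h1.1, hs.mp h1.2⟩
  have heinv : Function.Bijective (stalkMap e.inv (genericPoint Y)) := by
    have : IsIso (stalkMap e.inv (genericPoint Y)) := Functor.map_isIso _ _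
    exact ConcreteCategory.bijective_of_isIso _
  have hcomp : (stalkMap (e.inv ≫ ψ) (genericPoint Y) : _ → _) =
      (stalkMap ψ (genericPoint Y) : _ → _) ∘ (stalkMap e.inv (genericPoint Y) : _ → _) :=
    funext fun x => stalkMap_comp_apply _ _ _ x
  rw [hcomp]
  exact hψbij.comp heinv

theorem main10949 [IsIntegral X] [IsNoetherian X] [IsIntegral Y] [IsNoetherian Y]
    (f : X ⟶ Y) [IsFinite f] [Surjective f] (F : Y.Modules) (hF : Coh.IsCoh F) :
    ∃ (r : ℕ) (G : X.Modules)
      (β : (Scheme.Modules.pushforward f).obj G ⟶ ∐ fun _ : ULift.{u} (Fin r) => F),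
      0 < r ∧ Coh.IsCoh G ∧
      IsIso ((TopCat.Presheaf.stalkFunctor AddCommGrpCat.{u} (genericPoint ↥Y)).map
        ((SheafOfModules.toSheaf Y.ringCatSheaf).map β).hom) := by
  obtain ⟨r, G, β, hr, hG, hβ⟩ := main10949' f F hF
  refine ⟨r, G, β, hr, hG, ?_⟩
  have : IsIso (stalkMap β (genericPoint Y)) := (ConcreteCategory.isIso_iff_bijective _).mpr hβ
  exact this

end Groth.Agent.Lib.Helper9.FinGen
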