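import Mathlib

/-!
# Flat closure of modules over a Dedekind-like base, part 1: ring-level lemmas (helper9)
-/

set_option autoImplicit false
universe u
open TensorProduct

namespace Groth.Agent.Lib.Helper9.FlatCl

section

variable {A B : Type*} [CommRing A] [CommRing B] [Algebra A B] {M : Type*} [AddCommGroup M]
  [Module A M] [Module B M] [IsScalarTower A B M]

/-- `M` is torsion-free as an `A`-module. -/
def MTF (A : Type*) [CommRing A] (M : Type*) [AddCommGroup M] [Module A M] : Prop :=
  ∀ a ∈ nonZeroDivisors A, ∀ m : M, a • m = 0 → m = 0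

theorem flat_localizedModule_of_mtf [IsDomain A]
    (hA : ∀ (P : Ideal A) [P.IsMaximal], ValuationRing (Localization.AtPrime P))
    (S : Submonoid B) (h : MTF A M) : Module.Flat A (LocalizedModule S M) := by
  rw [Module.Flat.flat_iff_torsion_eq_bot_of_valuationRing_localization_isMaximal
    (fun P _ => hA P), Submodule.eq_bot_iff]
  intro x hx
  rw [Submodule.mem_torsion_iff] at hx
  obtain ⟨a, hax⟩ := hx
  induction x using LocalizedModule.induction_on with
  | h m s =>
    have h1 : (a : A) • LocalizedModule.mk m s = 0 := hax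
    rw [LocalizedModule.smul'_mk, ← LocalizedModule.zero_mk s, LocalizedModule.mk_eq] at h1
    obtain ⟨u, hu⟩ := h1
    rw [smul_zero, smul_zero] at hu
    -- u • s • a • m = 0
    have h2 : (a : A) • ((u * s : S) • m) = 0 := by
      rw [← hu, mul_smul]
      show (a : A) • ((u : B) • (s : B) • m) = (u : B) • (s : B) • (a : A) • m
      rw [smul_comm (a : A) (u : B), smul_comm (a : A) (s : B)]
    have h3 := h a a.2 _ h2
    rw [← LocalizedModule.zero_mk s, LocalizedModule.mk_eq]
    exact ⟨u * s, by rw [smul_zero, smul_zero, ← mul_smul, mul_comm (u * s) s, mul_smul, h3,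
      smul_zero]⟩

theorem mtf_of_flat_localizedModule
    (h : ∀ (q : Ideal B) [q.IsPrime], Module.Flat A (LocalizedModule q.primeCompl M)) :
    MTF A M := by
  intro a ha m hm
  by_contra hm0
  -- the annihilator of `m` is a proper ideal, contained in a maximal ideal
  have hann : (Submodule.span B {m}).annihilator ≠ ⊤ := by
    intro htop
    apply hm0
    have h1 : (1 : B) ∈ (Submodule.span B {m}).annihilator := by rw [htop]; trivial
    rw [Submodule.mem_annihilator_span_singleton] at h1
    simpa using h1
  obtain ⟨q, hq, hle⟩ := Ideal.exists_le_maximal _ hann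
  have hqp : q.IsPrime := hq.isPrime
  have hflat := h q
  have hreg := Module.Flat.isSMulRegular_of_nonZeroDivisors
    (M := LocalizedModule q.primeCompl M) ha
  have h1 : a • LocalizedModule.mk m (1 : q.primeCompl) = a • 0 := by
    rw [LocalizedModule.smul'_mk, hm, smul_zero, LocalizedModule.zero_mk]
  have h2 := hreg h1
  rw [← LocalizedModule.zero_mk (1 : q.primeCompl), LocalizedModule.mk_eq] at h2
  obtain ⟨u, hu⟩ := h2
  rw [smul_zero, smul_zero, one_smul] at hu
  have : (u : B) ∈ (Submodule.span B {m}).annihilator := by
    rw [Submodule.mem_annihilator_span_singleton]; exact hu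
  exact u.2 (hle this)

end

section loc

variable {B C : Type*} [CommRing B] [CommRing C] [Algebra B C] (T : Submonoid B)
  [IsLocalization T C] {M : Type*} [AddCommGroup M] [Module B M]

include T in
theorem exists_smul_eq_zero_of_tmul_eq_zero (m : M) (h : (1 : C) ⊗ₜ[B] m = 0) :
    ∃ t ∈ T, t • m = 0 := by
  have := (IsLocalizedModule.eq_zero_iff T (TensorProduct.mk B C M 1) (m := m)).mp h
  obtain ⟨s, hs⟩ := this
  exact ⟨s, s.2, hs⟩

end loc

end Groth.Agent.Lib.Helper9.FlatCl
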