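import Mathlib
import Groth.Agent.Lib.Helper9.FlatCl4
import Groth.Agent.Lib.Helper9.FlatClM1
import Groth.Agent.Lib.Helper12.HomGlue3
import Groth.Agent.Lib.Helper12.ModLim4

/-!
# Flat closure of modules over a Dedekind-like base, part 2: sections of pullbacks to the generic
fibre (helper9)
-/

set_option autoImplicit false
universe u
open CategoryTheory CategoryTheory.Limits AlgebraicGeometry TopologicalSpace Opposite TensorProduct

namespace Groth.Agent.Lib.Helper9.FlatCl

open Groth.Agent.Lib.Helper29.QCoh Groth.Agent.Lib.Helper12.H12HomGlue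
  Groth.Agent.Lib.Helper12.H12ModLim

variable {X Y : Scheme.{u}} [IsIntegral Y] (f : X ⟶ Y)

/-- Variant of `chart_isLocalization` for the `appLE` algebra structure. -/
theorem chart_isLocalization' {V : Y.Opens}
    (hV : IsAffineOpen V) (hη : genericPoint Y ∈ V) {U : X.Opens} (hU : IsAffineOpen U)
    (hUV : U ≤ f ⁻¹ᵁ V) :
    @IsLocalization _ _ (Submonoid.map (f.appLE V U hUV).hom (nonZeroDivisors Γ(Y, V)))
      Γ(f.fiber (genericPoint Y), (f.fiberι (genericPoint Y)) ⁻¹ᵁ U) _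
      ((f.fiberι (genericPoint Y)).appLE U ((f.fiberι (genericPoint Y)) ⁻¹ᵁ U) le_rfl).hom.toAlgebra := by
  have e : (f.fiberι (genericPoint Y)).app U =
    (f.fiberι (genericPoint Y)).appLE U ((f.fiberι (genericPoint Y)) ⁻¹ᵁ U) le_rfl :=
      Scheme.Hom.app_eq_appLE ..
  rw [← e]
  exact chart_isLocalization f hV hη hU hUV

section

variable (M : X.Modules) [M.IsQuasicoherent] {V : Y.Opens} (hV : IsAffineOpen V)
  (hη : genericPoint Y ∈ V) {U : X.Opens} (hU : IsAffineOpen U) (hUV : U ≤ f ⁻¹ᵁ V)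

include hV hη hU hUV

/-- Every section of `ι^* M` over `ι⁻¹ U` becomes a pulled back section after multiplication by a
nonzero element of the base. -/
theorem exists_smul_eq_pullSect
    (a : Γ((Scheme.Modules.pullback (f.fiberι (genericPoint Y))).obj M,
      (f.fiberι (genericPoint Y)) ⁻¹ᵁ U)) :
    ∃ s ∈ nonZeroDivisors Γ(Y, V), ∃ g : Γ(M, U),
      ((f.fiberι (genericPoint Y)).app U ((f.appLE V U hUV) s)) • a =
        pullSect (f.fiberι (genericPoint Y)) M U g := by
  let ι := f.fiberι (genericPoint Y)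
  have hW : IsAffineOpen (ι ⁻¹ᵁ U) := hU.preimage ι
  have hloc := chart_isLocalization f hV hη hU hUV
  let _ : Algebra Γ(X, U) Γ(f.fiber (genericPoint Y), ι ⁻¹ᵁ U) := (ι.app U).hom.toAlgebra
  let N : Submodule Γ(f.fiber (genericPoint Y), ι ⁻¹ᵁ U)
      Γ((Scheme.Modules.pullback ι).obj M, ι ⁻¹ᵁ U) :=
    { carrier := {a | ∃ s ∈ nonZeroDivisors Γ(Y, V), ∃ g : Γ(M, U),
        (ι.app U ((f.appLE V U hUV) s)) • a = pullSect ι M U g}
      zero_mem' := ⟨1, Submonoid.one_mem _, 0, by rw [smul_zero, map_zero]⟩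
      add_mem' := by
        rintro a₁ a₂ ⟨s₁, hs₁, g₁, h₁⟩ ⟨s₂, hs₂, g₂, h₂⟩
        refine ⟨s₁ * s₂, Submonoid.mul_mem _ hs₁ hs₂,
          (f.appLE V U hUV) s₂ • g₁ + (f.appLE V U hUV) s₁ • g₂, ?_⟩
        rw [map_add, pullSect_smul, pullSect_smul, ← h₁, ← h₂, smul_add, map_mul, map_mul,
          ← mul_smul, ← mul_smul, mul_comm ((ι.app U) ((f.appLE V U hUV) s₂))]
      smul_mem' := by
        rintro b a ⟨s, hs, g, h⟩
        obtain ⟨⟨c, t⟩, hct⟩ := IsLocalization.surj
          (Submonoid.map (f.appLE V U hUV).hom (nonZeroDivisors Γ(Y, V))) b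
        obtain ⟨s₀, hs₀, hst⟩ := t.2
        refine ⟨s₀ * s, Submonoid.mul_mem _ hs₀ hs, c • g, ?_⟩
        have hct' : b * (ι.app U) ((f.appLE V U hUV) s₀) = (ι.app U) c := by
          have : (f.appLE V U hUV) s₀ = (t : Γ(X, U)) := hst
          rw [this]; exact hct
        rw [pullSect_smul, ← hct', ← h, map_mul, map_mul, smul_smul, smul_smul]
        congr 1
        ring }
  obtain ⟨S, hS⟩ := exists_sum_pullSect ι M hU hW a
  have : a ∈ N := by
    rw [hS]
    refine Submodule.sum_mem _ fun p _ => ?_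
    refine Submodule.smul_mem _ _ ?_
    exact ⟨1, Submonoid.one_mem _, p.2, by rw [map_one, map_one, one_smul]⟩
  exact this

/-- A section of `M` over `U` whose pullback to the generic fibre vanishes is killed by a nonzero
element of the base. -/
theorem exists_smul_eq_zero_of_pullSect_eq_zero (g : Γ(M, U))
    (h : pullSect (f.fiberι (genericPoint Y)) M U g = 0) :
    ∃ s ∈ nonZeroDivisors Γ(Y, V), (f.appLE V U hUV) s • g = 0 := by
  let ι := f.fiberι (genericPoint Y)
  have hW : IsAffineOpen (ι ⁻¹ᵁ U) := hU.preimage ι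
  have hloc := chart_isLocalization' f hV hη hU hUV
  let _ : Algebra Γ(X, U) Γ(f.fiber (genericPoint Y), ι ⁻¹ᵁ U) :=
    (ι.appLE U (ι ⁻¹ᵁ U) le_rfl).hom.toAlgebra
  have h1 := (pullSect_eq_zero_iff ι M hU hW g).mp h
  obtain ⟨t, ht, htg⟩ := exists_smul_eq_zero_of_tmul_eq_zero
    (C := Γ(f.fiber (genericPoint Y), ι ⁻¹ᵁ U))
    (Submonoid.map (f.appLE V U hUV).hom (nonZeroDivisors Γ(Y, V))) g h1
  obtain ⟨s, hs, hst⟩ := ht
  refine ⟨s, hs, ?_⟩
  have : (f.appLE V U hUV) s = t := hst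
  rw [this]; exact htg

end

end Groth.Agent.Lib.Helper9.FlatCl
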