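import Mathlib
import Groth.Agent.Lib.Helper9.FlatClM2
import Groth.Agent.Lib.Helper9.FlatCl3
import Groth.Agent.Lib.Helper12.FlatMod1
import Groth.Agent.Lib.Helper12.ModLim5
import Groth.Agent.Lib.Helper18.FlH
import Groth.Agent.Lib.Helper29.QCohPush
import Groth.Agent.Lib.Helper29.QCohPullback

/-!
# Flat closure of modules over a Dedekind-like base, part 3: torsion-free modules on charts
(helper9)
-/

set_option autoImplicit false
universe u
open CategoryTheory CategoryTheory.Limits AlgebraicGeometry TopologicalSpace Opposite TensorProduct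

namespace Groth.Agent.Lib.Helper9.FlatCl

open Groth.Agent.Lib.Helper29.QCoh Groth.Agent.Lib.Helper12.H12HomGlue
  Groth.Agent.Lib.Helper12.H12ModLim Groth.Agent.Lib.Helper12.H12FlatLim

variable {X Y : Scheme.{u}} [IsIntegral Y] (f : X ⟶ Y)

/-- `G` is torsion-free over `Y` on charts. -/
def ChartMTF (G : X.Modules) : Prop :=
  ∀ i : Chart f, ∀ s ∈ nonZeroDivisors Γ(Y, i.1.2.1), ∀ g : Γ(G, i.1.1.1),
    (f.appLE i.1.2.1 i.1.1.1 i.2.1) s • g = 0 → g = 0

/-- The adjoint of `β : ι^* G ⟶ G'` on sections. -/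
theorem homEquiv_app (G : X.Modules) (G' : (f.fiber (genericPoint Y)).Modules)
    (β : (Scheme.Modules.pullback (f.fiberι (genericPoint Y))).obj G ⟶ G') (U : X.Opens)
    (g : Γ(G, U)) :
    (((Scheme.Modules.pullbackPushforwardAdjunction (f.fiberι (genericPoint Y))).homEquiv G G'
      β).app U g : Γ(G', (f.fiberι (genericPoint Y)) ⁻¹ᵁ U)) =
      β.app ((f.fiberι (genericPoint Y)) ⁻¹ᵁ U) (pullSect (f.fiberι (genericPoint Y)) G U g) := by
  rw [Adjunction.homEquiv_unit]
  rfl

theorem isUnit_app_appLE {V : Y.Opens} (hV : IsAffineOpen V)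
    (hη : genericPoint Y ∈ V) {U : X.Opens} (hU : IsAffineOpen U) (hUV : U ≤ f ⁻¹ᵁ V)
    (s : Γ(Y, V)) (hs : s ∈ nonZeroDivisors Γ(Y, V)) :
    IsUnit ((f.fiberι (genericPoint Y)).app U ((f.appLE V U hUV) s)) := by
  have hloc := chart_isLocalization f hV hη hU hUV
  let _ : Algebra Γ(X, U) Γ(f.fiber (genericPoint Y), (f.fiberι (genericPoint Y)) ⁻¹ᵁ U) :=
    ((f.fiberι (genericPoint Y)).app U).hom.toAlgebra
  exact IsLocalization.map_units _ (⟨(f.appLE V U hUV) s, Submonoid.mem_map_of_mem _ hs⟩ :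
    Submonoid.map (f.appLE V U hUV).hom (nonZeroDivisors Γ(Y, V)))

theorem chart_cover (x : X) : ∃ i : Chart f, x ∈ i.1.1.1 :=
  Opens.mem_iSup.mp ((iSup_chart f).ge (Set.mem_univ x))

theorem chartFiber_cover (x : f.fiber (genericPoint Y)) :
    ∃ i : Chart f, x ∈ (chartFiber f i).1 :=
  Opens.mem_iSup.mp ((iSup_chartFiber f).ge (Set.mem_univ x))

/-- A submodule of a pushforward from the generic fibre is torsion-free over `Y`. -/
theorem chartMTF_of_mono (G : X.Modules) (G' : (f.fiber (genericPoint Y)).Modules)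
    (m : G ⟶ (Scheme.Modules.pushforward (f.fiberι (genericPoint Y))).obj G') [Mono m] :
    ChartMTF f G := by
  intro i s hs g hg
  obtain ⟨⟨U, V⟩, hUV, hη⟩ := i
  have h1 : m.app U.1 ((f.appLE V.1 U.1 hUV) s • g) = 0 := by
    have : (f.appLE V.1 U.1 hUV) s • g = 0 := hg
    rw [this, map_zero]
  rw [Scheme.Modules.Hom.app_smul, pushforward_smul] at h1
  have hu := isUnit_app_appLE f V.2 hη U.2 hUV s hs
  let n : Γ(G', (f.fiberι (genericPoint Y)) ⁻¹ᵁ U.1) := m.app U.1 g
  have hn : ((f.fiberι (genericPoint Y)).app U.1 ((f.appLE V.1 U.1 hUV) s)) • n = 0 := h1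
  have h2 : n = 0 := hu.smul_left_cancel.mp (hn.trans (smul_zero _).symm)
  exact app_injective_of_mono m U.1 (h2.trans (map_zero _).symm)

/-- The adjoint of a monomorphism `G ⟶ ι_* G'` is a monomorphism `ι^* G ⟶ G'`. -/
theorem mono_homEquiv_symm (G : X.Modules) [G.IsQuasicoherent]
    (G' : (f.fiber (genericPoint Y)).Modules) [G'.IsQuasicoherent]
    (m : G ⟶ (Scheme.Modules.pushforward (f.fiberι (genericPoint Y))).obj G') [Mono m] :
    Mono (((Scheme.Modules.pullbackPushforwardAdjunction (f.fiberι (genericPoint Y))).homEquiv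
      G G').symm m) := by
  set β := ((Scheme.Modules.pullbackPushforwardAdjunction (f.fiberι (genericPoint Y))).homEquiv
      G G').symm m with hβ
  have hm : (Scheme.Modules.pullbackPushforwardAdjunction (f.fiberι (genericPoint Y))).homEquiv
      G G' β = m := by rw [hβ, Equiv.apply_symm_apply]
  refine mono_of_app_injective_of_affine_cover β
    (fun i : Chart f => (f.fiberι (genericPoint Y)) ⁻¹ᵁ i.1.1.1)
    (fun i => i.1.1.2.preimage _) (chartFiber_cover f) fun i => ?_
  obtain ⟨⟨U, V⟩, hUV, hη⟩ := i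
  rw [injective_iff_map_eq_zero]
  intro a ha
  change Γ((Scheme.Modules.pullback (f.fiberι (genericPoint Y))).obj G,
    (f.fiberι (genericPoint Y)) ⁻¹ᵁ U.1) at a
  obtain ⟨s, hs, g, hsg⟩ := exists_smul_eq_pullSect f G V.2 hη U.2 hUV a
  have hu := isUnit_app_appLE f V.2 hη U.2 hUV s hs
  have h1 : β.app ((f.fiberι (genericPoint Y)) ⁻¹ᵁ U.1)
      (pullSect (f.fiberι (genericPoint Y)) G U.1 g) = 0 := by
    rw [← hsg, Scheme.Modules.Hom.app_smul]
    have : β.app ((f.fiberι (genericPoint Y)) ⁻¹ᵁ U.1) a = 0 := ha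
    rw [this, smul_zero]
  rw [← homEquiv_app, hm] at h1
  have hg : g = 0 := app_injective_of_mono m U.1 (h1.trans (map_zero _).symm)
  rw [hg, map_zero] at hsg
  have : ((f.fiberι (genericPoint Y)).app U.1 ((f.appLE V.1 U.1 hUV) s)) • a =
      ((f.fiberι (genericPoint Y)).app U.1 ((f.appLE V.1 U.1 hUV) s)) • 0 := by
    rw [smul_zero]; exact hsg
  exact hu.smul_left_cancel.mp this

/-- For `G` torsion-free over `Y`, the adjoint of a monomorphism `ι^* G ⟶ G'` is a
monomorphism. -/
theorem mono_homEquiv (G : X.Modules) [G.IsQuasicoherent]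
    (G' : (f.fiber (genericPoint Y)).Modules) [G'.IsQuasicoherent]
    (β : (Scheme.Modules.pullback (f.fiberι (genericPoint Y))).obj G ⟶ G') [Mono β]
    (htf : ChartMTF f G) :
    Mono ((Scheme.Modules.pullbackPushforwardAdjunction (f.fiberι (genericPoint Y))).homEquiv
      G G' β) := by
  have : ((Scheme.Modules.pushforward (f.fiberι (genericPoint Y))).obj G').IsQuasicoherent :=
    isQuasicoherent_pushforward_of_isAffineHom _ _
  refine mono_of_app_injective_of_affine_cover _ (fun i : Chart f => i.1.1.1)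
    (fun i => i.1.1.2) (chart_cover f) fun i => ?_
  have hi := htf i
  obtain ⟨⟨U, V⟩, hUV, hη⟩ := i
  rw [injective_iff_map_eq_zero]
  intro g hg
  have h1 := homEquiv_app f G G' β U.1 g
  have hg' : (((Scheme.Modules.pullbackPushforwardAdjunction
      (f.fiberι (genericPoint Y))).homEquiv G G' β).app U.1 g :
      Γ(G', (f.fiberι (genericPoint Y)) ⁻¹ᵁ U.1)) = 0 := hg
  rw [hg'] at h1
  have h2 : pullSect (f.fiberι (genericPoint Y)) G U.1 g = 0 :=
    app_injective_of_mono β _ ((map_zero _).trans h1).symm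
  obtain ⟨s, hs, hsg⟩ := exists_smul_eq_zero_of_pullSect_eq_zero f G V.2 hη U.2 hUV g h2
  exact hi s hs g hsg

end Groth.Agent.Lib.Helper9.FlatCl
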