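import Mathlib
import Groth.Agent.Lib.Helper9.FlatClM3
import Groth.Agent.Lib.Helper9.FlatLocus1

/-!
# Flat closure of modules over a Dedekind-like base, part 4: the flat quotient (helper9)
-/

set_option autoImplicit false
universe u
open CategoryTheory CategoryTheory.Limits AlgebraicGeometry TopologicalSpace Opposite TensorProduct

namespace Groth.Agent.Lib.Helper9.FlatCl

open Groth.Agent.Lib.Helper29.QCoh Groth.Agent.Lib.Helper12.H12HomGlue
  Groth.Agent.Lib.Helper12.H12ModLim Groth.Agent.Lib.Helper12.H12FlatLim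

variable {X Y : Scheme.{u}} [IsIntegral Y] (f : X ⟶ Y)

theorem isFlatOver_of_chartMTF
    (hY : ∀ y : Y, IsRegularLocalRing (Y.presheaf.stalk y) ∧ ringKrullDim (Y.presheaf.stalk y) ≤ 1)
    (G : X.Modules) [G.IsQuasicoherent] (h : ChartMTF f G) : FlatMod.IsFlatOver f G := by
  intro x
  obtain ⟨i, hx⟩ := chart_cover f x
  have hi := h i
  obtain ⟨⟨U, V⟩, hUV, hη⟩ := i
  rw [Groth.Agent.Lib.Helper18.Fl.isFlatOverAt_iff_flat_localizedModule f G U.2 V.2 hUV x hx]
  let _ : Algebra Γ(Y, V.1) Γ(X, U.1) := (f.appLE V.1 U.1 hUV).hom.toAlgebra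
  let _ : Module Γ(Y, V.1) Γ(G, U.1) := Module.compHom _ (f.appLE V.1 U.1 hUV).hom
  have : IsScalarTower Γ(Y, V.1) Γ(X, U.1) Γ(G, U.1) :=
    IsScalarTower.of_algebraMap_smul (fun r m => rfl)
  have hne : Nonempty V.1 := ⟨⟨_, hη⟩⟩
  have hdom : IsDomain Γ(Y, V.1) := inferInstance
  exact flat_localizedModule_of_mtf
    (fun P _ => valuationRing_localization_of_regular hY V.2 P) _
    (fun a ha m hm => hi a ha m hm)

theorem chartMTF_of_isFlatOver (G : X.Modules) [G.IsQuasicoherent]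
    (h : FlatMod.IsFlatOver f G) : ChartMTF f G := by
  intro i
  obtain ⟨⟨U, V⟩, hUV, hη⟩ := i
  let _ : Algebra Γ(Y, V.1) Γ(X, U.1) := (f.appLE V.1 U.1 hUV).hom.toAlgebra
  let _ : Module Γ(Y, V.1) Γ(G, U.1) := Module.compHom _ (f.appLE V.1 U.1 hUV).hom
  have : IsScalarTower Γ(Y, V.1) Γ(X, U.1) Γ(G, U.1) :=
    IsScalarTower.of_algebraMap_smul (fun r m => rfl)
  have key : MTF Γ(Y, V.1) Γ(G, U.1) := by
    refine mtf_of_flat_localizedModule (B := Γ(X, U.1)) fun q _ => ?_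
    let y : PrimeSpectrum Γ(X, U.1) := ⟨q, inferInstance⟩
    have hx : U.2.fromSpec y ∈ U.1 := by
      rw [← SetLike.mem_coe, ← U.2.range_fromSpec]; exact ⟨y, rfl⟩
    have hq : U.2.primeIdealOf ⟨U.2.fromSpec y, hx⟩ = y := by
      apply U.2.fromSpec.isOpenEmbedding.injective
      exact U.2.fromSpec_primeIdealOf ⟨_, hx⟩
    have h1 := (Groth.Agent.Lib.Helper18.Fl.isFlatOverAt_iff_flat_localizedModule f G U.2 V.2 hUV
      _ hx).mp (h _)
    rw [hq] at h1
    exact h1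
  exact fun s hs g hg => key s hs g hg

end Groth.Agent.Lib.Helper9.FlatCl
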