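import Mathlib
import Groth.Agent.Lib.Helper9.FlatClM4

/-!
# Flat closure of modules over a Dedekind-like base, part 5: main theorem (helper9)
-/

set_option autoImplicit false
universe u
open CategoryTheory CategoryTheory.Limits AlgebraicGeometry TopologicalSpace Opposite TensorProduct

namespace Groth.Agent.Lib.Helper9.FlatCl

open Groth.Agent.Lib.Helper29.QCoh Groth.Agent.Lib.Helper12.H12HomGlue
  Groth.Agent.Lib.Helper12.H12ModLim Groth.Agent.Lib.Helper12.H12FlatLim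

/-- Two epi-mono factorizations of the same morphism in an abelian category are isomorphic. -/
theorem iso_of_epi_mono_fac {C : Type*} [Category C] [Abelian C] {F G₁ G₂ H : C}
    (ρ₁ : F ⟶ G₁) (m₁ : G₁ ⟶ H) (ρ₂ : F ⟶ G₂) (m₂ : G₂ ⟶ H) [Epi ρ₁] [Mono m₁] [Epi ρ₂] [Mono m₂]
    (h : ρ₁ ≫ m₁ = ρ₂ ≫ m₂) : ∃ e : G₁ ≅ G₂, ρ₁ ≫ e.hom = ρ₂ := by
  have : StrongEpi ρ₁ := strongEpi_of_epi ρ₁
  have : StrongEpi ρ₂ := strongEpi_of_epi ρ₂
  let i₁ : G₁ ≅ image (ρ₁ ≫ m₁) := image.isoStrongEpiMono ρ₁ m₁ rfl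
  let i₂ : G₂ ≅ image (ρ₁ ≫ m₁) := image.isoStrongEpiMono ρ₂ m₂ h.symm
  refine ⟨i₁ ≪≫ i₂.symm, ?_⟩
  rw [← cancel_mono m₂]
  simp only [Iso.trans_hom, Iso.symm_hom, Category.assoc]
  rw [image.isoStrongEpiMono_inv_comp_mono, image.isoStrongEpiMono_hom_comp_ι, h]

variable {X Y : Scheme.{u}} [IsIntegral Y]

theorem main4684
    (hY : ∀ y : Y, IsRegularLocalRing (Y.presheaf.stalk y) ∧ ringKrullDim (Y.presheaf.stalk y) ≤ 1)
    (f : X ⟶ Y) (F : X.Modules) (hF : Coh.IsQCoh F) (G' : (f.fiber (genericPoint Y)).Modules)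
    (hG' : Coh.IsQCoh G')
    (π : (Scheme.Modules.pullback (f.fiberι (genericPoint Y))).obj F ⟶ G') [Epi π] :
    (∃ (G : X.Modules) (ρ : F ⟶ G)
        (e : (Scheme.Modules.pullback (f.fiberι (genericPoint Y))).obj G ≅ G'),
        Epi ρ ∧ Coh.IsQCoh G ∧ FlatMod.IsFlatOver f G ∧
          (Scheme.Modules.pullback (f.fiberι (genericPoint Y))).map ρ ≫ e.hom = π) ∧
      ∀ (G₁ G₂ : X.Modules) (ρ₁ : F ⟶ G₁) (ρ₂ : F ⟶ G₂)
        (e₁ : (Scheme.Modules.pullback (f.fiberι (genericPoint Y))).obj G₁ ≅ G')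
        (e₂ : (Scheme.Modules.pullback (f.fiberι (genericPoint Y))).obj G₂ ≅ G'),
        Epi ρ₁ → Epi ρ₂ → Coh.IsQCoh G₁ → Coh.IsQCoh G₂ → FlatMod.IsFlatOver f G₁ →
        FlatMod.IsFlatOver f G₂ →
        (Scheme.Modules.pullback (f.fiberι (genericPoint Y))).map ρ₁ ≫ e₁.hom = π →
        (Scheme.Modules.pullback (f.fiberι (genericPoint Y))).map ρ₂ ≫ e₂.hom = π →
        ∃ e : G₁ ≅ G₂, ρ₁ ≫ e.hom = ρ₂ := by
  have hFq : F.IsQuasicoherent := hF
  have hGq' : G'.IsQuasicoherent := hG'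
  let adj := Scheme.Modules.pullbackPushforwardAdjunction (f.fiberι (genericPoint Y))
  have hPq : ((Scheme.Modules.pushforward (f.fiberι (genericPoint Y))).obj G').IsQuasicoherent :=
    isQuasicoherent_pushforward_of_isAffineHom _ _
  let α : F ⟶ (Scheme.Modules.pushforward (f.fiberι (genericPoint Y))).obj G' :=
    adj.homEquiv F G' π
  constructor
  · let G := Abelian.image α
    let ρ : F ⟶ G := Abelian.factorThruImage α
    let m : G ⟶ (Scheme.Modules.pushforward (f.fiberι (genericPoint Y))).obj G' :=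
      Abelian.image.ι α
    have fac : ρ ≫ m = α := Abelian.image.fac α
    have hGq : G.IsQuasicoherent :=
      Groth.Agent.Lib.Helper9.FlatLocus.isQuasicoherent_of_epi_mono ρ m
    let β : (Scheme.Modules.pullback (f.fiberι (genericPoint Y))).obj G ⟶ G' :=
      (adj.homEquiv G G').symm m
    have hπ : (Scheme.Modules.pullback (f.fiberι (genericPoint Y))).map ρ ≫ β = π := by
      have h1 := adj.homEquiv_naturality_left_symm ρ m
      rw [fac] at h1
      rw [← h1]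
      exact Equiv.symm_apply_apply _ _
    have hβe : Epi β := by
      have : Epi ((Scheme.Modules.pullback (f.fiberι (genericPoint Y))).map ρ ≫ β) := by
        rw [hπ]; infer_instance
      exact epi_of_epi ((Scheme.Modules.pullback (f.fiberι (genericPoint Y))).map ρ) β
    have hβm : Mono β := mono_homEquiv_symm f G G' m
    have hβi : IsIso β := isIso_of_mono_of_epi β
    exact ⟨G, ρ, asIso β, inferInstance, hGq,
      isFlatOver_of_chartMTF f hY G (chartMTF_of_mono f G G' m), hπ⟩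
  · intro G₁ G₂ ρ₁ ρ₂ e₁ e₂ _ _ hq₁ hq₂ hf₁ hf₂ h₁ h₂
    have hq₁' : G₁.IsQuasicoherent := hq₁
    have hq₂' : G₂.IsQuasicoherent := hq₂
    have hm₁ : Mono (adj.homEquiv G₁ G' e₁.hom) :=
      mono_homEquiv f G₁ G' e₁.hom (chartMTF_of_isFlatOver f G₁ hf₁)
    have hm₂ : Mono (adj.homEquiv G₂ G' e₂.hom) :=
      mono_homEquiv f G₂ G' e₂.hom (chartMTF_of_isFlatOver f G₂ hf₂)
    have hα₁ : ρ₁ ≫ adj.homEquiv G₁ G' e₁.hom = α := by
      rw [← adj.homEquiv_naturality_left, h₁]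
    have hα₂ : ρ₂ ≫ adj.homEquiv G₂ G' e₂.hom = α := by
      rw [← adj.homEquiv_naturality_left, h₂]
    exact iso_of_epi_mono_fac ρ₁ _ ρ₂ _ (hα₁.trans hα₂.symm)

end Groth.Agent.Lib.Helper9.FlatCl
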