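import Groth.Agent.Lib.Helper9.FlatArtin

/-!
# Descent of flatness along a jointly injective family of ring maps out of a semilocal ring with
nilpotent Jacobson radical (helper9 library)
-/

set_option autoImplicit false

namespace Groth.Agent.Lib.Helper9.FlatFamily

open TensorProduct Function Groth.Agent.Lib.Helper9

universe u

section Local

variable {R : Type u} [CommRing R] [IsLocalRing R]
  {M : Type u} [AddCommGroup M] [Module R M]

/-- Over a local ring with nilpotent maximal ideal there is a surjection `φ` from a free module onto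
`M` such that, for every `R`-algebra `S` with `S ⊗ M` flat over `S`, the kernel of `φ` dies in
`S ⊗ F`. -/
theorem exists_free_cover (hnil : IsNilpotent (IsLocalRing.maximalIdeal R)) :
    ∃ (ι : Type u) (φ : (ι →₀ R) →ₗ[R] M), Surjective φ ∧
      ∀ (S : Type u) [CommRing S] [Algebra R S], Module.Flat S (S ⊗[R] M) →
        ∀ x : ι →₀ R, φ x = 0 → (1 : S) ⊗ₜ[R] x = 0 := by
  classical
  let 𝔪 := IsLocalRing.maximalIdeal R
  let k := IsLocalRing.ResidueField R
  let ι := Module.Free.ChooseBasisIndex k (k ⊗[R] M)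
  let w : Module.Basis ι k (k ⊗[R] M) := Module.Free.chooseBasis k (k ⊗[R] M)
  have ⟨v, hv⟩ := (TensorProduct.mk_surjective R M k Ideal.Quotient.mk_surjective).comp_left w
  have hv' : ∀ i, (1 : k) ⊗ₜ[R] v i = w i := fun i => congrFun hv i
  let F := ι →₀ R
  let φ : F →ₗ[R] M := Finsupp.linearCombination R v
  have hφs : Surjective φ := by
    rw [← LinearMap.range_eq_top, Finsupp.range_linearCombination]
    refine eq_top_of_sup_smul_top_eq_top _ hnil _ ?_
    have h1 : (Submodule.span R (Set.range v)).map (TensorProduct.mk R k M 1) = ⊤ := by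
      rw [Submodule.map_span, ← Submodule.restrictScalars_span R k Ideal.Quotient.mk_surjective,
        Submodule.restrictScalars_eq_top_iff, ← w.span_eq, ← Set.range_comp, ← hv]
    have h2 := Submodule.comap_map_eq (TensorProduct.mk R k M 1) (Submodule.span R (Set.range v))
    rw [h1, Submodule.comap_top] at h2
    have h3 : LinearMap.ker (TensorProduct.mk R k M 1) = IsLocalRing.maximalIdeal R • ⊤ :=
      LinearMap.ker_tensorProductMk (Q := M) (I := IsLocalRing.maximalIdeal R)
    rw [h3] at h2
    exact h2.symm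
  have hφk : Injective (φ.lTensor k) := by
    let b : Module.Basis ι k (k ⊗[R] F) := (Finsupp.basisSingleOne).baseChange k
    have h1 : φ.baseChange k = (b.equiv w (Equiv.refl ι)).toLinearMap := by
      refine b.ext fun i => ?_
      have h2 : b i = (1 : k) ⊗ₜ[R] Finsupp.single i (1 : R) := by
        simp [b]
      rw [LinearEquiv.coe_coe, Module.Basis.equiv_apply, h2, LinearMap.baseChange_tmul,
        Equiv.refl_apply, ← hv' i]
      congr 1
      exact (Finsupp.linearCombination_single R 1 i).trans (one_smul _ _)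
    change Injective (φ.baseChange k)
    rw [h1]
    exact (b.equiv w (Equiv.refl ι)).injective
  refine ⟨ι, φ, hφs, ?_⟩
  intro S _ _ hflat x hx
  let φS : S ⊗[R] F →ₗ[S] S ⊗[R] M := φ.baseChange S
  have hφSs : Surjective φS := LinearMap.lTensor_surjective S hφs
  let K' : Submodule S (S ⊗[R] F) := LinearMap.ker φS
  let I' : Ideal S := 𝔪.map (algebraMap R S)
  have hI'nil : IsNilpotent I' := by
    obtain ⟨n, hn⟩ := hnil
    exact ⟨n, by rw [← Ideal.map_pow, hn, Ideal.zero_eq_bot, Ideal.map_bot]; rfl⟩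
  let X := S ⧸ I'
  have h3a : Injective (K'.subtype.lTensor X) :=
    lTensor_ker_subtype_injective_of_flat φS hφSs I'
  have hX : Module.IsTorsionBySet R X 𝔪 := by
    rintro x ⟨r, hr⟩
    obtain ⟨s, rfl⟩ := Ideal.Quotient.mk_surjective x
    change Ideal.Quotient.mk I' (r • s) = 0
    rw [Ideal.Quotient.eq_zero_iff_mem, Algebra.smul_def]
    exact Ideal.mul_mem_right _ _ (Ideal.mem_map_of_mem _ hr)
  have h3b : Injective (φS.lTensor X) := by
    have h1 : Injective (φ.lTensor X) :=
      lTensor_injective_of_isTorsionBySet_maximalIdeal φ hφk hX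
    have h3 := TensorProduct.AlgebraTensorModule.lTensor_comp_cancelBaseChange
      (R := R) (A := S) (B := S) (M := X) φ
    have h4 := fun z => congrArg (fun ψ => ψ z) h3
    simp only [LinearMap.coe_comp, Function.comp_apply, LinearEquiv.coe_coe] at h4
    intro a b hab
    apply (TensorProduct.AlgebraTensorModule.cancelBaseChange R S S X F).injective
    apply h1
    refine (h4 a).trans (Eq.trans ?_ (h4 b).symm)
    exact congrArg _ hab
  have h3c : Subsingleton (X ⊗[S] K') := by
    refine ⟨fun y z => h3a (h3b ?_)⟩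
    have h0 : φS ∘ₗ K'.subtype = 0 := by
      ext ⟨a, ha⟩
      exact ha
    rw [← LinearMap.lTensor_comp_apply, ← LinearMap.lTensor_comp_apply, h0]
    simp
  have h3d : Subsingleton K' := subsingleton_of_subsingleton_quotient_tensor I' hI'nil
  have h1 : (1 : S) ⊗ₜ[R] x ∈ K' := by
    change φS ((1 : S) ⊗ₜ[R] x) = 0
    rw [LinearMap.baseChange_tmul, hx, TensorProduct.tmul_zero]
  have h2 : (⟨(1 : S) ⊗ₜ[R] x, h1⟩ : K') = 0 := Subsingleton.elim _ _
  exact congrArg Subtype.val h2

/-- Family version of Stacks 051F (local case). -/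
theorem free_of_flat_baseChange_family
    (hnil : IsNilpotent (IsLocalRing.maximalIdeal R))
    {J : Type*} (C : J → Type u) [∀ i, CommRing (C i)] [∀ i, Algebra R (C i)]
    (hker : ∀ a : R, (∀ i, algebraMap R (C i) a = 0) → a = 0)
    (hflat : ∀ i, Module.Flat (C i) (C i ⊗[R] M)) : Module.Free R M := by
  classical
  obtain ⟨ι, φ, hφs, hφ⟩ := exists_free_cover (M := M) hnil
  have hφi : Injective φ := by
    rw [injective_iff_map_eq_zero]
    intro x hx
    ext j
    apply hker
    intro i
    have h1 := hφ (C i) (hflat i) x hx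
    have h2 := congrArg (TensorProduct.finsuppScalarRight R (C i) (C i) ι) h1
    have h3 := congrArg (fun f => f j) h2
    simpa [Algebra.smul_def] using h3
  exact Module.Free.of_equiv (LinearEquiv.ofBijective φ ⟨hφi, hφs⟩)

end Local

section Semilocal

variable {A : Type u} [CommRing A]

theorem exists_notMem_mul_pow_eq_zero [Finite (MaximalSpectrum A)] {n : ℕ}
    (hn : Ring.jacobson A ^ n = ⊥) (P : Ideal A) [hP : P.IsMaximal] :
    ∃ e : A, e ∉ P ∧ ∀ y ∈ P ^ n, e * y = 0 := by
  classical
  have := Fintype.ofFinite (MaximalSpectrum A)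
  let P₀ : MaximalSpectrum A := ⟨P, hP⟩
  let N : Ideal A := ∏ m ∈ Finset.univ.erase P₀, m.asIdeal ^ n
  have hN : ¬ N ≤ P := by
    intro h
    obtain ⟨m, hm, hle⟩ := (Ideal.IsPrime.prod_le hP.isPrime).mp h
    have h1 : m.asIdeal ≤ P := Ideal.IsPrime.le_of_pow_le hle
    have h2 : m.asIdeal = P := m.isMaximal.eq_of_le hP.ne_top h1
    exact (Finset.ne_of_mem_erase hm) (MaximalSpectrum.ext h2)
  obtain ⟨e, heN, heP⟩ := SetLike.not_le_iff_exists.mp hN
  refine ⟨e, heP, fun y hy => ?_⟩
  have h1 : e * y ∈ N * P ^ n := Ideal.mul_mem_mul heN hy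
  have h2 : N * P ^ n = ∏ m : MaximalSpectrum A, m.asIdeal ^ n := by
    rw [← Finset.mul_prod_erase Finset.univ _ (Finset.mem_univ P₀), mul_comm]
  have h3 : ∏ m : MaximalSpectrum A, m.asIdeal ^ n ≤ Ring.jacobson A ^ n := by
    rw [Finset.prod_pow]
    apply Ideal.pow_right_mono
    rw [Ring.jacobson_eq_sInf_isMaximal]
    refine le_sInf fun I hI => ?_
    exact (Ideal.prod_le_inf).trans
      (Finset.inf_le (Finset.mem_univ (⟨I, hI⟩ : MaximalSpectrum A)))
  have h4 := h3 (h2 ▸ h1)
  rw [hn] at h4
  exact h4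

/-- if `t ∉ P` (maximal) then `t` is invertible modulo `P ^ n`. -/
theorem exists_mul_sub_one_mem_pow (P : Ideal A) [hP : P.IsMaximal] {t : A} (ht : t ∉ P) (n : ℕ) :
    ∃ c : A, c * t - 1 ∈ P ^ n := by
  obtain ⟨c, i, hi, hc⟩ := Ideal.IsMaximal.exists_inv_pow P ht n
  refine ⟨c, ?_⟩
  have : c * t - 1 = -i := by rw [← hc]; ring
  rw [this]
  exact neg_mem hi


/-- EGA IV 11.?: flatness descends along a jointly injective family of ring maps out of a
semilocal ring with nilpotent Jacobson radical. -/
theorem flat_of_flat_baseChange_family_of_semilocal [Finite (MaximalSpectrum A)]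
    (hnil : IsNilpotent (Ring.jacobson A))
    {ι : Type*} (B : ι → Type u) [∀ i, CommRing (B i)] [∀ i, Algebra A (B i)]
    (hB : ∀ a : A, (∀ i, algebraMap A (B i) a = 0) → a = 0)
    (M : Type u) [AddCommGroup M] [Module A M]
    (hflat : ∀ i, Module.Flat (B i) (B i ⊗[A] M)) : Module.Flat A M := by
  obtain ⟨n, hn⟩ := hnil
  rw [Ideal.zero_eq_bot] at hn
  refine Module.flat_of_localized_maximal M ?_
  intro P hP
  obtain ⟨e, heP, he⟩ := exists_notMem_mul_pow_eq_zero hn P
  let RP := Localization.AtPrime P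
  let SP : ι → Type u := fun i => Localization (Algebra.algebraMapSubmonoid (B i) P.primeCompl)
  let MP := LocalizedModule P.primeCompl M
  have hnilP : IsNilpotent (IsLocalRing.maximalIdeal RP) := by
    refine ⟨n, ?_⟩
    rw [← Localization.AtPrime.map_eq_maximalIdeal, ← Ideal.map_pow, Ideal.zero_eq_bot,
      Ideal.map_eq_bot_iff_le_ker]
    intro y hy
    rw [RingHom.mem_ker, IsLocalization.map_eq_zero_iff P.primeCompl]
    exact ⟨⟨e, heP⟩, he y hy⟩
  have hker : ∀ x : RP, (∀ i, algebraMap RP (SP i) x = 0) → x = 0 := by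
    intro x hx
    obtain ⟨a, s, rfl⟩ := IsLocalization.exists_mk'_eq P.primeCompl x
    have hea : e * a = 0 := by
      apply hB
      intro i
      have h1 := hx i
      rw [IsLocalization.algebraMap_mk' (B i) RP (SP i), IsLocalization.mk'_eq_zero_iff] at h1
      obtain ⟨⟨_, t, ht, rfl⟩, h2⟩ := h1
      obtain ⟨c, hc⟩ := exists_mul_sub_one_mem_pow P ht n
      have h3 : e * a = (e * c) * (t * a) - a * (e * (c * t - 1)) := by ring
      rw [h3, he _ hc, mul_zero, sub_zero, map_mul, map_mul _ t a]
      change _ * (algebraMap A (B i) t * algebraMap A (B i) a) = 0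
      rw [h2, mul_zero]
    rw [IsLocalization.mk'_eq_zero_iff]
    exact ⟨⟨e, heP⟩, hea⟩
  have hflatP : ∀ i, Module.Flat (SP i) (SP i ⊗[RP] MP) := by
    intro i
    have := hflat i
    let e1 : MP ≃ₗ[RP] RP ⊗[A] M := LocalizedModule.equivTensorProduct P.primeCompl M
    let e2 : SP i ⊗[RP] MP ≃ₗ[SP i] SP i ⊗[RP] (RP ⊗[A] M) :=
      TensorProduct.AlgebraTensorModule.congr (LinearEquiv.refl (SP i) (SP i)) e1
    let e3 : SP i ⊗[RP] (RP ⊗[A] M) ≃ₗ[SP i] SP i ⊗[A] M :=
      TensorProduct.AlgebraTensorModule.cancelBaseChange A RP (SP i) (SP i) M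
    let e4 : SP i ⊗[B i] (B i ⊗[A] M) ≃ₗ[SP i] SP i ⊗[A] M :=
      TensorProduct.AlgebraTensorModule.cancelBaseChange A (B i) (SP i) (SP i) M
    exact Module.Flat.of_linearEquiv (e2.trans (e3.trans e4.symm))
  have hfree : Module.Free RP MP :=
    free_of_flat_baseChange_family hnilP SP hker hflatP
  have hflat' : Module.Flat RP MP := inferInstance
  exact Module.Flat.trans A RP MP

end Semilocal

end Groth.Agent.Lib.Helper9.FlatFamily
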