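import Mathlib

namespace Groth.Agent.Lib.Helper9.FlatFibre

open TensorProduct

section restrict

variable {A : Type*} [CommRing A] (I : Ideal A) (M : Type*) [AddCommGroup M] [Module A M]

/-- If `(A/I) ⊗ M` is flat over `A/I`, then `M ⊗_A -` preserves injections between `A/I`-modules. -/
theorem lTensor_injective_of_flat_quot (hM : Module.Flat (A ⧸ I) ((A ⧸ I) ⊗[A] M))
    {Y₁ Y₂ : Type*} [AddCommGroup Y₁] [Module A Y₁] [Module (A ⧸ I) Y₁]
    [IsScalarTower A (A ⧸ I) Y₁]
    [AddCommGroup Y₂] [Module A Y₂] [Module (A ⧸ I) Y₂] [IsScalarTower A (A ⧸ I) Y₂]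
    (u : Y₁ →ₗ[A] Y₂) (hu : Function.Injective u) :
    Function.Injective (LinearMap.lTensor M u) := by
  let u' : Y₁ →ₗ[A ⧸ I] Y₂ := LinearMap.extendScalarsOfSurjective Ideal.Quotient.mk_surjective u
  have hu' : Function.Injective u' := hu
  have h1 : Function.Injective (LinearMap.rTensor ((A ⧸ I) ⊗[A] M) u') :=
    Module.Flat.rTensor_preserves_injective_linearMap u' hu'
  let e₁ := AlgebraTensorModule.cancelBaseChange A (A ⧸ I) (A ⧸ I) Y₁ M
  let e₂ := AlgebraTensorModule.cancelBaseChange A (A ⧸ I) (A ⧸ I) Y₂ M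
  have hsq : ∀ t, e₂ (LinearMap.rTensor _ u' t) = LinearMap.rTensor M u (e₁ t) := by
    intro t
    induction t using TensorProduct.induction_on with
    | zero => simp
    | tmul y z =>
      induction z using TensorProduct.induction_on with
      | zero => simp
      | tmul c m =>
        simp only [LinearMap.rTensor_tmul, e₁, e₂, AlgebraTensorModule.cancelBaseChange_tmul]
        rw [← map_smul]
        rfl
      | add z₁ z₂ h₁ h₂ => simp only [tmul_add, map_add, h₁, h₂]
    | add t₁ t₂ h₁ h₂ => simp only [map_add, h₁, h₂]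
  have h2 : Function.Injective (LinearMap.rTensor M u) := by
    intro s t hst
    have hs := hsq (e₁.symm s)
    have ht := hsq (e₁.symm t)
    rw [LinearEquiv.apply_symm_apply] at hs ht
    have : e₁.symm s = e₁.symm t := h1 (e₂.injective (by rw [hs, ht, hst]))
    exact e₁.symm.injective this
  exact (LinearMap.lTensor_inj_iff_rTensor_inj M u).mpr h2

end restrict

section regular

variable {A : Type*} [CommRing A] (a : A) (M : Type*) [AddCommGroup M] [Module A M]

theorem mem_span_singleton_smul_top_iff {X : Type*} [AddCommMonoid X] [Module A X] (x : X) :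
    x ∈ (Ideal.span {a} • (⊤ : Submodule A X)) ↔ ∃ y : X, a • y = x := by
  rw [Submodule.ideal_span_singleton_smul, Submodule.mem_smul_pointwise_iff_exists]
  simp

/-- `a` kills `M ⊗ (F / aF)`. -/
theorem smul_lTensor_quot_eq_zero {F : Type*} [AddCommGroup F] [Module A F]
    (t : M ⊗[A] (F ⧸ (Ideal.span {a} • (⊤ : Submodule A F)))) : a • t = 0 := by
  induction t using TensorProduct.induction_on with
  | zero => simp
  | tmul m f =>
    obtain ⟨f, rfl⟩ := Submodule.Quotient.mk_surjective _ f
    rw [← tmul_smul, ← Submodule.Quotient.mk_smul]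
    have : Submodule.Quotient.mk (p := Ideal.span {a} • (⊤ : Submodule A F)) (a • f) = 0 := by
      rw [Submodule.Quotient.mk_eq_zero, mem_span_singleton_smul_top_iff]
      exact ⟨f, rfl⟩
    rw [this, tmul_zero]
  | add t₁ t₂ h₁ h₂ => rw [smul_add, h₁, h₂, add_zero]

/-- `a` is regular on `M ⊗ (X →₀ A)` if regular on `M`. -/
theorem smul_regular_tensor_finsupp (haM : ∀ m : M, a • m = 0 → m = 0) (ι : Type*)
    (t : M ⊗[A] (ι →₀ A)) (ht : a • t = 0) : t = 0 := by
  classical
  let e := TensorProduct.finsuppScalarRight A A M ι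
  apply e.injective
  rw [map_zero]
  ext i
  apply haM
  have : a • e t = 0 := by rw [← map_smul, ht, map_zero]
  have := congrArg (fun f => f i) this
  simpa using this

/-- Key step, abstract form. -/
theorem smul_regular_tensor_aux
    (hM : Module.Flat (A ⧸ Ideal.span {a}) ((A ⧸ Ideal.span {a}) ⊗[A] M))
    {K F X : Type*} [AddCommGroup K] [Module A K] [AddCommGroup F] [Module A F]
    [AddCommGroup X] [Module A X]
    (ι : K →ₗ[A] F) (p : F →ₗ[A] X) (hι : Function.Injective ι) (hex : Function.Exact ι p)
    (hp : Function.Surjective p)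
    (haX : ∀ x : X, a • x = 0 → x = 0)
    (haF : ∀ t : M ⊗[A] F, a • t = 0 → t = 0)
    (x : M ⊗[A] X) (hx : a • x = 0) : x = 0 := by
  have hle : (Ideal.span {a} • (⊤ : Submodule A K)) ≤
      (Ideal.span {a} • (⊤ : Submodule A F)).comap ι := by
    intro k hk
    rw [mem_span_singleton_smul_top_iff] at hk
    obtain ⟨k', rfl⟩ := hk
    rw [Submodule.mem_comap, map_smul, mem_span_singleton_smul_top_iff]
    exact ⟨ι k', rfl⟩
  let ι' : (K ⧸ (Ideal.span {a} • (⊤ : Submodule A K))) →ₗ[A]
      (F ⧸ (Ideal.span {a} • (⊤ : Submodule A F))) :=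
    Submodule.mapQ _ _ ι hle
  have hι' : Function.Injective ι' := by
    rw [injective_iff_map_eq_zero]
    intro k hk
    obtain ⟨k, rfl⟩ := Submodule.Quotient.mk_surjective _ k
    rw [Submodule.mapQ_apply, Submodule.Quotient.mk_eq_zero,
      mem_span_singleton_smul_top_iff] at hk
    obtain ⟨f, hf⟩ := hk
    have hpf : p f = 0 := by
      apply haX
      rw [← map_smul, hf]
      exact hex.apply_apply_eq_zero k
    obtain ⟨k', rfl⟩ := (hex f).mp hpf
    rw [Submodule.Quotient.mk_eq_zero, mem_span_singleton_smul_top_iff]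
    refine ⟨k', ?_⟩
    apply hι
    rw [map_smul, hf]
  let qK := (Ideal.span {a} • (⊤ : Submodule A K)).mkQ
  let qF := (Ideal.span {a} • (⊤ : Submodule A F)).mkQ
  have hcomm : ι' ∘ₗ qK = qF ∘ₗ ι := by ext; rfl
  have hinj := lTensor_injective_of_flat_quot (Ideal.span {a}) M hM ι' hι'
  obtain ⟨y, rfl⟩ := LinearMap.lTensor_surjective M hp x
  have h1 : LinearMap.lTensor M p (a • y) = 0 := by rw [map_smul, hx]
  obtain ⟨z, hz⟩ := (lTensor_exact M hex hp (a • y)).mp h1
  have h2 : LinearMap.lTensor M qK z = 0 := by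
    apply hinj
    rw [map_zero, ← LinearMap.comp_apply, ← LinearMap.lTensor_comp, hcomm,
      LinearMap.lTensor_comp, LinearMap.comp_apply, hz, map_smul]
    exact smul_lTensor_quot_eq_zero a M _
  have hexK : Function.Exact (a • (LinearMap.id : K →ₗ[A] K)) qK := by
    intro k
    rw [Submodule.mkQ_apply, Submodule.Quotient.mk_eq_zero, mem_span_singleton_smul_top_iff]
    simp
  obtain ⟨z', hz'⟩ := (lTensor_exact M hexK (Submodule.mkQ_surjective _) z).mp h2
  have hz'' : a • z' = z := by
    rw [← hz', LinearMap.lTensor_smul, LinearMap.lTensor_id]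
    rfl
  have h3 : a • (y - LinearMap.lTensor M ι z') = 0 := by
    rw [smul_sub, ← map_smul, hz'', hz, sub_self]
  have h4 := haF _ h3
  rw [sub_eq_zero] at h4
  rw [h4, ← LinearMap.comp_apply, ← LinearMap.lTensor_comp]
  have : p ∘ₗ ι = 0 := by
    ext k
    exact hex.apply_apply_eq_zero k
  rw [this, LinearMap.lTensor_zero, LinearMap.zero_apply]

/-- Key step: if `M/aM` is flat over `A/a`, `a` is `M`-regular and `X`-regular then `a` is
`M ⊗ X`-regular. -/
theorem smul_regular_tensor (haM : ∀ m : M, a • m = 0 → m = 0)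
    (hM : Module.Flat (A ⧸ Ideal.span {a}) ((A ⧸ Ideal.span {a}) ⊗[A] M))
    {X : Type*} [AddCommGroup X] [Module A X] (haX : ∀ x : X, a • x = 0 → x = 0)
    (x : M ⊗[A] X) (hx : a • x = 0) : x = 0 := by
  let p : (X →₀ A) →ₗ[A] X := Finsupp.linearCombination A id
  have hp : Function.Surjective p := Finsupp.linearCombination_id_surjective A X
  obtain ⟨K, hK⟩ : ∃ K : Submodule A (X →₀ A), K = LinearMap.ker p := ⟨_, rfl⟩
  have hex : Function.Exact K.subtype p := by
    rw [hK]
    exact LinearMap.exact_subtype_ker_map p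
  exact smul_regular_tensor_aux a M hM (K := ↥K) (F := X →₀ A) (X := X) K.subtype p
    Subtype.val_injective hex hp haX (smul_regular_tensor_finsupp a M haM X) x hx

end regular

section main

universe u

variable {A : Type u} [CommRing A] (a : A) (M : Type u) [AddCommGroup M] [Module A M]

/-- Fibrewise flatness along a regular element: if `a` is regular on `A` and `M`, `M/aM` is flat
over `A/a` and `M[1/a]` is flat over `A[1/a]`, then `M` is flat over `A`. -/
theorem flat_of_flat_quot_of_flat_away
    (haA : ∀ b : A, a * b = 0 → b = 0) (haM : ∀ m : M, a • m = 0 → m = 0)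
    (h1 : Module.Flat (A ⧸ Ideal.span {a}) (M ⧸ (Ideal.span {a} • (⊤ : Submodule A M))))
    (h2 : Module.Flat (Localization.Away a) (LocalizedModule (Submonoid.powers a) M)) :
    Module.Flat A M := by
  have hM : Module.Flat (A ⧸ Ideal.span {a}) ((A ⧸ Ideal.span {a}) ⊗[A] M) := by
    let e : ((A ⧸ Ideal.span {a}) ⊗[A] M) ≃ₗ[A ⧸ Ideal.span {a}]
        (M ⧸ (Ideal.span {a} • (⊤ : Submodule A M))) :=
      (TensorProduct.quotTensorEquivQuotSMul M (Ideal.span {a})).extendScalarsOfSurjective
        Ideal.Quotient.mk_surjective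
    exact Module.Flat.of_linearEquiv e
  rw [Module.Flat.iff_lTensor_injective']
  intro J
  rw [injective_iff_map_eq_zero]
  intro x hx
  let S := Submonoid.powers a
  let A' := Localization.Away a
  let M' := LocalizedModule S M
  have hA' : Module.Flat A A' := IsLocalization.flat A' S
  have hM' : Module.Flat A M' := Module.Flat.trans A A' M'
  let g : M →ₗ[A] M' := LocalizedModule.mkLinearMap S M
  have hloc : IsLocalizedModule S (AlgebraTensorModule.rTensor A J g) := inferInstance
  have hx' : AlgebraTensorModule.rTensor A J g x = 0 := by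
    apply Module.Flat.lTensor_preserves_injective_linearMap (M := M') J.subtype
      Subtype.val_injective
    change LinearMap.lTensor M' J.subtype (LinearMap.rTensor J g x) = _
    rw [map_zero, ← LinearMap.comp_apply, LinearMap.lTensor_comp_rTensor,
      ← LinearMap.rTensor_comp_lTensor, LinearMap.comp_apply, hx, map_zero]
  obtain ⟨s, hs⟩ := (IsLocalizedModule.eq_zero_iff S (AlgebraTensorModule.rTensor A J g)).mp hx'
  obtain ⟨n, hn⟩ := s.2
  have hreg : ∀ y : M ⊗[A] J, a • y = 0 → y = 0 :=
    smul_regular_tensor a M haM hM (X := J) (fun j hj => by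
      apply Subtype.ext
      apply haA
      simpa using congrArg Subtype.val hj)
  have key : ∀ n : ℕ, a ^ n • x = 0 → x = 0 := by
    intro n
    induction n with
    | zero => intro h; simpa using h
    | succ n ih =>
      intro h
      apply ih
      apply hreg
      rw [smul_smul, ← pow_succ']
      exact h
  apply key n
  rw [show a ^ n = (s : A) from hn]
  exact hs

end main

end Groth.Agent.Lib.Helper9.FlatFibre
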