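import Mathlib
import Groth.Prelude.Def_RefHull
import Groth.Prelude.Def_FlatMod2
import Groth.Prelude.Def_CohB1
import Groth.Agent.Lib.Helper9.FlatLocus2

/-!
# The bidual of a finite type submodule of a flat module is `j_* j^*` for the flat locus (helper9)
-/

set_option autoImplicit false
universe u
open CategoryTheory CategoryTheory.Limits AlgebraicGeometry TopologicalSpace Opposite

namespace Groth.Agent.Lib.Helper9.FlatLocus

open Groth.Agent.Lib.Helper29.QCoh Groth.Agent.Lib.Helper28.DCohRes
open Groth.Agent.Lib.Helper9.RefStalk Groth.Agent.Lib.Helper9.ReflNormal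

theorem ddual_iso (S : Scheme.{u}) [IsNoetherian S]
    (hS : Pi1.IsNormalScheme S) (A F : S.Modules) (hA : Coh.IsQCoh A) (hAfl : FlatMod.IsFlat A)
    (ι : F ⟶ A) [Mono ι] (hF : CohB1.IsFT F) (U : S.Opens)
    (hU : (U : Set S) = {s : S | FlatMod.IsFlatAt F s}) :
    ∃ e : RefHull.ddual F ≅ (Scheme.Modules.pushforward U.ι).obj (F.restrict U.ι),
      RefHull.bidualMap F ≫ e.hom = (Scheme.Modules.restrictAdjunction U.ι).unit.app F := by
  have : A.IsQuasicoherent := hA
  have : F.IsFiniteType := hF
  have hq : F.IsQuasicoherent := isQuasicoherent_of_mono ι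
  have hFc : Coh.IsCoh F := ⟨hq, hF⟩
  have hfin : ∀ x : S, Module.Finite (S.presheaf.stalk x) (F.presheaf.stalk x) :=
    fun x => finite_stalk_of_isCoh F hFc x
  have hmemU : ∀ x : S, x ∈ U ↔ Module.Flat (S.presheaf.stalk x) (F.presheaf.stalk x) := by
    intro x
    change x ∈ (U : Set S) ↔ _
    rw [hU]
    rfl
  -- torsion-freeness of the stalks
  have htf : ∀ x : S, Module.IsTorsionFree (S.presheaf.stalk x) (F.presheaf.stalk x) := by
    intro x
    have := (hS x).1
    have hinj : Function.Injective (stalkMapₗ ι x) :=
      (mono_iff_stalkMap_injective ι).mp inferInstance x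
    have : Module.Flat (S.presheaf.stalk x) (A.presheaf.stalk x) := hAfl x
    exact Function.Injective.moduleIsTorsionFree (stalkMapₗ ι x) hinj (fun r m => map_smul _ r m)
  -- the complement of the flat locus has codimension at least two
  have hdim : ∀ x : S, x ∉ U → (2 : WithBot ℕ∞) ≤ ringKrullDim (S.presheaf.stalk x) := by
    intro x hx
    by_contra hd
    apply hx
    rw [hmemU]
    have := (hS x).1
    have := (hS x).2
    have := hfin x
    have := htf x
    have hfree := free_of_isTorsionFree_of_normal (S.presheaf.stalk x) hd (F.presheaf.stalk x)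
    infer_instance
  -- reflexivity of the stalks on the flat locus
  have hrefl : ∀ x : S, x ∈ U → RefHull.IsReflexiveAt F x := by
    intro x hx
    have := hfin x
    have : Module.Flat (S.presheaf.stalk x) (F.presheaf.stalk x) := (hmemU x).mp hx
    have : Module.Free (S.presheaf.stalk x) (F.presheaf.stalk x) :=
      Module.free_of_flat_of_isLocalRing
    exact inferInstanceAs (Module.IsReflexive (S.presheaf.stalk x) (F.presheaf.stalk x))
  exact exists_iso_of_isIso F U (isIso_unit_ddual hS F hFc U hdim)
    (isIso_resPush_bidualMap F hFc U hrefl)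

end Groth.Agent.Lib.Helper9.FlatLocus
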