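import Mathlib

set_option autoImplicit false
universe u
open CategoryTheory CategoryTheory.Limits Opposite Polynomial

namespace Groth.Agent.Lib.Helper9.FormFn

section ring
variable {K B : Type*} [Field K] [IsAlgClosed K] [CommRing B] [Nontrivial B] (φ : K →+* B)

/-- in a ring with only trivial idempotents, comaximal elements with zero product: one is zero -/
theorem eq_zero_or_eq_zero_of_isCoprime (hB : ∀ e : B, e * e = e → e = 0 ∨ e = 1) {x y : B}
    (hc : IsCoprime x y) (hxy : x * y = 0) : x = 0 ∨ y = 0 := by
  obtain ⟨u, v, huv⟩ := hc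
  have he : (u * x) * (u * x) = u * x := by
    have : u * x = 1 - v * y := by rw [← huv]; ring
    calc (u * x) * (u * x) = (u * x) * (1 - v * y) := by rw [← this]
      _ = u * x - u * v * (x * y) := by ring
      _ = u * x := by rw [hxy]; ring
  rcases hB _ he with h0 | h1
  · left
    have h2 : v * y = 1 := by rw [h0, zero_add] at huv; exact huv
    calc x = x * (v * y) := by rw [h2, mul_one]
      _ = v * (x * y) := by ring
      _ = 0 := by rw [hxy, mul_zero]
  · right
    calc y = (u * x) * y := by rw [h1, one_mul]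
      _ = u * (x * y) := by ring
      _ = 0 := by rw [hxy, mul_zero]

include φ in
theorem exists_nilpotent_sub_aux (hB : ∀ e : B, e * e = e → e = 0 ∨ e = 1) (b : B) :
    ∀ n : ℕ, ∀ q : K[X], q ≠ 0 → q.natDegree = n → eval₂ φ b q = 0 →
      ∃ c : K, IsNilpotent (b - φ c) := by
  intro n
  induction n using Nat.strong_induction_on with
  | _ n ih =>
    intro q hq hn h0
    by_cases hdeg : q.degree = 0
    · exfalso
      obtain ⟨a, ha⟩ : ∃ a, q = C a := ⟨q.coeff 0, Polynomial.eq_C_of_degree_eq_zero hdeg⟩
      have ha0 : a ≠ 0 := by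
        rintro rfl
        exact hq (by rw [ha, C_0])
      rw [ha, eval₂_C] at h0
      have : φ a * φ a⁻¹ = 1 := by rw [← map_mul, mul_inv_cancel₀ ha0, map_one]
      rw [h0, zero_mul] at this
      exact zero_ne_one this
    · obtain ⟨c, hc⟩ := IsAlgClosed.exists_root q hdeg
      obtain ⟨q', hq', hnd⟩ := Polynomial.exists_eq_pow_rootMultiplicity_mul_and_not_dvd q hq c
      set e := q.rootMultiplicity c with he
      have he1 : 0 < e := (Polynomial.rootMultiplicity_pos hq).2 hc
      have hq'0 : q' ≠ 0 := by
        rintro rfl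
        exact hq (by rw [hq', mul_zero])
      have hcop : IsCoprime ((X - C c) ^ e) q' :=
        ((Polynomial.irreducible_X_sub_C c).coprime_iff_not_dvd.2 hnd).pow_left
      have hcop' : IsCoprime ((b - φ c) ^ e) (eval₂ φ b q') := by
        have := hcop.map (eval₂RingHom φ b)
        simp only [coe_eval₂RingHom] at this
        rw [eval₂_pow, eval₂_sub, eval₂_X, eval₂_C] at this
        exact this
      have hprod : (b - φ c) ^ e * eval₂ φ b q' = 0 := by
        rw [← h0, hq', eval₂_mul, eval₂_pow, eval₂_sub, eval₂_X, eval₂_C]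
      rcases eq_zero_or_eq_zero_of_isCoprime hB hcop' hprod with h1 | h1
      · exact ⟨c, e, h1⟩
      · have hlt : q'.natDegree < n := by
          rw [← hn, hq', natDegree_mul (pow_ne_zero _ (X_sub_C_ne_zero c)) hq'0,
            natDegree_pow, natDegree_X_sub_C]
          omega
        exact ih _ hlt q' hq'0 rfl h1

include φ in
/-- an element integral over an algebraically closed field, in a connected ring, is a constant
plus a nilpotent -/
theorem exists_nilpotent_sub (hB : ∀ e : B, e * e = e → e = 0 ∨ e = 1) (b : B)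
    (hb : φ.IsIntegralElem b) : ∃ c : K, IsNilpotent (b - φ c) := by
  obtain ⟨p, hp, h0⟩ := hb
  exact exists_nilpotent_sub_aux φ hB b _ p hp.ne_zero rfl h0

include φ in
theorem nilpotent_sub_unique (b : B) (c c' : K) (h : IsNilpotent (b - φ c))
    (h' : IsNilpotent (b - φ c')) : c = c' := by
  by_contra hne
  have h1 : IsNilpotent (φ (c - c')) := by
    have : φ (c - c') = (b - φ c') - (b - φ c) := by rw [map_sub]; ring
    rw [this]
    exact (Commute.all _ _).isNilpotent_sub h' h
  have h2 : IsUnit (φ (c - c')) := (IsUnit.mk0 _ (sub_ne_zero.2 hne)).map φ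
  obtain ⟨n, hn⟩ := h1
  have h3 : IsUnit ((φ (c - c')) ^ n) := h2.pow n
  rw [hn] at h3
  exact not_isUnit_zero h3

end ring

end Groth.Agent.Lib.Helper9.FormFn
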