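import Mathlib
import Groth.Agent.Lib.Helper9.FormFn1

set_option autoImplicit false
universe u
open CategoryTheory CategoryTheory.Limits Opposite

namespace Groth.Agent.Lib.Helper9.FormFn

section lim
variable {X : ℕ → CommRingCat.{u}} (f : ∀ m, X (m + 1) ⟶ X m)

/-- the tower -/
noncomputable abbrev F : ℕᵒᵖ ⥤ CommRingCat.{u} := Functor.ofOpSequence f

/-- the projection from the limit -/
noncomputable abbrev pr (m : ℕ) : ↑(limit (F f)) →+* ↑(X m) := (limit.π (F f) (op m)).hom

theorem f_pr (m : ℕ) (a : ↑(limit (F f))) : (f m).hom (pr f (m + 1) a) = pr f m a := by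
  have h := limit.w (F f) (homOfLE (Nat.le_add_right m 1)).op
  rw [Functor.ofOpSequence_map_homOfLE_succ] at h
  exact congrArg (fun k => k.hom a) h

/-- the limit cone in types -/
noncomputable def typeIsLimit : IsLimit ((forget CommRingCat.{u}).mapCone (limit.cone (F f))) :=
  isLimitOfPreserves _ (limit.isLimit _)

theorem lim_ext (a a' : ↑(limit (F f))) (h : ∀ m, pr f m a = pr f m a') : a = a' := by
  apply (Types.isLimitEquivSections (typeIsLimit f)).injective
  apply Subtype.ext
  funext j
  rw [Types.isLimitEquivSections_apply, Types.isLimitEquivSections_apply]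
  exact h j.unop

theorem F_map_apply {m n : ℕ} (hmn : m ≤ n) (x : ∀ m, X m) (hx : ∀ m, (f m).hom (x (m + 1)) = x m) :
    ((F f).map (homOfLE hmn).op).hom (x n) = x m := by
  induction n, hmn using Nat.le_induction with
  | base =>
    have : (homOfLE (le_refl m)).op = 𝟙 (op m) := rfl
    rw [this, CategoryTheory.Functor.map_id]
    rfl
  | succ n hmn ih =>
    have e : (homOfLE (hmn.trans (Nat.le_succ n))).op =
        (homOfLE (Nat.le_add_right n 1)).op ≫ (homOfLE hmn).op := rfl
    rw [e, Functor.map_comp, Functor.ofOpSequence_map_homOfLE_succ]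
    change ((F f).map (homOfLE hmn).op).hom ((f n).hom (x (n + 1))) = x m
    rw [hx n, ih]

theorem lim_mk (x : ∀ m, X m) (hx : ∀ m, (f m).hom (x (m + 1)) = x m) :
    ∃ a : ↑(limit (F f)), ∀ m, pr f m a = x m := by
  let s : (F f ⋙ forget CommRingCat.{u}).sections :=
    ⟨fun j => x j.unop, by
      intro j j' g
      have hle : j'.unop ≤ j.unop := leOfHom g.unop
      have hg : g = (homOfLE hle).op := Subsingleton.elim _ _
      rw [hg]
      exact F_map_apply f hle x hx⟩
  refine ⟨(Types.isLimitEquivSections (typeIsLimit f)).symm s, fun m => ?_⟩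
  exact Types.isLimitEquivSections_symm_apply (typeIsLimit f) s (op m)

end lim

section local_
variable {X : ℕ → CommRingCat.{u}} (f : ∀ m, X (m + 1) ⟶ X m)
  {K : Type*} [Field K] [IsAlgClosed K] (φ : ∀ m, K →+* X m)
  (hφ : ∀ m c, (f m).hom (φ (m + 1) c) = φ m c)
  (hnt : ∀ m, Nontrivial (X m))
  (hidem : ∀ m, ∀ e : X m, e * e = e → e = 0 ∨ e = 1)
  (hint : ∀ m, (φ m).IsIntegral)

include hφ hnt hidem hint in
theorem exists_const (a : ↑(limit (F f))) :
    ∃ c : K, ∀ m, IsNilpotent (pr f m a - φ m c) := by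
  have h1 : ∀ m, ∃ c : K, IsNilpotent (pr f m a - φ m c) := fun m =>
    have := hnt m
    exists_nilpotent_sub (φ m) (hidem m) _ (hint m _)
  choose c hc using h1
  have h2 : ∀ m, c (m + 1) = c m := by
    intro m
    have := hnt m
    apply nilpotent_sub_unique (φ m) (pr f m a)
    · have h3 := (hc (m + 1)).map (f m).hom
      rw [map_sub, f_pr, hφ] at h3
      exact h3
    · exact hc m
  have h3 : ∀ m, c m = c 0 := by
    intro m
    induction m with
    | zero => rfl
    | succ m ih => rw [h2, ih]
  exact ⟨c 0, fun m => by rw [← h3 m]; exact hc m⟩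

include hφ hnt hidem hint in
theorem isLocalRing_limit : IsLocalRing ↑(limit (F f)) := by
  have hnt0 := hnt 0
  have hntA : Nontrivial ↑(limit (F f)) := by
    refine ⟨⟨0, 1, fun h => ?_⟩⟩
    have := congrArg (pr f 0) h
    rw [map_zero, map_one] at this
    exact zero_ne_one this
  -- units of the limit
  have hunit : ∀ a : ↑(limit (F f)), ∀ c : K, c ≠ 0 → (∀ m, IsNilpotent (pr f m a - φ m c)) →
      IsUnit a := by
    intro a c hc0 hc
    have hu : ∀ m, IsUnit (pr f m a) := by
      intro m
      have h1 : IsUnit (φ m c) := (IsUnit.mk0 c hc0).map (φ m)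
      have h2 : pr f m a = φ m c + (pr f m a - φ m c) := by ring
      rw [h2]
      exact (hc m).isUnit_add_left_of_commute h1 (Commute.all _ _)
    choose u hu' using hu
    obtain ⟨b, hb⟩ := lim_mk f (fun m => ((u m)⁻¹ : (X m)ˣ).1) (by
      intro m
      have h1 : (f m).hom (u (m + 1)).1 = (u m).1 := by rw [hu', hu', f_pr]
      have h2 : (f m).hom (u (m + 1)).1 * (f m).hom ((u (m + 1))⁻¹ : (X (m + 1))ˣ).1 = 1 := by
        rw [← map_mul, Units.mul_inv, map_one]
      rw [h1] at h2
      exact (Units.inv_eq_of_mul_eq_one_right h2).symm)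
    refine IsUnit.of_mul_eq_one b ?_
    apply lim_ext f
    intro m
    rw [map_mul, map_one, hb m, ← hu' m, Units.mul_inv]
  apply IsLocalRing.of_isUnit_or_isUnit_of_isUnit_add
  intro a b hab
  obtain ⟨ca, hca⟩ := exists_const f φ hφ hnt hidem hint a
  obtain ⟨cb, hcb⟩ := exists_const f φ hφ hnt hidem hint b
  by_cases ha : ca = 0
  · by_cases hb : cb = 0
    · exfalso
      -- a + b maps to a nilpotent unit in X 0
      have h1 : IsNilpotent (pr f 0 (a + b)) := by
        have h2 := hca 0
        have h3 := hcb 0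
        rw [ha, map_zero, sub_zero] at h2
        rw [hb, map_zero, sub_zero] at h3
        rw [map_add]
        exact (Commute.all _ _).isNilpotent_add h2 h3
      have h2 : IsUnit (pr f 0 (a + b)) := hab.map (pr f 0)
      obtain ⟨n, hn⟩ := h1
      have h3 := h2.pow n
      rw [hn] at h3
      exact not_isUnit_zero h3
    · exact Or.inr (hunit b cb hb hcb)
  · exact Or.inl (hunit a ca ha hca)

end local_

end Groth.Agent.Lib.Helper9.FormFn
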