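import Mathlib
import Groth.Agent.Lib.Helper29.QCohGen
import Groth.Agent.Lib.Helper29.QCohLocFree
import Groth.Prelude.Def_Lef

set_option autoImplicit false
universe u
open CategoryTheory CategoryTheory.Limits AlgebraicGeometry TopologicalSpace Opposite

namespace Groth.Agent.Lib.Helper9.LefConn

open Groth.Agent.Lib.Helper29.QCoh

section idem
variable {S : Scheme.{u}}

/-- restriction of sections of the structure sheaf -/
noncomputable abbrev rs {A B : S.Opens} (h : A ≤ B) : Γ(S, B) →+* Γ(S, A) :=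
  (S.presheaf.map (homOfLE h).op).hom

theorem rs_rs {A B C : S.Opens} (h : A ≤ B) (h' : B ≤ C) (s : Γ(S, C)) :
    rs h (rs h' s) = rs (h.trans h') s := by
  change (S.presheaf.map (homOfLE h').op ≫ S.presheaf.map (homOfLE h).op).hom s = _
  rw [← Functor.map_comp]
  rfl

theorem rs_self {A : S.Opens} (s : Γ(S, A)) : rs (le_refl A) s = s := by
  change (S.presheaf.map (𝟙 (op A))).hom s = s
  rw [S.presheaf.map_id]
  rfl

theorem eq_of_rs_eq {A B : S.Opens} (hc : A ⊔ B = ⊤) (s t : Γ(S, ⊤))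
    (h1 : rs (le_top : A ≤ ⊤) s = rs le_top t) (h2 : rs (le_top : B ≤ ⊤) s = rs le_top t) :
    s = t :=
  S.sheaf.eq_of_locally_eq₂ (homOfLE le_top) (homOfLE le_top) hc.ge s t h1 h2

theorem exists_idem {A B : S.Opens} (hc : A ⊔ B = ⊤) (hd : A ⊓ B = ⊥) :
    ∃ e : Γ(S, ⊤), rs (le_top : A ≤ ⊤) e = 1 ∧ rs (le_top : B ≤ ⊤) e = 0 := by
  have hsub : Subsingleton Γ(S, A ⊓ B) := by rw [hd]; infer_instance
  let x : (RingHom.eqLocus
      (RingHom.comp (S.sheaf.obj.map (homOfLE inf_le_left : A ⊓ B ⟶ A).op).hom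
        (RingHom.fst (S.sheaf.obj.obj <| op A) (S.sheaf.obj.obj <| op B)))
      (RingHom.comp (S.sheaf.obj.map (homOfLE inf_le_right : A ⊓ B ⟶ B).op).hom
        (RingHom.snd (S.sheaf.obj.obj <| op A) (S.sheaf.obj.obj <| op B)))) :=
    ⟨((1 : Γ(S, A)), (0 : Γ(S, B))), Subsingleton.elim (α := Γ(S, A ⊓ B)) _ _⟩
  let e0 : Γ(S, A ⊔ B) := (S.sheaf.objSupIsoProdEqLocus A B).inv x
  have h1 : rs (le_sup_left : A ≤ A ⊔ B) e0 = 1 := S.sheaf.objSupIsoProdEqLocus_inv_fst A B x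
  have h2 : rs (le_sup_right : B ≤ A ⊔ B) e0 = 0 := S.sheaf.objSupIsoProdEqLocus_inv_snd A B x
  have htop : (⊤ : S.Opens) ≤ A ⊔ B := hc.ge
  refine ⟨rs htop e0, ?_, ?_⟩
  · rw [rs_rs]; exact h1
  · rw [rs_rs]; exact h2

/-- the idempotent section which is `1` on `A` and `0` on `B` -/
noncomputable def idem {A B : S.Opens} (hc : A ⊔ B = ⊤) (hd : A ⊓ B = ⊥) : Γ(S, ⊤) :=
  (exists_idem hc hd).choose

theorem idem_left {A B : S.Opens} (hc : A ⊔ B = ⊤) (hd : A ⊓ B = ⊥) :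
    rs (le_top : A ≤ ⊤) (idem hc hd) = 1 := (exists_idem hc hd).choose_spec.1

theorem idem_right {A B : S.Opens} (hc : A ⊔ B = ⊤) (hd : A ⊓ B = ⊥) :
    rs (le_top : B ≤ ⊤) (idem hc hd) = 0 := (exists_idem hc hd).choose_spec.2

theorem eq_idem {A B : S.Opens} (hc : A ⊔ B = ⊤) (hd : A ⊓ B = ⊥) (s : Γ(S, ⊤))
    (h1 : rs (le_top : A ≤ ⊤) s = 1) (h2 : rs (le_top : B ≤ ⊤) s = 0) : s = idem hc hd :=
  eq_of_rs_eq hc _ _ (h1.trans (idem_left hc hd).symm) (h2.trans (idem_right hc hd).symm)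

theorem idem_mul_self {A B : S.Opens} (hc : A ⊔ B = ⊤) (hd : A ⊓ B = ⊥) :
    idem hc hd * idem hc hd = idem hc hd :=
  eq_idem hc hd _ (by rw [map_mul, idem_left, mul_one]) (by rw [map_mul, idem_right, mul_zero])

/-- an open on which `0 = 1` is empty -/
theorem eq_bot_of_zero_eq_one {B : S.Opens} (h : (0 : Γ(S, B)) = 1) : B = ⊥ := by
  have h1 : S.basicOpen (1 : Γ(S, B)) = B := S.basicOpen_of_isUnit isUnit_one
  rw [← h1, ← h, Scheme.basicOpen_zero]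

end idem

end Groth.Agent.Lib.Helper9.LefConn
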