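import Mathlib
import Groth.Agent.Lib.Helper9.LefConn1

set_option autoImplicit false
universe u
open CategoryTheory CategoryTheory.Limits AlgebraicGeometry TopologicalSpace Opposite

namespace Groth.Agent.Lib.Helper9.LefConn

open Groth.Agent.Lib.Helper29.QCoh

section pull
variable {S T : Scheme.{u}} (f : T ⟶ S)

theorem rs_appLE {U : S.Opens} {W W' : T.Opens} (e : W ≤ f ⁻¹ᵁ U) (h : W' ≤ W) (s : Γ(S, U)) :
    rs h ((f.appLE U W e).hom s) = (f.appLE U W' (h.trans e)).hom s := by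
  have := f.appLE_map e (homOfLE h).op
  exact congrArg (fun k => k.hom s) this

theorem appLE_rs {U U' : S.Opens} {W : T.Opens} (e : W ≤ f ⁻¹ᵁ U) (h : U ≤ U') (s : Γ(S, U')) :
    (f.appLE U W e).hom (rs h s) = (f.appLE U' W (e.trans ((Opens.map f.base).map (homOfLE h)).le)).hom s := by
  have := f.map_appLE e (homOfLE h).op
  exact congrArg (fun k => k.hom s) this

theorem appLE_idem {A B : S.Opens} (hc : A ⊔ B = ⊤) (hd : A ⊓ B = ⊥) {A' B' : T.Opens}
    (hA : A' ≤ f ⁻¹ᵁ A) (hB : B' ≤ f ⁻¹ᵁ B) (hc' : A' ⊔ B' = ⊤) (hd' : A' ⊓ B' = ⊥) :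
    (f.appLE ⊤ ⊤ le_top).hom (idem hc hd) = idem hc' hd' := by
  apply eq_idem
  · rw [rs_appLE]
    have h1 := appLE_rs f hA (le_top : A ≤ ⊤) (idem hc hd)
    rw [idem_left, map_one] at h1
    exact h1.symm
  · rw [rs_appLE]
    have h1 := appLE_rs f hB (le_top : B ≤ ⊤) (idem hc hd)
    rw [idem_right, map_zero] at h1
    exact h1.symm

theorem appLE_top_top (s : Γ(S, ⊤)) : (f.appLE ⊤ ⊤ le_top).hom s = f.appTop.hom s :=
  rs_self (f.appTop.hom s)

end pull

section unit
variable {V : Scheme.{u}}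

theorem unit_hom_ext {N : V.Modules} (φ ψ : unitM V ⟶ N)
    (h : φ.app ⊤ (toUnit 1) = ψ.app ⊤ (toUnit 1)) : φ = ψ := by
  apply N.unitHomEquiv.injective
  apply PresheafOfModules.sections_ext
  intro U
  have h1 : ∀ χ : unitM V ⟶ N, (N.unitHomEquiv χ).val U =
      N.val.map (homOfLE (le_top : U.unop ≤ ⊤)).op ((N.unitHomEquiv χ).val (op ⊤)) :=
    fun χ => ((N.unitHomEquiv χ).2 (homOfLE (le_top : U.unop ≤ ⊤)).op).symm
  rw [h1 φ, h1 ψ]
  congr 1

/-- a section of the structure module, as a function -/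
def ofU {X : Scheme.{u}} {W : X.Opens} (s : Γ(unitM X, W)) : Γ(X, W) := s

/-- value of a morphism `O_V ⟶ O_V` at `1`, as a global function -/
noncomputable def usec (φ : unitM V ⟶ unitM V) : Γ(V, ⊤) := ofU (φ.app ⊤ (toUnit 1))

/-- multiplication by a global function, as an endomorphism of `O_V` -/
noncomputable def uhom (s : Γ(V, ⊤)) : unitM V ⟶ unitM V := homOfSection (unitM V) (toUnit s)

theorem usec_uhom (s : Γ(V, ⊤)) : usec (uhom s) = s := by
  unfold usec uhom
  rw [homOfSection_app_one]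
  rfl

variable (K : V.IdealSheafData)

/-- value of a morphism `O_V ⟶ O_V/K` at `1`, as a global function on the closed subscheme -/
noncomputable def qsec (φ : unitM V ⟶ ClSub.quotMod K) : Γ(K.subscheme, ⊤) :=
  ofU (show Γ(unitM K.subscheme, ⊤) from φ.app ⊤ (toUnit 1))

/-- the morphism `O_V ⟶ O_V/K` attached to a global function on the closed subscheme -/
noncomputable def qhom (e : Γ(K.subscheme, ⊤)) : unitM V ⟶ ClSub.quotMod K :=
  homOfSection (ClSub.quotMod K) (show Γ(ClSub.quotMod K, ⊤) from (toUnit e : Γ(unitM K.subscheme, ⊤)))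

theorem qsec_qhom (e : Γ(K.subscheme, ⊤)) : qsec K (qhom K e) = e := by
  unfold qsec qhom
  rw [homOfSection_app_one]
  rfl

theorem qhom_ext (φ ψ : unitM V ⟶ ClSub.quotMod K) (h : qsec K φ = qsec K ψ) : φ = ψ :=
  unit_hom_ext φ ψ h

theorem qsec_comp_toSubscheme (φ : unitM V ⟶ unitM V) :
    qsec K (φ ≫ ClSub.toSubscheme K) = (K.subschemeι.appLE ⊤ ⊤ le_top).hom (usec φ) := by
  rw [appLE_top_top]
  rfl

/-- generic form of `Lef.quotMap` -/
noncomputable def qm {X Y Z : Scheme.{u}} (f : Z ⟶ Y) (g : Y ⟶ X) (k : Z ⟶ X) (hk : f ≫ g = k) :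
    (Scheme.Modules.pushforward g).obj (unitM Y) ⟶ (Scheme.Modules.pushforward k).obj (unitM Z) :=
  (Scheme.Modules.pushforward g).map (ClSub.unitToPush f) ≫
    (Scheme.Modules.pushforwardComp f g).hom.app _ ≫
    (Scheme.Modules.pushforwardCongr hk).hom.app _

theorem qm_app_top {X Y Z : Scheme.{u}} (f : Z ⟶ Y) (g : Y ⟶ X) (k : Z ⟶ X) (hk : f ≫ g = k)
    (e : Γ(Y, ⊤)) :
    ofU (show Γ(unitM Z, ⊤) from (qm f g k hk).app ⊤
      (show Γ((Scheme.Modules.pushforward g).obj (unitM Y), ⊤) from (toUnit e : Γ(unitM Y, ⊤)))) =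
    f.appTop.hom e := by
  subst hk
  unfold qm
  simp only [Scheme.Modules.Hom.comp_app, Scheme.Modules.pushforwardComp_hom_app_app,
    Scheme.Modules.pushforwardCongr_hom_app_app, Scheme.Modules.pushforward_map_app]
  change ofU (((unitM Z).presheaf.map (eqToHom (rfl : (⊤ : Z.Opens) = ⊤)).op)
    (toUnit (f.appTop.hom e))) = _
  rw [eqToHom_refl, op_id, (unitM Z).presheaf.map_id]
  rfl

theorem quotMap_eq_qm {I J : V.IdealSheafData} (h : I ≤ J) :
    Lef.quotMap h = qm (Scheme.IdealSheafData.inclusion h) I.subschemeι J.subschemeι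
      (Scheme.IdealSheafData.inclusion_subschemeι h) := rfl

theorem quotMap_app_top {I J : V.IdealSheafData} (h : I ≤ J) (e : Γ(I.subscheme, ⊤)) :
    ofU (show Γ(unitM J.subscheme, ⊤) from
      (Lef.quotMap h).app ⊤ (show Γ(ClSub.quotMod I, ⊤) from (toUnit e : Γ(unitM I.subscheme, ⊤)))) =
    ((Scheme.IdealSheafData.inclusion h).appLE ⊤ ⊤ le_top).hom e := by
  rw [appLE_top_top]
  exact qm_app_top _ _ _ (Scheme.IdealSheafData.inclusion_subschemeι h) e

end unit

end Groth.Agent.Lib.Helper9.LefConn
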