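import Mathlib
import Groth.Agent.Lib.Helper9.LefConn2

set_option autoImplicit false
universe u
open CategoryTheory CategoryTheory.Limits AlgebraicGeometry TopologicalSpace Opposite

namespace Groth.Agent.Lib.Helper9.LefConn

open Groth.Agent.Lib.Helper29.QCoh

section idem01
variable {V : Scheme.{u}}

theorem eq_one_of_basicOpen_eq_top (f : Γ(V, ⊤)) (hf : f * f = f) (h : V.basicOpen f = ⊤) :
    f = 1 := by
  have hu : IsUnit f := by
    apply V.toRingedSpace.isUnit_of_isUnit_germ ⊤ f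
    intro x hx
    have hx' : x ∈ V.basicOpen f := by rw [h]; trivial
    exact (V.mem_basicOpen f x hx).1 hx'
  have h2 : f * f = f * 1 := by rw [mul_one, hf]
  exact hu.mul_left_cancel h2

theorem basicOpen_sup_one_sub (f : Γ(V, ⊤)) : V.basicOpen f ⊔ V.basicOpen (1 - f) = ⊤ := by
  apply le_antisymm le_top
  intro x _
  have h1 : V.presheaf.germ ⊤ x trivial f + V.presheaf.germ ⊤ x trivial (1 - f) = 1 := by
    rw [← map_add, add_sub_cancel, map_one]
  rcases IsLocalRing.isUnit_or_isUnit_of_add_one h1 with h2 | h2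
  · exact Or.inl ((V.mem_basicOpen_top f x).2 h2)
  · exact Or.inr ((V.mem_basicOpen_top (1 - f) x).2 h2)

theorem basicOpen_inf_one_sub (f : Γ(V, ⊤)) (hf : f * f = f) :
    V.basicOpen f ⊓ V.basicOpen (1 - f) = ⊥ := by
  rw [← Scheme.basicOpen_mul, mul_sub, mul_one, hf, sub_self, Scheme.basicOpen_zero]

theorem eq_zero_or_eq_one_of_idem [PreconnectedSpace V] (f : Γ(V, ⊤)) (hf : f * f = f) :
    f = 0 ∨ f = 1 := by
  have hsup := basicOpen_sup_one_sub f
  have hinf := basicOpen_inf_one_sub f hf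
  have hclopen : IsClopen (V.basicOpen f : Set V) := by
    refine ⟨?_, (V.basicOpen f).isOpen⟩
    have : (V.basicOpen f : Set V) = ((V.basicOpen (1 - f) : V.Opens) : Set V)ᶜ := by
      ext x
      constructor
      · intro hx hx'
        have : x ∈ V.basicOpen f ⊓ V.basicOpen (1 - f) := ⟨hx, hx'⟩
        rw [hinf] at this
        exact this
      · intro hx
        have : x ∈ V.basicOpen f ⊔ V.basicOpen (1 - f) := by rw [hsup]; trivial
        rcases this with h | h
        · exact h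
        · exact absurd h hx
    rw [this]
    exact (V.basicOpen (1 - f)).isOpen.isClosed_compl
  rcases isClopen_iff.1 hclopen with h | h
  · left
    have h1 : V.basicOpen f = ⊥ := by ext1; simpa using h
    have h2 : V.basicOpen (1 - f) = ⊤ := by rw [h1] at hsup; simpa using hsup
    have h3 : (1 - f) * (1 - f) = 1 - f := by ring_nf; rw [sq, hf]; ring
    have h4 := eq_one_of_basicOpen_eq_top (1 - f) h3 h2
    have : f = 1 - (1 - f) := by ring
    rw [this, h4, sub_self]
  · right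
    have h1 : V.basicOpen f = ⊤ := by ext1; simpa using h
    exact eq_one_of_basicOpen_eq_top f hf h1

end idem01

section lef
variable {V : Scheme.{u}} (J : V.IdealSheafData)

theorem qsec_comp_quotMap {I K : V.IdealSheafData} (h : I ≤ K) (φ : unitM V ⟶ ClSub.quotMod I) :
    qsec K (φ ≫ Lef.quotMap h) =
      ((Scheme.IdealSheafData.inclusion h).appLE ⊤ ⊤ le_top).hom (qsec I φ) :=
  quotMap_app_top h (qsec I φ)

theorem pow_succ_le' (n : ℕ) : J ^ (n + 1 + 1) ≤ J ^ (n + 1) := Lef.pow_succ_le J n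

/-- the restriction `Γ(V, O) → Γ(V_n, O)` -/
noncomputable abbrev ρ (n : ℕ) : Γ(V, ⊤) →+* Γ((J ^ (n + 1)).subscheme, ⊤) :=
  ((J ^ (n + 1)).subschemeι.appLE ⊤ ⊤ le_top).hom

/-- the transition `Γ(V_{n+1}, O) → Γ(V_n, O)` -/
noncomputable abbrev τ (n : ℕ) :
    Γ((J ^ (n + 1 + 1)).subscheme, ⊤) →+* Γ((J ^ (n + 1)).subscheme, ⊤) :=
  ((Scheme.IdealSheafData.inclusion (pow_succ_le' J n)).appLE ⊤ ⊤ le_top).hom

theorem eq_of_forall_ρ_eq (hL : Lef.HomToFormalBijective J (Coh.structureModule V)) (f g : Γ(V, ⊤))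
    (h : ∀ n, ρ J n f = ρ J n g) : f = g := by
  have key : ∀ n : ℕ, uhom f ≫ ClSub.toSubscheme (J ^ (n + 1)) =
      uhom g ≫ ClSub.toSubscheme (J ^ (n + 1)) := by
    intro n
    apply qhom_ext (J ^ (n + 1))
    rw [qsec_comp_toSubscheme (J ^ (n + 1)) (uhom f), qsec_comp_toSubscheme (J ^ (n + 1)) (uhom g),
      usec_uhom, usec_uhom]
    exact h n
  have := hL.1 (uhom f) (uhom g) key
  rw [← usec_uhom f, ← usec_uhom g, this]

theorem exists_of_compatible (hL : Lef.HomToFormalBijective J (Coh.structureModule V))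
    (e : ∀ n, Γ((J ^ (n + 1)).subscheme, ⊤)) (he : ∀ n, τ J n (e (n + 1)) = e n) :
    ∃ f : Γ(V, ⊤), ∀ n, ρ J n f = e n := by
  have key : Lef.IsFormalHom J (Coh.structureModule V) (fun n => qhom (J ^ (n + 1)) (e n)) := by
    intro n
    apply qhom_ext (J ^ (n + 1))
    have h1 := qsec_comp_quotMap (pow_succ_le' J n) (qhom (J ^ (n + 1 + 1)) (e (n + 1)))
    rw [qsec_qhom (J ^ (n + 1 + 1))] at h1
    rw [qsec_qhom (J ^ (n + 1))]
    exact h1.trans (he n)
  obtain ⟨φ, hφ⟩ := hL.2 (fun n => qhom (J ^ (n + 1)) (e n)) key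
  refine ⟨usec φ, fun n => ?_⟩
  have h1 := qsec_comp_toSubscheme (J ^ (n + 1)) φ
  have h2 : φ ≫ ClSub.toSubscheme (J ^ (n + 1)) = qhom (J ^ (n + 1)) (e n) := hφ n
  rw [h2, qsec_qhom] at h1
  exact h1.symm

end lef

end Groth.Agent.Lib.Helper9.LefConn
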