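import Mathlib
import Groth.Agent.Lib.Helper9.FormFn2
import Groth.Agent.Lib.Helper9.LefConn3

set_option autoImplicit false
universe u
open CategoryTheory CategoryTheory.Limits Opposite AlgebraicGeometry

namespace Groth.Agent.Lib.Helper9.FormFn

variable (k : Type u) [Field k] [IsAlgClosed k] (X : Scheme.{u})
  [X.Over (Spec (CommRingCat.of k))] [IsProper (X ↘ (Spec (CommRingCat.of k)))]
  (𝓘 : X.IdealSheafData)

/-- the rings of the tower -/
noncomputable abbrev Rm (m : ℕ) : CommRingCat.{u} := Γ((𝓘 ^ (m + 1)).subscheme, ⊤)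

/-- the transition maps -/
noncomputable abbrev fm (m : ℕ) : Rm X 𝓘 (m + 1) ⟶ Rm X 𝓘 m :=
  (Scheme.IdealSheafData.inclusion (Lef.pow_succ_le 𝓘 m)).appTop

/-- the structure morphisms of the thickenings -/
noncomputable abbrev gm (m : ℕ) : (𝓘 ^ (m + 1)).subscheme ⟶ Spec (CommRingCat.of k) :=
  (𝓘 ^ (m + 1)).subschemeι ≫ (X ↘ Spec (CommRingCat.of k))

/-- the constants -/
noncomputable abbrev φm (m : ℕ) : k →+* Rm X 𝓘 m :=
  ((gm k X 𝓘 m).appTop.hom).comp (Scheme.ΓSpecIso (CommRingCat.of k)).inv.hom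

theorem fm_φm (m : ℕ) (c : k) : (fm X 𝓘 m).hom (φm k X 𝓘 (m + 1) c) = φm k X 𝓘 m c := by
  have h1 : Scheme.IdealSheafData.inclusion (Lef.pow_succ_le 𝓘 m) ≫ gm k X 𝓘 (m + 1) =
      gm k X 𝓘 m := by
    unfold gm
    rw [← Category.assoc]
    congr 1
    exact Scheme.IdealSheafData.inclusion_subschemeι (Lef.pow_succ_le 𝓘 m)
  have h2 := congrArg Scheme.Hom.appTop h1
  rw [Scheme.Hom.comp_appTop] at h2
  exact congrArg (fun t => t.hom ((Scheme.ΓSpecIso (CommRingCat.of k)).inv.hom c)) h2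

theorem φm_isIntegral (m : ℕ) : (φm k X 𝓘 m).IsIntegral := by
  have h1 : (gm k X 𝓘 m).appTop.hom.IsIntegral :=
    isIntegral_appTop_of_universallyClosed (gm k X 𝓘 m)
  have h2 : ((Scheme.ΓSpecIso (CommRingCat.of k)).inv.hom).IsIntegral := by
    apply RingHom.isIntegral_of_surjective
    exact (ConcreteCategory.bijective_of_isIso (Scheme.ΓSpecIso (CommRingCat.of k)).inv).2
  exact RingHom.IsIntegral.trans _ _ h2 h1

omit [X.Over (Spec (CommRingCat.of k))] in
theorem range_subschemeι_pow (m : ℕ) :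
    Set.range (𝓘 ^ (m + 1)).subschemeι = (𝓘.support : Set X) := by
  rw [Scheme.IdealSheafData.range_subschemeι]
  rfl

omit [X.Over (Spec (CommRingCat.of k))] in
theorem connectedSpace_level (hY : _root_.IsConnected (𝓘.support : Set X)) (m : ℕ) :
    ConnectedSpace (𝓘 ^ (m + 1)).subscheme := by
  have hemb : Topology.IsClosedEmbedding (𝓘 ^ (m + 1)).subschemeι :=
    (𝓘 ^ (m + 1)).subschemeι.isClosedEmbedding
  have h1 : (𝓘 ^ (m + 1)).subschemeι '' Set.univ = (𝓘.support : Set X) := by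
    rw [Set.image_univ, range_subschemeι_pow]
  have h2 : _root_.IsPreconnected (Set.univ : Set (𝓘 ^ (m + 1)).subscheme) := by
    rw [← hemb.isInducing.isPreconnected_image, h1]
    exact hY.2
  have h3 : Nonempty (𝓘 ^ (m + 1)).subscheme := by
    obtain ⟨y, hy⟩ := hY.1
    rw [← range_subschemeι_pow X 𝓘 m] at hy
    obtain ⟨z, -⟩ := hy
    exact ⟨z⟩
  exact { toPreconnectedSpace := preconnectedSpace_iff_univ.2 h2, toNonempty := h3 }

theorem main (hY : _root_.IsConnected (𝓘.support : Set X)) :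
    IsLocalRing ↑(limit (F (fm X 𝓘))) ∧
      ∀ a : ↑(limit (F (fm X 𝓘))), ∃ c : k, ∀ m : ℕ,
        IsNilpotent (pr (fm X 𝓘) m a - φm k X 𝓘 m c) := by
  have hconn := connectedSpace_level X 𝓘 hY
  have hnt : ∀ m, Nontrivial (Rm X 𝓘 m) := fun m => by
    have := hconn m
    have : Nonempty ((⊤ : (𝓘 ^ (m + 1)).subscheme.Opens)) := by
      obtain ⟨z⟩ := (hconn m).toNonempty
      exact ⟨⟨z, trivial⟩⟩
    infer_instance
  have hidem : ∀ m, ∀ e : Rm X 𝓘 m, e * e = e → e = 0 ∨ e = 1 := fun m e he => by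
    have := (hconn m).toPreconnectedSpace
    exact LefConn.eq_zero_or_eq_one_of_idem e he
  exact ⟨isLocalRing_limit (fm X 𝓘) (φm k X 𝓘) (fm_φm k X 𝓘) hnt hidem (φm_isIntegral k X 𝓘),
    exists_const (fm X 𝓘) (φm k X 𝓘) (fm_φm k X 𝓘) hnt hidem (φm_isIntegral k X 𝓘)⟩

end Groth.Agent.Lib.Helper9.FormFn
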