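import Mathlib
import Groth.Prelude.Def_Formal2
import Groth.Agent.Lib.Helper9.FormalQuot

/-! # Coherent formal modules killed by a fixed power of `I` are algebraizable (helper9) -/

set_option autoImplicit false
universe u
open CategoryTheory CategoryTheory.Limits AlgebraicGeometry TopologicalSpace Opposite

namespace Groth.Agent.Lib.Helper9.FormalKilled

open Groth.Agent.Lib.Helper9.FormalBase Groth.Agent.Lib.Helper9.FormalQuot

variable {A : Type u} [CommRing A] {X : Scheme.{u}} [X.Over (Spec (CommRingCat.of A))]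

/-- transition maps of a system indexed by `ℕᵒᵖ` -/
noncomputable abbrev tr (F : ℕᵒᵖ ⥤ X.Modules) {n m : ℕ} (h : n ≤ m) : F.obj (op m) ⟶ F.obj (op n) :=
  F.map (homOfLE h).op

theorem tr_comp (F : ℕᵒᵖ ⥤ X.Modules) {n m k : ℕ} (h : n ≤ m) (h' : m ≤ k) :
    tr F h' ≫ tr F h = tr F (h.trans h') := by
  unfold tr
  rw [← F.map_comp]
  rfl

theorem tr_self (F : ℕᵒᵖ ⥤ X.Modules) (n : ℕ) : tr F (le_refl n) = 𝟙 _ := by
  unfold tr
  rw [show (homOfLE (le_refl n)) = 𝟙 n from rfl, op_id, F.map_id]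

theorem isQ_tr (I : Ideal A) (F : ℕᵒᵖ ⥤ X.Modules) (hF : Formal.IsCohFormal I F) {n m : ℕ}
    (h : n ≤ m) : IsQ (I ^ (n + 1)) (tr F h) := by
  induction m, h using Nat.le_induction with
  | base =>
    rw [tr_self]
    exact isQ_id _ (hF.2.1 n)
  | succ m h ih =>
    have h1 : IsQ (I ^ (m + 1)) (tr F (Nat.le_succ m)) := (isQ_iff _ _).mpr (hF.2.2 m)
    have := IsQ.comp (Ideal.pow_le_pow_right (Nat.succ_le_succ h)) h1 ih
    rwa [tr_comp] at this

theorem main (I : Ideal A) (F : ℕᵒᵖ ⥤ X.Modules) (hF : Formal.IsCohFormal I F)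
    (c : ℕ) (hc : ∀ n, Formal.KilledBy (I ^ c) (F.obj (op n))) :
    ∃ M : X.Modules, Coh.IsCoh M ∧ Nonempty (Formal.completion I M ≅ F) := by
  refine ⟨F.obj (op c), hF.1 c, ?_⟩
  have hE : ∀ n, IsIso (tr F (Nat.le_add_left c n)) := fun n =>
    (isQ_tr I F hF (Nat.le_add_left c n)).isIso
      (KilledBy.mono (Ideal.pow_le_pow_right (Nat.le_succ c)) (hc _))
  let p : ∀ n, F.obj (op c) ⟶ F.obj (op n) := fun n =>
    @inv _ _ _ _ (tr F (Nat.le_add_left c n)) (hE n) ≫ tr F (Nat.le_add_right n c)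
  have hp : ∀ n, IsQ (I ^ (n + 1)) (p n) := fun n =>
    @IsQ.iso_comp _ _ _ _ _ _ _ _ _ (@IsIso.inv_isIso _ _ _ _ _ (hE n)) _
      (isQ_tr I F hF (Nat.le_add_right n c))
  have hcompat : ∀ n, p (n + 1) ≫ tr F (Nat.le_succ n) = p n := by
    intro n
    have := hE n
    have := hE (n + 1)
    change (inv (tr F (Nat.le_add_left c (n + 1))) ≫ tr F (Nat.le_add_right (n + 1) c)) ≫ _ =
      inv (tr F (Nat.le_add_left c n)) ≫ tr F (Nat.le_add_right n c)
    rw [Category.assoc, tr_comp, IsIso.inv_comp_eq]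
    have e1 : tr F (Nat.le_add_left c (n + 1)) =
        tr F (show n + c ≤ n + 1 + c by omega) ≫ tr F (Nat.le_add_left c n) := by
      rw [tr_comp]
    rw [e1, Category.assoc, IsIso.hom_inv_id_assoc, tr_comp]
  choose θ hθ using fun n => IsQ.exists_iso (isQ_modPowπ I (n + 1) (F.obj (op c))) (hp n)
  have key : ∀ n, Formal.modPowTrans I (n + 1) (F.obj (op c)) ≫ (θ n).hom =
      (θ (n + 1)).hom ≫ tr F (Nat.le_succ n) := by
    intro n
    have : Epi (Formal.modPowπ I (n + 1 + 1) (F.obj (op c))) :=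
      inferInstanceAs (Epi (cokernel.π _))
    rw [← cancel_epi (Formal.modPowπ I (n + 1 + 1) (F.obj (op c))), ← Category.assoc,
      Formal.modPowπ_trans, hθ n, ← Category.assoc, hθ (n + 1), hcompat n]
  let α : Formal.completion I (F.obj (op c)) ⟶ F :=
    NatTrans.ofOpSequence (fun n => (θ n).hom) (by
      intro n
      have e1 : (Formal.completion I (F.obj (op c))).map (homOfLE (n.le_add_right 1)).op =
          Formal.modPowTrans I (n + 1) (F.obj (op c)) := by
        unfold Formal.completion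
        exact Functor.ofOpSequence_map_homOfLE_succ _ n
      rw [e1]
      exact key n)
  have : ∀ k : ℕᵒᵖ, IsIso (α.app k) := by
    intro k
    change IsIso (θ k.unop).hom
    infer_instance
  have : IsIso α := NatIso.isIso_of_isIso_app α
  exact ⟨asIso α⟩

end Groth.Agent.Lib.Helper9.FormalKilled
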