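import Mathlib

/-!
# Nakayama: surjectivity can be checked after base change along a surjection with kernel in the radical (helper9)
-/

set_option autoImplicit false

universe u

open TensorProduct

namespace Groth.Agent.Lib.Helper9.NakExt

noncomputable section

variable {R S : Type u} [CommRing R] [CommRing S] [Algebra R S]
  (hψ : Function.Surjective (algebraMap R S))
  {M N : Type u} [AddCommGroup M] [Module R M] [AddCommGroup N] [Module R N]

/-- `S ≃ R ⧸ ker` as `R`-modules -/
def quotEquiv : (R ⧸ RingHom.ker (algebraMap R S)) ≃ₗ[R] S :=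
  { (RingHom.quotientKerEquivOfSurjective hψ).toAddEquiv with
    map_smul' := by
      intro r a
      obtain ⟨a, rfl⟩ := Ideal.Quotient.mk_surjective a
      change RingHom.quotientKerEquivOfSurjective hψ (r • Ideal.Quotient.mk _ a) =
        r • RingHom.quotientKerEquivOfSurjective hψ (Ideal.Quotient.mk _ a)
      rw [Algebra.smul_def, map_mul, Algebra.smul_def]
      rfl }

lemma quotEquiv_mk (r : R) : quotEquiv hψ (Ideal.Quotient.mk _ r) = algebraMap R S r := rfl

/-- `S ⊗ N ≃ N ⧸ J N` -/
def Φ : (S ⊗[R] N) ≃ₗ[R] N ⧸ (RingHom.ker (algebraMap R S) • (⊤ : Submodule R N)) :=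
  (TensorProduct.congr (quotEquiv hψ).symm (LinearEquiv.refl R N)) ≪≫ₗ
    TensorProduct.quotTensorEquivQuotSMul N (RingHom.ker (algebraMap R S))

lemma Φ_tmul (r : R) (n : N) :
    Φ hψ (algebraMap R S r ⊗ₜ[R] n) = Submodule.Quotient.mk (r • n) := by
  unfold Φ
  rw [LinearEquiv.trans_apply, TensorProduct.congr_tmul, ← quotEquiv_mk hψ r,
    LinearEquiv.symm_apply_apply, LinearEquiv.refl_apply,
    TensorProduct.quotTensorEquivQuotSMul_mk_tmul]

include hψ in
/-- **Nakayama after base change.** -/
theorem surjective_of_baseChange_surjective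
    (hJ : RingHom.ker (algebraMap R S) ≤ Ideal.jacobson ⊥)
    (hN : (⊤ : Submodule R N).FG) (θ : M →ₗ[R] N)
    (h : Function.Surjective (LinearMap.baseChange S θ)) : Function.Surjective θ := by
  rw [← LinearMap.range_eq_top, eq_top_iff]
  apply Submodule.le_of_le_smul_of_le_jacobson_bot hN hJ
  intro n _
  -- the image of `S ⊗ M` lands in the image of `range θ`
  have key : ∀ t : S ⊗[R] M, Φ hψ (LinearMap.baseChange S θ t) ∈
      (LinearMap.range θ).map (Submodule.mkQ (RingHom.ker (algebraMap R S) • (⊤ : Submodule R N))) := by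
    intro t
    induction t using TensorProduct.induction_on with
    | zero => simp
    | tmul s m =>
      obtain ⟨r, rfl⟩ := hψ s
      rw [LinearMap.baseChange_tmul, Φ_tmul, ← map_smul]
      exact Submodule.mem_map_of_mem (LinearMap.mem_range_self θ _)
    | add t t' ht ht' =>
      rw [map_add, map_add]
      exact Submodule.add_mem _ ht ht'
  obtain ⟨t, ht⟩ := h ((1 : S) ⊗ₜ[R] n)
  have h1 := key t
  rw [ht, ← map_one (algebraMap R S), Φ_tmul, one_smul] at h1
  obtain ⟨n', ⟨m, rfl⟩, hn'⟩ := h1
  have h2 : n - θ m ∈ RingHom.ker (algebraMap R S) • (⊤ : Submodule R N) := by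
    rw [← Submodule.Quotient.mk_eq_zero, Submodule.Quotient.mk_sub, sub_eq_zero]
    exact hn'.symm
  have h3 : n = θ m + (n - θ m) := by abel
  rw [h3]
  exact Submodule.add_mem _ (Submodule.mem_sup_left (LinearMap.mem_range_self θ m))
    (Submodule.mem_sup_right h2)

end

end Groth.Agent.Lib.Helper9.NakExt
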