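import Mathlib
import Groth.Agent.Lib.Helper9.RS7
import Groth.Agent.Lib.Helper2.RSMod.Top

/-!
# Epimorphisms and stalks, finitely generated stalks, surjectivity and unit lifting for the stalk map (helper9)
-/

set_option autoImplicit false

universe u

open CategoryTheory Limits TopologicalSpace Opposite

namespace Groth.Agent.Lib.Helper9.RS

noncomputable section

section Epi

variable {X : TopCat.{u}} {O : TopCat.Sheaf CommRingCat.{u} X}

/-- an epimorphism is surjective on stalks -/
lemma stMap_surjective_of_epi {M N : ModSite.Mod O} (φ : M ⟶ N) [Epi φ] (x : X) :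
    Function.Surjective (stMap φ x) := by
  have h1 : (StF O x).PreservesEpimorphisms := Functor.preservesEpimorphisms_of_adjunction (stalkSkyAdj O x)
  have h2 : Epi ((StF O x).map φ) := inferInstance
  exact (ModuleCat.epi_iff_surjective _).1 h2

/-- a module all of whose germs vanish -/
lemma eq_zero_of_forall_st_eq_zero (C : ModSite.Mod O) (hC : ∀ (x : X) (a : St C x), a = 0)
    {U : Opens X} (c : C.val.obj (op U)) : c = 0 :=
  eq_zero_of_gm_eq_zero C c (fun x hx => hC x _)

/-- a morphism which is surjective on stalks is an epimorphism -/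
lemma epi_of_stMap_surjective {M N : ModSite.Mod O} (φ : M ⟶ N)
    (h : ∀ x : X, Function.Surjective (stMap φ x)) : Epi φ := by
  apply Abelian.epi_of_cokernel_π_eq_zero
  apply hom_ext'
  intro U n
  have hC : ∀ (x : X) (a : St (cokernel φ) x), a = 0 := by
    intro x a
    obtain ⟨b, rfl⟩ := stMap_surjective_of_epi (cokernel.π φ) x a
    obtain ⟨m, rfl⟩ := h x b
    obtain ⟨V, hx, m', rfl⟩ := exists_gm_eq M x m
    rw [stMap_gm, stMap_gm, ← app_comp, cokernel.condition]
    change gm (cokernel φ) x V hx 0 = 0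
    exact map_zero _
  rw [eq_zero_of_forall_st_eq_zero (cokernel φ) hC (app (cokernel.π φ) U n)]
  exact (eq_zero_of_forall_st_eq_zero (cokernel φ) hC _).symm

end Epi

section FG

variable {X : TopCat.{u}} {O : TopCat.Sheaf CommRingCat.{u} X}

lemma res_eq_res (F : ModSite.Mod O) {V W : Opens X} (h : W ≤ V) (t : F.val.obj (op V)) :
    Groth.Agent.Lib.Helper2.RSMod.res F h t = res F h t := rfl

/-- the stalks of a module of finite type are finitely generated -/
lemma st_fg_of_isFiniteType (F : ModSite.Mod O)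
    (hF : SheafOfModules.IsFiniteType (R := ModSite.ringSh O) F) (x : X) :
    (⊤ : Submodule (O.presheaf.stalk x) (St F x)).FG := by
  classical
  obtain ⟨U, hxU, n, s, hs⟩ := (Groth.Agent.Lib.Helper2.RSMod.isFiniteType_iff F).1 hF x
  refine ⟨Finset.univ.image (fun i => gm F x U hxU (s i)), ?_⟩
  rw [eq_top_iff]
  intro a _
  obtain ⟨V, hxV, m, rfl⟩ := exists_gm_eq F x a
  obtain ⟨W, hW, hxW, c, hc⟩ := hs (V ⊓ U) inf_le_right (res F inf_le_left m) x ⟨hxV, hxU⟩
  simp only [res_eq_res] at hc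
  rw [res_res] at hc
  have h1 : gm F x V hxV m = gm F x W hxW (res F (hW.trans inf_le_left) m) :=
    (gm_res F x (hW.trans inf_le_left) hxW m).symm
  rw [h1, hc, map_sum]
  refine Submodule.sum_mem _ (fun i _ => ?_)
  have h3 : gm F x W hxW (c i • res F (hW.trans inf_le_right) (s i)) =
      O.presheaf.germ W x hxW (c i) • gm F x U hxU (s i) := by
    rw [← gm_res F x (hW.trans inf_le_right) hxW (s i)]
    exact gm_smul F x W hxW (c i) _
  rw [h3]
  apply Submodule.smul_mem
  apply Submodule.subset_span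
  rw [Finset.coe_image]
  exact ⟨i, Finset.mem_coe.2 (Finset.mem_univ i), rfl⟩

end FG

section StalkRing

variable {X Y : TopCat.{u}} (f : X ⟶ Y)
    {O_X : TopCat.Sheaf CommRingCat.{u} X} {O_Y : TopCat.Sheaf CommRingCat.{u} Y}
    (c : O_Y ⟶ ((TopologicalSpace.Opens.map f).sheafPushforwardContinuous CommRingCat.{u}
      (Opens.grothendieckTopology Y) (Opens.grothendieckTopology X)).obj O_X)

/-- **Surjectivity of the stalk map from surjectivity on good opens.** -/
theorem stalkRingMap_surjective (x : X) (P : Opens Y → Prop)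
    (hP : ∀ (U : Opens X) (V : Opens Y), x ∈ U → f x ∈ V →
      ∃ W : Opens Y, P W ∧ f x ∈ W ∧ W ≤ V ∧ pre f W ≤ U)
    (hsurj : ∀ W : Opens Y, P W → Function.Surjective (cmap f c W)) :
    Function.Surjective (stalkRingMap f c x) := by
  intro a
  obtain ⟨U, hxU, s, rfl⟩ := TopCat.Presheaf.exists_germ_eq O_X.presheaf (x := x) a
  obtain ⟨W, hPW, hxW, -, hWU⟩ := hP U ⊤ hxU trivial
  obtain ⟨r, hr⟩ := hsurj W hPW (rres O_X hWU s)
  refine ⟨O_Y.presheaf.germ W (f x) hxW r, ?_⟩
  rw [stalkRingMap_germ, hr]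
  exact germ_rres O_X x hWU hxW s

lemma isUnit_rres_of_isUnit_germ (O : TopCat.Sheaf CommRingCat.{u} X) (x : X) (U : Opens X)
    (hx : x ∈ U) (r : O.presheaf.obj (op U)) (h : IsUnit (O.presheaf.germ U x hx r)) :
    ∃ (V : Opens X) (hV : V ≤ U), x ∈ V ∧ IsUnit (rres O hV r) := by
  obtain ⟨b, hb⟩ := h.exists_right_inv
  obtain ⟨U', hxU', r', rfl⟩ := TopCat.Presheaf.exists_germ_eq O.presheaf (x := x) b
  have h1 : O.presheaf.germ (U ⊓ U') x ⟨hx, hxU'⟩
      (rres O inf_le_left r * rres O inf_le_right r' - 1) = 0 := by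
    rw [map_sub, map_mul, map_one, germ_rres, germ_rres, hb, sub_self]
  obtain ⟨V, hV, hxV, e⟩ := germ_eq_zero O x _ _ _ h1
  refine ⟨V, hV.trans inf_le_left, hxV, ?_⟩
  rw [map_sub, map_mul, map_one, sub_eq_zero] at e
  have e1 : rres O hV (rres O inf_le_left r) = rres O (hV.trans inf_le_left) r := by
    change (O.presheaf.map (homOfLE inf_le_left).op ≫ O.presheaf.map (homOfLE hV).op).hom r = _
    rw [← Functor.map_comp]
    rfl
  rw [e1] at e
  exact IsUnit.of_mul_eq_one _ e

/-- **Unit lifting for the stalk map from unit lifting on good opens.** -/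
theorem isUnit_of_isUnit_stalkRingMap (x : X) (P : Opens Y → Prop)
    (hP : ∀ (U : Opens X) (V : Opens Y), x ∈ U → f x ∈ V →
      ∃ W : Opens Y, P W ∧ f x ∈ W ∧ W ≤ V ∧ pre f W ≤ U)
    (hunit : ∀ (W : Opens Y), P W → ∀ r : O_Y.presheaf.obj (op W), IsUnit (cmap f c W r) → IsUnit r)
    (a : O_Y.presheaf.stalk (f x)) (ha : IsUnit (stalkRingMap f c x a)) : IsUnit a := by
  obtain ⟨V, hxV, r, rfl⟩ := TopCat.Presheaf.exists_germ_eq O_Y.presheaf (x := f x) a
  rw [stalkRingMap_germ] at ha
  obtain ⟨U', hU', hxU', hu⟩ := isUnit_rres_of_isUnit_germ O_X x _ hxV _ ha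
  obtain ⟨W, hPW, hxW, hWV, hWU'⟩ := hP U' V hxU' hxV
  have h1 : IsUnit (cmap f c W (rres O_Y hWV r)) := by
    rw [cmap_rres]
    have e1 : rres O_X ((Opens.map f).monotone hWV) (cmap f c V r) =
        rres O_X hWU' (rres O_X hU' (cmap f c V r)) := by
      change _ = (O_X.presheaf.map (homOfLE hU').op ≫ O_X.presheaf.map (homOfLE hWU').op).hom _
      rw [← Functor.map_comp]
      rfl
    rw [e1]
    exact hu.map _
  have h2 := hunit W hPW _ h1
  rw [← germ_rres O_Y (f x) hWV hxW r]
  exact h2.map _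

/-- the kernel of the stalk map lies in the Jacobson radical when units lift -/
theorem ker_stalkRingMap_le_jacobson (x : X) (P : Opens Y → Prop)
    (hP : ∀ (U : Opens X) (V : Opens Y), x ∈ U → f x ∈ V →
      ∃ W : Opens Y, P W ∧ f x ∈ W ∧ W ≤ V ∧ pre f W ≤ U)
    (hunit : ∀ (W : Opens Y), P W → ∀ r : O_Y.presheaf.obj (op W), IsUnit (cmap f c W r) → IsUnit r) :
    RingHom.ker (stalkRingMap f c x) ≤ Ideal.jacobson ⊥ := by
  intro j hj
  rw [Ideal.mem_jacobson_bot]
  intro b
  apply isUnit_of_isUnit_stalkRingMap f c x P hP hunit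
  rw [map_add, map_mul, (RingHom.mem_ker).1 hj, zero_mul, zero_add, map_one]
  exact isUnit_one

end StalkRing

end

end Groth.Agent.Lib.Helper9.RS
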