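import Mathlib
import Groth.Agent.Lib.Helper9.OshUnit
import Groth.Agent.Lib.Helper9.RS6
import Groth.Agent.Lib.Helper9.RS8
import Groth.Agent.Lib.Helper9.NakExt

/-!
# Nakayama on a formal system: epimorphisms of modules of finite type are detected on the first level (helper9)
-/

set_option autoImplicit false

universe u

open CategoryTheory Limits TopologicalSpace Opposite AlgebraicGeometry

namespace Groth.Agent.Lib.Helper9.CplFlat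

noncomputable section

variable (𝔛 : FSch.Sys.{u}) (h : 𝔛.IsFormal)

/-- the structure sheaf, as a sheaf on the underlying space -/
abbrev OshT : TopCat.Sheaf CommRingCat.{u} (𝔛.X 0).carrier := 𝔛.Osh h

lemma gInv_toX_apply (y : 𝔛.X 0) : (𝔛.gInv h 0) ((𝔛.toX 0).base y) = y := by
  have := 𝔛.toX_base_gInv h 0
  exact congrArg (fun φ => φ.hom y) this

lemma toX_gInv_apply (x : 𝔛.X 0) : (𝔛.toX 0).base ((𝔛.gInv h 0) x) = x := by
  have := 𝔛.gInv_toX_base h 0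
  exact congrArg (fun φ => φ.hom x) this

lemma exists_affine_nbhd0 (x : 𝔛.X 0) (U V : (𝔛.X 0).Opens) (hxU : x ∈ U)
    (hxV : (𝔛.gInv h 0) x ∈ V) :
    ∃ W : (𝔛.X 0).Opens, IsAffineOpen W ∧ (𝔛.gInv h 0) x ∈ W ∧ W ≤ V ∧
      RS.pre (𝔛.gInv h 0) W ≤ U := by
  let U' : (𝔛.X 0).Opens := (𝔛.toX 0) ⁻¹ᵁ U
  have hx' : (𝔛.gInv h 0) x ∈ V ⊓ U' := by
    refine ⟨hxV, ?_⟩
    change (𝔛.toX 0).base ((𝔛.gInv h 0) x) ∈ U
    rw [toX_gInv_apply]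
    exact hxU
  obtain ⟨_, ⟨W, hW, rfl⟩, hxW, hWV⟩ :=
    (𝔛.X 0).isBasis_affineOpens.exists_subset_of_mem_open hx' (V ⊓ U').2
  refine ⟨W, hW, hxW, fun y hy => (hWV hy).1, ?_⟩
  intro z hz
  have h1 : (𝔛.toX 0).base ((𝔛.gInv h 0) z) ∈ U := (hWV hz).2
  rw [toX_gInv_apply] at h1
  exact h1

/-- the stalk map `O_{𝔛,y} → O_{X_0,x}` is surjective -/
lemma stalkRingMap0_surjective (x : 𝔛.X 0) :
    Function.Surjective (RS.stalkRingMap (𝔛.gInv h 0) (𝔛.OshProj h 0) x) :=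
  RS.stalkRingMap_surjective (𝔛.gInv h 0) (𝔛.OshProj h 0) x
    (fun W : (𝔛.X 0).Opens => IsAffineOpen W)
    (fun U V hxU hxV => exists_affine_nbhd0 𝔛 h x U V hxU hxV)
    (fun W hW => πn_surjective_of_isAffineOpen 𝔛 h W hW 0)

/-- the kernel of the stalk map `O_{𝔛,y} → O_{X_0,x}` lies in the Jacobson radical -/
lemma ker_stalkRingMap0_le (x : 𝔛.X 0) :
    RingHom.ker (RS.stalkRingMap (𝔛.gInv h 0) (𝔛.OshProj h 0) x) ≤ Ideal.jacobson ⊥ :=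
  RS.ker_stalkRingMap_le_jacobson (𝔛.gInv h 0) (𝔛.OshProj h 0) x
    (fun W : (𝔛.X 0).Opens => IsAffineOpen W)
    (fun U V hxU hxV => exists_affine_nbhd0 𝔛 h x U V hxU hxV)
    (fun W hW r hr => isUnit_of_isUnit_π0 𝔛 h W hW r hr)

/-- **Nakayama for formal systems.** -/
theorem epi_of_epi_pull0 {𝔉 𝔊 : FSch.ModF 𝔛 h}
    (h𝔊 : SheafOfModules.IsFiniteType (R := ModSite.ringSh (𝔛.Osh h)) 𝔊) (θ : 𝔉 ⟶ 𝔊)
    (hθ : Epi ((FSch.levelMor 𝔛 h 0).pull.map θ)) : Epi θ := by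
  apply RS.epi_of_stMap_surjective
  intro y
  obtain ⟨x, rfl⟩ : ∃ x, (𝔛.gInv h 0) x = y := ⟨(𝔛.toX 0).base y, gInv_toX_apply 𝔛 h y⟩
  have hadj : (RS.StF (𝔛.X 0).sheaf x).PreservesEpimorphisms :=
    Functor.preservesEpimorphisms_of_adjunction (RS.stalkSkyAdj (𝔛.X 0).sheaf x)
  have h1 : Epi ((RS.StF (𝔛.X 0).sheaf x).map
      ((RS.rmor (𝔛.gInv h 0) (𝔛.OshProj h 0)).pull.map θ)) := by
    have : Epi ((RS.rmor (𝔛.gInv h 0) (𝔛.OshProj h 0)).pull.map θ) := hθ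
    infer_instance
  have h2 : Epi ((ModuleCat.extendScalars (RS.stalkRingMap (𝔛.gInv h 0) (𝔛.OshProj h 0) x)).map
      ((RS.StF (𝔛.Osh h) ((𝔛.gInv h 0) x)).map θ)) := by
    have e := NatIso.naturality_1 (RS.pullStalkIso (𝔛.gInv h 0) (𝔛.OshProj h 0) x) θ
    have h1' : Epi (((RS.rmor (𝔛.gInv h 0) (𝔛.OshProj h 0)).pull ⋙ RS.StF (𝔛.X 0).sheaf x).map θ) := h1
    have : Epi ((RS.StF (𝔛.Osh h) ((𝔛.gInv h 0) x) ⋙
        ModuleCat.extendScalars (RS.stalkRingMap (𝔛.gInv h 0) (𝔛.OshProj h 0) x)).map θ) := by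
      rw [← e]
      exact epi_comp' (IsIso.epi_of_iso _) (epi_comp' h1' (IsIso.epi_of_iso _))
    exact this
  have h3 := (ModuleCat.epi_iff_surjective _).1 h2
  let _ : Algebra ((OshT 𝔛 h).presheaf.stalk ((𝔛.gInv h 0) x)) ((𝔛.X 0).sheaf.presheaf.stalk x) :=
    ((algebraMap ((𝔛.X 0).sheaf.presheaf.stalk x) ((𝔛.X 0).sheaf.presheaf.stalk x)).comp
      (RS.stalkRingMap (𝔛.gInv h 0) (𝔛.OshProj h 0) x)).toAlgebra
  exact NakExt.surjective_of_baseChange_surjective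
    (R := (OshT 𝔛 h).presheaf.stalk ((𝔛.gInv h 0) x)) (S := (𝔛.X 0).sheaf.presheaf.stalk x)
    (stalkRingMap0_surjective 𝔛 h x) (ker_stalkRingMap0_le 𝔛 h x)
    (RS.st_fg_of_isFiniteType 𝔊 h𝔊 ((𝔛.gInv h 0) x)) (RS.stMap θ ((𝔛.gInv h 0) x)) h3

end

end Groth.Agent.Lib.Helper9.CplFlat
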