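import Mathlib
import Groth.Prelude.Def_Algz
import Groth.Agent.Lib.Helper9.FormalKilled

/-! # Pro-isomorphic coherent formal modules are isomorphic (helper9) -/

set_option autoImplicit false
universe u
open CategoryTheory CategoryTheory.Limits AlgebraicGeometry TopologicalSpace Opposite

namespace Groth.Agent.Lib.Helper9.FormalProIso

open Groth.Agent.Lib.Helper9.FormalBase Groth.Agent.Lib.Helper9.FormalQuot
  Groth.Agent.Lib.Helper9.FormalKilled

variable {A : Type u} [CommRing A] {X : Scheme.{u}} [X.Over (Spec (CommRingCat.of A))]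

theorem IsQ.epi {J : Ideal A} {P P' : X.Modules} {g : P ⟶ P'} (hg : IsQ J g) : Epi g := hg.2.1

/-- factor a map to a `J`-killed object through a universal `J`-killed quotient -/
theorem IsQ.exists_fac {J : Ideal A} {P P' N : X.Modules} {g : P ⟶ P'} (hg : IsQ J g)
    (hN : Formal.KilledBy J N) (k : P ⟶ N) : ∃ k' : P' ⟶ N, g ≫ k' = k :=
  hg.2.2 k (fun a ha => by rw [← comp_smulMod, hN a ha, comp_zero])

theorem main (I : Ideal A) (F G : ℕᵒᵖ ⥤ X.Modules)
    (hF : Formal.IsCohFormal I F) (hG : Formal.IsCohFormal I G) (h : Algz.IsProIsomorphic F G) :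
    Nonempty (F ≅ G) := by
  obtain ⟨m, hm, hle, a, ha⟩ := h
  let a' : ∀ n, F.obj (op (m n)) ⟶ G.obj (op n) := fun n => a.app (op n)
  have anat' : ∀ {n k : ℕ} (hnk : n ≤ k), tr F (hm hnk) ≫ a' n = a' k ≫ tr G hnk := fun {n k} hnk =>
    a.naturality (homOfLE hnk).op
  have ha' : ∀ n : ℕ, ∃ (k : ℕ) (h : n ≤ k) (b : G.obj (op k) ⟶ F.obj (op (m n))),
      a' k ≫ b = tr F (hm h) ∧ b ≫ a' n = tr G h := ha
  clear_value a'
  clear ha a
  -- τ n : F_{m n} ⟶ F_n
  have hτ : ∀ n, IsQ (I ^ (n + 1)) (tr F (hle n)) := fun n => isQ_tr I F hF (hle n)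
  choose φ hφ using fun n => IsQ.exists_fac (hτ n) (hG.2.1 n) (a' n)
  have hnat : ∀ n, tr F (Nat.le_succ n) ≫ φ n = φ (n + 1) ≫ tr G (Nat.le_succ n) := by
    intro n
    have := IsQ.epi (hτ (n + 1))
    rw [← cancel_epi (tr F (hle (n + 1))), ← Category.assoc, tr_comp, ← Category.assoc, hφ (n + 1),
      ← anat' (Nat.le_succ n), ← hφ n, ← Category.assoc, tr_comp]
  have hiso : ∀ n, IsIso (φ n) := by
    intro n
    obtain ⟨k, hnk, b, hb1, hb2⟩ := ha' n
    have hGq : IsQ (I ^ (n + 1)) (tr G hnk) := isQ_tr I G hG hnk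
    obtain ⟨ψ, hψ⟩ := IsQ.exists_fac hGq (hF.2.1 n) (b ≫ tr F (hle n))
    refine ⟨ψ, ?_, ?_⟩
    · have e1 : Epi (tr F (hm hnk) ≫ tr F (hle n)) := by
        rw [tr_comp]
        exact IsQ.epi (isQ_tr I F hF _)
      rw [← cancel_epi (tr F (hm hnk) ≫ tr F (hle n)), Category.assoc, ← Category.assoc (tr F (hle n)),
        hφ n, ← Category.assoc, anat' hnk, Category.assoc, hψ, ← Category.assoc, hb1, Category.comp_id]
    · have := IsQ.epi hGq
      rw [← cancel_epi (tr G hnk), ← Category.assoc, hψ, Category.assoc, hφ n, hb2, Category.comp_id]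
  let α : F ⟶ G := NatTrans.ofOpSequence (fun n => φ n) (fun n => hnat n)
  have : ∀ k : ℕᵒᵖ, IsIso (α.app k) := by
    intro k
    change IsIso (φ k.unop)
    exact hiso _
  have : IsIso α := NatIso.isIso_of_isIso_app α
  exact ⟨asIso α⟩

end Groth.Agent.Lib.Helper9.FormalProIso
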