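import Mathlib
import Groth.Prelude.Def_Formal2
import Groth.Agent.Lib.Helper9.FormalBase
import Groth.Agent.Lib.Helper29.QCohPullback

/-! # Pullback of coherent formal modules (helper9) -/

set_option autoImplicit false
universe u
open CategoryTheory CategoryTheory.Limits AlgebraicGeometry TopologicalSpace Opposite

namespace Groth.Agent.Lib.Helper9.FormalPull

open Groth.Agent.Lib.Helper9.FormalBase
open Groth.Agent.Lib.Helper29.QCoh

theorem isCoh_pullback {X Y : Scheme.{u}} (f : X ⟶ Y) (F : Y.Modules) (hF : Coh.IsCoh F) :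
    Coh.IsCoh ((Scheme.Modules.pullback f).obj F) := by
  obtain ⟨h1, h2⟩ := hF
  have : F.IsQuasicoherent := h1
  have : F.IsFiniteType := h2
  exact ⟨inferInstance, inferInstance⟩

theorem main (A : Type u) [CommRing A] (I : Ideal A) (X Y : Scheme.{u})
    [X.Over (Spec (CommRingCat.of A))] [Y.Over (Spec (CommRingCat.of A))]
    (f : X ⟶ Y) (hf : f ≫ (Y ↘ Spec (CommRingCat.of A)) = X ↘ Spec (CommRingCat.of A))
    (G : ℕᵒᵖ ⥤ Y.Modules) (hG : Formal.IsCohFormal I G) :
    Formal.IsCohFormal I (G ⋙ Scheme.Modules.pullback f) := by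
  obtain ⟨h1, h2, h3⟩ := hG
  refine ⟨fun n => isCoh_pullback f _ (h1 n), fun n a ha => ?_, fun n => ?_⟩
  · change Formal.smulMod A ((Scheme.Modules.pullback f).obj (G.obj (op n))) a = 0
    rw [← pullback_map_smulMod A f hf, h2 n a ha, Functor.map_zero]
  · obtain ⟨h, hiso⟩ := h3 n
    obtain ⟨κ, hκ⟩ := exists_iso_cokernel_smulFamily (A := A)
      (Scheme.Modules.pullbackPushforwardAdjunction f)
      (fun N a => pullback_map_smulMod A f hf N a) (I ^ (n + 1)) (G.obj (op (n + 1)))
    have hLπ : (Scheme.Modules.pullback f).map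
        (cokernel.π (Formal.smulFamily (I ^ (n + 1)) (G.obj (op (n + 1))))) =
        cokernel.π (Formal.smulFamily (I ^ (n + 1))
          ((Scheme.Modules.pullback f).obj (G.obj (op (n + 1))))) ≫ κ.inv := by
      rw [← hκ, Category.assoc, Iso.hom_inv_id, Category.comp_id]
    have hLt : (Scheme.Modules.pullback f).map (G.map (homOfLE (Nat.le_succ n)).op) =
        cokernel.π (Formal.smulFamily (I ^ (n + 1))
          ((Scheme.Modules.pullback f).obj (G.obj (op (n + 1))))) ≫ κ.inv ≫
          (Scheme.Modules.pullback f).map (cokernel.desc _ _ h) := by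
      rw [← Category.assoc, ← hLπ, ← Functor.map_comp, cokernel.π_desc]
    have h0 : Formal.smulFamily (I ^ (n + 1)) ((G ⋙ Scheme.Modules.pullback f).obj (op (n + 1))) ≫
        (G ⋙ Scheme.Modules.pullback f).map (homOfLE (Nat.le_succ n)).op = 0 := by
      change Formal.smulFamily (I ^ (n + 1)) ((Scheme.Modules.pullback f).obj (G.obj (op (n + 1)))) ≫
        (Scheme.Modules.pullback f).map (G.map (homOfLE (Nat.le_succ n)).op) = 0
      rw [hLt, ← Category.assoc, cokernel.condition, zero_comp]
    refine ⟨h0, ?_⟩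
    have heq : cokernel.desc _ _ h0 = κ.inv ≫
        (Scheme.Modules.pullback f).map (cokernel.desc _ _ h) := by
      rw [← cancel_epi (cokernel.π (Formal.smulFamily (I ^ (n + 1))
          ((G ⋙ Scheme.Modules.pullback f).obj (op (n + 1))))), cokernel.π_desc]
      exact hLt
    rw [heq]
    infer_instance

end Groth.Agent.Lib.Helper9.FormalPull
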