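import Mathlib

set_option autoImplicit false
universe u

namespace Groth.Agent.Lib.Helper9.FrobLangQ

open Polynomial

variable (k : Type u) [Field k] [IsAlgClosed k]

/-- Artin–Schreier type equation `y^q - y + c = 0` is solvable (`q ≥ 2`). -/
lemma exists_pow_sub_add_eq_zero (q : ℕ) (hq : 2 ≤ q) (c : k) : ∃ y : k, y ^ q - y + c = 0 := by
  have hdeg : (X ^ q - X + C c : k[X]).degree ≠ 0 := by
    have h1 : (X ^ q - X + C c : k[X]) = X ^ q - (X - C c) := by ring
    rw [h1, degree_sub_eq_left_of_degree_lt]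
    · rw [degree_X_pow]; exact_mod_cast (by omega : q ≠ 0)
    · rw [degree_X_pow, degree_X_sub_C]; exact_mod_cast (by omega : 1 < q)
  obtain ⟨z, hz⟩ := IsAlgClosed.exists_root _ hdeg
  simp only [IsRoot.def, eval_sub, eval_add, eval_pow, eval_X, eval_C] at hz
  exact ⟨z, hz⟩

/-- a nonzero solution of an additive polynomial equation -/
lemma exists_ne_zero_eq_sum (q : ℕ) (hq : 2 ≤ q) (n : ℕ) (c : Fin (n + 1) → k) (hc : c ≠ 0) :
    ∃ x : k, x ≠ 0 ∧ x = ∑ i : Fin (n + 1), x ^ q ^ (i.val + 1) * c i := by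
  classical
  obtain ⟨j, hj⟩ : ∃ j, c j ≠ 0 := by
    by_contra h
    push Not at h
    exact hc (funext h)
  let Q : k[X] := ∑ i : Fin (n + 1), C (c i) * X ^ (q ^ (i.val + 1) - 1) - 1
  have hpos : ∀ i : Fin (n + 1), 0 < q ^ (i.val + 1) - 1 := by
    intro i
    have : 2 ≤ q ^ (i.val + 1) := by
      calc 2 ≤ q := hq
        _ = q ^ 1 := (pow_one q).symm
        _ ≤ q ^ (i.val + 1) := Nat.pow_le_pow_right (by omega) (by omega)
    omega
  have hinj : ∀ i i' : Fin (n + 1), q ^ (i.val + 1) - 1 = q ^ (i'.val + 1) - 1 → i = i' := by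
    intro i i' h
    have h1 := hpos i
    have h2 := hpos i'
    have h3 : q ^ (i.val + 1) = q ^ (i'.val + 1) := by omega
    have := Nat.pow_right_injective hq h3
    exact Fin.ext (by omega)
  have hcoeff : Q.coeff (q ^ (j.val + 1) - 1) = c j := by
    simp only [Q, coeff_sub, finsetSum_coeff, coeff_C_mul, coeff_X_pow, coeff_one]
    rw [if_neg (hpos j).ne', sub_zero, Finset.sum_eq_single j]
    · simp
    · intro i _ hij
      rw [if_neg (fun h => hij (hinj _ _ h.symm)), mul_zero]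
    · intro h; exact absurd (Finset.mem_univ j) h
  have hdeg : Q.degree ≠ 0 := by
    intro h0
    have h1 := eq_C_of_degree_eq_zero h0
    have h2 : Q.coeff (q ^ (j.val + 1) - 1) = 0 := by
      rw [h1, coeff_C, if_neg (hpos j).ne']
    rw [hcoeff] at h2
    exact hj h2
  obtain ⟨z, hz⟩ := IsAlgClosed.exists_root Q hdeg
  have hz' : ∑ i : Fin (n + 1), c i * z ^ (q ^ (i.val + 1) - 1) = 1 := by
    have : Q.eval z = 0 := hz
    simp only [Q, eval_sub, eval_finsetSum, eval_mul, eval_C, eval_pow, eval_X, eval_one] at this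
    exact sub_eq_zero.mp this
  have hz0 : z ≠ 0 := by
    rintro rfl
    have : (∑ i : Fin (n + 1), c i * (0 : k) ^ (q ^ (i.val + 1) - 1)) = 0 := by
      apply Finset.sum_eq_zero
      intro i _
      rw [zero_pow (hpos i).ne', mul_zero]
    rw [this] at hz'
    exact zero_ne_one hz'
  refine ⟨z, hz0, ?_⟩
  calc z = z * 1 := (mul_one z).symm
    _ = z * ∑ i : Fin (n + 1), c i * z ^ (q ^ (i.val + 1) - 1) := by rw [hz']
    _ = ∑ i : Fin (n + 1), z ^ q ^ (i.val + 1) * c i := by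
      rw [Finset.mul_sum]
      apply Finset.sum_congr rfl
      intro i _
      have : q ^ (i.val + 1) = (q ^ (i.val + 1) - 1) + 1 := by have := hpos i; omega
      conv_rhs => rw [this, pow_succ]
      ring

variable (p : ℕ) [Fact p.Prime] [CharP k p] (ν : ℕ)

omit [IsAlgClosed k] in
lemma iterate_iterateFrobenius (j : ℕ) (x : k) :
    (⇑(iterateFrobenius k p ν))^[j] x = x ^ (p ^ ν) ^ j := by
  induction j generalizing x with
  | zero => simp
  | succ j ih =>
    rw [Function.iterate_succ_apply, ih, iterateFrobenius_def, ← pow_mul, pow_succ']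

lemma h3_iterateFrobenius (hν : 1 ≤ ν) (c : k) :
    ∃ y : k, iterateFrobenius k p ν y - y + c = 0 := by
  have hq : 2 ≤ p ^ ν := by
    calc 2 ≤ p := (Fact.out : p.Prime).two_le
      _ = p ^ 1 := (pow_one p).symm
      _ ≤ p ^ ν := Nat.pow_le_pow_right (Fact.out : p.Prime).pos hν
  obtain ⟨y, hy⟩ := exists_pow_sub_add_eq_zero k (p ^ ν) hq c
  exact ⟨y, by rw [iterateFrobenius_def]; exact hy⟩

lemma h2_iterateFrobenius (hν : 1 ≤ ν) (n : ℕ) (b : Fin (n + 1) → k) (hb : b ≠ 0) :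
    ∃ x : k, x ≠ 0 ∧ x = ∑ i : Fin (n + 1),
      (⇑(iterateFrobenius k p ν))^[i.val + 1] x *
        (⇑(iterateFrobenius k p ν))^[i.val] (b (Fin.rev i)) := by
  have hq : 2 ≤ p ^ ν := by
    calc 2 ≤ p := (Fact.out : p.Prime).two_le
      _ = p ^ 1 := (pow_one p).symm
      _ ≤ p ^ ν := Nat.pow_le_pow_right (Fact.out : p.Prime).pos hν
  have hc : (fun i : Fin (n + 1) => (b (Fin.rev i)) ^ (p ^ ν) ^ i.val) ≠ 0 := by
    intro h
    apply hb
    funext j
    have := congrFun h (Fin.rev j)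
    simp only [Fin.rev_rev, Pi.zero_apply] at this
    exact pow_eq_zero_iff (pow_ne_zero _ (by omega)) |>.mp this
  obtain ⟨x, hx0, hx⟩ := exists_ne_zero_eq_sum k (p ^ ν) hq n _ hc
  refine ⟨x, hx0, ?_⟩
  simp only [iterate_iterateFrobenius]
  exact hx

end Groth.Agent.Lib.Helper9.FrobLangQ
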