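import Mathlib
import Groth.Prelude.Def_WittGrp

set_option autoImplicit false
universe u

namespace Groth.Agent.Lib.Helper9.TruncWitt

open WittVector IsLocalRing

variable (p : ℕ) [hp : Fact p.Prime] (k : Type u) [Field k] [CharP k p] (n : ℕ)

/-- the zeroth coefficient `W_{n+1}(k) → k` as a ring hom -/
noncomputable def c0 : TruncatedWittVector p (n + 1) k →+* k where
  toFun x := x.coeff 0
  map_one' := by
    have : (1 : TruncatedWittVector p (n + 1) k) = truncate (n + 1) (1 : WittVector p k) := (map_one _).symm
    rw [this, coeff_truncate]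
    exact one_coeff_zero p k
  map_zero' := TruncatedWittVector.coeff_zero p (n + 1) k 0
  map_mul' x y := by
    obtain ⟨X, rfl⟩ := truncate_surjective p (n + 1) k x
    obtain ⟨Y, rfl⟩ := truncate_surjective p (n + 1) k y
    rw [← map_mul, coeff_truncate, coeff_truncate, coeff_truncate]
    exact mul_coeff_zero X Y
  map_add' x y := by
    obtain ⟨X, rfl⟩ := truncate_surjective p (n + 1) k x
    obtain ⟨Y, rfl⟩ := truncate_surjective p (n + 1) k y
    rw [← map_add, coeff_truncate, coeff_truncate, coeff_truncate]
    exact add_coeff_zero X Y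

omit [CharP k p] in
theorem c0_truncate (X : WittVector p k) : c0 p k n (truncate (n + 1) X) = X.coeff 0 := by
  change (truncate (n + 1) X).coeff 0 = _
  rw [coeff_truncate]
  rfl

theorem c0_surjective : Function.Surjective (c0 p k n) := by
  intro a
  refine ⟨truncate (n + 1) (WittVector.teichmuller p a), ?_⟩
  rw [c0_truncate, teichmuller_coeff_zero]

omit [CharP k p] in
theorem c0_truncMap (f : k →+* k) (x : TruncatedWittVector p (n + 1) k) :
    c0 p k n (WittGrp.truncMap p (n + 1) f x) = f (c0 p k n x) :=
  WittGrp.coeff_truncMap p (n + 1) f x 0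

instance : Nontrivial (TruncatedWittVector p (n + 1) k) :=
  ⟨⟨0, 1, fun h => by
    have := congrArg (c0 p k n) h
    rw [map_zero, map_one] at this
    exact zero_ne_one this⟩⟩

theorem isUnit_iff (x : TruncatedWittVector p (n + 1) k) : IsUnit x ↔ c0 p k n x ≠ 0 := by
  constructor
  · intro hx
    exact (hx.map (c0 p k n)).ne_zero
  · intro hx
    obtain ⟨X, rfl⟩ := truncate_surjective p (n + 1) k x
    rw [c0_truncate] at hx
    exact (isUnit_of_coeff_zero_ne_zero X hx).map _

instance : IsLocalRing (TruncatedWittVector p (n + 1) k) := by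
  refine IsLocalRing.of_nonunits_add ?_
  intro a b ha hb
  rw [mem_nonunits_iff, isUnit_iff, not_not] at ha hb ⊢
  rw [map_add, ha, hb, add_zero]

theorem mem_maximalIdeal_iff (x : TruncatedWittVector p (n + 1) k) :
    x ∈ maximalIdeal (TruncatedWittVector p (n + 1) k) ↔ c0 p k n x = 0 := by
  rw [mem_maximalIdeal, mem_nonunits_iff, isUnit_iff, not_not]

theorem ker_c0 : RingHom.ker (c0 p k n) = maximalIdeal (TruncatedWittVector p (n + 1) k) := by
  ext x
  rw [RingHom.mem_ker, mem_maximalIdeal_iff]

variable [PerfectRing k p]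

theorem maximalIdeal_eq :
    maximalIdeal (TruncatedWittVector p (n + 1) k) =
      Ideal.span {(p : TruncatedWittVector p (n + 1) k)} := by
  ext x
  rw [mem_maximalIdeal_iff, Ideal.mem_span_singleton']
  constructor
  · intro hx
    obtain ⟨X, rfl⟩ := truncate_surjective p (n + 1) k x
    rw [c0_truncate] at hx
    have hX : X ∈ maximalIdeal (WittVector p k) := by
      rw [mem_maximalIdeal, mem_nonunits_iff]
      intro hu
      have := (hu.map (WittVector.constantCoeff (p := p) (R := k))).ne_zero
      exact this hx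
    rw [(WittVector.irreducible p).maximalIdeal_eq, Ideal.mem_span_singleton'] at hX
    obtain ⟨Y, rfl⟩ := hX
    exact ⟨truncate (n + 1) Y, by rw [map_mul, map_natCast]⟩
  · rintro ⟨y, rfl⟩
    rw [map_mul, map_natCast, CharP.cast_eq_zero, mul_zero]

omit [PerfectRing k p] in
theorem p_pow_eq_zero : (p : TruncatedWittVector p (n + 1) k) ^ (n + 1) = 0 := by
  have : (p : TruncatedWittVector p (n + 1) k) ^ (n + 1) =
      truncate (n + 1) ((p : WittVector p k) ^ (n + 1)) := by rw [map_pow, map_natCast]
  rw [this]
  apply TruncatedWittVector.ext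
  intro i
  rw [coeff_truncate, TruncatedWittVector.coeff_zero p (n + 1) k]
  exact coeff_p_pow_eq_zero p k (ne_of_lt i.2)

end Groth.Agent.Lib.Helper9.TruncWitt
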