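import Mathlib
import Groth.Prelude.Def_W4c1liftfrobW2

/-!
# Arithmetic in the truncated Witt vectors of length two over a ring of characteristic `p`
(helper9 library)
-/

set_option autoImplicit false

namespace Groth.Agent.Lib.Helper9.W2Arith

open WittVector

variable (p : ℕ) [hp : Fact p.Prime] {A : Type*} [CommRing A]

theorem ext2 {x y : TruncatedWittVector p 2 A} (h0 : x.coeff 0 = y.coeff 0)
    (h1 : x.coeff 1 = y.coeff 1) : x = y := by
  apply TruncatedWittVector.ext
  intro i
  fin_cases i
  · exact h0
  · exact h1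

/-- `(0, a)` -/
noncomputable def vv (a : A) : TruncatedWittVector p 2 A :=
  truncate 2 (verschiebung (teichmuller p a))

/-- `(a, 0)` -/
noncomputable def tt (a : A) : TruncatedWittVector p 2 A :=
  truncate 2 (teichmuller p a)

theorem coeff_zero_trunc_verschiebung (X : WittVector p A) :
    (truncate 2 (verschiebung X)).coeff 0 = 0 := by
  rw [WittVector.coeff_truncate]
  exact verschiebung_coeff_zero X

theorem coeff_one_trunc_verschiebung (X : WittVector p A) :
    (truncate 2 (verschiebung X)).coeff 1 = X.coeff 0 := by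
  rw [WittVector.coeff_truncate]
  exact verschiebung_coeff_succ X 0

@[simp] theorem coeff_zero_vv (a : A) : (vv p a).coeff 0 = 0 :=
  coeff_zero_trunc_verschiebung p _

@[simp] theorem coeff_one_vv (a : A) : (vv p a).coeff 1 = a := by
  rw [vv, coeff_one_trunc_verschiebung, teichmuller_coeff_zero]

@[simp] theorem coeff_zero_tt (a : A) : (tt p a).coeff 0 = a := by
  rw [tt, WittVector.coeff_truncate]
  exact teichmuller_coeff_zero p a

theorem eq_vv_of_coeff_zero (x : TruncatedWittVector p 2 A) (h : x.coeff 0 = 0) :
    x = vv p (x.coeff 1) :=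
  ext2 p (by rw [h, coeff_zero_vv]) (by rw [coeff_one_vv])

theorem vv_add (a b : A) : vv p (a + b) = vv p a + vv p b := by
  have h : vv p a + vv p b =
      truncate 2 (verschiebung (teichmuller p a + teichmuller p b)) := by
    rw [vv, vv, map_add, map_add]
  rw [h]
  refine ext2 p ?_ ?_
  · rw [coeff_zero_vv, coeff_zero_trunc_verschiebung]
  · rw [coeff_one_vv, coeff_one_trunc_verschiebung, add_coeff_zero, teichmuller_coeff_zero,
      teichmuller_coeff_zero]

theorem vv_zero : vv p (0 : A) = 0 := by
  refine ext2 p ?_ ?_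
  · rw [coeff_zero_vv, TruncatedWittVector.coeff_zero]
  · rw [coeff_one_vv, TruncatedWittVector.coeff_zero]

theorem vv_sub (a b : A) : vv p (a - b) = vv p a - vv p b := by
  rw [eq_sub_iff_add_eq, ← vv_add, sub_add_cancel]

variable [CharP A p]

theorem mul_vv (t : TruncatedWittVector p 2 A) (a : A) :
    t * vv p a = vv p (t.coeff 0 ^ p * a) := by
  obtain ⟨T, rfl⟩ := truncate_surjective p 2 A t
  have h : truncate 2 T * vv p a =
      truncate 2 (verschiebung (teichmuller p a * frobenius T)) := by
    rw [vv, ← map_mul, verschiebung_mul_frobenius, mul_comm]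
  rw [h]
  refine ext2 p ?_ ?_
  · rw [coeff_zero_vv, coeff_zero_trunc_verschiebung]
  · rw [coeff_one_vv, coeff_one_trunc_verschiebung, mul_coeff_zero, teichmuller_coeff_zero,
      coeff_frobenius_charP, WittVector.coeff_truncate, mul_comm]
    rfl

theorem p_mul (t : TruncatedWittVector p 2 A) :
    (p : TruncatedWittVector p 2 A) * t = vv p (t.coeff 0 ^ p) := by
  obtain ⟨T, rfl⟩ := truncate_surjective p 2 A t
  have h : (p : TruncatedWittVector p 2 A) * truncate 2 T =
      truncate 2 (verschiebung (frobenius T)) := by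
    rw [verschiebung_frobenius, map_mul, map_natCast, mul_comm]
  rw [h]
  refine ext2 p ?_ ?_
  · rw [coeff_zero_vv, coeff_zero_trunc_verschiebung]
  · rw [coeff_one_vv, coeff_one_trunc_verschiebung, coeff_frobenius_charP,
      WittVector.coeff_truncate]
    rfl

end Groth.Agent.Lib.Helper9.W2Arith
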