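import Mathlib
import Groth.Agent.Lib.Helper9.W2Arith

/-!
# More arithmetic in `W₂(A)`: decomposition, `p`-th powers, Frobenius
-/

set_option autoImplicit false

namespace Groth.Agent.Lib.Helper9.W2Arith

open WittVector

variable (p : ℕ) [hp : Fact p.Prime] {A : Type*} [CommRing A]

@[simp] theorem coeff_one_tt (a : A) : (tt p a).coeff 1 = 0 := by
  rw [tt, WittVector.coeff_truncate]
  exact teichmuller_coeff_pos p a 1 Nat.one_pos

theorem eq_tt_add_vv (x : TruncatedWittVector p 2 A) :
    x = tt p (x.coeff 0) + vv p (x.coeff 1) := by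
  have h : tt p (x.coeff 0) + vv p (x.coeff 1) =
      truncate 2 (teichmuller p (x.coeff 0) + verschiebung (teichmuller p (x.coeff 1))) := by
    rw [tt, vv, map_add]
  have hdis : ∀ n, (teichmuller p (x.coeff 0)).coeff n = 0 ∨
      (verschiebung (teichmuller p (x.coeff 1))).coeff n = 0 := by
    intro n
    rcases Nat.eq_zero_or_pos n with rfl | hn
    · right
      exact verschiebung_coeff_zero _
    · left
      exact teichmuller_coeff_pos p _ n hn
  rw [h]
  refine ext2 p ?_ ?_
  · rw [WittVector.coeff_truncate, coeff_add_of_disjoint _ _ _ hdis]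
    change _ = (teichmuller p (x.coeff 0)).coeff 0 + (verschiebung _).coeff 0
    rw [teichmuller_coeff_zero, verschiebung_coeff_zero, add_zero]
  · rw [WittVector.coeff_truncate, coeff_add_of_disjoint _ _ _ hdis]
    change _ = (teichmuller p (x.coeff 0)).coeff 1 + (verschiebung _).coeff (0 + 1)
    rw [teichmuller_coeff_pos p _ 1 Nat.one_pos, verschiebung_coeff_succ, teichmuller_coeff_zero,
      zero_add]

theorem tt_mul (a b : A) : tt p (a * b) = tt p a * tt p b := by
  rw [tt, tt, tt, map_mul, map_mul]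

theorem tt_pow (a : A) (n : ℕ) : tt p (a ^ n) = tt p a ^ n := by
  rw [tt, tt, map_pow, map_pow]

theorem tt_one : tt p (1 : A) = 1 := by
  rw [tt, map_one, map_one]

variable [CharP A p]

theorem vv_mul_vv (a b : A) : vv p a * vv p b = 0 := by
  rw [mul_vv, coeff_zero_vv, zero_pow hp.out.ne_zero, zero_mul, vv_zero]

theorem p_mul_vv (a : A) : (p : TruncatedWittVector p 2 A) * vv p a = 0 := by
  rw [p_mul, coeff_zero_vv, zero_pow hp.out.ne_zero, vv_zero]

theorem p_mul_tt (a : A) : (p : TruncatedWittVector p 2 A) * tt p a = vv p (a ^ p) := by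
  rw [p_mul, coeff_zero_tt]

theorem vv_pow (a : A) : vv p a ^ p = 0 := by
  have h2 : vv p a ^ 2 = 0 := by rw [pow_two, vv_mul_vv]
  exact pow_eq_zero_of_le hp.out.two_le h2

/-- the `p`-th power in `W₂(A)` -/
theorem pow_p (x : TruncatedWittVector p 2 A) : x ^ p = tt p (x.coeff 0 ^ p) := by
  conv_lhs => rw [eq_tt_add_vv p x]
  rw [add_pow_prime_eq hp.out, vv_pow, add_zero, tt_pow]
  have : (p : TruncatedWittVector p 2 A) * tt p (x.coeff 0) * vv p (x.coeff 1) = 0 := by
    rw [mul_comm (p : TruncatedWittVector p 2 A), mul_assoc, p_mul_vv, mul_zero]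
  rw [this, zero_mul, add_zero]

end Groth.Agent.Lib.Helper9.W2Arith
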