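import Mathlib
import Groth.Prelude.Def_W4c1liftfrobW2
import Groth.Agent.S13136
import Groth.Agent.Lib.Helper9.W2Arith2
import Groth.Agent.Lib.Helper9.TruncWitt

/-!
# Flat liftings over `W₂(k)` and Frobenius lifts: the `p`-multiplication map and `δ`
-/

set_option autoImplicit false
universe u v

namespace Groth.Agent.Lib.Helper9.FrobLift

open FrobAlg Groth.Agent.Lib.Helper9.W2Arith

section base

variable (p : ℕ) [hp : Fact p.Prime] (k : Type u) [Field k] [CharP k p] [PerfectRing k p]

theorem ker_res : RingHom.ker (res p k) = Ideal.span {(p : W2 p k)} := by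
  rw [← Groth.Agent.Lib.Helper9.TruncWitt.maximalIdeal_eq p k 1,
    ← Groth.Agent.Lib.Helper9.TruncWitt.ker_c0]
  ext x
  rw [RingHom.mem_ker, RingHom.mem_ker, res_apply]
  rfl

theorem p_mul_p : (p : W2 p k) * (p : W2 p k) = 0 := by
  have := Groth.Agent.Lib.Helper9.TruncWitt.p_pow_eq_zero p k 1
  rw [pow_two] at this
  exact this

theorem sigma_eq (w : W2 p k) :
    sigma p k w = w ^ p + (p : W2 p k) * tt p (w.coeff 1) := by
  rw [pow_p, p_mul_tt]
  conv_lhs => rw [eq_tt_add_vv p (sigma p k w)]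
  rw [WittGrp.coeff_frob, WittGrp.coeff_frob]

end base

section Q

/-- the polynomial `((x+y)^p - x^p - y^p)/p` -/
def Qp (p : ℕ) {R : Type*} [CommRing R] (x y : R) : R :=
  x * y * ∑ j ∈ Finset.Ioo 0 p, x ^ (j - 1) * y ^ (p - j - 1) * ((p.choose j / p : ℕ) : R)

theorem add_pow_eq (p : ℕ) [hp : Fact p.Prime] {R : Type*} [CommRing R] (x y : R) :
    (x + y) ^ p = x ^ p + y ^ p + (p : R) * Qp p x y := by
  rw [add_pow_prime_eq hp.out]
  unfold Qp
  ring

theorem map_Qp (p : ℕ) {R S : Type*} [CommRing R] [CommRing S] (f : R →+* S) (x y : R) :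
    f (Qp p x y) = Qp p (f x) (f y) := by
  unfold Qp
  simp only [map_mul, map_sum, map_pow, map_natCast]

end Q

section lift

variable {p : ℕ} [hp : Fact p.Prime] {k : Type u} [Field k] [CharP k p] [PerfectRing k p]
variable {A : Type v} [CommRing A] [Algebra k A] {B : Type v} [CommRing B]
  {ι : W2 p k →+* B} {π : B →+* A}

theorem ker_pi (hB : IsLift p k A B ι π) : RingHom.ker π = Ideal.span {(p : B)} := by
  rw [hB.ker_eq, ker_res, Ideal.map_span, Set.image_singleton, map_natCast]

theorem pp (hB : IsLift p k A B ι π) : (p : B) * (p : B) = 0 := by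
  have h2 := congrArg ι (p_mul_p p k)
  rw [map_mul, map_natCast, map_zero] at h2
  exact h2

theorem pi_p (hB : IsLift p k A B ι π) : π (p : B) = 0 := by
  have : (p : B) ∈ RingHom.ker π := by
    rw [ker_pi hB]
    exact Ideal.subset_span rfl
  exact this

theorem p_eq_zero (hB : IsLift p k A B ι π) : (p : A) = 0 := by
  have := pi_p hB
  rw [map_natCast] at this
  exact this

theorem exists_of_pi_eq_zero (hB : IsLift p k A B ι π) (x : B) (hx : π x = 0) :
    ∃ y : B, x = (p : B) * y := by
  have : x ∈ RingHom.ker π := hx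
  rw [ker_pi hB, Ideal.mem_span_singleton'] at this
  obtain ⟨y, hy⟩ := this
  exact ⟨y, by rw [← hy, mul_comm]⟩

/-- flatness: `p b = 0` implies `π b = 0` -/
theorem pi_eq_zero_of_p_mul (hB : IsLift p k A B ι π) (b : B) (h : (p : B) * b = 0) :
    π b = 0 := by
  have hflat := hB.flat
  unfold RingHom.Flat at hflat
  let _ : Algebra (W2 p k) B := ι.toAlgebra
  have hcrit := (Groth.Agent.S13136.result p k B).mp hflat
  have h1 : (p : W2 p k) • b = 0 := by
    rw [Algebra.smul_def]
    change ι (p : W2 p k) * b = 0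
    rw [map_natCast]
    exact h
  obtain ⟨b', hb'⟩ := hcrit b h1
  rw [hb', Algebra.smul_def]
  change π (ι (p : W2 p k) * b') = 0
  rw [map_natCast, map_mul, pi_p hB, zero_mul]

/-- the multiplication-by-`p` map `A → B` -/
noncomputable def mu (hB : IsLift p k A B ι π) : A →+ B where
  toFun a := (p : B) * (hB.surj a).choose
  map_zero' := by
    have h := (hB.surj 0).choose_spec
    obtain ⟨y, hy⟩ := exists_of_pi_eq_zero hB _ h
    rw [hy, ← mul_assoc, pp hB, zero_mul]
  map_add' a a' := by
    have h1 := (hB.surj (a + a')).choose_spec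
    have h2 := (hB.surj a).choose_spec
    have h3 := (hB.surj a').choose_spec
    have h : π ((hB.surj (a + a')).choose - ((hB.surj a).choose + (hB.surj a').choose)) = 0 := by
      rw [map_sub, map_add, h1, h2, h3, sub_self]
    obtain ⟨y, hy⟩ := exists_of_pi_eq_zero hB _ h
    rw [← mul_add, ← sub_eq_zero, ← mul_sub, hy, ← mul_assoc, pp hB, zero_mul]

theorem mu_pi (hB : IsLift p k A B ι π) (b : B) : mu hB (π b) = (p : B) * b := by
  change (p : B) * (hB.surj (π b)).choose = _
  have h1 := (hB.surj (π b)).choose_spec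
  have h : π ((hB.surj (π b)).choose - b) = 0 := by rw [map_sub, h1, sub_self]
  obtain ⟨y, hy⟩ := exists_of_pi_eq_zero hB _ h
  rw [← sub_eq_zero, ← mul_sub, hy, ← mul_assoc, pp hB, zero_mul]

theorem mu_eq_zero (hB : IsLift p k A B ι π) (a : A) (h : mu hB a = 0) : a = 0 := by
  obtain ⟨b, rfl⟩ := hB.surj a
  rw [mu_pi] at h
  exact pi_eq_zero_of_p_mul hB b h

theorem mu_injective (hB : IsLift p k A B ι π) : Function.Injective (mu hB) :=
  (injective_iff_map_eq_zero _).mpr (mu_eq_zero hB)

theorem mul_mu (hB : IsLift p k A B ι π) (b : B) (a : A) :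
    b * mu hB a = mu hB (π b * a) := by
  obtain ⟨c, rfl⟩ := hB.surj a
  rw [← map_mul, mu_pi, mu_pi]
  ring

theorem pi_mu (hB : IsLift p k A B ι π) (a : A) : π (mu hB a) = 0 := by
  obtain ⟨c, rfl⟩ := hB.surj a
  rw [mu_pi, map_mul, pi_p hB, zero_mul]

theorem mu_mul_mu (hB : IsLift p k A B ι π) (a a' : A) : mu hB a * mu hB a' = 0 := by
  rw [mul_mu, pi_mu, zero_mul, map_zero]

theorem p_mul_mu (hB : IsLift p k A B ι π) (a : A) : (p : B) * mu hB a = 0 := by
  rw [mul_mu, pi_p hB, zero_mul, map_zero]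

theorem exists_mu (hB : IsLift p k A B ι π) (x : B) (hx : π x = 0) : ∃ a, mu hB a = x := by
  obtain ⟨y, rfl⟩ := exists_of_pi_eq_zero hB x hx
  exact ⟨π y, mu_pi hB y⟩

section delta

variable {Φ : B →+* B}

/-- the `p`-derivation attached to a Frobenius lift -/
noncomputable def delta (hΦ : IsFrobLift p k A B ι π Φ) (b : B) : A :=
  (exists_mu hΦ.toIsLift (Φ b - b ^ p) (by rw [map_sub, hΦ.red, map_pow, sub_self])).choose

theorem mu_delta (hΦ : IsFrobLift p k A B ι π Φ) (b : B) :
    mu hΦ.toIsLift (delta hΦ b) = Φ b - b ^ p :=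
  (exists_mu hΦ.toIsLift (Φ b - b ^ p) (by rw [map_sub, hΦ.red, map_pow, sub_self])).choose_spec

theorem delta_one (hΦ : IsFrobLift p k A B ι π Φ) : delta hΦ 1 = 0 := by
  apply mu_injective hΦ.toIsLift
  rw [mu_delta, map_one, one_pow, sub_self, map_zero]

theorem delta_mul (hΦ : IsFrobLift p k A B ι π Φ) (b c : B) :
    delta hΦ (b * c) = π b ^ p * delta hΦ c + π c ^ p * delta hΦ b := by
  apply mu_injective hΦ.toIsLift
  have hb := mu_delta hΦ b
  have hc := mu_delta hΦ c
  rw [mu_delta, map_add, ← map_pow, ← map_pow, ← mul_mu, ← mul_mu, hb, hc, map_mul, mul_pow]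
  have h0 : (Φ b - b ^ p) * (Φ c - c ^ p) = 0 := by
    rw [← hb, ← hc, mu_mul_mu]
  linear_combination h0

theorem delta_add (hΦ : IsFrobLift p k A B ι π Φ) (b c : B) :
    delta hΦ (b + c) = delta hΦ b + delta hΦ c - π (Qp p b c) := by
  apply mu_injective hΦ.toIsLift
  rw [mu_delta, map_sub, map_add (mu hΦ.toIsLift), mu_delta, mu_delta, mu_pi, map_add,
    add_pow_eq p b c]
  ring

theorem delta_iota (hΦ : IsFrobLift p k A B ι π Φ) (w : W2 p k) :
    delta hΦ (ι w) = algebraMap k A (w.coeff 1) := by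
  apply mu_injective hΦ.toIsLift
  rw [mu_delta]
  have h1 : Φ (ι w) = ι (sigma p k w) := by
    have := RingHom.congr_fun hΦ.semi w
    exact this
  have h2 : algebraMap k A (w.coeff 1) = π (ι (tt p (w.coeff 1))) := by
    have := RingHom.congr_fun hΦ.toIsLift.comm (tt p (w.coeff 1))
    rw [RingHom.comp_apply, RingHom.comp_apply, res_apply, coeff_zero_tt] at this
    exact this.symm
  rw [h1, h2, mu_pi, sigma_eq, map_add, map_pow, map_mul, map_natCast]
  ring

end delta

section converse

/-- a `p`-derivation gives a Frobenius lift -/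
theorem exists_frobLift (hB : IsLift p k A B ι π) (d : B → A) (h1 : d 1 = 0)
    (hmul : ∀ b c, d (b * c) = π b ^ p * d c + π c ^ p * d b)
    (hadd : ∀ b c, d (b + c) = d b + d c - π (Qp p b c))
    (hι : ∀ w : W2 p k, d (ι w) = algebraMap k A (w.coeff 1)) :
    ∃ Φ : B →+* B, IsFrobLift p k A B ι π Φ ∧ ∀ b, Φ b = b ^ p + mu hB (d b) := by
  have h0 : d 0 = 0 := by
    have := hadd 0 0
    have hQ : Qp p (0 : B) 0 = 0 := by unfold Qp; rw [zero_mul, zero_mul]
    rw [add_zero, hQ, map_zero, sub_zero] at this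
    have h2 : d 0 + d 0 = d 0 + 0 := by rw [add_zero]; exact this.symm
    exact add_left_cancel h2
  let Φ : B →+* B :=
    { toFun := fun b => b ^ p + mu hB (d b)
      map_one' := by rw [h1, map_zero, one_pow, add_zero]
      map_zero' := by rw [h0, map_zero, zero_pow hp.out.ne_zero, add_zero]
      map_mul' := fun b c => by
        rw [hmul, map_add, ← map_pow, ← map_pow, ← mul_mu, ← mul_mu, mul_pow]
        have := mu_mul_mu hB (d b) (d c)
        linear_combination -this
      map_add' := fun b c => by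
        rw [hadd, map_sub, map_add, mu_pi, add_pow_eq p b c]
        ring }
  refine ⟨Φ, ⟨hB, ?_, ?_⟩, fun b => rfl⟩
  · ext w
    change (ι w) ^ p + mu hB (d (ι w)) = ι (sigma p k w)
    have h2 : algebraMap k A (w.coeff 1) = π (ι (tt p (w.coeff 1))) := by
      have := RingHom.congr_fun hB.comm (tt p (w.coeff 1))
      rw [RingHom.comp_apply, RingHom.comp_apply, res_apply, coeff_zero_tt] at this
      exact this.symm
    rw [hι, h2, mu_pi, sigma_eq, map_add, map_pow, map_mul, map_natCast]
  · intro b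
    change π (b ^ p + mu hB (d b)) = π b ^ p
    rw [map_add, pi_mu, add_zero, map_pow]

end converse

end lift

end Groth.Agent.Lib.Helper9.FrobLift
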