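import Mathlib
import Groth.Agent.Lib.Helper9.FrobLift

/-!
# The ghost map `W₂(A) → B` of a flat lifting `B` of `A` over `W₂(k)`
-/

set_option autoImplicit false
universe u v

namespace Groth.Agent.Lib.Helper9.FrobLift

open FrobAlg Groth.Agent.Lib.Helper9.W2Arith WittVector

section ghost

variable {p : ℕ} [hp : Fact p.Prime] {k : Type u} [Field k] [CharP k p] [PerfectRing k p]
variable {A : Type v} [CommRing A] [Algebra k A] {B : Type v} [CommRing B]
  {ι : W2 p k →+* B} {π : B →+* A}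

theorem ghost_one (X : WittVector p B) :
    ghostComponent 1 X = X.coeff 0 ^ p + (p : B) * X.coeff 1 := by
  rw [ghostComponent_apply, wittPolynomial_one, map_add, map_mul, map_pow, MvPolynomial.aeval_X,
    MvPolynomial.aeval_X, MvPolynomial.aeval_C]
  simp only [eq_intCast, Int.cast_natCast]
  ring

/-- the surjection `W(B) → W₂(A)` -/
noncomputable def Sur (π : B →+* A) : WittVector p B →+* W2 p A :=
  (truncate 2).comp (WittVector.map π)

theorem Sur_coeff_zero (X : WittVector p B) : (Sur π X).coeff 0 = π (X.coeff 0) := by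
  change (truncate 2 (WittVector.map π X)).coeff 0 = _
  rw [WittVector.coeff_truncate]
  rfl

theorem Sur_coeff_one (X : WittVector p B) : (Sur π X).coeff 1 = π (X.coeff 1) := by
  change (truncate 2 (WittVector.map π X)).coeff 1 = _
  rw [WittVector.coeff_truncate]
  rfl

theorem Sur_surjective (hπ : Function.Surjective π) :
    Function.Surjective (Sur (p := p) π) := by
  intro x
  obtain ⟨b₀, hb₀⟩ := hπ (x.coeff 0)
  obtain ⟨b₁, hb₁⟩ := hπ (x.coeff 1)
  refine ⟨WittVector.mk p (fun n => if n = 0 then b₀ else b₁), ?_⟩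
  refine ext2 p ?_ ?_
  · rw [Sur_coeff_zero, WittVector.coeff_mk, if_pos rfl, hb₀]
  · rw [Sur_coeff_one, WittVector.coeff_mk, if_neg one_ne_zero, hb₁]

theorem ghost_eq_zero (hB : IsLift p k A B ι π) (X : WittVector p B)
    (hX : Sur π X = 0) : ghostComponent 1 X = 0 := by
  have h0 : π (X.coeff 0) = 0 := by
    rw [← Sur_coeff_zero, hX, TruncatedWittVector.coeff_zero]
  have h1 : π (X.coeff 1) = 0 := by
    rw [← Sur_coeff_one, hX, TruncatedWittVector.coeff_zero]
  obtain ⟨y₀, hy₀⟩ := exists_of_pi_eq_zero hB _ h0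
  obtain ⟨y₁, hy₁⟩ := exists_of_pi_eq_zero hB _ h1
  rw [ghost_one, hy₀, hy₁, ← mul_assoc, pp hB, zero_mul, add_zero, mul_pow]
  have : (p : B) ^ p = 0 := pow_eq_zero_of_le hp.out.two_le (by rw [pow_two, pp hB])
  rw [this, zero_mul]

/-- the ghost map `W₂(A) → B`, `(a₀, a₁) ↦ ã₀^p + p ã₁` -/
noncomputable def gh (hB : IsLift p k A B ι π) : W2 p A →+* B :=
  RingHom.liftOfSurjective (Sur π) (Sur_surjective hB.surj)
    ⟨ghostComponent 1, fun X hX => ghost_eq_zero hB X hX⟩

theorem gh_Sur (hB : IsLift p k A B ι π) (X : WittVector p B) :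
    gh hB (Sur π X) = ghostComponent 1 X :=
  RingHom.liftOfRightInverse_comp_apply _ _ _ _ X

theorem gh_eq (hB : IsLift p k A B ι π) (x : W2 p A) (b₀ : B) (h₀ : π b₀ = x.coeff 0) :
    gh hB x = b₀ ^ p + mu hB (x.coeff 1) := by
  obtain ⟨b₁, hb₁⟩ := hB.surj (x.coeff 1)
  have hx : x = Sur π (WittVector.mk p (fun n => if n = 0 then b₀ else b₁)) := by
    refine ext2 p ?_ ?_
    · rw [Sur_coeff_zero, WittVector.coeff_mk, if_pos rfl, h₀]
    · rw [Sur_coeff_one, WittVector.coeff_mk, if_neg one_ne_zero, hb₁]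
  conv_lhs => rw [hx]
  rw [gh_Sur, ghost_one, WittVector.coeff_mk, if_pos rfl,
    if_neg one_ne_zero, ← hb₁, mu_pi]

theorem pi_gh (hB : IsLift p k A B ι π) (x : W2 p A) : π (gh hB x) = x.coeff 0 ^ p := by
  obtain ⟨b₀, hb₀⟩ := hB.surj (x.coeff 0)
  rw [gh_eq hB x b₀ hb₀, map_add, pi_mu, add_zero, map_pow, hb₀]

/-- `(gh, res)` is jointly injective -/
theorem gh_injective (hB : IsLift p k A B ι π) (x y : W2 p A) (h0 : x.coeff 0 = y.coeff 0)
    (hg : gh hB x = gh hB y) : x = y := by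
  obtain ⟨b₀, hb₀⟩ := hB.surj (x.coeff 0)
  rw [gh_eq hB x b₀ hb₀, gh_eq hB y b₀ (hb₀.trans h0)] at hg
  exact ext2 p h0 (mu_injective hB (add_left_cancel hg))

theorem gh_truncMap (hB : IsLift p k A B ι π) (w : W2 p k) :
    gh hB (WittGrp.truncMap p 2 (algebraMap k A) w) = ι (sigma p k w) := by
  have hc : ∀ a : k, algebraMap k A a = π (ι (tt p a)) := by
    intro a
    have := RingHom.congr_fun hB.comm (tt p a)
    rw [RingHom.comp_apply, RingHom.comp_apply, res_apply, coeff_zero_tt] at this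
    exact this.symm
  rw [gh_eq hB _ (ι (tt p (w.coeff 0)))
    (by rw [WittGrp.coeff_truncMap, hc]), WittGrp.coeff_truncMap, hc, mu_pi, sigma_eq, pow_p,
    map_add, map_mul, map_natCast, tt_pow, map_pow]

end ghost

end Groth.Agent.Lib.Helper9.FrobLift
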