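import Mathlib

set_option autoImplicit false
universe u

namespace Groth.Agent.Lib.Helper9.FrobSepClosed

open Polynomial

variable (p : ℕ) [Fact p.Prime] (k : Type u) [Field k] [CharP k p] [IsSepClosed k]

omit [Fact p.Prime] [IsSepClosed k] in
lemma natCast_pow_eq_zero (i : ℕ) : ((p ^ (i + 1) : ℕ) : k) = 0 := by
  rw [Nat.cast_pow, CharP.cast_eq_zero k p, zero_pow (Nat.succ_ne_zero i)]

/-- Artin–Schreier: `y^p - y + c = 0` is solvable over a separably closed field. -/
lemma h3_frobenius (c : k) : ∃ y : k, frobenius k p y - y + c = 0 := by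
  have hp := (Fact.out : p.Prime)
  have hdeg : (X ^ p - X + C c : k[X]).degree ≠ 0 := by
    have h1 : (X ^ p - X + C c : k[X]) = X ^ p - (X - C c) := by ring
    rw [h1, degree_sub_eq_left_of_degree_lt]
    · rw [degree_X_pow]; exact_mod_cast hp.ne_zero
    · rw [degree_X_pow, degree_X_sub_C]; exact_mod_cast hp.one_lt
  have hsep : (X ^ p - X + C c : k[X]).Separable := by
    rw [separable_def]
    have hd : derivative (X ^ p - X + C c : k[X]) = -1 := by
      simp [derivative_X_pow]
    rw [hd]
    exact isCoprime_one_right.neg_right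
  obtain ⟨z, hz⟩ := IsSepClosed.exists_root _ hdeg hsep
  simp only [IsRoot.def, eval_sub, eval_add, eval_pow, eval_X, eval_C] at hz
  exact ⟨z, by rw [frobenius_def]; exact hz⟩

/-- a nonzero solution of an additive polynomial equation -/
lemma exists_ne_zero_eq_sum (n : ℕ) (c : Fin (n + 1) → k) (hc : c ≠ 0) :
    ∃ x : k, x ≠ 0 ∧ x = ∑ i : Fin (n + 1), x ^ p ^ (i.val + 1) * c i := by
  classical
  have hp := (Fact.out : p.Prime)
  obtain ⟨j, hj⟩ : ∃ j, c j ≠ 0 := by
    by_contra h
    push Not at h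
    exact hc (funext h)
  let Q : k[X] := ∑ i : Fin (n + 1), C (c i) * X ^ (p ^ (i.val + 1) - 1) - 1
  have hpos : ∀ i : Fin (n + 1), 0 < p ^ (i.val + 1) - 1 := by
    intro i
    have : 2 ≤ p ^ (i.val + 1) := by
      calc 2 ≤ p := hp.two_le
        _ = p ^ 1 := (pow_one p).symm
        _ ≤ p ^ (i.val + 1) := Nat.pow_le_pow_right hp.pos (by omega)
    omega
  have hinj : ∀ i i' : Fin (n + 1), p ^ (i.val + 1) - 1 = p ^ (i'.val + 1) - 1 → i = i' := by
    intro i i' h
    have h1 := hpos i
    have h2 := hpos i'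
    have h3 : p ^ (i.val + 1) = p ^ (i'.val + 1) := by omega
    have := Nat.pow_right_injective hp.two_le h3
    exact Fin.ext (by omega)
  have hcoeff : Q.coeff (p ^ (j.val + 1) - 1) = c j := by
    simp only [Q, coeff_sub, finsetSum_coeff, coeff_C_mul, coeff_X_pow, coeff_one]
    rw [if_neg (hpos j).ne', sub_zero, Finset.sum_eq_single j]
    · simp
    · intro i _ hij
      rw [if_neg (fun h => hij (hinj _ _ h.symm)), mul_zero]
    · intro h; exact absurd (Finset.mem_univ j) h
  have hdeg : Q.degree ≠ 0 := by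
    intro h0
    have h1 := eq_C_of_degree_eq_zero h0
    have h2 : Q.coeff (p ^ (j.val + 1) - 1) = 0 := by
      rw [h1, coeff_C, if_neg (hpos j).ne']
    rw [hcoeff] at h2
    exact hj h2
  have hXQ : X * Q = ∑ i : Fin (n + 1), C (c i) * X ^ (p ^ (i.val + 1)) - X := by
    simp only [Q, mul_sub, mul_one, Finset.mul_sum]
    congr 1
    apply Finset.sum_congr rfl
    intro i _
    have : p ^ (i.val + 1) = (p ^ (i.val + 1) - 1) + 1 := by have := hpos i; omega
    conv_rhs => rw [this, pow_succ]
    ring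
  have hsep : Q.Separable := by
    have h1 : (X * Q).Separable := by
      rw [hXQ, separable_def]
      have hd : derivative (∑ i : Fin (n + 1), C (c i) * X ^ (p ^ (i.val + 1)) - X : k[X]) = -1 := by
        rw [derivative_sub, derivative_X, derivative_sum]
        rw [Finset.sum_eq_zero, zero_sub]
        intro i _
        rw [derivative_C_mul, derivative_X_pow, natCast_pow_eq_zero p k i.val]
        simp
      rw [hd]
      exact isCoprime_one_right.neg_right
    exact h1.of_mul_right
  obtain ⟨z, hz⟩ := IsSepClosed.exists_root Q hdeg hsep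
  have hz' : ∑ i : Fin (n + 1), c i * z ^ (p ^ (i.val + 1) - 1) = 1 := by
    have : Q.eval z = 0 := hz
    simp only [Q, eval_sub, eval_finsetSum, eval_mul, eval_C, eval_pow, eval_X, eval_one] at this
    exact sub_eq_zero.mp this
  have hz0 : z ≠ 0 := by
    rintro rfl
    have : (∑ i : Fin (n + 1), c i * (0 : k) ^ (p ^ (i.val + 1) - 1)) = 0 := by
      apply Finset.sum_eq_zero
      intro i _
      rw [zero_pow (hpos i).ne', mul_zero]
    rw [this] at hz'
    exact zero_ne_one hz'
  refine ⟨z, hz0, ?_⟩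
  calc z = z * 1 := (mul_one z).symm
    _ = z * ∑ i : Fin (n + 1), c i * z ^ (p ^ (i.val + 1) - 1) := by rw [hz']
    _ = ∑ i : Fin (n + 1), z ^ p ^ (i.val + 1) * c i := by
      rw [Finset.mul_sum]
      apply Finset.sum_congr rfl
      intro i _
      have : p ^ (i.val + 1) = (p ^ (i.val + 1) - 1) + 1 := by have := hpos i; omega
      conv_rhs => rw [this, pow_succ]
      ring

lemma h2_frobenius (n : ℕ) (b : Fin (n + 1) → k) (hb : b ≠ 0) :
    ∃ x : k, x ≠ 0 ∧ x = ∑ i : Fin (n + 1),
      (⇑(frobenius k p))^[i.val + 1] x * (⇑(frobenius k p))^[i.val] (b (Fin.rev i)) := by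
  have hc : (fun i : Fin (n + 1) => (b (Fin.rev i)) ^ p ^ i.val) ≠ 0 := by
    intro h
    apply hb
    funext j
    have := congrFun h (Fin.rev j)
    simp only [Fin.rev_rev, Pi.zero_apply] at this
    exact pow_eq_zero_iff (pow_ne_zero _ (Fact.out : p.Prime).ne_zero) |>.mp this
  obtain ⟨x, hx0, hx⟩ := exists_ne_zero_eq_sum p k n _ hc
  refine ⟨x, hx0, ?_⟩
  simp only [iterate_frobenius]
  exact hx

end Groth.Agent.Lib.Helper9.FrobSepClosed
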