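import Mathlib
import Groth.Agent.S17972
import Groth.Agent.S19233
import Groth.Agent.Lib.Helper9.FrobSepClosed

set_option autoImplicit false
universe u v

namespace Groth.Agent.Lib.Helper9.FrobModCoord

open IsLocalRing Polynomial Matrix

section field
variable (p : ℕ) [hp : Fact p.Prime] (K : Type u) [Field K] [CharP K p]

/-- fixed points of Frobenius are the prime field -/
theorem exists_natCast_of_pow_eq_field (x : K) (hx : x ^ p = x) : ∃ j : ℕ, (j : K) = x := by
  classical
  have hp1 : 1 < p := hp.out.one_lt
  let P : K[X] := X ^ p - X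
  have hP : P ≠ 0 := FiniteField.X_pow_card_sub_X_ne_zero K hp1
  have hdeg : P.natDegree = p := FiniteField.X_pow_card_sub_X_natDegree_eq K hp1
  let S : Finset K := (Finset.range p).image (fun j : ℕ => (j : K))
  have hScard : S.card = p := by
    rw [Finset.card_image_of_injOn, Finset.card_range]
    intro a ha b hb hab
    have := (CharP.natCast_eq_natCast K p).mp hab
    exact Nat.ModEq.eq_of_lt_of_lt this (Finset.mem_range.mp ha) (Finset.mem_range.mp hb)
  have hSroots : S ⊆ P.roots.toFinset := by
    intro y hy
    obtain ⟨j, _, rfl⟩ := Finset.mem_image.mp hy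
    rw [Multiset.mem_toFinset, mem_roots hP, IsRoot.def]
    simp only [P, eval_sub, eval_pow, eval_X]
    have := map_natCast (frobenius K p) j
    rw [frobenius_def] at this
    rw [this, sub_self]
  have hcard : P.roots.toFinset.card ≤ p :=
    (Multiset.toFinset_card_le _).trans ((card_roots' P).trans_eq hdeg)
  have hSeq : S = P.roots.toFinset :=
    Finset.eq_of_subset_of_card_le hSroots (hcard.trans_eq hScard.symm)
  have hxm : x ∈ P.roots.toFinset := by
    rw [Multiset.mem_toFinset, mem_roots hP, IsRoot.def]
    simp only [P, eval_sub, eval_pow, eval_X]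
    rw [hx, sub_self]
  rw [← hSeq] at hxm
  obtain ⟨j, _, rfl⟩ := Finset.mem_image.mp hxm
  exact ⟨j, rfl⟩

end field

section local_ring

variable (p : ℕ) [hp : Fact p.Prime] (R : Type u) [CommRing R] [IsLocalRing R] [CharP R p]

theorem charP_residueField : CharP (ResidueField R) p := by
  obtain ⟨q, hq⟩ := CharP.exists (ResidueField R)
  have h0 : ((p : ℕ) : ResidueField R) = 0 := by
    rw [← map_natCast (residue R), CharP.cast_eq_zero, map_zero]
  have hqp : q ∣ p := (CharP.cast_eq_zero_iff (ResidueField R) q p).1 h0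
  rcases (Nat.dvd_prime hp.out).1 hqp with rfl | rfl
  · exact absurd rfl (CharP.char_ne_one (ResidueField R) 1)
  · exact hq

omit [IsLocalRing R] in
theorem natCast_pow (j : ℕ) : ((j : R)) ^ p = j := by
  have := map_natCast (frobenius R p) j
  rwa [frobenius_def] at this

/-- fixed points of Frobenius in a local ring of char p are the natural numbers -/
theorem exists_natCast_of_pow_eq (c : R) (hc : c ^ p = c) : ∃ j : ℕ, (j : R) = c := by
  have : CharP (ResidueField R) p := charP_residueField p R
  obtain ⟨j, hj⟩ := exists_natCast_of_pow_eq_field p (ResidueField R) (residue R c)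
    (by rw [← map_pow, hc])
  refine ⟨j, ?_⟩
  -- d = c - j is in the maximal ideal and satisfies d^p = d
  have hd : c - j ∈ maximalIdeal R := by
    rw [← residue_eq_zero_iff, map_sub, map_natCast, hj, sub_self]
  have hdp : (c - j) ^ p = c - j := by
    rw [sub_pow_char, hc, natCast_pow]
  have hp1 : p = (p - 1) + 1 := by have := hp.out.one_lt; omega
  have hu : IsUnit (1 - (c - (j : R)) ^ (p - 1)) := by
    have hm : (c - (j : R)) ^ (p - 1) ∈ maximalIdeal R :=
      Ideal.pow_mem_of_mem _ hd _ (by have := hp.out.one_lt; omega)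
    by_contra hnu
    have h1 : (1 - (c - (j : R)) ^ (p - 1)) ∈ maximalIdeal R := (mem_maximalIdeal _).2 hnu
    have := (maximalIdeal R).add_mem h1 hm
    rw [sub_add_cancel] at this
    exact (Ideal.ne_top_iff_one _).1 (maximalIdeal.isMaximal R).ne_top this
  have hz : (c - (j : R)) * (1 - (c - (j : R)) ^ (p - 1)) = 0 := by
    have : (c - (j : R)) * (c - (j : R)) ^ (p - 1) = (c - (j : R)) ^ p := by
      conv_rhs => rw [hp1, pow_succ']
    rw [mul_sub, mul_one, this, hdp, sub_self]
  have := hu.mul_left_eq_zero.mp hz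
  exact (sub_eq_zero.mp this).symm

theorem card_fixed : Nat.card {c : R // c ^ p = c} = p := by
  let f : Fin p → {c : R // c ^ p = c} := fun j => ⟨((j : ℕ) : R), natCast_pow p R j⟩
  have hinj : Function.Injective f := by
    intro a b hab
    have h1 : ((a : ℕ) : R) = ((b : ℕ) : R) := congrArg Subtype.val hab
    have := (CharP.natCast_eq_natCast R p).mp h1
    exact Fin.ext (Nat.ModEq.eq_of_lt_of_lt this a.2 b.2)
  have hsurj : Function.Surjective f := by
    rintro ⟨c, hc⟩
    obtain ⟨j, rfl⟩ := exists_natCast_of_pow_eq p R c hc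
    refine ⟨⟨j % p, Nat.mod_lt _ hp.out.pos⟩, Subtype.ext ?_⟩
    change ((j % p : ℕ) : R) = (j : R)
    rw [CharP.natCast_eq_natCast R p]
    exact Nat.mod_modEq j p
  rw [← Nat.card_congr (Equiv.ofBijective f ⟨hinj, hsurj⟩), Nat.card_fin]

end local_ring

section hensel

variable (p : ℕ) [hp : Fact p.Prime] (R : Type u) [CommRing R] [HenselianLocalRing R]
  [IsSepClosed (ResidueField R)] [CharP R p]

/-- Artin–Schreier over a strictly henselian ring of char p -/
theorem exists_pow_sub_eq (b : R) : ∃ c : R, c ^ p - c = b := by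
  have : CharP (ResidueField R) p := charP_residueField p R
  obtain ⟨y, hy⟩ := FrobSepClosed.h3_frobenius p (ResidueField R) (- residue R b)
  obtain ⟨a₀, rfl⟩ := residue_surjective y
  let f : R[X] := X ^ p - X - C b
  have hmonic : f.Monic := by
    have h1 : f = X ^ p - (X + C b) := by simp only [f]; ring
    rw [h1]
    apply (monic_X_pow p).sub_of_left
    rw [degree_X_pow]
    refine (degree_X_add_C b).trans_lt ?_
    exact_mod_cast hp.out.one_lt
  have hd : derivative f = -1 := by
    simp [f, derivative_X_pow]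
  obtain ⟨a, ha, _⟩ := HenselianLocalRing.is_henselian f hmonic a₀ (by
      rw [← residue_eq_zero_iff]
      simp only [f, eval_sub, eval_pow, eval_X, eval_C, map_sub, map_pow]
      rw [frobenius_def] at hy
      rw [← hy]; ring) (by rw [hd]; simp)
  refine ⟨a, ?_⟩
  have : f.eval a = 0 := ha
  simp only [f, eval_sub, eval_pow, eval_X, eval_C] at this
  exact sub_eq_zero.mp this

end hensel


section coord

variable (p : ℕ) [hp : Fact p.Prime] {R : Type u} [CommRing R] [CharP R p] {n : ℕ}

/-- the Frobenius-semilinear map with matrix `C` -/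
noncomputable def Phi (C : Matrix (Fin n) (Fin n) R) : (Fin n → R) →+ (Fin n → R) where
  toFun x := C *ᵥ (fun j => x j ^ p)
  map_zero' := by
    have : (fun j : Fin n => ((0 : Fin n → R) j) ^ p) = 0 := by
      funext j; simp [hp.out.ne_zero]
    rw [this, Matrix.mulVec_zero]
  map_add' x y := by
    have : (fun j : Fin n => ((x + y) j) ^ p) = (fun j => x j ^ p) + (fun j => y j ^ p) := by
      funext j; simp [add_pow_char]
    rw [this, Matrix.mulVec_add]

lemma Phi_apply (C : Matrix (Fin n) (Fin n) R) (x : Fin n → R) (i : Fin n) :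
    Phi p C x i = ∑ j, C i j * x j ^ p := by
  simp [Phi, Matrix.mulVec, dotProduct]

lemma Phi_smul (C : Matrix (Fin n) (Fin n) R) (r : R) (x : Fin n → R) :
    Phi p C (r • x) = r ^ p • Phi p C x := by
  funext i
  simp only [Phi_apply, Pi.smul_apply, smul_eq_mul, mul_pow, Finset.mul_sum]
  apply Finset.sum_congr rfl
  intro j _
  ring

lemma Phi_sum_smul (C : Matrix (Fin n) (Fin n) R) {ι : Type*} (s : Finset ι) (c : ι → R)
    (x : ι → Fin n → R) :
    Phi p C (∑ i ∈ s, c i • x i) = ∑ i ∈ s, c i ^ p • Phi p C (x i) := by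
  rw [map_sum]
  exact Finset.sum_congr rfl (fun i _ => Phi_smul p C _ _)

end coord

section main

variable (p : ℕ) [hp : Fact p.Prime] {R : Type u} [CommRing R] [HenselianLocalRing R]
  [IsSepClosed (ResidueField R)] [CharP R p] {n : ℕ}

omit [IsSepClosed (ResidueField R)] in
/-- lifting fixed vectors from the residue field -/
theorem exists_lift_fixed (C : Matrix (Fin n) (Fin n) R) (v : Fin n → ResidueField R)
    (hv : ∀ i, ∑ j, residue R (C i j) * v j ^ p = v i) :
    ∃ x : Fin n → R, Phi p C x = x ∧ ∀ i, residue R (x i) = v i := by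
  classical
  choose a₀ ha₀ using fun i => residue_surjective (v i)
  let P : Fin n → MvPolynomial (Fin n) R := fun i =>
    ∑ j, MvPolynomial.C (C i j) * MvPolynomial.X j ^ p - MvPolynomial.X i
  have heval : ∀ (a : Fin n → R) (i : Fin n),
      MvPolynomial.eval a (P i) = Phi p C a i - a i := by
    intro a i
    simp [P, Phi_apply]
  have h₀ : ∀ i, MvPolynomial.eval a₀ (P i) ∈ maximalIdeal R := by
    intro i
    rw [heval, ← residue_eq_zero_iff, map_sub, Phi_apply, map_sum]
    simp only [map_mul, map_pow, ha₀]
    rw [hv i, sub_self]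
  have hpd : ∀ (j j' : Fin n),
      MvPolynomial.pderiv j ((MvPolynomial.X j' : MvPolynomial (Fin n) R) ^ p) = 0 := by
    intro j j'
    rw [Derivation.leibniz_pow, ← Nat.cast_smul_eq_nsmul R, CharP.cast_eq_zero, zero_smul]
  have hJ : (Matrix.of (fun i j => MvPolynomial.eval a₀ (MvPolynomial.pderiv j (P i)))) =
      (-1 : Matrix (Fin n) (Fin n) R) := by
    ext i j
    simp only [Matrix.of_apply, P, map_sub, map_sum, Derivation.leibniz, hpd, smul_zero,
      MvPolynomial.pderiv_C, zero_add, Finset.sum_const_zero, zero_sub,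
      MvPolynomial.pderiv_X, Matrix.neg_apply, Matrix.one_apply]
    by_cases h : i = j
    · subst h; simp
    · simp [h]
  obtain ⟨a, ha, ha'⟩ := Groth.Agent.S17972.result R n P a₀ h₀ (by
    rw [hJ, Matrix.det_neg, Matrix.det_one, mul_one]
    exact (isUnit_one.neg).pow _)
  refine ⟨a, ?_, ?_⟩
  · funext i
    have := ha i
    rw [heval] at this
    exact sub_eq_zero.mp this
  · intro i
    rw [← ha₀ i]
    have := ha' i
    rwa [← residue_eq_zero_iff, map_sub, sub_eq_zero] at this

/-- the main theorem in coordinates -/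
theorem coord_main (C : Matrix (Fin n) (Fin n) R) (hC : IsUnit C) :
    Function.Surjective (fun x => Phi p C x - x) ∧
      Nat.card {x : Fin n → R // Phi p C x = x} = p ^ n := by
  classical
  have hchar : CharP (ResidueField R) p := charP_residueField p R
  let Cb : Matrix (Fin n) (Fin n) (ResidueField R) := C.map (residue R)
  have hCb : IsUnit Cb := hC.map (RingHom.mapMatrix (residue R))
  let Tbar : (Fin n → ResidueField R) →ₛₗ[frobenius (ResidueField R) p] (Fin n → ResidueField R) :=
    { toFun := Phi p Cb
      map_add' := map_add _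
      map_smul' := fun m x => Phi_smul p Cb m x }
  have hTbar : ∀ x i, Tbar x i = ∑ j, residue R (C i j) * x j ^ p := fun x i => Phi_apply p Cb x i
  have h1 : Submodule.span (ResidueField R) (Set.range ⇑Tbar) = ⊤ := by
    rw [eq_top_iff]
    intro v _
    obtain ⟨w, rfl⟩ := (Matrix.mulVec_surjective_iff_isUnit.2 hCb) v
    have : Cb *ᵥ w = ∑ j, w j • Tbar (Pi.single j 1) := by
      funext i
      rw [Finset.sum_apply]
      simp only [Pi.smul_apply, hTbar, Matrix.mulVec, dotProduct, smul_eq_mul]
      apply Finset.sum_congr rfl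
      intro j _
      rw [Finset.sum_eq_single j]
      · simp [Cb, mul_comm]
      · intro j' _ hj'
        rw [Pi.single_eq_of_ne hj', zero_pow hp.out.ne_zero, mul_zero]
      · intro h; exact absurd (Finset.mem_univ j) h
    rw [this]
    exact Submodule.sum_mem _ (fun j _ => Submodule.smul_mem _ _ (Submodule.subset_span ⟨_, rfl⟩))
  obtain ⟨⟨b, hb⟩, _⟩ := Groth.Agent.S19233.result (ResidueField R) (frobenius (ResidueField R) p)
    (Fin n → ResidueField R) Tbar h1 (FrobSepClosed.h2_frobenius p (ResidueField R))
    (FrobSepClosed.h3_frobenius p (ResidueField R))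
  have hn : Module.finrank (ResidueField R) (Fin n → ResidueField R) = n := Module.finrank_fin_fun _
  let b' : Module.Basis (Fin n) (ResidueField R) (Fin n → ResidueField R) := b.reindex (finCongr hn)
  have hb' : ∀ j, Tbar (b' j) = b' j := by
    intro j
    simp only [b', Module.Basis.reindex_apply]
    exact hb _
  choose x hx hxres using fun j => exists_lift_fixed p C (b' j) (fun i => by
    rw [← hTbar, hb'])
  let X : Matrix (Fin n) (Fin n) R := Matrix.of (fun i j => x j i)
  have hXdet : IsUnit X.det := by
    have h2 : residue R X.det = ((Pi.basisFun (ResidueField R) (Fin n)).toMatrix b').det := by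
      rw [RingHom.map_det]
      congr 1
      ext i j
      simp [X, Module.Basis.toMatrix_apply, hxres]
    have h3 : IsUnit (residue R X.det) := by
      rw [h2, ← Module.Basis.det_apply]
      exact Module.Basis.isUnit_det _ _
    exact isUnit_of_map_unit (residue R) _ h3
  have hXX : X * X⁻¹ = 1 := Matrix.mul_nonsing_inv X hXdet
  have hXX' : X⁻¹ * X = 1 := Matrix.nonsing_inv_mul X hXdet
  have key : ∀ c : Fin n → R, Phi p C (X *ᵥ c) = X *ᵥ (fun j => c j ^ p) := by
    intro c
    have h4 : ∀ c : Fin n → R, X *ᵥ c = ∑ j, c j • x j := by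
      intro c
      funext i
      rw [Finset.sum_apply]
      simp [X, Matrix.mulVec, dotProduct, mul_comm]
    rw [h4, Phi_sum_smul, h4]
    exact Finset.sum_congr rfl (fun j _ => by rw [hx])
  refine ⟨?_, ?_⟩
  · intro y
    choose c hc using fun j => exists_pow_sub_eq p R ((X⁻¹ *ᵥ y) j)
    refine ⟨X *ᵥ c, ?_⟩
    change Phi p C (X *ᵥ c) - X *ᵥ c = y
    rw [key, ← Matrix.mulVec_sub]
    have : (fun j => c j ^ p) - c = X⁻¹ *ᵥ y := funext hc
    rw [this, Matrix.mulVec_mulVec, hXX, Matrix.one_mulVec]
  · have e : {x : Fin n → R // Phi p C x = x} ≃ (Fin n → {c : R // c ^ p = c}) :=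
      { toFun := fun y j => ⟨(X⁻¹ *ᵥ y.1) j, by
          have h5 : X *ᵥ (X⁻¹ *ᵥ y.1) = y.1 := by
            rw [Matrix.mulVec_mulVec, hXX, Matrix.one_mulVec]
          have h6 := y.2
          rw [← h5, key] at h6
          have h7 := congrArg (fun z => X⁻¹ *ᵥ z) h6
          simp only [Matrix.mulVec_mulVec, hXX', hXX, Matrix.one_mulVec] at h7
          exact congrFun h7 j⟩
        invFun := fun c => ⟨X *ᵥ (fun j => (c j).1), by
          rw [key]
          congr 1
          funext j
          exact (c j).2⟩
        left_inv := fun y => by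
          apply Subtype.ext
          change X *ᵥ (X⁻¹ *ᵥ y.1) = y.1
          rw [Matrix.mulVec_mulVec, hXX, Matrix.one_mulVec]
        right_inv := fun c => by
          funext j
          apply Subtype.ext
          change (X⁻¹ *ᵥ (X *ᵥ (fun j => (c j).1))) j = (c j).1
          rw [Matrix.mulVec_mulVec, hXX', Matrix.one_mulVec] }
    rw [Nat.card_congr e, Nat.card_fun, card_fixed p R, Nat.card_fin]

end main

end Groth.Agent.Lib.Helper9.FrobModCoord
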