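import Groth.Prelude.Def_CohCmp
import Groth.Agent.Lib.Helper5.PairPull

set_option autoImplicit false

universe u

open CategoryTheory Opposite TopologicalSpace AlgebraicGeometry
  AlgebraicGeometry.Scheme.Modules

namespace Groth.Agent.Lib.Helper9.GBC

open Groth.Agent.Lib.Helper5.PairPull

variable {A B C : Scheme.{u}}

/-- the cohomology map attached to `b : M ⟶ h_* N` -/
noncomputable def PM (h : A ⟶ B) {M : B.Modules} {N : A.Modules}
    (b : M ⟶ (pushforward h).obj N) (p : ℕ) : Coh.HH B M p →+ Coh.HH A N p :=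
  P h.base (G := Coh.toAb M) (G' := Coh.toAb N)
    ((SheafOfModules.toSheaf B.ringCatSheaf).map b) p

lemma pullMod_eq (h : A ⟶ B) (M : B.Modules) (p : ℕ) :
    CohPull.pullMod h M p = PM h ((pullbackPushforwardAdjunction h).unit.app M) p := rfl

lemma mapH_PM (h : A ⟶ B) {M : B.Modules} {N N' : A.Modules}
    (b : M ⟶ (pushforward h).obj N) (a : N ⟶ N') (p : ℕ) (x : Coh.HH B M p) :
    CohPull.mapH a p (PM h b p x) = PM h (b ≫ (pushforward h).map a) p x := by
  unfold PM
  rw [P_comp_right]
  rfl

lemma PM_mapH (h : A ⟶ B) {M' M : B.Modules} {N : A.Modules}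
    (a : M' ⟶ M) (b : M ⟶ (pushforward h).obj N) (p : ℕ) (x : Coh.HH B M' p) :
    PM h b p (CohPull.mapH a p x) = PM h (a ≫ b) p x := by
  unfold PM
  rw [P_comp_left]
  rfl

lemma PM_comp (h : A ⟶ B) (k : C ⟶ A) {M : B.Modules} {N : A.Modules} {N' : C.Modules}
    (b : M ⟶ (pushforward h).obj N) (c : N ⟶ (pushforward k).obj N') (p : ℕ)
    (x : Coh.HH B M p) :
    PM k c p (PM h b p x) =
      PM (k ≫ h) (b ≫ (pushforward h).map c ≫ (pushforwardComp k h).hom.app N') p x := by
  unfold PM
  rw [P_comp]
  rfl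

lemma pushforwardCongr_rfl_hom_app (h : A ⟶ B) (N : A.Modules) :
    (pushforwardCongr (rfl : h = h)).hom.app N = 𝟙 _ := by
  ext U x
  simp

lemma PM_congr {h h' : A ⟶ B} (e : h = h') {M : B.Modules} {N : A.Modules}
    (b : M ⟶ (pushforward h).obj N) (p : ℕ) (x : Coh.HH B M p) :
    PM h b p x = PM h' (b ≫ (pushforwardCongr e).hom.app N) p x := by
  subst e
  have : b ≫ (pushforwardCongr (rfl : h = h)).hom.app N = b := by
    rw [pushforwardCongr_rfl_hom_app]
    exact Category.comp_id b
  rw [this]

/-- unit of a composite -/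
lemma unit_comp (k : C ⟶ A) (h : A ⟶ B) (M : B.Modules) :
    (pullbackPushforwardAdjunction h).unit.app M ≫
      (pushforward h).map ((pullbackPushforwardAdjunction k).unit.app ((pullback h).obj M)) ≫
        (pushforwardComp k h).hom.app _ =
    (pullbackPushforwardAdjunction (k ≫ h)).unit.app M ≫
      (pushforward (k ≫ h)).map ((pullbackComp k h).inv.app M) := by
  have := unit_conjugateEquiv
    ((pullbackPushforwardAdjunction h).comp (pullbackPushforwardAdjunction k))
    (pullbackPushforwardAdjunction (k ≫ h)) (pullbackComp k h).inv M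
  rw [conjugateEquiv_pullbackComp_inv, Adjunction.comp_unit_app] at this
  simpa using this

lemma unit_restrict (h : A ⟶ B) [IsOpenImmersion h] (M : B.Modules) :
    (restrictAdjunction h).unit.app M ≫
      (pushforward h).map ((restrictFunctorIsoPullback h).hom.app M) =
      (pullbackPushforwardAdjunction h).unit.app M :=
  Adjunction.unit_leftAdjointUniq_hom_app _ _ _

lemma unit_congr {h h' : A ⟶ B} (e : h = h') (M : B.Modules) {Q : A.Modules}
    (y : (pullback h').obj M ⟶ Q) :
    (pullbackPushforwardAdjunction h).unit.app M ≫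
      (pushforward h).map ((pullbackCongr e).hom.app M ≫ y) ≫
        (pushforwardCongr e).hom.app Q =
    (pullbackPushforwardAdjunction h').unit.app M ≫ (pushforward h').map y := by
  subst e
  rw [pushforwardCongr_rfl_hom_app]
  simp [pullbackCongr]

end Groth.Agent.Lib.Helper9.GBC
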