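import Groth.Agent.Lib.Helper9.GBC1

set_option autoImplicit false

universe u

open CategoryTheory Opposite TopologicalSpace AlgebraicGeometry
  AlgebraicGeometry.Scheme.Modules

namespace Groth.Agent.Lib.Helper9.GBC

open Groth.Agent.Lib.Helper5.PairPull

section
variable {A B C : Scheme.{u}}

lemma pushforwardCongr_hom_symm {h h' : A ⟶ B} (e : h = h') (Q : A.Modules) :
    (pushforwardCongr e).hom.app Q ≫ (pushforwardCongr e.symm).hom.app Q = 𝟙 _ := by
  subst e
  rw [pushforwardCongr_rfl_hom_app]
  exact Category.comp_id _

lemma X1 (k : C ⟶ A) (h : A ⟶ B) [IsOpenImmersion h] (M : B.Modules) {Q : C.Modules}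
    (z : (Scheme.Modules.pullback (k ≫ h)).obj M ⟶ Q) :
    (restrictAdjunction h).unit.app M ≫
      (pushforward h).map ((restrictFunctorIsoPullback h).hom.app M ≫
        (pullbackPushforwardAdjunction k).unit.app ((Scheme.Modules.pullback h).obj M) ≫
        (pushforward k).map ((pullbackComp k h).hom.app M ≫ z)) ≫
      (pushforwardComp k h).hom.app Q =
    (pullbackPushforwardAdjunction (k ≫ h)).unit.app M ≫ (pushforward (k ≫ h)).map z := by
  have n1 := (pushforwardComp k h).hom.naturality ((pullbackComp k h).hom.app M ≫ z)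
  have u1 := unit_comp k h M
  have u2 := unit_restrict h M
  simp only [Functor.comp_map, Functor.comp_obj] at n1
  rw [Functor.map_comp, Functor.map_comp]
  simp only [Category.assoc]
  rw [n1, reassoc_of% u2, reassoc_of% u1, ← Functor.map_comp, ← Category.assoc]
  simp

lemma X2 (k : C ⟶ A) [IsOpenImmersion k] (h : A ⟶ B) (M : B.Modules) :
    (pullbackPushforwardAdjunction h).unit.app M ≫
      (pushforward h).map ((restrictAdjunction k).unit.app ((Scheme.Modules.pullback h).obj M)) ≫
      (pushforwardComp k h).hom.app _ =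
    (pullbackPushforwardAdjunction (k ≫ h)).unit.app M ≫
      (pushforward (k ≫ h)).map ((pullbackComp k h).inv.app M ≫
        (restrictFunctorIsoPullback k).inv.app ((Scheme.Modules.pullback h).obj M)) := by
  have u2 := unit_restrict k ((Scheme.Modules.pullback h).obj M)
  have u2' : (restrictAdjunction k).unit.app ((Scheme.Modules.pullback h).obj M) =
      (pullbackPushforwardAdjunction k).unit.app ((Scheme.Modules.pullback h).obj M) ≫
        (pushforward k).map ((restrictFunctorIsoPullback k).inv.app _) := by
    rw [← u2, Category.assoc, ← Functor.map_comp]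
    simp
  have n1 := (pushforwardComp k h).hom.naturality
    ((restrictFunctorIsoPullback k).inv.app ((Scheme.Modules.pullback h).obj M))
  simp only [Functor.comp_map] at n1
  have u1 := unit_comp k h M
  rw [u2', Functor.map_comp]
  simp only [Category.assoc]
  rw [n1, reassoc_of% u1, ← Functor.map_comp]

end

variable {A B : Scheme.{u}} (g : A ⟶ B) (U : B.Opens) (U' : A.Opens) (hle : U' ≤ g ⁻¹ᵁ U)
  (L : B.Modules)

/-- the `gr`-map underlying `pullOn` -/
noncomputable def bOn : L.restrict U.ι ⟶
    (pushforward (g.resLE U U' hle)).obj (((Scheme.Modules.pullback g).obj L).restrict U'.ι) :=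
  (pullbackPushforwardAdjunction (g.resLE U U' hle)).unit.app (L.restrict U.ι) ≫
    (pushforward (g.resLE U U' hle)).map (CohPull.pullOnIso g U U' hle L).hom

lemma pullOn_eq (p : ℕ) (x : Coh.HHon B L U p) :
    CohPull.pullOn g U U' hle L p x = PM (g.resLE U U' hle) (bOn g U U' hle L) p x := by
  unfold CohPull.pullOn bOn
  rw [AddMonoidHom.comp_apply, pullMod_eq, mapH_PM]

lemma pullOnIso_hom :
    (CohPull.pullOnIso g U U' hle L).hom =
      (Scheme.Modules.pullback (g.resLE U U' hle)).map ((restrictFunctorIsoPullback U.ι).hom.app L) ≫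
      (pullbackComp (g.resLE U U' hle) U.ι).hom.app L ≫
      (pullbackCongr (Scheme.Hom.resLE_comp_ι g hle)).hom.app L ≫
      (pullbackComp U'.ι g).inv.app L ≫
      (restrictFunctorIsoPullback U'.ι).inv.app ((Scheme.Modules.pullback g).obj L) := by
  simp [CohPull.pullOnIso]

lemma AN :
    (restrictAdjunction U.ι).unit.app L ≫ (pushforward U.ι).map (bOn g U U' hle L) ≫
      (pushforwardComp (g.resLE U U' hle) U.ι).hom.app _ =
    (pullbackPushforwardAdjunction g).unit.app L ≫
      (pushforward g).map
        ((restrictAdjunction U'.ι).unit.app ((Scheme.Modules.pullback g).obj L)) ≫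
      (pushforwardComp U'.ι g).hom.app _ ≫
      (pushforwardCongr (Scheme.Hom.resLE_comp_ι g hle).symm).hom.app _ := by
  have e := Scheme.Hom.resLE_comp_ι g hle
  have hb : bOn g U U' hle L = (restrictFunctorIsoPullback U.ι).hom.app L ≫
      (pullbackPushforwardAdjunction (g.resLE U U' hle)).unit.app
        ((Scheme.Modules.pullback U.ι).obj L) ≫
      (pushforward (g.resLE U U' hle)).map ((pullbackComp (g.resLE U U' hle) U.ι).hom.app L ≫
        ((pullbackCongr e).hom.app L ≫ (pullbackComp U'.ι g).inv.app L ≫
          (restrictFunctorIsoPullback U'.ι).inv.app ((Scheme.Modules.pullback g).obj L))) := by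
    have nat := (pullbackPushforwardAdjunction (g.resLE U U' hle)).unit.naturality
      ((restrictFunctorIsoPullback U.ι).hom.app L)
    simp only [Functor.id_map, Functor.comp_map, Functor.id_obj, Functor.comp_obj] at nat
    unfold bOn
    rw [pullOnIso_hom, Functor.map_comp, ← Category.assoc, ← nat, Category.assoc]
  have uc := unit_congr e L ((pullbackComp U'.ι g).inv.app L ≫
    (restrictFunctorIsoPullback U'.ι).inv.app ((Scheme.Modules.pullback g).obj L))
  rw [hb, X1, reassoc_of% (X2 U'.ι g L), ← reassoc_of% uc, pushforwardCongr_hom_symm,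
    Category.comp_id]

end Groth.Agent.Lib.Helper9.GBC
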