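import Groth.Agent.Lib.Helper9.GBC2

set_option autoImplicit false

universe u

open CategoryTheory Opposite TopologicalSpace AlgebraicGeometry
  AlgebraicGeometry.Scheme.Modules

namespace Groth.Agent.Lib.Helper9.GBC

open Groth.Agent.Lib.Helper5.PairPull

lemma pmap_pmap {X : Scheme.{u}} (F : X.Modules) {O₁ O₂ O₃ : X.Opens} (i : op O₁ ⟶ op O₂)
    (j : op O₂ ⟶ op O₃) (k : op O₁ ⟶ op O₃) (x : Γ(F, O₁)) :
    F.presheaf.map j (F.presheaf.map i x) = F.presheaf.map k x := by
  have : i ≫ j = k := by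
    apply Quiver.Hom.unop_inj
    apply Subsingleton.elim
  rw [← this, F.presheaf.map_comp]
  rfl

/-- naturality of the action of a morphism of modules on sections -/
lemma app_pmap {X : Scheme.{u}} {M N : X.Modules} (ψ : M ⟶ N) {V W : X.Opens} (i : op V ⟶ op W)
    (t : Γ(M, V)) :
    ψ.app W (M.presheaf.map i t) = N.presheaf.map i (ψ.app V t) := by
  have := ψ.mapPresheaf.naturality i
  exact congrArg (fun k => k.hom t) this

variable {A B : Scheme.{u}} (g : A ⟶ B) (U : B.Opens) (U' : A.Opens) (hle : U' ≤ g ⁻¹ᵁ U)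
  (L : B.Modules)

lemma bOn_app_preimage (O : B.Opens) (t : Γ(L, O))
    (h' : U'.ι ''ᵁ ((g.resLE U U' hle) ⁻¹ᵁ (U.ι ⁻¹ᵁ O)) ≤ g ⁻¹ᵁ O) :
    (bOn g U U' hle L).app (U.ι ⁻¹ᵁ O)
        (L.presheaf.map (homOfLE (U.ι.image_preimage_le O)).op t) =
      ((Scheme.Modules.pullback g).obj L).presheaf.map (homOfLE h').op
        (((pullbackPushforwardAdjunction g).unit.app L).app O t) := by
  have := congrArg (fun k => (Scheme.Modules.Hom.app k O) t) (AN g U U' hle L)
  simp only [Hom.comp_app, pushforward_map_app, restrictAdjunction_unit_app_app,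
    pushforwardComp_hom_app_app, pushforwardCongr_hom_app_app, Category.comp_id,
    Category.id_comp, ConcreteCategory.comp_apply] at this
  refine this.trans ?_
  exact pmap_pmap ((Scheme.Modules.pullback g).obj L) _ _ _ _

end Groth.Agent.Lib.Helper9.GBC
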