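import Groth.Agent.Lib.Helper9.GBC3

set_option autoImplicit false

universe u

open CategoryTheory Opposite TopologicalSpace AlgebraicGeometry
  AlgebraicGeometry.Scheme.Modules

namespace Groth.Agent.Lib.Helper9.GBC

open Groth.Agent.Lib.Helper5.PairPull

section
variable {A B : Scheme.{u}} (g : A ⟶ B) (U : B.Opens) (U' : A.Opens) (hle : U' ≤ g ⁻¹ᵁ U)
  (L : B.Modules)

lemma le_aux (O : B.Opens) :
    U'.ι ''ᵁ ((g.resLE U U' hle) ⁻¹ᵁ (U.ι ⁻¹ᵁ O)) ≤ g ⁻¹ᵁ O := by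
  rw [← Scheme.Hom.comp_preimage, Scheme.Hom.resLE_comp_ι, Scheme.Hom.comp_preimage]
  exact U'.ι.image_preimage_le _

lemma bOn_app (O : B.Opens) (W : (U : Scheme.{u}).Opens) (hW : U.ι ''ᵁ W ≤ O) (t : Γ(L, O))
    (hW' : U'.ι ''ᵁ ((g.resLE U U' hle) ⁻¹ᵁ W) ≤ g ⁻¹ᵁ O) :
    (bOn g U U' hle L).app W (L.presheaf.map (homOfLE hW).op t) =
      ((Scheme.Modules.pullback g).obj L).presheaf.map (homOfLE hW').op
        (((pullbackPushforwardAdjunction g).unit.app L).app O t) := by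
  have hWO : W ≤ U.ι ⁻¹ᵁ O :=
    calc W = U.ι ⁻¹ᵁ U.ι ''ᵁ W := (U.ι.preimage_image_eq W).symm
      _ ≤ _ := U.ι.preimage_mono hW
  have e1 : L.presheaf.map (homOfLE hW).op t =
      (L.restrict U.ι).presheaf.map (homOfLE hWO).op
        (L.presheaf.map (homOfLE (U.ι.image_preimage_le O)).op t) := by
    rw [restrict_map]
    exact (pmap_pmap L _ _ _ _).symm
  rw [e1, app_pmap, bOn_app_preimage g U U' hle L O t (le_aux g U U' hle O)]
  exact pmap_pmap ((Scheme.Modules.pullback g).obj L) _ _ _ _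

end

end Groth.Agent.Lib.Helper9.GBC
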