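import Groth.Agent.Lib.Helper9.GBC2

set_option autoImplicit false

universe u

open CategoryTheory Opposite TopologicalSpace AlgebraicGeometry
  AlgebraicGeometry.Scheme.Modules

namespace Groth.Agent.Lib.Helper9.GBC

/-- naturality of the action of a morphism of modules on sections -/
lemma app_pmap' {X : Scheme.{u}} {M N : X.Modules} (ψ : M ⟶ N) {V W : X.Opens} (i : op V ⟶ op W)
    (t : Γ(M, V)) :
    ψ.app W (M.presheaf.map i t) = N.presheaf.map i (ψ.app V t) := by
  have := ψ.mapPresheaf.naturality i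
  exact congrArg (fun k => k.hom t) this

lemma hom_eq_of_locally_eq {Y : Scheme.{u}} {M N : Y.Modules} (α β : M ⟶ N)
    (h : ∀ (V : Y.Opens) (t : Γ(M, V)) (y : Y), y ∈ V → ∃ (W : Y.Opens) (hWV : W ≤ V), y ∈ W ∧
       α.app W (M.presheaf.map (homOfLE hWV).op t) =
        β.app W (M.presheaf.map (homOfLE hWV).op t)) :
    α = β := by
  ext V t
  choose W hWV hyW hW using h V t
  refine TopCat.Sheaf.eq_of_locally_eq' ⟨N.presheaf, N.isSheaf⟩ (fun y : V => W y.1 y.2) V
    (fun y => homOfLE (hWV y.1 y.2)) ?_ _ _ ?_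
  · intro y hy
    exact Opens.mem_iSup.2 ⟨⟨y, hy⟩, hyW y hy⟩
  · intro y
    have := hW y.1 y.2
    rw [app_pmap', app_pmap'] at this
    exact this

end Groth.Agent.Lib.Helper9.GBC
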