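import Groth.Agent.Lib.Helper9.GBC4

set_option autoImplicit false

universe u

open CategoryTheory Opposite TopologicalSpace AlgebraicGeometry
  AlgebraicGeometry.Scheme.Modules

namespace Groth.Agent.Lib.Helper9.GBC

open Groth.Agent.Lib.Helper5.PairPull

lemma restrictFunctor_map_app {X Y : Scheme.{u}} (f : X ⟶ Y) [IsOpenImmersion f]
    {M N : Y.Modules} (φ : M ⟶ N) (W : X.Opens) :
    ((restrictFunctor f).map φ).app W = φ.app (f ''ᵁ W) := rfl

section
variable {A B : Scheme.{u}} (g : A ⟶ B) (U : B.Opens) (U' : A.Opens) (hle : U' ≤ g ⁻¹ᵁ U)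
  (L : B.Modules)

lemma le_aux2 (W : (U : Scheme.{u}).Opens) :
    U'.ι ''ᵁ ((g.resLE U U' hle) ⁻¹ᵁ W) ≤ g ⁻¹ᵁ (U.ι ''ᵁ W) := by
  rw [Scheme.Hom.resLE_preimage]
  exact U'.ι.image_preimage_le _

lemma bOn_app_self (W : (U : Scheme.{u}).Opens) (s : Γ(L, U.ι ''ᵁ W))
    (hW' : U'.ι ''ᵁ ((g.resLE U U' hle) ⁻¹ᵁ W) ≤ g ⁻¹ᵁ (U.ι ''ᵁ W)) :
    (bOn g U U' hle L).app W s =
      ((Scheme.Modules.pullback g).obj L).presheaf.map (homOfLE hW').op
        (((pullbackPushforwardAdjunction g).unit.app L).app (U.ι ''ᵁ W) s) := by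
  have := bOn_app g U U' hle L (U.ι ''ᵁ W) W le_rfl s hW'
  have hs : L.presheaf.map (homOfLE (le_refl (U.ι ''ᵁ W))).op s = s := by
    simp
  rw [hs] at this
  exact this

end

section Comp
variable {X Y Z : Scheme.{u}} (f : X ⟶ Y) (g : Y ⟶ Z) (L : Z.Modules)

lemma unit_comp_app (O : Z.Opens) (s : Γ(L, O)) :
    ((pullbackComp f g).hom.app L).app (f ⁻¹ᵁ (g ⁻¹ᵁ O))
      (((pullbackPushforwardAdjunction f).unit.app ((Scheme.Modules.pullback g).obj L)).app
        (g ⁻¹ᵁ O) (((pullbackPushforwardAdjunction g).unit.app L).app O s)) =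
    ((pullbackPushforwardAdjunction (f ≫ g)).unit.app L).app O s := by
  have h := unit_comp f g L
  have h' : (pullbackPushforwardAdjunction g).unit.app L ≫
      (pushforward g).map
        ((pullbackPushforwardAdjunction f).unit.app ((Scheme.Modules.pullback g).obj L)) ≫
        (pushforwardComp f g).hom.app _ ≫
          (pushforward (f ≫ g)).map ((pullbackComp f g).hom.app L) =
      (pullbackPushforwardAdjunction (f ≫ g)).unit.app L := by
    rw [reassoc_of% h, ← Functor.map_comp]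
    simp
  have := congrArg (fun k => (Scheme.Modules.Hom.app k O) s) h'
  simp only [Hom.comp_app, pushforward_map_app, pushforwardComp_hom_app_app,
    ConcreteCategory.comp_apply] at this
  exact this

variable (U : Z.Opens) (U' : Y.Opens) (U'' : X.Opens)
  (h₁ : U' ≤ g ⁻¹ᵁ U) (h₂ : U'' ≤ f ⁻¹ᵁ U') (h₃ : U'' ≤ (f ≫ g) ⁻¹ᵁ U)

lemma bOn_comp :
    bOn g U U' h₁ L ≫
      (pushforward (g.resLE U U' h₁)).map
        (bOn f U' U'' h₂ ((Scheme.Modules.pullback g).obj L)) ≫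
      (pushforwardComp (f.resLE U' U'' h₂) (g.resLE U U' h₁)).hom.app _ ≫
      (pushforward (f.resLE U' U'' h₂ ≫ g.resLE U U' h₁)).map
        ((restrictFunctor U''.ι).map ((pullbackComp f g).hom.app L)) ≫
      (pushforwardCongr (Scheme.Hom.resLE_comp_resLE f g h₁ (e := h₂))).hom.app _ =
    bOn (f ≫ g) U U'' h₃ L := by
  ext W s
  have hA := le_aux2 g U U' h₁ W
  have hB : U''.ι ''ᵁ ((f.resLE U' U'' h₂) ⁻¹ᵁ ((g.resLE U U' h₁) ⁻¹ᵁ W)) ≤
      f ⁻¹ᵁ (g ⁻¹ᵁ (U.ι ''ᵁ W)) :=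
    (le_aux2 f U' U'' h₂ _).trans (f.preimage_mono hA)
  have hC := le_aux2 (f ≫ g) U U'' h₃ W
  have e1 := bOn_app_self g U U' h₁ L W s hA
  have e2 := bOn_app f U' U'' h₂ ((Scheme.Modules.pullback g).obj L) (g ⁻¹ᵁ (U.ι ''ᵁ W))
    ((g.resLE U U' h₁) ⁻¹ᵁ W) hA
    (((pullbackPushforwardAdjunction g).unit.app L).app (U.ι ''ᵁ W) s) hB
  have e3 := app_pmap ((pullbackComp f g).hom.app L) (homOfLE hB).op
    (((pullbackPushforwardAdjunction f).unit.app ((Scheme.Modules.pullback g).obj L)).app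
        (g ⁻¹ᵁ (U.ι ''ᵁ W)) (((pullbackPushforwardAdjunction g).unit.app L).app (U.ι ''ᵁ W) s))
  have e4 := unit_comp_app f g L (U.ι ''ᵁ W) s
  have e5 := bOn_app_self (f ≫ g) U U'' h₃ L W s hC
  have e12 := (congrArg (fun z => (bOn f U' U'' h₂ ((Scheme.Modules.pullback g).obj L)).app
    ((g.resLE U U' h₁) ⁻¹ᵁ W) z) e1).trans e2
  have e123 := (congrArg (fun z => ((pullbackComp f g).hom.app L).app
    (U''.ι ''ᵁ ((f.resLE U' U'' h₂) ⁻¹ᵁ ((g.resLE U U' h₁) ⁻¹ᵁ W))) z) e12).trans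
    (e3.trans (congrArg (fun z => ((Scheme.Modules.pullback (f ≫ g)).obj L).presheaf.map
      (homOfLE hB).op z) e4))
  simp only [Hom.comp_app, pushforward_map_app, pushforwardComp_hom_app_app,
    pushforwardCongr_hom_app_app, ConcreteCategory.comp_apply]
  refine ((congrArg (fun z => (((restrictFunctor U''.ι).obj
    ((Scheme.Modules.pullback (f ≫ g)).obj L)).presheaf.map (eqToHom _).op) z) e123).trans ?_).trans
    e5.symm
  rw [restrict_map]
  exact pmap_pmap ((Scheme.Modules.pullback (f ≫ g)).obj L) _ _ _ _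

end Comp

end Groth.Agent.Lib.Helper9.GBC
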