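import Groth.Agent.Lib.Helper9.GBC6

set_option autoImplicit false

universe u

open CategoryTheory Opposite TopologicalSpace AlgebraicGeometry
  AlgebraicGeometry.Scheme.Modules

namespace Groth.Agent.Lib.Helper9.GBC

open Groth.Agent.Lib.Helper5.PairPull

variable {X Y Z : Scheme.{u}} (f : X ⟶ Y) (g : Y ⟶ Z) (L : Z.Modules)
  (U : Z.Opens) (U' : Y.Opens) (U'' : X.Opens)
  (h₁ : U' ≤ g ⁻¹ᵁ U) (h₂ : U'' ≤ f ⁻¹ᵁ U') (h₃ : U'' ≤ (f ≫ g) ⁻¹ᵁ U)

lemma pullOn_comp (p : ℕ) (x : Coh.HHon Z L U p) :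
    CohPull.mapH ((restrictFunctor U''.ι).map ((pullbackComp f g).hom.app L)) p
      (CohPull.pullOn f U' U'' h₂ ((Scheme.Modules.pullback g).obj L) p
        (CohPull.pullOn g U U' h₁ L p x)) =
    CohPull.pullOn (f ≫ g) U U'' h₃ L p x := by
  rw [pullOn_eq, pullOn_eq, pullOn_eq, PM_comp, mapH_PM,
    PM_congr (Scheme.Hom.resLE_comp_resLE f g h₁ (e := h₂)),
    ← bOn_comp f g L U U' U'' h₁ h₂ h₃]
  simp only [Category.assoc]

end Groth.Agent.Lib.Helper9.GBC
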