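import Groth.Agent.Lib.Helper9.GBC7
import Groth.Agent.Lib.Helper9.GBC5
import Groth.Agent.Lib.Helper5.SectCmpSurj

set_option autoImplicit false

universe u

open CategoryTheory Opposite TopologicalSpace AlgebraicGeometry
  AlgebraicGeometry.Scheme.Modules

namespace Groth.Agent.Lib.Helper9.GBC

variable {X Y Z U V W : Scheme.{u}} (f : X ⟶ Y) (g : Y ⟶ Z) (ξ : X ⟶ U) (η : Y ⟶ V) (ζ : Z ⟶ W)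
    (φ : U ⟶ V) (ψ : V ⟶ W) (w₁ : f ≫ η = ξ ≫ φ) (w₂ : g ≫ ζ = η ≫ ψ)
    (hw : (f ≫ g) ≫ ζ = ξ ≫ (φ ≫ ψ))
    [HasInjectiveResolutions X.Modules] [HasInjectiveResolutions Y.Modules]
    [HasInjectiveResolutions Z.Modules]
    (L : Z.Modules) (p : ℕ)
    {Δζ : RDer.DerivedLES (pushforward ζ)} {Δη : RDer.DerivedLES (pushforward η)}
    {Δξ : RDer.DerivedLES (pushforward ξ)}
    (Eζ : CohCmp.SectCmp ζ Δζ) (Eη : CohCmp.SectCmp η Δη) (Eξ : CohCmp.SectCmp ξ Δξ)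
    (B₂ : CohCmp.GenBC ζ ψ η g w₂ Eζ Eη) (B₁ : CohCmp.GenBC η φ ξ f w₁ Eη Eξ)
    (B : CohCmp.GenBC ζ (φ ≫ ψ) ξ (f ≫ g) hw Eζ Eξ)

include B₂ B₁ B in
theorem key :
    B.φ p L = B₂.φ p L ≫
      (pushforward ψ).map (B₁.φ p ((Scheme.Modules.pullback g).obj L) ≫
        (pushforward φ).map ((Coh.Rpush ξ p).map ((pullbackComp f g).hom.app L))) ≫
      (pushforwardComp φ ψ).hom.app _ := by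
  apply hom_eq_of_locally_eq
  intro V' t y hy
  obtain ⟨W', hW'V, hyW', x, hx⟩ :=
    Groth.Agent.Lib.Helper5.SectCmpSurj.locally_surjective ζ Eζ p L V' t y hy
  refine ⟨W', hW'V, hyW', ?_⟩
  rw [← hx]
  refine (B.compat W' L p x).trans ?_
  have c2 := B₂.compat W' L p x
  have c3 := B₁.compat (ψ ⁻¹ᵁ W') ((Scheme.Modules.pullback g).obj L) p
    (CohPull.pullOn g (ζ ⁻¹ᵁ W') (η ⁻¹ᵁ (ψ ⁻¹ᵁ W')) (CohCmp.sqLE ζ ψ η g w₂ W') L p x)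
  have c4 := Eξ.natural (φ ⁻¹ᵁ (ψ ⁻¹ᵁ W')) ((pullbackComp f g).hom.app L) p
    (CohPull.pullOn f (η ⁻¹ᵁ (ψ ⁻¹ᵁ W')) (ξ ⁻¹ᵁ (φ ⁻¹ᵁ (ψ ⁻¹ᵁ W')))
      (CohCmp.sqLE η φ ξ f w₁ (ψ ⁻¹ᵁ W')) ((Scheme.Modules.pullback g).obj L) p
      (CohPull.pullOn g (ζ ⁻¹ᵁ W') (η ⁻¹ᵁ (ψ ⁻¹ᵁ W')) (CohCmp.sqLE ζ ψ η g w₂ W') L p x))
  have c5 := pullOn_comp f g L (ζ ⁻¹ᵁ W') (η ⁻¹ᵁ (ψ ⁻¹ᵁ W')) (ξ ⁻¹ᵁ (φ ⁻¹ᵁ (ψ ⁻¹ᵁ W')))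
    (CohCmp.sqLE ζ ψ η g w₂ W') (CohCmp.sqLE η φ ξ f w₁ (ψ ⁻¹ᵁ W'))
    (CohCmp.sqLE ζ (φ ≫ ψ) ξ (f ≫ g) hw W') p x
  exact (congrArg (fun z => Eξ.ε (φ ⁻¹ᵁ (ψ ⁻¹ᵁ W')) ((Scheme.Modules.pullback (f ≫ g)).obj L) p z)
    c5.symm).trans (c4.trans ((congrArg (fun z =>
      ((Coh.Rpush ξ p).map ((pullbackComp f g).hom.app L)).app (φ ⁻¹ᵁ (ψ ⁻¹ᵁ W')) z)
      c3.symm).trans (congrArg (fun z =>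
      ((Coh.Rpush ξ p).map ((pullbackComp f g).hom.app L)).app (φ ⁻¹ᵁ (ψ ⁻¹ᵁ W'))
        ((B₁.φ p ((Scheme.Modules.pullback g).obj L)).app (ψ ⁻¹ᵁ W') z)) c2.symm)))

end Groth.Agent.Lib.Helper9.GBC
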