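import Groth.Agent.Lib.Helper9.GBC8

set_option autoImplicit false

universe u

open CategoryTheory Opposite TopologicalSpace AlgebraicGeometry
  AlgebraicGeometry.Scheme.Modules

namespace Groth.Agent.Lib.Helper9.GBC

variable {X Y Z U V W : Scheme.{u}} (f : X ⟶ Y) (g : Y ⟶ Z) (ξ : X ⟶ U) (η : Y ⟶ V) (ζ : Z ⟶ W)
    (φ : U ⟶ V) (ψ : V ⟶ W) (w₁ : f ≫ η = ξ ≫ φ) (w₂ : g ≫ ζ = η ≫ ψ)
    (hw : (f ≫ g) ≫ ζ = ξ ≫ (φ ≫ ψ))
    [HasInjectiveResolutions X.Modules] [HasInjectiveResolutions Y.Modules]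
    [HasInjectiveResolutions Z.Modules]
    (L : Z.Modules) (p : ℕ)
    {Δζ : RDer.DerivedLES (pushforward ζ)} {Δη : RDer.DerivedLES (pushforward η)}
    {Δξ : RDer.DerivedLES (pushforward ξ)}
    (Eζ : CohCmp.SectCmp ζ Δζ) (Eη : CohCmp.SectCmp η Δη) (Eξ : CohCmp.SectCmp ξ Δξ)
    (B₂ : CohCmp.GenBC ζ ψ η g w₂ Eζ Eη) (B₁ : CohCmp.GenBC η φ ξ f w₁ Eη Eξ)
    (B : CohCmp.GenBC ζ (φ ≫ ψ) ξ (f ≫ g) hw Eζ Eξ)

omit [HasInjectiveResolutions Y.Modules] in
lemma unit_bc {S S' X' X : Scheme.{u}} {f : X ⟶ S} {g : S' ⟶ S} {f' : X' ⟶ S'} {g' : X' ⟶ X}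
    {w : g' ≫ f = f' ≫ g} [HasInjectiveResolutions X.Modules] [HasInjectiveResolutions X'.Modules]
    {Δ : RDer.DerivedLES (pushforward f)} {Δ' : RDer.DerivedLES (pushforward f')}
    {E : CohCmp.SectCmp f Δ} {E' : CohCmp.SectCmp f' Δ'} (B : CohCmp.GenBC f g f' g' w E E')
    (p : ℕ) (F : X.Modules) :
    (pullbackPushforwardAdjunction g).unit.app _ ≫ (pushforward g).map (B.bc p F) = B.φ p F := by
  exact (Adjunction.homEquiv_unit (adj := pullbackPushforwardAdjunction g)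
    (f := B.bc p F)).symm.trans (Equiv.apply_symm_apply _ _)

include B₂ B₁ B in
theorem main :
    (pullbackComp φ ψ).hom.app ((Coh.Rpush ζ p).obj L) ≫ B.bc p L =
      (Scheme.Modules.pullback φ).map (B₂.bc p L) ≫ B₁.bc p ((Scheme.Modules.pullback g).obj L) ≫
        (Coh.Rpush ξ p).map ((pullbackComp f g).hom.app L) := by
  have k := key f g ξ η ζ φ ψ w₁ w₂ hw L p Eζ Eη Eξ B₂ B₁ B
  have a1 := unit_bc B₁ p ((Scheme.Modules.pullback g).obj L)
  have a2 := unit_bc B₂ p L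
  have hB : B.bc p L = (pullbackComp φ ψ).inv.app ((Coh.Rpush ζ p).obj L) ≫
      (Scheme.Modules.pullback φ).map (B₂.bc p L) ≫ B₁.bc p ((Scheme.Modules.pullback g).obj L) ≫
        (Coh.Rpush ξ p).map ((pullbackComp f g).hom.app L) := by
    apply ((pullbackPushforwardAdjunction (φ ≫ ψ)).homEquiv _ _).injective
    rw [show ((pullbackPushforwardAdjunction (φ ≫ ψ)).homEquiv _ _) (B.bc p L) = B.φ p L from
      Equiv.apply_symm_apply _ _]
    rw [Adjunction.homEquiv_unit, (pushforward (φ ≫ ψ)).map_comp,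
      ← Category.assoc ((pullbackPushforwardAdjunction (φ ≫ ψ)).unit.app _),
      ← unit_comp φ ψ ((Coh.Rpush ζ p).obj L), k]
    simp only [Category.assoc]
    have n := (pushforwardComp φ ψ).hom.naturality
      ((Scheme.Modules.pullback φ).map (B₂.bc p L) ≫
        B₁.bc p ((Scheme.Modules.pullback g).obj L) ≫
        (Coh.Rpush ξ p).map ((pullbackComp f g).hom.app L))
    simp only [Functor.comp_map, Functor.comp_obj] at n
    rw [← n, ← a2, ← a1]
    have nφ := (pullbackPushforwardAdjunction φ).unit.naturality (B₂.bc p L)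
    simp only [Functor.id_map, Functor.comp_map, Functor.id_obj, Functor.comp_obj] at nφ
    simp only [Functor.map_comp, Category.assoc]
    rw [← Functor.map_comp_assoc, nφ]
    simp only [Functor.map_comp, Category.assoc]
  rw [hB, ← Category.assoc, Iso.hom_inv_id_app, Category.id_comp]

end Groth.Agent.Lib.Helper9.GBC
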