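import Mathlib
import Groth.Agent.Lib.Helper25.GFMod

set_option autoImplicit false

namespace Groth.Agent.Lib.Helper9.GenFlatCoker

open Function

universe u

/-- An extension of flat modules is flat. -/
lemma flat_of_exact_of_flat_flat {A : Type*} [CommRing A] {M' M M'' : Type*}
    [AddCommGroup M'] [Module A M']
    [AddCommGroup M] [Module A M] [AddCommGroup M''] [Module A M''] (i : M' →ₗ[A] M)
    (π : M →ₗ[A] M'') (hi : Injective i) (hπ : Surjective π) (hex : Exact i π)
    [Module.Flat A M'] [Module.Flat A M''] : Module.Flat A M := by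
  rw [Module.Flat.iff_lTensor_preserves_injective_linearMap]
  intro N N' _ _ _ _ f hf
  rw [injective_iff_map_eq_zero]
  intro x hx
  have h1 : π.rTensor N x = 0 := by
    apply (Module.Flat.lTensor_preserves_injective_linearMap (M := M'') f hf)
    rw [← LinearMap.comp_apply, LinearMap.lTensor_comp_rTensor, ← LinearMap.rTensor_comp_lTensor,
      LinearMap.comp_apply, hx, map_zero, map_zero]
  obtain ⟨y, rfl⟩ := (rTensor_exact N hex hπ x).mp h1
  have h2 : i.rTensor N' (f.lTensor M' y) = 0 := by
    rw [← LinearMap.comp_apply, LinearMap.rTensor_comp_lTensor, ← LinearMap.lTensor_comp_rTensor,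
      LinearMap.comp_apply, hx]
  have h3 : Injective (i.rTensor N') := by
    rw [← LinearMap.lTensor_inj_iff_rTensor_inj]
    exact LinearMap.lTensor_injective_of_exact_of_flat π hπ i hi hex N'
  have h4 : f.lTensor M' y = 0 := h3 (by rw [h2, map_zero])
  have h5 : y = 0 :=
    (Module.Flat.lTensor_preserves_injective_linearMap (M := M') f hf) (by rw [h4, map_zero])
  rw [h5, map_zero]

section Basic

variable (R : Type u) [CommRing R]

/-- Generic flatness of an `R`-module at `g`: for every multiple `g'` of `g`, `Q[1/g']` is flat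
over `R[1/g']`. -/
def GFl (Q : Type u) [AddCommGroup Q] [Module R Q] (g : R) : Prop :=
  ∀ g' : R, g ∣ g' →
    Module.Flat (Localization.Away g') (LocalizedModule (Submonoid.powers g') Q)

variable {R}

theorem GFl.mono {Q : Type u} [AddCommGroup Q] [Module R Q] {g g2 : R} (h : GFl R Q g)
    (hd : g ∣ g2) : GFl R Q g2 := fun g' hg' => h g' (hd.trans hg')

theorem GFl.of_exact {Q' Q Q'' : Type u} [AddCommGroup Q'] [Module R Q'] [AddCommGroup Q]
    [Module R Q] [AddCommGroup Q''] [Module R Q''] (i : Q' →ₗ[R] Q) (p : Q →ₗ[R] Q'')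
    (hi : Injective i) (hp : Surjective p) (hex : Exact i p) {g : R} (h' : GFl R Q' g)
    (h'' : GFl R Q'' g) : GFl R Q g := by
  intro g' hg'
  have := h' g' hg'
  have := h'' g' hg'
  exact flat_of_exact_of_flat_flat
    (LocalizedModule.map (Submonoid.powers g') i) (LocalizedModule.map (Submonoid.powers g') p)
    (LocalizedModule.map_injective _ _ hi) (LocalizedModule.map_surjective _ _ hp)
    (LocalizedModule.map_exact _ _ _ hex)

theorem GFl.of_equiv {Q Q' : Type u} [AddCommGroup Q] [Module R Q] [AddCommGroup Q']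
    [Module R Q'] (e : Q ≃ₗ[R] Q') {g : R} (h : GFl R Q g) : GFl R Q' g := by
  intro g' hg'
  have := h g' hg'
  have hb : Bijective (LocalizedModule.map (Submonoid.powers g') e.toLinearMap) :=
    ⟨LocalizedModule.map_injective _ _ e.injective, LocalizedModule.map_surjective _ _ e.surjective⟩
  exact Module.Flat.of_linearEquiv (LinearEquiv.ofBijective _ hb).symm

theorem GFl.of_subsingleton (Q : Type u) [AddCommGroup Q] [Module R Q] [Subsingleton Q] (g : R) :
    GFl R Q g := by
  intro g' _
  have : Subsingleton (LocalizedModule (Submonoid.powers g') Q) := by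
    refine ⟨fun a b => ?_⟩
    induction a using LocalizedModule.induction_on with
    | _ m s =>
      induction b using LocalizedModule.induction_on with
      | _ m' s' => rw [Subsingleton.elim m 0, Subsingleton.elim m' 0, LocalizedModule.zero_mk,
          LocalizedModule.zero_mk]
  infer_instance

theorem GFl.of_GF {S : Type u} [CommRing S] [Algebra R S] {M : Type u} [AddCommGroup M]
    [Module S M] [Module R M] [IsScalarTower R S M] {g : R}
    (h : Groth.Agent.Lib.Helper25.GFMod.GF R S M g) : GFl R M g := by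
  intro g' hg'
  have := (h g' hg').1
  infer_instance

/-- A module which is an increasing union of generically flat (at the same `g`) submodules,
given abstractly by injective maps, is generically flat. -/
theorem GFl.of_union {Q : Type u} [AddCommGroup Q] [Module R Q] (Qi : ℕ → Type u)
    [∀ i, AddCommGroup (Qi i)] [∀ i, Module R (Qi i)] (j : ∀ i, Qi i →ₗ[R] Q)
    (hj : ∀ i, Injective (j i)) (hmono : ∀ i k, i ≤ k → LinearMap.range (j i) ≤ LinearMap.range (j k))
    (hcov : ∀ q : Q, ∃ i, q ∈ LinearMap.range (j i)) {g : R} (h : ∀ i, GFl R (Qi i) g) :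
    GFl R Q g := by
  intro g' hg'
  set S := Submonoid.powers g'
  refine Module.Flat.of_forall_isTrivialRelation fun {l} {c} {x} hx => ?_
  -- find a common index
  have hex : ∀ m : Fin l, ∃ i, ∃ x' : LocalizedModule S (Qi i),
      LocalizedModule.map S (j i) x' = x m := by
    intro m
    induction x m using LocalizedModule.induction_on with
    | _ q s =>
      obtain ⟨i, q', hq'⟩ := hcov q
      exact ⟨i, LocalizedModule.mk q' s, by rw [LocalizedModule.map_mk, hq']⟩
  choose idx x' hx' using hex
  obtain ⟨N, hN⟩ : ∃ N, ∀ m, idx m ≤ N := ⟨Finset.univ.sup idx, fun m => Finset.le_sup (Finset.mem_univ m)⟩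
  have hlift : ∀ (i : ℕ) (_ : i ≤ N) (y : LocalizedModule S (Qi i)),
      ∃ y' : LocalizedModule S (Qi N),
        LocalizedModule.map S (j N) y' = LocalizedModule.map S (j i) y := by
    intro i hi y
    induction y using LocalizedModule.induction_on with
    | _ q s =>
      obtain ⟨q2, hq2⟩ := hmono i N hi ⟨q, rfl⟩
      exact ⟨LocalizedModule.mk q2 s, by rw [LocalizedModule.map_mk, hq2, LocalizedModule.map_mk]⟩
  have hex2 : ∀ m : Fin l, ∃ x'' : LocalizedModule S (Qi N),
      LocalizedModule.map S (j N) x'' = x m := by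
    intro m
    obtain ⟨y', hy'⟩ := hlift (idx m) (hN m) (x' m)
    exact ⟨y', by rw [hy', hx']⟩
  choose x'' hx'' using hex2
  have hflat := h N g' hg'
  have hsum : ∑ m, c m • x'' m = 0 := by
    apply LocalizedModule.map_injective S (j N) (hj N)
    rw [map_sum, map_zero, ← hx]
    refine Finset.sum_congr rfl fun m _ => ?_
    rw [map_smul, hx'']
  obtain ⟨k, a, z, hz, ha⟩ := Module.Flat.isTrivialRelation_of_sum_smul_eq_zero
    (R := Localization.Away g') (M := LocalizedModule S (Qi N)) hsum
  refine ⟨k, a, fun n => LocalizedModule.map S (j N) (z n), fun m => ?_, ha⟩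
  rw [← hx'', hz m, map_sum]
  refine Finset.sum_congr rfl fun n _ => ?_
  rw [map_smul]

end Basic

section Sub

variable {R : Type u} [CommRing R] {C : Type u} [CommRing C] [Algebra R C]
  {N : Type u} [AddCommGroup N] [Module C N] [Module R N] [IsScalarTower R C N]

/-- The subquotient `Y/X` of two submodules. -/
abbrev SubQ (X Y : Submodule C N) : Type u := ↥Y ⧸ X.submoduleOf Y

theorem GFl.subQ_trans {X Y Z : Submodule C N} (hXY : X ≤ Y) (hYZ : Y ≤ Z) {g : R}
    (h1 : GFl R (SubQ X Y) g) (h2 : GFl R (SubQ Y Z) g) : GFl R (SubQ X Z) g := by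
  have hle1 : X.submoduleOf Y ≤ (X.submoduleOf Z).comap (Submodule.inclusion hYZ) := by
    intro a ha
    exact ha
  have hle2 : X.submoduleOf Z ≤ (Y.submoduleOf Z).comap (LinearMap.id : ↥Z →ₗ[C] ↥Z) := by
    intro a ha
    exact hXY ha
  let ι : SubQ X Y →ₗ[C] SubQ X Z :=
    Submodule.mapQ (X.submoduleOf Y) (X.submoduleOf Z) (Submodule.inclusion hYZ) hle1
  let π : SubQ X Z →ₗ[C] SubQ Y Z :=
    Submodule.mapQ (X.submoduleOf Z) (Y.submoduleOf Z) LinearMap.id hle2
  refine GFl.of_exact (ι.restrictScalars R) (π.restrictScalars R) ?_ ?_ ?_ h1 h2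
  · rw [LinearMap.coe_restrictScalars, injective_iff_map_eq_zero]
    intro a ha
    obtain ⟨a, rfl⟩ := Submodule.Quotient.mk_surjective _ a
    change Submodule.Quotient.mk (Submodule.inclusion hYZ a) = 0 at ha
    rw [Submodule.Quotient.mk_eq_zero] at ha ⊢
    exact ha
  · rw [LinearMap.coe_restrictScalars]
    intro b
    obtain ⟨b, rfl⟩ := Submodule.Quotient.mk_surjective _ b
    exact ⟨Submodule.Quotient.mk b, rfl⟩
  · rw [LinearMap.coe_restrictScalars, LinearMap.coe_restrictScalars]
    intro b
    obtain ⟨b, rfl⟩ := Submodule.Quotient.mk_surjective _ b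
    constructor
    · intro hb
      change Submodule.Quotient.mk b = 0 at hb
      rw [Submodule.Quotient.mk_eq_zero] at hb
      exact ⟨Submodule.Quotient.mk ⟨b.1, hb⟩, rfl⟩
    · rintro ⟨a, ha⟩
      obtain ⟨a, rfl⟩ := Submodule.Quotient.mk_surjective _ a
      change Submodule.Quotient.mk (Submodule.inclusion hYZ a) = Submodule.Quotient.mk b at ha
      change Submodule.Quotient.mk b = 0
      rw [Submodule.Quotient.mk_eq_zero]
      rw [Submodule.Quotient.eq] at ha
      have h3 : (b : N) = (a : N) - ((Submodule.inclusion hYZ a - b : ↥Z) : N) := by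
        simp
      change (b : N) ∈ Y
      rw [h3]
      exact Y.sub_mem a.2 (hXY ha)

theorem GFl.subQ_self (X : Submodule C N) (g : R) : GFl R (SubQ X X) g := by
  have : Subsingleton (SubQ X X) := by
    refine ⟨fun a b => ?_⟩
    obtain ⟨a, rfl⟩ := Submodule.Quotient.mk_surjective _ a
    obtain ⟨b, rfl⟩ := Submodule.Quotient.mk_surjective _ b
    rw [Submodule.Quotient.eq]
    exact X.sub_mem a.2 b.2
  exact GFl.of_subsingleton _ g

/-- `Y/X ≅ N/X` when `Y = ⊤`. -/
noncomputable def subQTopEquiv (X : Submodule C N) : SubQ X ⊤ ≃ₗ[C] N ⧸ X :=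
  Submodule.Quotient.equiv (X.submoduleOf ⊤) X Submodule.topEquiv (by
    ext n
    constructor
    · rintro ⟨a, ha, rfl⟩
      exact ha
    · intro hn
      exact ⟨⟨n, trivial⟩, hn, rfl⟩)

theorem GFl.quot_of_subQ {X Y : Submodule C N} (hXY : X ≤ Y) {g : R}
    (h1 : GFl R (SubQ X Y) g) (h2 : GFl R (N ⧸ Y) g) : GFl R (N ⧸ X) g := by
  have h2' : GFl R (SubQ Y ⊤) g := GFl.of_equiv ((subQTopEquiv Y).symm.restrictScalars R) h2
  exact GFl.of_equiv ((subQTopEquiv X).restrictScalars R) (GFl.subQ_trans hXY le_top h1 h2')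

theorem GFl.subQ_iSup (F : ℕ → Submodule C N) (hF : Monotone F) {g : R}
    (h : ∀ i, GFl R (SubQ (F i) (F (i + 1))) g) : GFl R (SubQ (F 0) (⨆ i, F i)) g := by
  have h0 : ∀ i, GFl R (SubQ (F 0) (F i)) g := by
    intro i
    induction i with
    | zero => exact GFl.subQ_self _ g
    | succ i ih => exact GFl.subQ_trans (hF (Nat.zero_le i)) (hF (Nat.le_succ i)) ih (h i)
  have hle : ∀ i, (F 0).submoduleOf (F i) ≤
      ((F 0).submoduleOf (⨆ i, F i)).comap (Submodule.inclusion (le_iSup F i)) := by
    intro i a ha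
    exact ha
  let j : ∀ i, SubQ (F 0) (F i) →ₗ[R] SubQ (F 0) (⨆ i, F i) := fun i =>
    (Submodule.mapQ ((F 0).submoduleOf (F i)) ((F 0).submoduleOf (⨆ i, F i))
      (Submodule.inclusion (le_iSup F i)) (hle i)).restrictScalars R
  refine GFl.of_union (fun i => SubQ (F 0) (F i)) j ?_ ?_ ?_ h0
  · intro i
    rw [injective_iff_map_eq_zero]
    intro a ha
    obtain ⟨a, rfl⟩ := Submodule.Quotient.mk_surjective _ a
    change Submodule.Quotient.mk (Submodule.inclusion (le_iSup F i) a) = 0 at ha
    rw [Submodule.Quotient.mk_eq_zero] at ha ⊢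
    exact ha
  · rintro i k hik _ ⟨a, rfl⟩
    obtain ⟨a, rfl⟩ := Submodule.Quotient.mk_surjective _ a
    exact ⟨Submodule.Quotient.mk (Submodule.inclusion (hF hik) a), rfl⟩
  · intro q
    obtain ⟨q, rfl⟩ := Submodule.Quotient.mk_surjective _ q
    obtain ⟨i, hi⟩ := (Submodule.mem_iSup_of_directed F hF.directed_le).mp q.2
    exact ⟨i, Submodule.Quotient.mk ⟨q.1, hi⟩, rfl⟩

/-- Comparison of subquotients over `C` and over `R`. -/
noncomputable def subQRestrictEquiv (X Y : Submodule C N) :
    SubQ X Y ≃ₗ[R] SubQ (X.restrictScalars R) (Y.restrictScalars R) :=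
  (Submodule.Quotient.restrictScalarsEquiv R (X.submoduleOf Y)).symm ≪≫ₗ
    Submodule.Quotient.equiv ((X.submoduleOf Y).restrictScalars R)
      ((X.restrictScalars R).submoduleOf (Y.restrictScalars R))
      ((Submodule.restrictScalarsEquiv R C N Y).symm.restrictScalars R) (by
        ext n
        constructor
        · rintro ⟨a, ha, rfl⟩
          exact ha
        · intro hn
          exact ⟨⟨n.1, n.2⟩, hn, rfl⟩)

end Sub

section LemmaA

variable {R : Type u} [CommRing R]
  {C : Type u} [CommRing C] [Algebra R C]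
  {N : Type u} [AddCommGroup N] [Module C N] [Module R N] [IsScalarTower R C N]

/-- The filtration `F_i = P + yP + ⋯ + y^i P`. -/
def filt (y : N →ₗ[C] N) (P : Submodule C N) : ℕ → Submodule C N
  | 0 => P
  | (i + 1) => filt y P i ⊔ P.map (y ^ (i + 1))

lemma filt_zero (y : N →ₗ[C] N) (P : Submodule C N) : filt y P 0 = P := rfl

lemma filt_succ (y : N →ₗ[C] N) (P : Submodule C N) (i : ℕ) :
    filt y P (i + 1) = filt y P i ⊔ P.map (y ^ (i + 1)) := rfl

lemma filt_mono (y : N →ₗ[C] N) (P : Submodule C N) : Monotone (filt y P) :=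
  monotone_nat_of_le_succ fun _ => le_sup_left

lemma map_filt_le (y : N →ₗ[C] N) (P : Submodule C N) (i : ℕ) :
    (filt y P i).map y ≤ filt y P (i + 1) := by
  induction i with
  | zero =>
    rw [filt_succ, filt_zero, zero_add, pow_one]
    exact le_sup_right
  | succ i ih =>
    rw [filt_succ y P i, Submodule.map_sup, filt_succ y P (i + 1)]
    refine sup_le_sup ih ?_
    rw [← Submodule.map_comp, pow_succ' y (i + 1)]
    rfl

lemma pow_mem_filt (y : N →ₗ[C] N) (P : Submodule C N) (i : ℕ) {p : N} (hp : p ∈ P) :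
    (y ^ i) p ∈ filt y P i := by
  cases i with
  | zero => rw [pow_zero]; exact hp
  | succ i => exact Submodule.mem_sup_right (Submodule.mem_map_of_mem hp)

variable [IsDomain R] [IsNoetherianRing R] [Algebra.FiniteType R C]

theorem exists_gfl_iSup_filt (y : N →ₗ[C] N) (P : Submodule C N) (hP : P.FG) (h : R)
    (hh : h ≠ 0) :
    ∃ g : R, h ∣ g ∧ g ≠ 0 ∧ GFl R (SubQ P (⨆ i, filt y P i)) g := by
  classical
  set F := filt y P with hF
  -- the surjections `P → F (i+1) / F i`
  let ψ : ∀ i, ↥P →ₗ[C] ↥(F (i + 1)) := fun i =>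
    LinearMap.codRestrict (F (i + 1)) ((y ^ (i + 1)).comp P.subtype)
      (fun p => pow_mem_filt y P (i + 1) p.2)
  let φ : ∀ i, ↥P →ₗ[C] SubQ (F i) (F (i + 1)) := fun i =>
    ((F i).submoduleOf (F (i + 1))).mkQ.comp (ψ i)
  have hφsurj : ∀ i, Surjective (φ i) := by
    intro i b
    obtain ⟨b, rfl⟩ := Submodule.Quotient.mk_surjective _ b
    have hb : (b : N) ∈ filt y P i ⊔ P.map (y ^ (i + 1)) := b.2
    rw [Submodule.mem_sup] at hb
    obtain ⟨a, ha, c, hc, hac⟩ := hb
    obtain ⟨p, hp, rfl⟩ := hc
    refine ⟨⟨p, hp⟩, ?_⟩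
    change Submodule.Quotient.mk (ψ i ⟨p, hp⟩) = Submodule.Quotient.mk b
    rw [Submodule.Quotient.eq]
    change ((ψ i ⟨p, hp⟩ - b : ↥(F (i + 1))) : N) ∈ F i
    have : ((ψ i ⟨p, hp⟩ - b : ↥(F (i + 1))) : N) = -a := by
      rw [Submodule.coe_sub, ← hac]
      change (y ^ (i + 1)) p - _ = _
      abel
    rw [this]
    exact (F i).neg_mem ha
  have hmemker : ∀ i (p : ↥P), p ∈ LinearMap.ker (φ i) ↔ (y ^ (i + 1)) (p : N) ∈ F i := by
    intro i p
    rw [LinearMap.mem_ker]
    change Submodule.Quotient.mk (ψ i p) = 0 ↔ _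
    rw [Submodule.Quotient.mk_eq_zero]
    rfl
  let K : ℕ →o Submodule C ↥P := ⟨fun i => LinearMap.ker (φ i), by
    refine monotone_nat_of_le_succ fun i p hp => ?_
    rw [hmemker] at hp ⊢
    have := map_filt_le y P i (Submodule.mem_map_of_mem hp)
    rwa [← LinearMap.comp_apply, ← Module.End.mul_eq_comp, ← pow_succ'] at this⟩
  have hCn : IsNoetherianRing C := Algebra.FiniteType.isNoetherianRing R C
  have hPfin : Module.Finite C ↥P := Module.Finite.iff_fg.mpr hP
  have hPn : IsNoetherian C ↥P := isNoetherian_of_isNoetherianRing_of_finite C ↥P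
  obtain ⟨n, hn⟩ := monotone_stabilizes_iff_noetherian.mpr hPn K
  -- generic freeness for the first `n + 1` quotients
  have hchain : ∀ m : ℕ, ∃ g : R, h ∣ g ∧ g ≠ 0 ∧
      ∀ i ≤ m, Groth.Agent.Lib.Helper25.GFMod.GF R C (↥P ⧸ K i) g := by
    intro m
    induction m with
    | zero =>
      obtain ⟨g, hg1, hg2, hg3⟩ :=
        Groth.Agent.Lib.Helper25.GFMod.exists_GF R C (↥P ⧸ K 0) h hh
      exact ⟨g, hg1, hg2, fun i hi => by rw [Nat.le_zero.mp hi]; exact hg3⟩
    | succ m ih =>
      obtain ⟨g0, hg01, hg02, hg03⟩ := ih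
      obtain ⟨g, hg1, hg2, hg3⟩ :=
        Groth.Agent.Lib.Helper25.GFMod.exists_GF R C (↥P ⧸ K (m + 1)) g0 hg02
      refine ⟨g, hg01.trans hg1, hg2, fun i hi => ?_⟩
      rcases Nat.lt_or_ge i (m + 1) with h1 | h1
      · exact (hg03 i (Nat.lt_succ_iff.mp h1)).mono hg1
      · rw [le_antisymm hi h1]; exact hg3
  obtain ⟨g, hg1, hg2, hg3⟩ := hchain n
  refine ⟨g, hg1, hg2, ?_⟩
  have hall : ∀ i, GFl R (SubQ (F i) (F (i + 1))) g := by
    intro i
    have hGF : Groth.Agent.Lib.Helper25.GFMod.GF R C (↥P ⧸ K i) g := by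
      rcases Nat.lt_or_ge i n with h1 | h1
      · exact hg3 i h1.le
      · rw [← hn i h1]; exact hg3 n le_rfl
    exact GFl.of_equiv
      ((LinearMap.quotKerEquivOfSurjective (φ i) (hφsurj i)).restrictScalars R) (GFl.of_GF hGF)
  exact GFl.subQ_iSup F (filt_mono y P) hall

end LemmaA

section LemmaB

variable {R : Type u} [CommRing R]
  {B : Type u} [CommRing B] [Algebra R B]
  {N : Type u} [AddCommGroup N] [Module B N] [Module R N] [IsScalarTower R B N]

/-- The `R[Z]`-span of `T`, as an `R`-submodule. -/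
def spanOver (Z : Set B) (T : Set N) : Submodule R N :=
  (Submodule.span (Algebra.adjoin R Z) T).restrictScalars R

lemma mem_spanOver {Z : Set B} {T : Set N} {n : N} :
    n ∈ spanOver (R := R) Z T ↔ n ∈ Submodule.span (Algebra.adjoin R Z) T := Iff.rfl

lemma smul_mem_spanOver {Z : Set B} {T : Set N} {c : B} (hc : c ∈ Algebra.adjoin R Z) {n : N}
    (hn : n ∈ spanOver (R := R) Z T) : c • n ∈ spanOver (R := R) Z T :=
  (Submodule.span (Algebra.adjoin R Z) T).smul_mem (⟨c, hc⟩ : Algebra.adjoin R Z) hn

lemma spanOver_mono {Z Z' : Set B} (hZ : Z ⊆ Z') (T : Set N) :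
    spanOver (R := R) Z T ≤ spanOver Z' T := by
  intro n hn
  rw [mem_spanOver] at hn
  induction hn using Submodule.span_induction with
  | mem x hx => exact Submodule.subset_span hx
  | zero => exact Submodule.zero_mem _
  | add x y _ _ hx hy => exact Submodule.add_mem _ hx hy
  | smul c x _ hx => exact smul_mem_spanOver (Algebra.adjoin_mono hZ c.2) hx

variable [IsDomain R] [IsNoetherianRing R]

theorem exists_gfl_step (Z : Finset B) (b : B) (T : Finset N) (h : R) (hh : h ≠ 0) :
    ∃ g : R, h ∣ g ∧ g ≠ 0 ∧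
      GFl R (SubQ (spanOver (R := R) (↑Z : Set B) (↑T : Set N))
        (spanOver (insert b (↑Z : Set B)) (↑T : Set N))) g := by
  classical
  let C := Algebra.adjoin R (↑Z : Set B)
  have hCft : Algebra.FiniteType R ↥C :=
    (Subalgebra.fg_iff_finiteType _).mp (Subalgebra.fg_adjoin_finset Z)
  let y : N →ₗ[↥C] N :=
    { toFun := fun n => b • n
      map_add' := smul_add b
      map_smul' := fun c n => smul_comm b c n }
  let P : Submodule ↥C N := Submodule.span ↥C (↑T : Set N)
  have hP : P.FG := Submodule.fg_span (Finset.finite_toSet T)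
  obtain ⟨g, hg1, hg2, hg3⟩ := exists_gfl_iSup_filt (R := R) y P hP h hh
  refine ⟨g, hg1, hg2, ?_⟩
  have hpow : ∀ (k : ℕ) (n : N), (y ^ k) n = b ^ k • n := by
    intro k
    induction k with
    | zero => intro n; simp
    | succ k ih =>
      intro n
      rw [pow_succ', Module.End.mul_apply, ih, pow_succ', mul_smul]
      rfl
  have hb : b ∈ Algebra.adjoin R (insert b (↑Z : Set B)) :=
    Algebra.subset_adjoin (Set.mem_insert b _)
  have hsub : (↑Z : Set B) ⊆ insert b (↑Z : Set B) := Set.subset_insert b _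
  have hU : (⨆ i, filt y P i).restrictScalars R =
      spanOver (R := R) (insert b (↑Z : Set B)) (↑T : Set N) := by
    apply le_antisymm
    · intro n hn
      rw [Submodule.restrictScalars_mem] at hn
      obtain ⟨i, hi⟩ := (Submodule.mem_iSup_of_directed _ (filt_mono y P).directed_le).mp hn
      clear hn
      induction i generalizing n with
      | zero => exact spanOver_mono hsub _ hi
      | succ i ih =>
        rw [filt_succ, Submodule.mem_sup] at hi
        obtain ⟨a, ha, c, ⟨p, hp, rfl⟩, rfl⟩ := hi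
        refine Submodule.add_mem _ (ih ha) ?_
        rw [hpow]
        exact smul_mem_spanOver (pow_mem hb _) (spanOver_mono hsub _ hp)
    · intro n hn
      rw [mem_spanOver] at hn
      rw [Submodule.restrictScalars_mem]
      -- closure of the union under `R[Z, b]`
      have hclosed : ∀ c ∈ Algebra.adjoin R (insert b (↑Z : Set B)),
          ∀ x ∈ (⨆ i, filt y P i), c • x ∈ (⨆ i, filt y P i) := by
        intro c hc
        induction hc using Algebra.adjoin_induction with
        | mem c hc =>
          intro x hx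
          rcases hc with rfl | hc
          · obtain ⟨i, hi⟩ :=
              (Submodule.mem_iSup_of_directed _ (filt_mono y P).directed_le).mp hx
            exact Submodule.mem_iSup_of_mem (i + 1)
              (map_filt_le y P i (Submodule.mem_map_of_mem hi))
          · exact (⨆ i, filt y P i).smul_mem (⟨c, Algebra.subset_adjoin hc⟩ : C) hx
        | algebraMap r =>
          intro x hx
          rw [algebraMap_smul]
          exact ((⨆ i, filt y P i).restrictScalars R).smul_mem r hx
        | add c c' _ _ hc hc' =>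
          intro x hx
          rw [add_smul]
          exact Submodule.add_mem _ (hc x hx) (hc' x hx)
        | mul c c' _ _ hc hc' =>
          intro x hx
          rw [mul_smul]
          exact hc _ (hc' x hx)
      induction hn using Submodule.span_induction with
      | mem x hx =>
        exact Submodule.mem_iSup_of_mem 0 (Submodule.subset_span hx)
      | zero => exact Submodule.zero_mem _
      | add x y _ _ hx hy => exact Submodule.add_mem _ hx hy
      | smul c x _ hx => exact hclosed c.1 c.2 x hx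
  have h4 := GFl.of_equiv (subQRestrictEquiv (R := R) P (⨆ i, filt y P i)) hg3
  rw [hU] at h4
  exact h4

theorem exists_gfl_chain (Z t : Finset B) (T : Finset N) (h : R) (hh : h ≠ 0) :
    ∃ g : R, h ∣ g ∧ g ≠ 0 ∧
      GFl R (SubQ (spanOver (R := R) (↑Z : Set B) (↑T : Set N))
        (spanOver ((↑Z : Set B) ∪ ↑t) (↑T : Set N))) g := by
  classical
  induction t using Finset.induction_on generalizing h with
  | empty =>
    refine ⟨h, dvd_rfl, hh, ?_⟩
    rw [Finset.coe_empty, Set.union_empty]
    exact GFl.subQ_self _ h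
  | insert b t _ ih =>
    obtain ⟨g1, hg11, hg12, hg13⟩ := ih h hh
    obtain ⟨g2, hg21, hg22, hg23⟩ := exists_gfl_step (R := R) (Z ∪ t) b T g1 hg12
    refine ⟨g2, hg11.trans hg21, hg22, ?_⟩
    have e1 : ((↑Z : Set B) ∪ ↑(insert b t)) = insert b (↑(Z ∪ t) : Set B) := by
      rw [Finset.coe_insert, Finset.coe_union, Set.union_insert]
    rw [e1]
    rw [Finset.coe_union] at hg23 ⊢
    exact GFl.subQ_trans (spanOver_mono Set.subset_union_left _)
      (spanOver_mono (Set.subset_insert _ _) _) (hg13.mono hg21) hg23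

end LemmaB

end Groth.Agent.Lib.Helper9.GenFlatCoker
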