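import Mathlib

set_option autoImplicit false
set_option linter.unusedSectionVars false
universe u

namespace Groth.Agent.Lib.Helper9.GlueFin

section construction

variable {A' A B' B : Type*} [CommRing A'] [CommRing A] [Algebra A' A] [CommRing B'] [CommRing B]
  [Algebra B' B]

/-- The glueing data: `f^t A ⊆ A'`, `g^t B ⊆ B'`, `n ≥ 2t+1`, and a ring map
`φ' : A'/f^n → B'/g^n` sending `f` to `g` and `f^t A` into `g^t B`. -/
structure Data (f : A') (g : B') (t n : ℕ)
    (φ' : (A' ⧸ Ideal.span {f ^ n}) →+* (B' ⧸ Ideal.span {g ^ n})) : Prop where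
  injA : Function.Injective (algebraMap A' A)
  hg : algebraMap B' B g ∈ nonZeroDivisors B
  hA : ∀ a : A, ∃ x : A', algebraMap A' A x = algebraMap A' A f ^ t * a
  hn : 2 * t + 1 ≤ n
  hφf : φ' (Ideal.Quotient.mk _ f) = Ideal.Quotient.mk _ g
  hφI : ∀ (x : A') (a : A), algebraMap A' A x = algebraMap A' A f ^ t * a →
    ∃ (y : B') (b : B), φ' (Ideal.Quotient.mk _ x) = Ideal.Quotient.mk _ y ∧
      algebraMap B' B y = algebraMap B' B g ^ t * b

variable {f : A'} {g : B'} {t n : ℕ}
  {φ' : (A' ⧸ Ideal.span {f ^ n}) →+* (B' ⧸ Ideal.span {g ^ n})}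

/-- The graph of the glued map. -/
def Rel (f : A') (g : B') (t n : ℕ)
    (φ' : (A' ⧸ Ideal.span {f ^ n}) →+* (B' ⧸ Ideal.span {g ^ n}))
    (a : A) (β : B ⧸ Ideal.span {algebraMap B' B g}) : Prop :=
  ∃ (x : A') (y : B') (b : B), algebraMap A' A x = algebraMap A' A f ^ t * a ∧
    φ' (Ideal.Quotient.mk _ x) = Ideal.Quotient.mk _ y ∧
    algebraMap B' B y = algebraMap B' B g ^ t * b ∧ β = Ideal.Quotient.mk _ b

namespace Data

variable (D : Data (A := A) (B := B) f g t n φ')
include D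

theorem rel_exists (a : A) : ∃ β, Rel (A := A) (B := B) f g t n φ' a β := by
  obtain ⟨x, hx⟩ := D.hA a
  obtain ⟨y, b, h1, h2⟩ := D.hφI x a hx
  exact ⟨_, x, y, b, hx, h1, h2, rfl⟩

theorem rel_unique {a : A} {β β' : B ⧸ Ideal.span {algebraMap B' B g}}
    (h : Rel (A := A) (B := B) f g t n φ' a β) (h' : Rel (A := A) (B := B) f g t n φ' a β') :
    β = β' := by
  obtain ⟨x, y, b, hx, hy, hb, rfl⟩ := h
  obtain ⟨x', y', b', hx', hy', hb', rfl⟩ := h'
  have hxx : x = x' := D.injA (hx.trans hx'.symm)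
  subst hxx
  have h1 : Ideal.Quotient.mk (Ideal.span {g ^ n}) y = Ideal.Quotient.mk _ y' := hy.symm.trans hy'
  rw [Ideal.Quotient.eq, Ideal.mem_span_singleton] at h1
  obtain ⟨c, hc⟩ := h1
  have htn : t + 1 ≤ n := by have := D.hn; omega
  have h2 : algebraMap B' B g ^ t * (b - b' - algebraMap B' B g ^ (n - t) * algebraMap B' B c) = 0 := by
    have h3 := congrArg (algebraMap B' B) hc
    rw [map_sub, hb, hb', map_mul, map_pow] at h3
    have h4 : algebraMap B' B g ^ n = algebraMap B' B g ^ t * algebraMap B' B g ^ (n - t) := by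
      rw [← pow_add]; congr 1; omega
    rw [h4] at h3
    linear_combination h3
  have h5 : b - b' - algebraMap B' B g ^ (n - t) * algebraMap B' B c = 0 := by
    have hnz : algebraMap B' B g ^ t ∈ nonZeroDivisors B := pow_mem D.hg t
    exact (mem_nonZeroDivisors_iff_right.mp hnz) _ (by linear_combination h2)
  rw [Ideal.Quotient.eq, Ideal.mem_span_singleton]
  refine ⟨algebraMap B' B g ^ (n - t - 1) * algebraMap B' B c, ?_⟩
  have h6 : algebraMap B' B g ^ (n - t) = algebraMap B' B g * algebraMap B' B g ^ (n - t - 1) := by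
    rw [← pow_succ']; congr 1; omega
  rw [h6] at h5
  linear_combination h5

theorem rel_zero : Rel (A := A) (B := B) f g t n φ' 0 0 :=
  ⟨0, 0, 0, by simp, by simp, by simp, by simp⟩

theorem rel_one : Rel (A := A) (B := B) f g t n φ' 1 1 :=
  ⟨f ^ t, g ^ t, 1, by simp, by rw [map_pow, map_pow, D.hφf, map_pow], by simp, by simp⟩

theorem rel_add {a a' : A} {β β' : B ⧸ Ideal.span {algebraMap B' B g}}
    (h : Rel (A := A) (B := B) f g t n φ' a β) (h' : Rel (A := A) (B := B) f g t n φ' a' β') :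
    Rel (A := A) (B := B) f g t n φ' (a + a') (β + β') := by
  obtain ⟨x, y, b, hx, hy, hb, rfl⟩ := h
  obtain ⟨x', y', b', hx', hy', hb', rfl⟩ := h'
  refine ⟨x + x', y + y', b + b', ?_, ?_, ?_, ?_⟩
  · rw [map_add, hx, hx']; ring
  · rw [map_add, map_add, hy, hy', map_add]
  · rw [map_add, hb, hb']; ring
  · rw [map_add]

theorem rel_smul {a : A} {β : B ⧸ Ideal.span {algebraMap B' B g}}
    (h : Rel (A := A) (B := B) f g t n φ' a β) :
    Rel (A := A) (B := B) f g t n φ' (algebraMap A' A f * a) 0 := by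
  obtain ⟨x, y, b, hx, hy, hb, rfl⟩ := h
  refine ⟨f * x, g * y, algebraMap B' B g * b, ?_, ?_, ?_, ?_⟩
  · rw [map_mul, hx]; ring
  · rw [map_mul, map_mul, D.hφf, hy, map_mul]
  · rw [map_mul, hb]; ring
  · symm
    rw [Ideal.Quotient.eq_zero_iff_mem, Ideal.mem_span_singleton]
    exact ⟨b, rfl⟩

theorem rel_mul {a a' : A} {β β' : B ⧸ Ideal.span {algebraMap B' B g}}
    (h : Rel (A := A) (B := B) f g t n φ' a β) (h' : Rel (A := A) (B := B) f g t n φ' a' β') :
    Rel (A := A) (B := B) f g t n φ' (a * a') (β * β') := by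
  obtain ⟨x, y, b, hx, hy, hb, rfl⟩ := h
  obtain ⟨x', y', b', hx', hy', hb', rfl⟩ := h'
  obtain ⟨x₂, hx₂⟩ := D.hA (a * a')
  obtain ⟨y₂, b₂, hy₂, hb₂⟩ := D.hφI x₂ _ hx₂
  refine ⟨x₂, y₂, b₂, hx₂, hy₂, hb₂, ?_⟩
  -- `x x' = f^t x₂`
  have e1 : x * x' = f ^ t * x₂ := by
    apply D.injA
    rw [map_mul, map_mul, map_pow, hx, hx', hx₂]; ring
  have e2 : Ideal.Quotient.mk (Ideal.span {g ^ n}) (y * y') =
      Ideal.Quotient.mk _ (g ^ t * y₂) := by
    calc Ideal.Quotient.mk (Ideal.span {g ^ n}) (y * y')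
        = Ideal.Quotient.mk _ y * Ideal.Quotient.mk _ y' := map_mul _ _ _
      _ = φ' (Ideal.Quotient.mk _ x) * φ' (Ideal.Quotient.mk _ x') := by rw [hy, hy']
      _ = φ' (Ideal.Quotient.mk _ (x * x')) := by rw [map_mul, map_mul]
      _ = φ' (Ideal.Quotient.mk _ (f ^ t * x₂)) := by rw [e1]
      _ = (φ' (Ideal.Quotient.mk _ f)) ^ t * φ' (Ideal.Quotient.mk _ x₂) := by
          rw [map_mul, map_mul, map_pow, map_pow]
      _ = Ideal.Quotient.mk _ (g ^ t * y₂) := by rw [D.hφf, hy₂, map_mul, map_pow]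
  rw [Ideal.Quotient.eq, Ideal.mem_span_singleton] at e2
  obtain ⟨c, hc⟩ := e2
  have h2t : 2 * t + 1 ≤ n := D.hn
  have e3 : algebraMap B' B g ^ (2 * t) *
      (b * b' - b₂ - algebraMap B' B g ^ (n - 2 * t) * algebraMap B' B c) = 0 := by
    have h3 := congrArg (algebraMap B' B) hc
    rw [map_sub, map_mul, map_mul, hb, hb', hb₂, map_mul, map_pow, map_pow] at h3
    have h4 : algebraMap B' B g ^ n =
        algebraMap B' B g ^ (2 * t) * algebraMap B' B g ^ (n - 2 * t) := by
      rw [← pow_add]; congr 1; omega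
    rw [h4] at h3
    have h5 : algebraMap B' B g ^ (2 * t) = algebraMap B' B g ^ t * algebraMap B' B g ^ t := by
      rw [← pow_add]; congr 1; omega
    rw [h5] at h3 ⊢
    linear_combination h3
  have e4 : b * b' - b₂ - algebraMap B' B g ^ (n - 2 * t) * algebraMap B' B c = 0 := by
    have hnz : algebraMap B' B g ^ (2 * t) ∈ nonZeroDivisors B := pow_mem D.hg _
    exact (mem_nonZeroDivisors_iff_right.mp hnz) _ (by linear_combination e3)
  rw [← map_mul, Ideal.Quotient.eq, Ideal.mem_span_singleton]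
  refine ⟨algebraMap B' B g ^ (n - 2 * t - 1) * algebraMap B' B c, ?_⟩
  have h6 : algebraMap B' B g ^ (n - 2 * t) =
      algebraMap B' B g * algebraMap B' B g ^ (n - 2 * t - 1) := by
    rw [← pow_succ']; congr 1; omega
  rw [h6] at e4
  linear_combination e4

/-- The glued map on `A`. -/
noncomputable def psi : A →+* B ⧸ Ideal.span {algebraMap B' B g} where
  toFun a := (D.rel_exists a).choose
  map_one' := D.rel_unique (D.rel_exists 1).choose_spec D.rel_one
  map_mul' a a' := D.rel_unique (D.rel_exists (a * a')).choose_spec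
    (D.rel_mul (D.rel_exists a).choose_spec (D.rel_exists a').choose_spec)
  map_zero' := D.rel_unique (D.rel_exists 0).choose_spec D.rel_zero
  map_add' a a' := D.rel_unique (D.rel_exists (a + a')).choose_spec
    (D.rel_add (D.rel_exists a).choose_spec (D.rel_exists a').choose_spec)

theorem psi_spec (a : A) : Rel (A := A) (B := B) f g t n φ' a (D.psi a) :=
  (D.rel_exists a).choose_spec

/-- The glued map `A/f → B/g`. -/
noncomputable def phi :
    (A ⧸ Ideal.span {algebraMap A' A f}) →+* (B ⧸ Ideal.span {algebraMap B' B g}) :=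
  Ideal.Quotient.lift _ D.psi (by
    intro a ha
    rw [Ideal.mem_span_singleton] at ha
    obtain ⟨c, rfl⟩ := ha
    exact D.rel_unique (D.psi_spec _) (D.rel_smul (D.psi_spec c)))

theorem phi_spec {a : A} {β : B ⧸ Ideal.span {algebraMap B' B g}}
    (h : Rel (A := A) (B := B) f g t n φ' a β) : D.phi (Ideal.Quotient.mk _ a) = β := by
  change D.psi a = β
  exact D.rel_unique (D.psi_spec a) h

end Data

end construction

end Groth.Agent.Lib.Helper9.GlueFin
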