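import Mathlib
import Groth.Agent.Lib.Helper9.GlueFin

set_option autoImplicit false
set_option linter.unusedSectionVars false
universe u

namespace Groth.Agent.Lib.Helper9.GlueFin

section step1

variable (A' A : Type u) [CommRing A'] [CommRing A] [Algebra A' A]

theorem exists_pow_mul_mem [Module.Finite A' A]
    (f : A') (hf : algebraMap A' A f ∈ nonZeroDivisors A)
    (hloc : Function.Bijective (IsLocalization.Away.map (Localization.Away f)
      (Localization.Away (algebraMap A' A f)) (algebraMap A' A) f)) :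
    ∃ t : ℕ, ∀ a : A, ∃ x : A', algebraMap A' A x = algebraMap A' A f ^ t * a := by
  classical
  have key : ∀ a : A, ∃ k : ℕ, ∃ x : A', algebraMap A' A x = algebraMap A' A f ^ k * a := by
    intro a
    obtain ⟨w, hw⟩ := hloc.2 (algebraMap A (Localization.Away (algebraMap A' A f)) a)
    obtain ⟨x', ⟨_, k, rfl⟩, rfl⟩ := IsLocalization.exists_mk'_eq (Submonoid.powers f) w
    rw [IsLocalization.Away.map, IsLocalization.map_mk', IsLocalization.mk'_eq_iff_eq_mul,
      ← map_mul, IsLocalization.eq_iff_exists (Submonoid.powers (algebraMap A' A f))] at hw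
    obtain ⟨⟨_, m, rfl⟩, hm⟩ := hw
    refine ⟨k, x', ?_⟩
    have hnz : algebraMap A' A f ^ m ∈ nonZeroDivisors A := pow_mem hf m
    simp only [map_pow] at hm
    have h0 : (algebraMap A' A x' - algebraMap A' A f ^ k * a) * algebraMap A' A f ^ m = 0 := by
      linear_combination hm
    have := (mem_nonZeroDivisors_iff_right.mp hnz) _ h0
    exact sub_eq_zero.mp this
  have mono : ∀ (a : A) (k l : ℕ), k ≤ l →
      (∃ x : A', algebraMap A' A x = algebraMap A' A f ^ k * a) →
      ∃ x : A', algebraMap A' A x = algebraMap A' A f ^ l * a := by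
    rintro a k l hkl ⟨x, hx⟩
    refine ⟨f ^ (l - k) * x, ?_⟩
    rw [map_mul, map_pow, hx, ← mul_assoc, ← pow_add]
    congr 2
    omega
  obtain ⟨S, hS⟩ := (Module.Finite.fg_top : (⊤ : Submodule A' A).FG)
  choose kf hkf using key
  refine ⟨S.sup kf, ?_⟩
  intro a
  have ha : a ∈ Submodule.span A' (S : Set A) := by rw [hS]; trivial
  induction ha using Submodule.span_induction with
  | mem s hs => exact mono s (kf s) _ (Finset.le_sup hs) (hkf s)
  | zero => exact ⟨0, by simp⟩
  | add a b _ _ iha ihb =>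
    obtain ⟨x, hx⟩ := iha
    obtain ⟨y, hy⟩ := ihb
    exact ⟨x + y, by rw [map_add, hx, hy]; ring⟩
  | smul r a _ iha =>
    obtain ⟨x, hx⟩ := iha
    exact ⟨r * x, by rw [map_mul, hx, Algebra.smul_def]; ring⟩

end step1

section main

variable (A' A : Type u) [CommRing A'] [CommRing A] [Algebra A' A]

set_option maxHeartbeats 800000 in
theorem main (hinj : Function.Injective (algebraMap A' A)) [Module.Finite A' A] (f : A')
    (hf : algebraMap A' A f ∈ nonZeroDivisors A)
    (hloc : Function.Bijective (IsLocalization.Away.map (Localization.Away f)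
      (Localization.Away (algebraMap A' A f)) (algebraMap A' A) f)) :
    ∃ n₀ : ℕ, 0 < n₀ ∧ ∀ n : ℕ, n₀ ≤ n →
      ∀ (B' : Type u) [CommRing B'] (g : B'), g ∈ nonZeroDivisors B' →
        ∀ φ' : (A' ⧸ Ideal.span {f ^ n}) ≃+* (B' ⧸ Ideal.span {g ^ n}),
        φ' (Ideal.Quotient.mk (Ideal.span {f ^ n}) f) = Ideal.Quotient.mk (Ideal.span {g ^ n}) g →
        ∃ (B : Type u) (_ : CommRing B) (_ : Algebra B' B),
          Function.Injective (algebraMap B' B) ∧ Module.Finite B' B ∧
          ∃ φ : (A ⧸ Ideal.span {algebraMap A' A f}) ≃+* (B ⧸ Ideal.span {algebraMap B' B g}),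
            ∀ (a' : A') (b' : B'),
              φ' (Ideal.Quotient.mk (Ideal.span {f ^ n}) a') = Ideal.Quotient.mk (Ideal.span {g ^ n}) b' →
              φ (Ideal.Quotient.mk (Ideal.span {algebraMap A' A f}) (algebraMap A' A a')) =
                Ideal.Quotient.mk (Ideal.span {algebraMap B' B g}) (algebraMap B' B b') := by
  classical
  obtain ⟨t, ht⟩ := exists_pow_mul_mem A' A f hf hloc
  refine ⟨2 * t + 1, by omega, ?_⟩
  intro n hn B' _ g hg φ' hφ'
  -- the ideal `I = f^t A ∩ A'`
  set I : Ideal A' := (Ideal.span {algebraMap A' A f ^ t}).comap (algebraMap A' A) with hI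
  have memI : ∀ x : A', x ∈ I ↔ ∃ a : A, algebraMap A' A x = algebraMap A' A f ^ t * a := by
    intro x
    rw [hI, Ideal.mem_comap, Ideal.mem_span_singleton]
    exact Iff.rfl
  -- the ideal `J`
  set mkA := Ideal.Quotient.mk (Ideal.span {f ^ n}) with hmkA
  set mkB := Ideal.Quotient.mk (Ideal.span {g ^ n}) with hmkB
  have hmkAs : Function.Surjective mkA := Ideal.Quotient.mk_surjective
  have hmkBs : Function.Surjective mkB := Ideal.Quotient.mk_surjective
  set J : Ideal B' := ((I.map mkA).map φ'.toRingHom).comap mkB with hJ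
  have memJ : ∀ y : B', y ∈ J ↔ ∃ x ∈ I, φ' (mkA x) = mkB y := by
    intro y
    rw [hJ, Ideal.mem_comap, Ideal.mem_map_iff_of_surjective φ'.toRingHom φ'.surjective]
    constructor
    · rintro ⟨z, hz, hzy⟩
      rw [Ideal.mem_map_iff_of_surjective mkA hmkAs] at hz
      obtain ⟨x, hx, rfl⟩ := hz
      exact ⟨x, hx, hzy⟩
    · rintro ⟨x, hx, hxy⟩
      exact ⟨mkA x, Ideal.mem_map_of_mem _ hx, hxy⟩
  have hftI : f ^ t ∈ I := (memI _).mpr ⟨1, by rw [map_pow, mul_one]⟩
  have hφpow : ∀ k : ℕ, φ' (mkA (f ^ k)) = mkB (g ^ k) := by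
    intro k
    rw [map_pow, map_pow, hφ', map_pow]
  have hgtJ : g ^ t ∈ J := (memJ _).mpr ⟨f ^ t, hftI, hφpow t⟩
  have hgnJ : ∀ c : B', g ^ (n - t) * c ∈ J := by
    intro c
    have : g ^ (n - t) * c = g ^ t * (g ^ (n - 2 * t) * c) := by
      rw [← mul_assoc, ← pow_add]; congr 2; omega
    rw [this]
    exact J.mul_mem_right _ hgtJ
  -- `J J ⊆ g^t J`
  have hJJ : ∀ j₁ ∈ J, ∀ j₂ ∈ J, ∃ j₃ ∈ J, j₁ * j₂ = g ^ t * j₃ := by
    intro j₁ h₁ j₂ h₂
    obtain ⟨x₁, hx₁, e₁⟩ := (memJ _).mp h₁
    obtain ⟨x₂, hx₂, e₂⟩ := (memJ _).mp h₂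
    obtain ⟨a₁, ha₁⟩ := (memI _).mp hx₁
    obtain ⟨a₂, ha₂⟩ := (memI _).mp hx₂
    obtain ⟨x₃, hx₃⟩ := ht (a₁ * a₂)
    have hx₃I : x₃ ∈ I := (memI _).mpr ⟨_, hx₃⟩
    have e1 : x₁ * x₂ = f ^ t * x₃ := by
      apply hinj
      rw [map_mul, map_mul, map_pow, ha₁, ha₂, hx₃]; ring
    obtain ⟨j₃', hj₃'⟩ := hmkBs (φ' (mkA x₃))
    have hj₃'J : j₃' ∈ J := (memJ _).mpr ⟨x₃, hx₃I, hj₃'.symm⟩
    have e2 : mkB (j₁ * j₂) = mkB (g ^ t * j₃') := by
      rw [map_mul, ← e₁, ← e₂, ← map_mul, ← map_mul, e1, map_mul, map_mul, hφpow, map_mul, hj₃']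
    rw [Ideal.Quotient.eq, Ideal.mem_span_singleton] at e2
    obtain ⟨c, hc⟩ := e2
    refine ⟨j₃' + g ^ (n - t) * c, J.add_mem hj₃'J (hgnJ c), ?_⟩
    have : g ^ n = g ^ t * g ^ (n - t) := by rw [← pow_add]; congr 1; omega
    rw [this] at hc
    linear_combination hc
  -- the ring `B ⊆ B'_g`
  set L := Localization.Away g with hL
  have hLinj : Function.Injective (algebraMap B' L) :=
    IsLocalization.injective L (Submonoid.powers_le.mpr hg)
  have hgu : IsUnit (algebraMap B' L g) := IsLocalization.Away.algebraMap_isUnit g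
  have hgtu : IsUnit (algebraMap B' L g ^ t) := hgu.pow t
  let Bsub : Subalgebra B' L :=
    { carrier := {z | ∃ j ∈ J, algebraMap B' L g ^ t * z = algebraMap B' L j}
      mul_mem' := by
        rintro z w ⟨j₁, h₁, e₁⟩ ⟨j₂, h₂, e₂⟩
        obtain ⟨j₃, h₃, e₃⟩ := hJJ j₁ h₁ j₂ h₂
        refine ⟨j₃, h₃, ?_⟩
        apply hgtu.mul_left_cancel
        have := congrArg (algebraMap B' L) e₃
        rw [map_mul, map_mul, map_pow, ← e₁, ← e₂] at this
        linear_combination this
      add_mem' := by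
        rintro z w ⟨j₁, h₁, e₁⟩ ⟨j₂, h₂, e₂⟩
        exact ⟨j₁ + j₂, J.add_mem h₁ h₂, by rw [mul_add, e₁, e₂, map_add]⟩
      algebraMap_mem' := by
        intro r
        exact ⟨g ^ t * r, J.mul_mem_right _ hgtJ, by rw [map_mul, map_pow]⟩ }
  have memB : ∀ z : L, z ∈ Bsub ↔ ∃ j ∈ J, algebraMap B' L g ^ t * z = algebraMap B' L j :=
    fun z => Iff.rfl
  have halgB : ∀ r : B', ((algebraMap B' Bsub r : Bsub) : L) = algebraMap B' L r := fun r => rfl
  have hBinj : Function.Injective (algebraMap B' Bsub) := by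
    intro r s hrs
    apply hLinj
    rw [← halgB, ← halgB, hrs]
  -- nonzerodivisor
  have hgB : algebraMap B' Bsub g ∈ nonZeroDivisors Bsub := by
    rw [mem_nonZeroDivisors_iff_right]
    intro z hz
    apply Subtype.ext
    have := congrArg (Subtype.val) hz
    rw [Subalgebra.coe_mul, halgB, Subalgebra.coe_zero] at this
    exact (hgu.mul_left_eq_zero).mp this
  refine ⟨Bsub, inferInstance, inferInstance, hBinj, ?_, ?_⟩
  · -- finiteness
    have hIfg : I.FG := by
      apply Submodule.fg_of_fg_map_injective (Algebra.linearMap A' A) hinj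
      have : Submodule.map (Algebra.linearMap A' A) I =
          Submodule.map (LinearMap.lsmul A' A (f ^ t)) ⊤ := by
        ext z
        constructor
        · rintro ⟨x, hx, rfl⟩
          obtain ⟨a, ha⟩ := (memI x).mp hx
          refine ⟨a, trivial, ?_⟩
          rw [LinearMap.lsmul_apply, Algebra.smul_def, map_pow]
          exact ha.symm
        · rintro ⟨a, -, rfl⟩
          obtain ⟨x, hx⟩ := ht a
          refine ⟨x, (memI x).mpr ⟨a, hx⟩, ?_⟩
          rw [LinearMap.lsmul_apply, Algebra.smul_def, map_pow]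
          exact hx
      rw [this]
      exact (Module.Finite.fg_top).map _
    have hJbar : ((I.map mkA).map φ'.toRingHom).FG := (hIfg.map mkA).map _
    have hJfg : J.FG := by
      apply Ideal.fg_of_fg_map_of_fg_inf_ker_of_surjective (f := mkB) _ _ hmkBs
      · rw [hJ, Ideal.map_comap_of_surjective mkB hmkBs]
        exact hJbar
      · have hker : RingHom.ker mkB ≤ J := by
          rw [hJ]
          exact Ideal.comap_mono bot_le
        rw [inf_eq_right.mpr hker, hmkB, Ideal.mk_ker]
        exact ⟨{g ^ n}, by simp⟩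
    let ℓ : B' →ₗ[B'] L :=
      (LinearMap.lsmul B' L (1 : B')).comp
        ((LinearMap.mulLeft B' ((hgtu.unit⁻¹ : Lˣ) : L)).comp (Algebra.linearMap B' L))
    have hℓ : ∀ r : B', ℓ r = ((hgtu.unit⁻¹ : Lˣ) : L) * algebraMap B' L r := by
      intro r
      simp [ℓ]
    have hsub : Subalgebra.toSubmodule Bsub = Submodule.map ℓ J := by
      ext z
      rw [Subalgebra.mem_toSubmodule, memB, Submodule.mem_map]
      constructor
      · rintro ⟨j, hj, e⟩
        refine ⟨j, hj, ?_⟩
        rw [hℓ, ← e, ← mul_assoc]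
        have : ((hgtu.unit⁻¹ : Lˣ) : L) * algebraMap B' L g ^ t = 1 := by
          have := hgtu.unit.inv_mul
          simp
        rw [this, one_mul]
      · rintro ⟨j, hj, rfl⟩
        refine ⟨j, hj, ?_⟩
        rw [hℓ, ← mul_assoc]
        have : algebraMap B' L g ^ t * ((hgtu.unit⁻¹ : Lˣ) : L) = 1 := by
          have := hgtu.unit.mul_inv
          simp
        rw [this, one_mul]
    have hfg : (Subalgebra.toSubmodule Bsub).FG := by
      rw [hsub]
      exact Submodule.FG.map ℓ hJfg
    exact Module.Finite.iff_fg.mpr hfg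
  · -- the isomorphism
    have D1 : Data (A := A) (B := Bsub) f g t n φ'.toRingHom :=
      { injA := hinj
        hg := hgB
        hA := ht
        hn := hn
        hφf := hφ'
        hφI := by
          intro x a hxa
          obtain ⟨y, hy⟩ := hmkBs (φ' (mkA x))
          have hyJ : y ∈ J := (memJ y).mpr ⟨x, (memI x).mpr ⟨a, hxa⟩, hy.symm⟩
          refine ⟨y, ⟨((hgtu.unit⁻¹ : Lˣ) : L) * algebraMap B' L y, ?_⟩, hy.symm, ?_⟩
          · refine ⟨y, hyJ, ?_⟩
            rw [← mul_assoc]
            have : algebraMap B' L g ^ t * ((hgtu.unit⁻¹ : Lˣ) : L) = 1 := by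
              have := hgtu.unit.mul_inv
              simp
            rw [this, one_mul]
          · apply Subtype.ext
            rw [Subalgebra.coe_mul, Subalgebra.coe_pow, halgB, halgB, ← mul_assoc]
            have : algebraMap B' L g ^ t * ((hgtu.unit⁻¹ : Lˣ) : L) = 1 := by
              have := hgtu.unit.mul_inv
              simp
            rw [this, one_mul] }
    have D2 : Data (A := Bsub) (B := A) g f t n φ'.symm.toRingHom :=
      { injA := hBinj
        hg := hf
        hA := by
          rintro ⟨z, j, hj, e⟩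
          refine ⟨j, ?_⟩
          apply Subtype.ext
          rw [Subalgebra.coe_mul, Subalgebra.coe_pow, halgB, halgB]
          exact e.symm
        hn := hn
        hφf := by
          change φ'.symm (mkB g) = mkA f
          rw [← hφ', RingEquiv.symm_apply_apply]
        hφI := by
          rintro y ⟨z, j, hj, e⟩ hyb
          have hyj : y = j := by
            apply hLinj
            have := congrArg Subtype.val hyb
            rw [Subalgebra.coe_mul, Subalgebra.coe_pow, halgB, halgB] at this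
            rw [this]
            exact e
          subst hyj
          obtain ⟨x, hx, hxy⟩ := (memJ y).mp hj
          obtain ⟨a, ha⟩ := (memI x).mp hx
          refine ⟨x, a, ?_, ha⟩
          change φ'.symm (mkB y) = mkA x
          rw [← hxy, RingEquiv.symm_apply_apply] }
    have h12 : D2.phi.comp D1.phi = RingHom.id _ := by
      apply Ideal.Quotient.ringHom_ext
      ext a
      obtain ⟨x, y, b, hx, hy, hb, hβ⟩ := D1.psi_spec a
      have e1 : D1.phi (Ideal.Quotient.mk _ a) = Ideal.Quotient.mk _ b := hβ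
      have e2 : D2.phi (Ideal.Quotient.mk _ b) = Ideal.Quotient.mk _ a := by
        apply D2.phi_spec
        refine ⟨y, x, a, hb, ?_, hx, rfl⟩
        change φ'.symm (mkB y) = mkA x
        rw [← hy]
        exact RingEquiv.symm_apply_apply _ _
      simp only [RingHom.comp_apply, RingHom.id_apply]
      rw [e1, e2]
    have h21 : D1.phi.comp D2.phi = RingHom.id _ := by
      apply Ideal.Quotient.ringHom_ext
      ext b
      obtain ⟨y, x, a, hy, hx, ha, hβ⟩ := D2.psi_spec b
      have e1 : D2.phi (Ideal.Quotient.mk _ b) = Ideal.Quotient.mk _ a := hβ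
      have e2 : D1.phi (Ideal.Quotient.mk _ a) = Ideal.Quotient.mk _ b := by
        apply D1.phi_spec
        refine ⟨x, y, b, ha, ?_, hy, rfl⟩
        change φ' (mkA x) = mkB y
        have : φ'.symm (mkB y) = mkA x := hx
        rw [← this, RingEquiv.apply_symm_apply]
      simp only [RingHom.comp_apply, RingHom.id_apply]
      rw [e1, e2]
    refine ⟨RingEquiv.ofRingHom D1.phi D2.phi h21 h12, ?_⟩
    intro a' b' hab
    rw [RingEquiv.ofRingHom_apply]
    apply D1.phi_spec
    refine ⟨f ^ t * a', g ^ t * b', algebraMap B' Bsub b', ?_, ?_, ?_, rfl⟩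
    · rw [map_mul, map_pow]
    · change φ' (mkA (f ^ t * a')) = mkB (g ^ t * b')
      rw [map_mul, map_mul, hφpow, hab, map_mul]
    · rw [map_mul, map_pow]

end main

end Groth.Agent.Lib.Helper9.GlueFin
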