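import Groth.Agent.Lib.Helper25.MatlisFlat
import Groth.Agent.Lib.Helper25.MatlisEnd
import Groth.Agent.Lib.Helper16.GorArt
import Groth.Agent.Lib.Helper16.GorQuot

set_option autoImplicit false
universe u

namespace Groth.Agent.Lib.Helper9.GorHullBC

open InjHull IsLocalRing TensorProduct Groth.Agent.Lib.Helper25

variable {A : Type u} [CommRing A] [IsLocalRing A] [IsNoetherianRing A]
  {B : Type u} [CommRing B] [IsLocalRing B] [IsNoetherianRing B] [Algebra A B]

local notation "IB" => Ideal.map (algebraMap A B) (maximalIdeal A)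

omit [IsNoetherianRing A] [IsNoetherianRing B] in
theorem map_le [IsLocalRing (B ⧸ IB)] : IB ≤ maximalIdeal B := by
  apply IsLocalRing.le_maximalIdeal
  intro h
  have : Nontrivial (B ⧸ IB) := inferInstance
  exact (Ideal.Quotient.nontrivial_iff.mp this) h

omit [IsNoetherianRing A] [IsNoetherianRing B] in
theorem isLocalHom [IsLocalRing (B ⧸ IB)] : IsLocalHom (algebraMap A B) :=
  ((IsLocalRing.local_hom_TFAE (algebraMap A B)).out 0 2).mpr map_le

omit [IsNoetherianRing A] in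
theorem exists_pow_le [IsLocalRing (B ⧸ IB)] [IsArtinianRing (B ⧸ IB)] :
    ∃ N : ℕ, maximalIdeal B ^ N ≤ IB := by
  have hnil : IsNilpotent (maximalIdeal (B ⧸ IB)) := by
    have := IsArtinianRing.isNilpotent_jacobson_bot (R := B ⧸ IB)
    rwa [IsLocalRing.jacobson_eq_maximalIdeal ⊥ bot_ne_top] at this
  obtain ⟨N, hN⟩ := hnil
  refine ⟨N, fun x hx => ?_⟩
  have h1 : (maximalIdeal B).map (Ideal.Quotient.mk IB) ≤ maximalIdeal (B ⧸ IB) := by
    rw [Ideal.map_le_iff_le_comap]
    intro y hy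
    rw [Ideal.mem_comap]
    exact (Groth.Agent.Lib.Helper16.GorQuot.mk_mem_maximalIdeal_iff IB y).mpr hy
  have h2 : Ideal.Quotient.mk IB x ∈ maximalIdeal (B ⧸ IB) ^ N := by
    apply Ideal.pow_right_mono h1 N
    rw [← Ideal.map_pow]
    exact Ideal.mem_map_of_mem _ hx
  rw [hN] at h2
  exact Ideal.Quotient.eq_zero_iff_mem.mp h2

variable [Module.Flat A B] {E : Type u} [AddCommGroup E] [Module A E]

omit [IsNoetherianRing A] [IsNoetherianRing B] [Module.Flat A B] in
theorem isPowerTorsion_tensor (N : ℕ) (hN : maximalIdeal B ^ N ≤ IB)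
    (hE : LocCoh.IsPowerTorsion (maximalIdeal A) E) :
    LocCoh.IsPowerTorsion (maximalIdeal B) (B ⊗[A] E) := by
  have hmem : ∀ (n : ℕ) (t : B ⊗[A] E), (∀ a ∈ maximalIdeal A ^ n, a • t = 0) →
      ∀ c ∈ maximalIdeal B ^ (N * n), c • t = 0 := by
    intro n t h c hc
    have := (mem_torsionBy_map_iff (maximalIdeal A ^ n) t).2 h
    rw [Ideal.map_pow, Submodule.mem_torsionBySet_iff] at this
    have hc' : c ∈ IB ^ n := by
      rw [pow_mul] at hc
      exact Ideal.pow_right_mono hN n hc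
    exact this ⟨c, hc'⟩
  intro t
  induction t using TensorProduct.induction_on with
  | zero => exact ⟨0, fun a _ => smul_zero a⟩
  | tmul b e =>
    obtain ⟨n, hn⟩ := hE e
    refine ⟨N * n, hmem n _ fun a ha => ?_⟩
    rw [← TensorProduct.tmul_smul, hn a ha, tmul_zero]
  | add t t' ht ht' =>
    obtain ⟨n, hn⟩ := ht
    obtain ⟨n', hn'⟩ := ht'
    refine ⟨max n n', fun c hc => ?_⟩
    rw [smul_add, hn c (Ideal.pow_le_pow_right (le_max_left _ _) hc),
      hn' c (Ideal.pow_le_pow_right (le_max_right _ _) hc), add_zero]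

variable (f : ResidueField A →ₗ[A] E) (hf : IsInjectiveHull f)

omit [IsNoetherianRing B] in
include hf in
theorem length_torsionBy_tensor [IsLocalHom (algebraMap A B)] (n : ℕ) :
    Module.length B (LocCoh.torsionBy ((maximalIdeal A ^ n).map (algebraMap A B)) (B ⊗[A] E)) =
      Module.length B (B ⧸ (maximalIdeal A ^ n).map (algebraMap A B)) := by
  rw [← range_lTensor_torsionBy _ (IsNoetherian.noetherian _),
    ← (LinearEquiv.ofInjective _ (lTensor_torsionBy_injective (B := B) (E := E)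
      (maximalIdeal A ^ n))).length_eq,
    IsLocalRing.length_baseChange,
    (Algebra.TensorProduct.quotIdealMapEquivTensorQuot B
      (maximalIdeal A ^ n)).toLinearEquiv.length_eq,
    IsLocalRing.length_baseChange,
    ← (homQuotEquivTorsion (maximalIdeal A ^ n) E).length_eq,
    length_hom_eq_length f hf (isFiniteLength_quotient_pow n)]

/-- the element `τ = 1 ⊗ f 1` -/
noncomputable def tau : B ⊗[A] E := (1 : B) ⊗ₜ[A] f 1

omit [IsLocalRing B] [IsNoetherianRing A] [IsNoetherianRing B] [Module.Flat A B] in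
theorem smul_tau_eq_zero {c : B} (hc : c ∈ IB) : c • tau (B := B) f = 0 := by
  have h : tau (B := B) f ∈ LocCoh.torsionBy IB (B ⊗[A] E) := by
    rw [mem_torsionBy_map_iff]
    intro a ha
    rw [tau, ← TensorProduct.tmul_smul, ← map_smul, smul_residueField_eq_zero ha, map_zero,
      tmul_zero]
  exact (Submodule.mem_torsionBySet_iff _ _).1 h ⟨c, hc⟩

omit [IsLocalRing B] [IsNoetherianRing A] [IsNoetherianRing B] in
theorem mem_of_smul_tau_eq_zero (hinj : Function.Injective f) {b : B}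
    (h : b • tau (B := B) f = 0) : b ∈ IB := by
  have h1 : (AlgebraTensorModule.lTensor B B f) (b ⊗ₜ[A] (1 : ResidueField A)) = 0 := by
    rw [AlgebraTensorModule.lTensor_tmul, ← h, tau, TensorProduct.smul_tmul', smul_eq_mul, mul_one]
  have h2 : b ⊗ₜ[A] (1 : ResidueField A) = 0 := by
    have hinj' : Function.Injective (AlgebraTensorModule.lTensor B B f) :=
      Module.Flat.lTensor_preserves_injective_linearMap _ hinj
    exact hinj' (by rw [h1, map_zero])
  have h3 : (Algebra.TensorProduct.quotIdealMapEquivTensorQuot B (maximalIdeal A))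
      (Ideal.Quotient.mk _ b) = b ⊗ₜ[A] (1 : A ⧸ maximalIdeal A) :=
    Algebra.TensorProduct.quotIdealMapEquivTensorQuot_mk _ _ b
  have h4 : (Ideal.Quotient.mk IB) b = 0 := by
    apply (Algebra.TensorProduct.quotIdealMapEquivTensorQuot B (maximalIdeal A)).injective
    rw [h3, map_zero]
    exact h2
  exact Ideal.Quotient.eq_zero_iff_mem.mp h4

omit [IsLocalRing B] [IsNoetherianRing B] in
theorem exists_smul_tau (hess : IsEssentialInj f) (t : B ⊗[A] E)
    (ht : t ∈ LocCoh.torsionBy IB (B ⊗[A] E)) : ∃ b : B, t = b • tau (B := B) f := by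
  rw [← range_lTensor_torsionBy _ (IsNoetherian.noetherian _)] at ht
  obtain ⟨s, rfl⟩ := ht
  induction s using TensorProduct.induction_on with
  | zero => exact ⟨0, by rw [map_zero, zero_smul]⟩
  | tmul b e =>
    obtain ⟨e, he⟩ := e
    rw [torsionBy_maximalIdeal_eq_range f hess] at he
    obtain ⟨k, rfl⟩ := he
    obtain ⟨a, rfl⟩ := IsLocalRing.residue_surjective k
    refine ⟨algebraMap A B a * b, ?_⟩
    rw [AlgebraTensorModule.lTensor_tmul, Submodule.subtype_apply, tau, mul_smul,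
      TensorProduct.smul_tmul', smul_eq_mul, mul_one, algebraMap_smul,
      ← TensorProduct.tmul_smul, ← map_smul]
    congr 2
    rw [Algebra.smul_def, mul_one]
    rfl
  | add s s' hs hs' =>
    obtain ⟨b, hb⟩ := hs
    obtain ⟨b', hb'⟩ := hs'
    exact ⟨b + b', by rw [map_add, hb, hb', add_smul]⟩

theorem isSimpleModule_socle [IsLocalRing (B ⧸ IB)]
    (hsoc : Module.length (B ⧸ IB) (LocCoh.torsionBy (maximalIdeal (B ⧸ IB)) (B ⧸ IB)) = 1)
    (hess : IsEssentialInj f) :
    IsSimpleModule B (LocCoh.torsionBy (maximalIdeal B) (B ⊗[A] E)) := by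
  have hsimp : IsSimpleModule (B ⧸ IB) (LocCoh.torsionBy (maximalIdeal (B ⧸ IB)) (B ⧸ IB)) :=
    Module.length_eq_one_iff.1 hsoc
  rw [isSimpleModule_iff_toSpanSingleton_surjective] at hsimp ⊢
  obtain ⟨hnt, hsurj⟩ := hsimp
  have hle : IB ≤ maximalIdeal B := map_le
  -- description of elements of the socle of `B ⊗ E`
  have key1 : ∀ t : B ⊗[A] E, t ∈ LocCoh.torsionBy (maximalIdeal B) (B ⊗[A] E) →
      ∃ b : B, t = b • tau (B := B) f ∧
        Ideal.Quotient.mk IB b ∈ LocCoh.torsionBy (maximalIdeal (B ⧸ IB)) (B ⧸ IB) := by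
    intro t ht
    have ht' : t ∈ LocCoh.torsionBy IB (B ⊗[A] E) := by
      rw [Submodule.mem_torsionBySet_iff] at ht ⊢
      rintro ⟨c, hc⟩
      exact ht ⟨c, hle hc⟩
    obtain ⟨b, rfl⟩ := exists_smul_tau f hess t ht'
    refine ⟨b, rfl, ?_⟩
    rw [Submodule.mem_torsionBySet_iff]
    rintro ⟨φ, hφ⟩
    obtain ⟨c, rfl⟩ := Ideal.Quotient.mk_surjective φ
    have hc : c ∈ maximalIdeal B :=
      (Groth.Agent.Lib.Helper16.GorQuot.mk_mem_maximalIdeal_iff IB c).1 hφ
    change Ideal.Quotient.mk IB c • Ideal.Quotient.mk IB b = 0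
    rw [smul_eq_mul, ← map_mul, Ideal.Quotient.eq_zero_iff_mem]
    apply mem_of_smul_tau_eq_zero f hess.injective
    rw [mul_smul]
    exact (Submodule.mem_torsionBySet_iff _ _).1 ht ⟨c, hc⟩
  have key2 : ∀ b : B, Ideal.Quotient.mk IB b ∈
      LocCoh.torsionBy (maximalIdeal (B ⧸ IB)) (B ⧸ IB) →
      b • tau (B := B) f ∈ LocCoh.torsionBy (maximalIdeal B) (B ⊗[A] E) := by
    intro b hb
    rw [Submodule.mem_torsionBySet_iff]
    rintro ⟨c, hc⟩
    change c • b • tau (B := B) f = 0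
    rw [← mul_smul]
    apply smul_tau_eq_zero
    rw [← Ideal.Quotient.eq_zero_iff_mem, map_mul]
    exact (Submodule.mem_torsionBySet_iff _ _).1 hb
      ⟨_, (Groth.Agent.Lib.Helper16.GorQuot.mk_mem_maximalIdeal_iff IB c).2 hc⟩
  refine ⟨?_, ?_⟩
  · obtain ⟨⟨σ, hσ⟩, hσ0⟩ := exists_ne (0 : LocCoh.torsionBy (maximalIdeal (B ⧸ IB)) (B ⧸ IB))
    obtain ⟨s₀, rfl⟩ := Ideal.Quotient.mk_surjective σ
    refine ⟨⟨⟨s₀ • tau (B := B) f, key2 s₀ hσ⟩, 0, ?_⟩⟩
    intro h
    apply hσ0
    have h0 : s₀ • tau (B := B) f = 0 := congrArg Subtype.val h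
    have := mem_of_smul_tau_eq_zero f hess.injective h0
    exact Subtype.ext (Ideal.Quotient.eq_zero_iff_mem.2 this)
  · rintro ⟨x, hx⟩ hx0 ⟨y, hy⟩
    obtain ⟨b, rfl, hb⟩ := key1 x hx
    obtain ⟨b', rfl, hb'⟩ := key1 y hy
    have hb0 : (⟨Ideal.Quotient.mk IB b, hb⟩ :
        LocCoh.torsionBy (maximalIdeal (B ⧸ IB)) (B ⧸ IB)) ≠ 0 := by
      intro h
      apply hx0
      have h0 : Ideal.Quotient.mk IB b = 0 := congrArg Subtype.val h
      exact Subtype.ext (smul_tau_eq_zero f (Ideal.Quotient.eq_zero_iff_mem.1 h0))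
    obtain ⟨u, hu⟩ := hsurj _ hb0 ⟨Ideal.Quotient.mk IB b', hb'⟩
    obtain ⟨u', rfl⟩ := Ideal.Quotient.mk_surjective u
    refine ⟨u', Subtype.ext ?_⟩
    have hu' : Ideal.Quotient.mk IB u' * Ideal.Quotient.mk IB b = Ideal.Quotient.mk IB b' :=
      congrArg Subtype.val hu
    rw [← map_mul, Ideal.Quotient.eq] at hu'
    change u' • b • tau (B := B) f = b' • tau (B := B) f
    rw [← mul_smul, ← sub_eq_zero, ← sub_smul]
    exact smul_tau_eq_zero f hu'

include hf in
theorem main (hG : LocCoh.IsGorensteinLocalRing (B ⧸ IB)) (hArt : IsArtinianRing (B ⧸ IB)) :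
    ∃ g : ResidueField B →ₗ[B] B ⊗[A] E, IsInjectiveHull g := by
  have := hG.toIsLocalRing
  have := isLocalHom (A := A) (B := B)
  obtain ⟨N, hN⟩ := exists_pow_le (A := A) (B := B)
  have hdim : ringKrullDim (B ⧸ IB) = 0 :=
    ringKrullDimZero_iff_ringKrullDim_eq_zero.1 inferInstance
  have hsoc := Groth.Agent.Lib.Helper16.GorArt.length_socle_eq_one_of_isGorenstein (B ⧸ IB) hG hdim
  have := isSimpleModule_socle f hsoc hf.toIsEssentialInj
  obtain ⟨e⟩ := nonempty_equiv_residueField_of_isSimpleModule (R := B)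
    (LocCoh.torsionBy (maximalIdeal B) (B ⊗[A] E))
  have hle : IB ≤ maximalIdeal B := map_le
  refine exists_hull_of_lengths
    (isPowerTorsion_tensor N hN (isPowerTorsion_of_isInjectiveHull f hf))
    ⟨(homResidueEquivSocle _).trans e⟩
    (fun n => (maximalIdeal A ^ n).map (algebraMap A B)) ?_ ?_ ?_
  · intro n
    refine ⟨N * n, ?_⟩
    rw [Ideal.map_pow, pow_mul]
    exact Ideal.pow_right_mono hN n
  · intro n
    refine ⟨n, ?_⟩
    rw [Ideal.map_pow]
    exact Ideal.pow_right_mono hle n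
  · intro n
    rw [(homQuotEquivTorsion _ _).length_eq]
    exact (length_torsionBy_tensor f hf n).symm

end Groth.Agent.Lib.Helper9.GorHullBC
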