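import Mathlib
import Groth.Agent.Lib.Helper9.GorRefl1

set_option autoImplicit false
universe u

namespace Groth.Agent.Lib.Helper9.GorRefl

open CategoryTheory CategoryTheory.Abelian CategoryTheory.Limits

variable {A : Type u} [CommRing A]

/-- Concrete extension lemma: if `0 → X → B → G` is exact with `G` projective and `A` has injective
dimension `≤ 1`, every linear form on `X` extends to `B`. -/
theorem exists_extension_concrete {X B G : Type u} [AddCommGroup X] [Module A X]
    [AddCommGroup B] [Module A B] [AddCommGroup G] [Module A G]
    (i : X →ₗ[A] B) (r : B →ₗ[A] G) (hi : Function.Injective i) (hex : Function.Exact i r)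
    [Module.Projective A G] [hA : HasInjectiveDimensionLT (ModuleCat.of A A) 2]
    (ψ : X →ₗ[A] A) : ∃ ψ' : B →ₗ[A] A, ψ' ∘ₗ i = ψ := by
  have hex' : Function.Exact i r.rangeRestrict := by
    intro b
    rw [← hex b]
    constructor
    · intro h
      have := congrArg Subtype.val h
      simpa using this
    · intro h
      apply Subtype.ext
      simpa using h
  let S : ShortComplex (ModuleCat.{u} A) :=
    ModuleCat.shortComplexOfCompEqZero i r.rangeRestrict hex'.linearMap_comp_eq_zero
  have hS : S.ShortExact := ModuleCat.shortComplex_shortExact S hex' hi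
    r.surjective_rangeRestrict
  have hmono : Mono (ModuleCat.ofHom (LinearMap.range r).subtype) :=
    (ModuleCat.mono_iff_injective _).2 (Submodule.injective_subtype _)
  have hproj : Projective (ModuleCat.of A G) := (IsProjective.iff_projective G).1 inferInstance
  have hsub : Subsingleton (Ext S.X₃ (ModuleCat.of A A) 1) :=
    subsingleton_ext_one_of_mono_projective (ModuleCat.ofHom (LinearMap.range r).subtype)
  obtain ⟨g, hg⟩ := exists_extension hS (ModuleCat.of A A) (ModuleCat.ofHom ψ)
  refine ⟨g.hom, ?_⟩
  have := congrArg ModuleCat.Hom.hom hg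
  simpa [S] using this

/-- Over a Noetherian ring of injective dimension `≤ 1`, the evaluation map into the bidual of any
finite module is surjective. -/
theorem eval_surjective [IsNoetherianRing A] [HasInjectiveDimensionLT (ModuleCat.of A A) 2]
    (N : Type u) [AddCommGroup N] [Module A N] [Module.Finite A N] :
    Function.Surjective (Module.Dual.eval A N) := by
  obtain ⟨n, π, hπ⟩ := Module.Finite.exists_fin' A N
  obtain ⟨k, ρ, hρ⟩ := Module.Finite.exists_fin' A (LinearMap.ker π)
  let i : Module.Dual A N →ₗ[A] Module.Dual A (Fin n → A) := π.dualMap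
  let r : Module.Dual A (Fin n → A) →ₗ[A] Module.Dual A (Fin k → A) :=
    ((LinearMap.ker π).subtype ∘ₗ ρ).dualMap
  have hi : Function.Injective i := LinearMap.dualMap_injective_of_surjective hπ
  have hex : Function.Exact i r := by
    intro f
    have hrange := LinearMap.range_dualMap_eq_dualAnnihilator_ker_of_surjective π hπ
    show r f = 0 ↔ f ∈ LinearMap.range π.dualMap
    rw [hrange, Submodule.mem_dualAnnihilator]
    constructor
    · intro h w hw
      obtain ⟨c, hc⟩ := hρ ⟨w, hw⟩
      have := congrArg (fun g : Module.Dual A (Fin k → A) => g c) h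
      simp only [r, LinearMap.dualMap_apply, LinearMap.coe_comp, Function.comp_apply,
        Submodule.coe_subtype, LinearMap.zero_apply] at this
      rw [hc] at this
      exact this
    · intro h
      ext c
      simp only [r, LinearMap.dualMap_apply, LinearMap.coe_comp, Function.comp_apply,
        Submodule.coe_subtype, LinearMap.zero_apply]
      exact h _ (ρ (Pi.single c 1)).2
  intro ξ
  obtain ⟨ψ', hψ'⟩ := exists_extension_concrete i r hi hex ξ
  obtain ⟨v, hv⟩ := (Module.bijective_dual_eval A (Fin n → A)).2 ψ'
  refine ⟨π v, ?_⟩
  ext φ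
  rw [Module.Dual.eval_apply]
  have h1 : ξ φ = ψ' (i φ) := by rw [← hψ']; rfl
  rw [h1, ← hv, Module.Dual.eval_apply]
  rfl

end Groth.Agent.Lib.Helper9.GorRefl
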