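import Mathlib
import Groth.Agent.Lib.Helper9.GorRefl2

set_option autoImplicit false
universe u

namespace Groth.Agent.Lib.Helper9.GorRefl

open scoped nonZeroDivisors

section
variable (Λ : Type u) [CommRing Λ] [IsDomain Λ] [IsPrincipalIdealRing Λ]
  (S : Type u) [CommRing S] [Algebra Λ S] [Module.Finite Λ S] [Module.Free Λ S]
  (M : Type u) [AddCommGroup M] [Module S M] [Module Λ M] [IsScalarTower Λ S M]
  [Module.Finite S M]

include S in
/-- A torsionless module over a finite free `Λ`-algebra is `Λ`-free (`Λ` a PID). -/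
theorem free_of_torsionless (hinj : Function.Injective (Module.Dual.eval S M)) :
    Module.Free Λ M := by
  have hfin : Module.Finite Λ M := Module.Finite.trans S M
  have htf : Module.IsTorsionFree Λ M := by
    refine ⟨fun c hc m₁ m₂ h => ?_⟩
    apply hinj
    ext φ
    rw [Module.Dual.eval_apply, Module.Dual.eval_apply]
    have h1 : ∀ m : M, φ (c • m) = c • φ m := fun m => by
      rw [← algebraMap_smul S c m, map_smul, smul_eq_mul, Algebra.smul_def]
    have h2 : c • φ m₁ = c • φ m₂ := by
      rw [← h1, ← h1]
      exact congrArg φ h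
    exact hc.isSMulRegular h2
  infer_instance

end

section
variable (Λ : Type u) [CommRing Λ] [IsDomain Λ]
  (S : Type u) [CommRing S] [Algebra Λ S] [Module.Finite Λ S] [Module.Free Λ S] [IsReduced S]
  (M : Type u) [AddCommGroup M] [Module S M] [Module Λ M] [IsScalarTower Λ S M]
  [Module.Finite S M]

/-- A finite module over a reduced finite free `Λ`-algebra which is `Λ`-torsion-free admits, for
each nonzero element, an `S`-linear form not vanishing on it. -/
theorem exists_form_ne_zero [Module.IsTorsionFree Λ M] (m : M) (hm : m ≠ 0) :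
    ∃ φ : Module.Dual S M, φ m ≠ 0 := by
  classical
  let T : Submonoid S := Algebra.algebraMapSubmonoid S Λ⁰
  let SK := Localization T
  let MK := LocalizedModule T M
  have hTS : T ≤ S⁰ := by
    rintro _ ⟨c, hc, rfl⟩
    have hc0 : c ≠ 0 := nonZeroDivisors.ne_zero hc
    rw [mem_nonZeroDivisors_iff_right]
    intro x hx
    have : c • x = 0 := by rw [Algebra.smul_def, mul_comm]; exact hx
    exact (smul_eq_zero_iff_right hc0).1 this
  have hinjS : Function.Injective (algebraMap S SK) := IsLocalization.injective SK hTS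
  have hart : IsArtinianRing SK := IsArtinianRing.of_finite (FractionRing Λ) SK
  have hred : IsReduced SK := isReduced_localizationPreserves T SK inferInstance
  have hss : IsSemisimpleRing SK := IsArtinianRing.isSemisimpleRing_of_isReduced SK
  have hproj : Module.Projective SK MK := Module.projective_of_isSemisimpleRing SK MK
  obtain ⟨n, π, hπ⟩ := Module.Finite.exists_fin' SK MK
  obtain ⟨σ, hσ⟩ := Module.projective_lifting_property π LinearMap.id hπ
  have hσinj : Function.Injective σ := by
    intro a b hab
    have := congrArg π hab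
    have h1 : ∀ z, π (σ z) = z := fun z => by
      have := congrArg (fun g : MK →ₗ[SK] MK => g z) hσ
      simpa using this
    rwa [h1, h1] at this
  have hmk : LocalizedModule.mk m (1 : T) ≠ 0 := by
    intro h
    rw [← LocalizedModule.zero_mk (1 : T), LocalizedModule.mk_eq] at h
    obtain ⟨u, hu⟩ := h
    obtain ⟨c, hc, hcu⟩ := u.2
    have hc0 : c ≠ 0 := nonZeroDivisors.ne_zero hc
    simp only [one_smul, smul_zero] at hu
    have : c • m = 0 := by
      rw [← algebraMap_smul S c m, hcu]
      exact hu
    exact hm ((smul_eq_zero_iff_right hc0).1 this)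
  have hσm : σ (LocalizedModule.mk m (1 : T)) ≠ 0 := fun h => hmk (hσinj (by rw [h, map_zero]))
  obtain ⟨j, hj⟩ : ∃ j, σ (LocalizedModule.mk m (1 : T)) j ≠ 0 := by
    by_contra hcon
    push Not at hcon
    exact hσm (funext hcon)
  let θ : M →ₗ[S] SK :=
    ((LinearMap.proj j : (Fin n → SK) →ₗ[SK] SK).restrictScalars S) ∘ₗ (σ.restrictScalars S) ∘ₗ
      (LocalizedModule.mkLinearMap T M)
  have hθm : θ m ≠ 0 := hj
  obtain ⟨s, hs⟩ := (Module.Finite.fg_top : (⊤ : Submodule S M).FG)
  obtain ⟨b, hb⟩ := IsLocalization.exist_integer_multiples_of_finset T (s.image θ)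
  let R0 : Submodule S SK := LinearMap.range (Algebra.linearMap S SK)
  have hmem : ∀ z : M, (b : S) • θ z ∈ R0 := by
    intro z
    have hz : z ∈ Submodule.span S (s : Set M) := by rw [hs]; trivial
    induction hz using Submodule.span_induction with
    | mem x hx =>
      obtain ⟨y, hy⟩ := hb (θ x) (Finset.mem_image_of_mem θ hx)
      exact ⟨y, hy⟩
    | zero => rw [map_zero, smul_zero]; exact zero_mem _
    | add x y _ _ hx hy => rw [map_add, smul_add]; exact add_mem hx hy
    | smul a x _ hx => rw [map_smul, smul_comm]; exact Submodule.smul_mem _ a hx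
  let θ' : M →ₗ[S] R0 := ((b : S) • θ).codRestrict R0 hmem
  let E : S ≃ₗ[S] R0 := LinearEquiv.ofInjective (Algebra.linearMap S SK) hinjS
  refine ⟨E.symm.toLinearMap ∘ₗ θ', fun h => ?_⟩
  have h1 : θ' m = 0 := by
    have : E.symm (θ' m) = 0 := h
    simpa using this
  have h2 : (b : S) • θ m = 0 := congrArg Subtype.val h1
  rw [Algebra.smul_def] at h2
  have hunit : IsUnit (algebraMap S SK (b : S)) := IsLocalization.map_units SK b
  exact hθm ((hunit.mul_right_eq_zero).1 h2)

end

end Groth.Agent.Lib.Helper9.GorRefl
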