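import Mathlib
import Groth.Agent.Lib.Helper9.GorRefl3
import Groth.Agent.Lib.Helper12.IntegralDim

set_option autoImplicit false
universe u

namespace Groth.Agent.Lib.Helper9.GorRefl

open CategoryTheory

variable (Λ : Type u) [CommRing Λ] [IsDomain Λ] [IsPrincipalIdealRing Λ]
  (S : Type u) [CommRing S] [Algebra Λ S] [Module.Finite Λ S] [Module.Free Λ S] [IsReduced S]
  (M : Type u) [AddCommGroup M] [Module S M] [Module Λ M] [IsScalarTower Λ S M]
  [Module.Finite S M]

theorem torsionless_iff_free :
    Function.Injective (Module.Dual.eval S M) ↔ Module.Free Λ M := by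
  constructor
  · exact free_of_torsionless Λ S M
  · intro hfree
    rw [injective_iff_map_eq_zero]
    intro m hm
    by_contra hm0
    obtain ⟨φ, hφ⟩ := exists_form_ne_zero Λ S M m hm0
    apply hφ
    have := congrArg (fun ξ : Module.Dual S (Module.Dual S M) => ξ φ) hm
    simpa using this

theorem main :
    (Function.Injective (Module.Dual.eval S M) ↔ Module.Free Λ M) ∧
      (LocCoh.IsGorensteinRing S → (Module.IsReflexive S M ↔ Module.Free Λ M)) := by
  refine ⟨torsionless_iff_free Λ S M, fun hG => ?_⟩
  have hdim : ringKrullDim S ≤ (1 : ℕ) := by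
    have h1 : ringKrullDim S ≤ ringKrullDim Λ :=
      Groth.Agent.Lib.Helper12.ringKrullDim_le_of_isIntegral Λ S
    have h2 : ringKrullDim Λ ≤ (1 : ℕ) := Ring.krullDimLE_iff.mp inferInstance
    exact h1.trans h2
  have hinj : HasInjectiveDimensionLT (ModuleCat.of S S) 2 :=
    hasInjectiveDimensionLT_of_dim_le 1 hdim
  constructor
  · intro hrefl
    exact (torsionless_iff_free Λ S M).1 (Module.bijective_dual_eval S M).1
  · intro hfree
    exact ⟨⟨(torsionless_iff_free Λ S M).2 hfree, eval_surjective M⟩⟩

end Groth.Agent.Lib.Helper9.GorRefl
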