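import Mathlib
import Groth.Agent.Lib.Helper9.GorRefl2

set_option autoImplicit false
universe u

namespace Groth.Agent.Lib.Helper9.GorRefl

open CategoryTheory CategoryTheory.Abelian

variable {A : Type u} [CommRing A]

/-- A torsionless finite module over a Noetherian ring embeds into a finite free module. -/
theorem exists_embedding_of_torsionless [IsNoetherianRing A] (M : Type u) [AddCommGroup M]
    [Module A M] [Module.Finite A M] (hinj : Function.Injective (Module.Dual.eval A M)) :
    ∃ (n : ℕ) (ι : M →ₗ[A] Module.Dual A (Fin n → A)), Function.Injective ι := by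
  obtain ⟨k, π, hπ⟩ := Module.Finite.exists_fin' A M
  have hfin : Module.Finite A (Module.Dual A M) :=
    Module.Finite.of_injective π.dualMap (LinearMap.dualMap_injective_of_surjective hπ)
  obtain ⟨n, ρ, hρ⟩ := Module.Finite.exists_fin' A (Module.Dual A M)
  exact ⟨n, ρ.dualMap ∘ₗ Module.Dual.eval A M,
    (LinearMap.dualMap_injective_of_surjective hρ).comp hinj⟩

/-- Over a ring of injective dimension `≤ 1`, a torsionless finite module has `Ext^1(M, A) = 0`. -/
theorem subsingleton_ext_one_of_torsionless [IsNoetherianRing A]
    [HasInjectiveDimensionLT (ModuleCat.of A A) 2] (M : Type u) [AddCommGroup M]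
    [Module A M] [Module.Finite A M] (hinj : Function.Injective (Module.Dual.eval A M)) :
    Subsingleton (Ext (ModuleCat.of A M) (ModuleCat.of A A) 1) := by
  obtain ⟨n, ι, hι⟩ := exists_embedding_of_torsionless M hinj
  have hmono : Mono (ModuleCat.ofHom ι) := (ModuleCat.mono_iff_injective _).2 hι
  have hproj : Projective (ModuleCat.of A (Module.Dual A (Fin n → A))) :=
    (IsProjective.iff_projective _).1 inferInstance
  exact subsingleton_ext_one_of_mono_projective (ModuleCat.ofHom ι)

/-- S17989. -/
theorem ext_one_reflexive [LocCoh.IsGorensteinRing A] (hdim : ringKrullDim A = 1)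
    (M : Type u) [AddCommGroup M] [Module A M] [Module.Finite A M] [Module.IsReflexive A M] :
    Subsingleton (Ext (ModuleCat.of A M) (ModuleCat.of A A) 1) := by
  have hinj : HasInjectiveDimensionLT (ModuleCat.of A A) 2 :=
    hasInjectiveDimensionLT_of_dim_le 1 (by rw [hdim]; rfl)
  exact subsingleton_ext_one_of_torsionless M (Module.bijective_dual_eval A M).1

end Groth.Agent.Lib.Helper9.GorRefl
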