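import Mathlib
import Groth.Prelude.Def_W4c2invhilbsl2HJ

/-!
# Hirzebruch–Jung continued fraction bookkeeping (helper9)

`S c s0 s1` is the general sequence `S 0 = s0`, `S 1 = s1`, `S (i+2) = c_i S (i+1) - S i`.
For digits `≥ 2` with `s0 / s1 = [[c]]` the sequence decreases strictly to `0`.
-/

set_option autoImplicit false

namespace Groth.Agent.Lib.Helper9.HJ

open W4c2invhilbsl2

/-- general HJ sequence -/
def S (c : List ℤ) (s0 s1 : ℤ) : ℕ → ℤ
  | 0 => s0
  | 1 => s1
  | i + 2 => c.getD i 0 * S c s0 s1 (i + 1) - S c s0 s1 i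

@[simp] theorem S_zero (c : List ℤ) (s0 s1 : ℤ) : S c s0 s1 0 = s0 := rfl
@[simp] theorem S_one (c : List ℤ) (s0 s1 : ℤ) : S c s0 s1 1 = s1 := rfl
theorem S_succ_succ (c : List ℤ) (s0 s1 : ℤ) (i : ℕ) :
    S c s0 s1 (i + 2) = c.getD i 0 * S c s0 s1 (i + 1) - S c s0 s1 i := rfl

theorem S_cons (a : ℤ) (c : List ℤ) (s0 s1 : ℤ) : ∀ i : ℕ,
    S (a :: c) s0 s1 (i + 1) = S c s1 (a * s1 - s0) i
  | 0 => rfl
  | 1 => by simp [S_succ_succ]
  | i + 2 => by
    rw [S_succ_succ (a :: c), S_cons a c s0 s1 (i + 1), S_cons a c s0 s1 i, S_succ_succ c]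
    simp

theorem hjVal_gt_one : ∀ c : List ℤ, c ≠ [] → (∀ x ∈ c, (2 : ℤ) ≤ x) → (1 : ℚ) < HJFrac.hjVal c
  | [], h, _ => absurd rfl h
  | [a], _, hc => by
    have : (2 : ℤ) ≤ a := hc a (by simp)
    have h2 : (2 : ℚ) ≤ (a : ℚ) := by exact_mod_cast this
    simp only [HJFrac.hjVal, inv_zero, sub_zero]
    linarith
  | a :: a' :: c, _, hc => by
    have ha : (2 : ℤ) ≤ a := hc a (by simp)
    have h2 : (2 : ℚ) ≤ (a : ℚ) := by exact_mod_cast ha
    have ih := hjVal_gt_one (a' :: c) (by simp) (fun x hx => hc x (by simp [List.mem_cons] at hx ⊢; tauto))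
    have hinv : (HJFrac.hjVal (a' :: c))⁻¹ < 1 := inv_lt_one_of_one_lt₀ ih
    change (1 : ℚ) < (a : ℚ) - (HJFrac.hjVal (a' :: c))⁻¹
    linarith

/-- The HJ sequence with `s0 / s1 = [[c]]` decreases strictly to zero. -/
theorem S_decreasing : ∀ (c : List ℤ), c ≠ [] → (∀ x ∈ c, (2 : ℤ) ≤ x) → ∀ (s0 s1 : ℤ), 0 < s1 →
    (s0 : ℚ) = HJFrac.hjVal c * s1 →
    (∀ i, i ≤ c.length → S c s0 s1 (i + 1) < S c s0 s1 i) ∧
    (∀ i, i ≤ c.length → 0 < S c s0 s1 i) ∧ S c s0 s1 (c.length + 1) = 0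
  | [], h, _, _, _, _, _ => absurd rfl h
  | [a], _, hc, s0, s1, h1, h => by
    have ha : (2 : ℤ) ≤ a := hc a (by simp)
    simp only [HJFrac.hjVal, inv_zero, sub_zero] at h
    have h0 : s0 = a * s1 := by exact_mod_cast h
    have h2 : S [a] s0 s1 2 = 0 := by
      rw [S_succ_succ]; simp [h0]
    refine ⟨?_, ?_, ?_⟩
    · intro i hi
      simp only [List.length_singleton] at hi
      interval_cases i
      · simp only [zero_add, S_one, S_zero, h0]; nlinarith
      · rw [h2]; simpa using h1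
    · intro i hi
      simp only [List.length_singleton] at hi
      interval_cases i
      · simp only [S_zero, h0]; nlinarith
      · simpa using h1
    · simpa using h2
  | a :: a' :: c, _, hc, s0, s1, h1, h => by
    have ha : (2 : ℤ) ≤ a := hc a (by simp)
    have h2a : (2 : ℚ) ≤ (a : ℚ) := by exact_mod_cast ha
    have hc' : ∀ x ∈ a' :: c, (2 : ℤ) ≤ x := fun x hx => hc x (by simp [List.mem_cons] at hx ⊢; tauto)
    have hx := hjVal_gt_one (a' :: c) (by simp) hc'
    set x := HJFrac.hjVal (a' :: c) with hxdef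
    have hxpos : 0 < x := by linarith
    have hinv : x⁻¹ < 1 := inv_lt_one_of_one_lt₀ hx
    have hinvpos : 0 < x⁻¹ := inv_pos.mpr hxpos
    have hs1 : (0 : ℚ) < (s1 : ℚ) := by exact_mod_cast h1
    have h' : (s0 : ℚ) = ((a : ℚ) - x⁻¹) * s1 := h
    -- s2 = a s1 - s0 = x⁻¹ s1
    have hs2 : ((a * s1 - s0 : ℤ) : ℚ) = x⁻¹ * s1 := by
      push_cast; rw [h']; ring
    have hs2pos : 0 < a * s1 - s0 := by
      have : (0 : ℚ) < ((a * s1 - s0 : ℤ) : ℚ) := by rw [hs2]; positivity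
      exact_mod_cast this
    have hrel : (s1 : ℚ) = x * ((a * s1 - s0 : ℤ) : ℚ) := by
      rw [hs2, ← mul_assoc, mul_inv_cancel₀ hxpos.ne', one_mul]
    obtain ⟨ih1, ih2, ih3⟩ := S_decreasing (a' :: c) (by simp) hc' s1 (a * s1 - s0) hs2pos hrel
    have h01 : s1 < s0 := by
      have : (s1 : ℚ) < (s0 : ℚ) := by
        rw [h']
        have : (1 : ℚ) < (a : ℚ) - x⁻¹ := by linarith
        nlinarith
      exact_mod_cast this
    refine ⟨?_, ?_, ?_⟩
    · intro i hi
      cases i with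
      | zero => simpa using h01
      | succ i =>
        rw [S_cons a (a' :: c) s0 s1 (i + 1), S_cons a (a' :: c) s0 s1 i]
        exact ih1 i (by simp only [List.length_cons] at hi ⊢; omega)
    · intro i hi
      cases i with
      | zero => simp only [S_zero]; linarith
      | succ i =>
        rw [S_cons a (a' :: c) s0 s1 i]
        exact ih2 i (by simp only [List.length_cons] at hi ⊢; omega)
    · have : (a :: a' :: c).length + 1 = ((a' :: c).length + 1) + 1 := by simp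
      rw [this, S_cons a (a' :: c) s0 s1]
      exact ih3

/-! ### The sequences `P`, `Q`, `ν = t P - b Q` -/

theorem hjP_succ_succ (c : List ℤ) (i : ℕ) : hjP c (i + 2) = c.getD i 0 * hjP c (i + 1) - hjP c i := rfl
theorem hjQ_succ_succ (c : List ℤ) (i : ℕ) : hjQ c (i + 2) = c.getD i 0 * hjQ c (i + 1) - hjQ c i := rfl

/-- the determinant identity `P_i Q_{i+1} - P_{i+1} Q_i = 1` -/
theorem det_PQ (c : List ℤ) : ∀ i : ℕ, hjP c i * hjQ c (i + 1) - hjP c (i + 1) * hjQ c i = 1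
  | 0 => by simp [hjP, hjQ]
  | i + 1 => by
    have ih := det_PQ c i
    rw [hjP_succ_succ, hjQ_succ_succ]
    linear_combination ih

theorem lin_eq_S (c : List ℤ) (b t : ℤ) : ∀ i : ℕ, t * hjP c i - b * hjQ c i = S c b t i
  | 0 => by simp [hjP, hjQ]
  | 1 => by simp [hjP, hjQ]
  | i + 2 => by
    rw [S_succ_succ, ← lin_eq_S c b t (i + 1), ← lin_eq_S c b t i, hjP_succ_succ, hjQ_succ_succ]
    ring

section arith
variable (p q m : ℕ)

theorem gcdK_pos (hm : 0 < m) : 0 < gcdK p q m := Nat.gcd_pos_of_pos_left _ hm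

theorem gcdK_dvd_sub : gcdK p q m ∣ q - p := Nat.gcd_dvd_right _ _

theorem bB_mul_gcdK : bB p q m * gcdK p q m = q - p := Nat.div_mul_cancel (gcdK_dvd_sub p q m)

theorem gcdK_dvd_mod : gcdK p q m ∣ m * p % (q - p) := by
  rw [Nat.dvd_mod_iff (gcdK_dvd_sub p q m)]
  exact Dvd.dvd.mul_right (Nat.gcd_dvd_left _ _) p

theorem tT_mul_gcdK : tT p q m * gcdK p q m = q - p - m * p % (q - p) :=
  Nat.div_mul_cancel (Nat.dvd_sub (gcdK_dvd_sub p q m) (gcdK_dvd_mod p q m))

variable {p q m}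

theorem mod_pos (hpq : p < q) (hcop : Nat.Coprime p q) (hnt : ¬ (q - p ∣ m)) :
    0 < m * p % (q - p) := by
  rw [Nat.pos_iff_ne_zero]
  intro h
  have hd : q - p ∣ m * p := Nat.dvd_of_mod_eq_zero h
  have hc : Nat.Coprime (q - p) p := by
    have := (Nat.coprime_sub_self_right hpq.le).mpr hcop
    exact this.symm
  exact hnt (hc.dvd_of_dvd_mul_right hd)

theorem tT_pos (hpq : p < q) : 0 < tT p q m := by
  have h1 := tT_mul_gcdK p q m
  have h2 : m * p % (q - p) < q - p := Nat.mod_lt _ (by omega)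
  rcases Nat.eq_zero_or_pos (tT p q m) with h | h
  · rw [h, zero_mul] at h1; omega
  · exact h

theorem tT_lt_bB (hpq : p < q) (hcop : Nat.Coprime p q) (hm : 0 < m) (hnt : ¬ (q - p ∣ m)) :
    tT p q m < bB p q m := by
  have h1 := tT_mul_gcdK p q m
  have h2 := bB_mul_gcdK p q m
  have h3 := mod_pos hpq hcop hnt
  have hg := gcdK_pos p q m hm
  have : tT p q m * gcdK p q m < bB p q m * gcdK p q m := by omega
  exact lt_of_mul_lt_mul_right this (Nat.zero_le _)

theorem coprime_bB_tT (hpq : p < q) (hcop : Nat.Coprime p q) (hm : 0 < m) :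
    Nat.Coprime (bB p q m) (tT p q m) := by
  have hg := gcdK_pos p q m hm
  have h1 := tT_mul_gcdK p q m
  have h2 := bB_mul_gcdK p q m
  have hc : Nat.Coprime p (q - p) := (Nat.coprime_sub_self_right hpq.le).mpr hcop
  -- gcd (m * p) (q - p) = gcd m (q - p)
  have hgcd : Nat.gcd (m * p) (q - p) = gcdK p q m := Nat.Coprime.gcd_mul_right_cancel m hc
  rw [Nat.coprime_iff_gcd_eq_one]
  set e := Nat.gcd (bB p q m) (tT p q m) with he
  have he1 : e * gcdK p q m ∣ q - p := by
    rw [← h2]; exact Nat.mul_dvd_mul_right (Nat.gcd_dvd_left _ _) _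
  have he2 : e * gcdK p q m ∣ q - p - m * p % (q - p) := by
    rw [← h1]; exact Nat.mul_dvd_mul_right (Nat.gcd_dvd_right _ _) _
  have hlt : m * p % (q - p) < q - p := Nat.mod_lt _ (by omega)
  have he3 : e * gcdK p q m ∣ m * p % (q - p) := by
    have := Nat.dvd_sub he1 he2
    rwa [Nat.sub_sub_self hlt.le] at this
  have he4 : e * gcdK p q m ∣ m * p := (Nat.dvd_mod_iff he1).mp he3
  have he5 : e * gcdK p q m ∣ gcdK p q m := by
    have := Nat.dvd_gcd he4 he1
    rwa [hgcd] at this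
  have : e * gcdK p q m ≤ 1 * gcdK p q m := by
    rw [one_mul]; exact Nat.le_of_dvd hg he5
  have he6 : e ≤ 1 := le_of_mul_le_mul_right this hg
  have he7 : 0 < e := Nat.gcd_pos_of_pos_left _ (by
    rcases Nat.eq_zero_or_pos (bB p q m) with h | h
    · rw [h, zero_mul] at h2; omega
    · exact h)
  omega

/-- the key identity `(q - p)(α + 1) - p m = g t` (in `ℤ`) -/
theorem key_identity (hpq : p < q) :
    ((q : ℤ) - p) * ((alpha p q m : ℤ) + 1) - (p : ℤ) * m = (gcdK p q m : ℤ) * (tT p q m : ℤ) := by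
  have h1 := tT_mul_gcdK p q m
  have hlt : m * p % (q - p) < q - p := Nat.mod_lt _ (by omega)
  have h3 : (q - p) * (m * p / (q - p)) + m * p % (q - p) = m * p := Nat.div_add_mod _ _
  have hd : ((q - p : ℕ) : ℤ) = (q : ℤ) - p := Nat.cast_sub hpq.le
  unfold alpha
  generalize m * p % (q - p) = β at h1 hlt h3
  generalize m * p / (q - p) = a at h3
  have e2 : tT p q m * gcdK p q m + β = q - p := by omega
  rw [← hd]
  generalize q - p = d at h3 e2
  have E1 : (d : ℤ) * a + β = (m : ℤ) * p := by exact_mod_cast h3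
  have E2 : (tT p q m : ℤ) * gcdK p q m + β = d := by exact_mod_cast e2
  linear_combination E1 - E2

theorem nN_eq (hpq : p < q) (c : List ℤ) (i : ℕ) :
    nN p q m c i = (gcdK p q m : ℤ) * ((tT p q m : ℤ) * hjP c i - (bB p q m : ℤ) * hjQ c i) := by
  have hk := key_identity (m := m) hpq
  have hb : ((bB p q m : ℤ)) * (gcdK p q m : ℤ) = (q : ℤ) - p := by
    have := bB_mul_gcdK p q m
    have h2 : ((bB p q m * gcdK p q m : ℕ) : ℤ) = ((q - p : ℕ) : ℤ) := by rw [this]
    rw [Nat.cast_sub hpq.le] at h2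
    push_cast at h2
    exact h2
  unfold nN eE lL
  push_cast
  linear_combination (hjP c i) * hk + (hjQ c i) * hb

end arith

/-! ### The sequence `ν_i = n_i / g = t P_i - b Q_i` -/

/-- `ν_i = t P_i - b Q_i` -/
def nu (p q m : ℕ) (c : List ℤ) (i : ℕ) : ℤ := (tT p q m : ℤ) * hjP c i - (bB p q m : ℤ) * hjQ c i

section nu
variable {p q m : ℕ} {c : List ℤ}

theorem nN_eq_nu (hpq : p < q) (i : ℕ) : nN p q m c i = (gcdK p q m : ℤ) * nu p q m c i :=
  nN_eq hpq c i

theorem nu_eq_S (i : ℕ) : nu p q m c i = S c (bB p q m) (tT p q m) i := lin_eq_S c _ _ i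

theorem nu_zero : nu p q m c 0 = bB p q m := by simp [nu, hjP, hjQ]
theorem nu_one : nu p q m c 1 = tT p q m := by simp [nu, hjP, hjQ]
theorem nu_succ_succ (i : ℕ) : nu p q m c (i + 2) = c.getD i 0 * nu p q m c (i + 1) - nu p q m c i := by
  unfold nu
  rw [hjP_succ_succ, hjQ_succ_succ]
  ring

variable (hpq : p < q) (hcop : Nat.Coprime p q) (hm : 0 < m) (hnt : ¬ (q - p ∣ m))
  (hc : IsHJDigits p q m c)

include hpq hcop hm hnt hc in
theorem c_ne_nil : c ≠ [] := by
  rintro rfl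
  have h := hc.2
  simp only [HJFrac.hjVal] at h
  have hb : (0 : ℚ) < (bB p q m : ℚ) := by
    have := tT_lt_bB hpq hcop hm hnt
    exact_mod_cast (by omega : 0 < bB p q m)
  have ht : (0 : ℚ) < (tT p q m : ℚ) := by exact_mod_cast tT_pos (m := m) hpq
  have : (0 : ℚ) < (bB p q m : ℚ) / (tT p q m : ℚ) := div_pos hb ht
  linarith

include hpq hcop hm hnt hc in
theorem nu_facts :
    (∀ i, i ≤ c.length → nu p q m c (i + 1) < nu p q m c i) ∧
    (∀ i, i ≤ c.length → 0 < nu p q m c i) ∧ nu p q m c (c.length + 1) = 0 := by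
  have ht : 0 < tT p q m := tT_pos (m := m) hpq
  have htq : (tT p q m : ℚ) ≠ 0 := by exact_mod_cast ht.ne'
  have h := S_decreasing c (c_ne_nil hpq hcop hm hnt hc) hc.1 (bB p q m) (tT p q m) (by exact_mod_cast ht)
    (by
      rw [hc.2]
      push_cast
      field_simp)
  simp only [← nu_eq_S] at h
  exact h

include hpq hcop hm hnt hc in
theorem nu_length : nu p q m c c.length = 1 := by
  obtain ⟨_, h2, h3⟩ := nu_facts hpq hcop hm hnt hc
  have hpos := h2 c.length le_rfl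
  have hdet := det_PQ c c.length
  have h3' : (tT p q m : ℤ) * hjP c (c.length + 1) = (bB p q m : ℤ) * hjQ c (c.length + 1) := by
    unfold nu at h3; linarith
  -- ν_r divides b and t
  have hb : (bB p q m : ℤ) = hjP c (c.length + 1) * nu p q m c c.length := by
    unfold nu
    linear_combination (-(bB p q m : ℤ)) * hdet - hjP c c.length * h3'
  have ht : (tT p q m : ℤ) = hjQ c (c.length + 1) * nu p q m c c.length := by
    unfold nu
    linear_combination (-(tT p q m : ℤ)) * hdet - hjQ c c.length * h3'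
  have hcop' := coprime_bB_tT hpq hcop hm
  have hd1 : nu p q m c c.length ∣ (bB p q m : ℤ) := ⟨_, by rw [hb]; ring⟩
  have hd2 : nu p q m c c.length ∣ (tT p q m : ℤ) := ⟨_, by rw [ht]; ring⟩
  obtain ⟨k, hk⟩ : ∃ k : ℕ, nu p q m c c.length = (k : ℤ) :=
    ⟨(nu p q m c c.length).toNat, (Int.toNat_of_nonneg hpos.le).symm⟩
  rw [hk] at hd1 hd2 ⊢
  have hk1 : k ∣ bB p q m := Int.natCast_dvd_natCast.mp hd1
  have hk2 : k ∣ tT p q m := Int.natCast_dvd_natCast.mp hd2
  have hk3 : k ∣ Nat.gcd (bB p q m) (tT p q m) := Nat.dvd_gcd hk1 hk2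
  rw [hcop'] at hk3
  have : k = 1 := Nat.dvd_one.mp hk3
  rw [this]
  rfl

end nu

/-! ### The cone lemma: lower bound for `t x mod b` -/

theorem mono_on (f : ℕ → ℤ) (N : ℕ) (h : ∀ i, i < N → f i ≤ f (i + 1)) :
    ∀ a b, a ≤ b → b ≤ N → f a ≤ f b := by
  intro a b hab
  induction b, hab using Nat.le_induction with
  | base => intro _; exact le_rfl
  | succ b hab ih =>
    intro hb
    exact le_trans (ih (by omega)) (h b (by omega))

section cone
variable {p q m : ℕ} {c : List ℤ}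

theorem getD_ge_two (hc : ∀ x ∈ c, (2 : ℤ) ≤ x) (i : ℕ) (hi : i < c.length) : 2 ≤ c.getD i 0 := by
  rw [List.getD_eq_getElem _ _ hi]
  exact hc _ (List.getElem_mem hi)

theorem hjP_facts (hc : ∀ x ∈ c, (2 : ℤ) ≤ x) : ∀ i, i ≤ c.length → 0 ≤ hjP c i ∧ hjP c i < hjP c (i + 1)
  | 0, _ => by simp [hjP]
  | i + 1, hi => by
    obtain ⟨h0, h1⟩ := hjP_facts hc i (by omega)
    have h2 := getD_ge_two hc i (by omega)
    refine ⟨by linarith, ?_⟩
    rw [hjP_succ_succ]
    nlinarith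

theorem hjP_mono (hc : ∀ x ∈ c, (2 : ℤ) ≤ x) (a b : ℕ) (hab : a ≤ b) (hb : b ≤ c.length + 1) :
    hjP c a ≤ hjP c b :=
  mono_on (hjP c) (c.length + 1) (fun i hi => (hjP_facts hc i (by omega)).2.le) a b hab hb

theorem hjP_nonneg (hc : ∀ x ∈ c, (2 : ℤ) ≤ x) (a : ℕ) (ha : a ≤ c.length + 1) : 0 ≤ hjP c a := by
  have := hjP_mono hc 0 a (Nat.zero_le _) ha
  simpa [hjP] using this

variable (hpq : p < q) (hcop : Nat.Coprime p q) (hm : 0 < m) (hnt : ¬ (q - p ∣ m))
  (hc : IsHJDigits p q m c)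

include hpq hcop hm hnt hc in
theorem nu_anti (a b : ℕ) (hab : a ≤ b) (hb : b ≤ c.length + 1) : nu p q m c b ≤ nu p q m c a := by
  obtain ⟨h1, _, _⟩ := nu_facts hpq hcop hm hnt hc
  have := mono_on (fun i => - nu p q m c i) (c.length + 1)
    (fun i hi => by have := h1 i (by omega); linarith) a b hab hb
  linarith

include hpq hcop hm hnt hc in
theorem nu_nonneg (a : ℕ) (ha : a ≤ c.length + 1) : 0 ≤ nu p q m c a := by
  obtain ⟨_, _, h3⟩ := nu_facts hpq hcop hm hnt hc
  have := nu_anti hpq hcop hm hnt hc a (c.length + 1) ha le_rfl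
  linarith

include hpq hcop hm hnt hc in
theorem hjP_last : hjP c (c.length + 1) = bB p q m := by
  obtain ⟨_, _, h3⟩ := nu_facts hpq hcop hm hnt hc
  have hlen := nu_length hpq hcop hm hnt hc
  have hdet := det_PQ c c.length
  have h3' : (tT p q m : ℤ) * hjP c (c.length + 1) = (bB p q m : ℤ) * hjQ c (c.length + 1) := by
    unfold nu at h3; linarith
  unfold nu at hlen
  linear_combination (bB p q m : ℤ) * hdet + hjP c c.length * h3' - hjP c (c.length + 1) * hlen

include hpq hcop hm hnt hc in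
theorem hjQ_last : hjQ c (c.length + 1) = tT p q m := by
  obtain ⟨_, _, h3⟩ := nu_facts hpq hcop hm hnt hc
  have hlen := nu_length hpq hcop hm hnt hc
  have hdet := det_PQ c c.length
  have h3' : (tT p q m : ℤ) * hjP c (c.length + 1) = (bB p q m : ℤ) * hjQ c (c.length + 1) := by
    unfold nu at h3; linarith
  unfold nu at hlen
  linear_combination (tT p q m : ℤ) * hdet + hjQ c c.length * h3' - hjQ c (c.length + 1) * hlen

include hpq hcop hm hnt hc in
/-- For `0 < x < P_i` the remainder of `t x` modulo `b` is at least `ν_{i-1}`. -/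
theorem lower_bound (i : ℕ) (hi1 : 1 ≤ i) (hi : i ≤ c.length + 1) (x : ℤ) (hx0 : 0 < x)
    (hx : x < hjP c i) :
    nu p q m c (i - 1) ≤ Int.emod ((tT p q m : ℤ) * x) (bB p q m : ℤ) := by
  have hbpos : (0 : ℤ) < (bB p q m : ℤ) := by
    have := tT_lt_bB hpq hcop hm hnt
    exact_mod_cast (by omega : 0 < bB p q m)
  set ρ := Int.emod ((tT p q m : ℤ) * x) (bB p q m : ℤ) with hρ
  set k := ((tT p q m : ℤ) * x) / (bB p q m : ℤ) with hk
  have hρ0 : 0 ≤ ρ := Int.emod_nonneg _ hbpos.ne'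
  have hdecomp : (tT p q m : ℤ) * x = (bB p q m : ℤ) * k + ρ := (Int.mul_ediv_add_emod _ _).symm
  let D : ℕ → ℤ := fun j => k * hjP c j - x * hjQ c j
  have hD0 : D 0 = x := by simp [D, hjP, hjQ]
  have hDlast : D (c.length + 1) = -ρ := by
    simp only [D]
    rw [hjP_last hpq hcop hm hnt hc, hjQ_last hpq hcop hm hnt hc]
    linarith
  have hex : ∃ n, D (n + 1) ≤ 0 := ⟨c.length, by rw [hDlast]; linarith⟩
  classical
  let j := Nat.find hex
  have hj1 : D (j + 1) ≤ 0 := Nat.find_spec hex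
  have hjle : j ≤ c.length := Nat.find_min' hex (by rw [hDlast]; linarith)
  have hj0 : 0 < D j := by
    rcases Nat.eq_zero_or_pos j with h | h
    · rw [h, hD0]; exact hx0
    · have := Nat.find_min hex (m := j - 1) (by omega)
      have e : j - 1 + 1 = j := by omega
      rw [e] at this
      linarith
  have hdet := det_PQ c j
  have hxeq : x = -D (j + 1) * hjP c j + D j * hjP c (j + 1) := by
    simp only [D]
    linear_combination (-x) * hdet
  have hρeq : ρ = -D (j + 1) * nu p q m c j + D j * nu p q m c (j + 1) := by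
    simp only [D, nu]
    linear_combination ((bB p q m : ℤ) * k - (tT p q m : ℤ) * x) * hdet - hdecomp
  have hPj : 0 ≤ hjP c j := hjP_nonneg hc.1 j (by omega)
  have hPj1 : 0 ≤ hjP c (j + 1) := hjP_nonneg hc.1 (j + 1) (by omega)
  have hνj : 0 ≤ nu p q m c j := nu_nonneg hpq hcop hm hnt hc j (by omega)
  have hνj1 : 0 ≤ nu p q m c (j + 1) := nu_nonneg hpq hcop hm hnt hc (j + 1) (by omega)
  have hxge : hjP c (j + 1) ≤ x := by
    rw [hxeq]; nlinarith
  have hji : j + 1 < i := by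
    by_contra h
    push Not at h
    have := hjP_mono hc.1 i (j + 1) h (by omega)
    linarith
  have hρge : nu p q m c (j + 1) ≤ ρ := by
    rw [hρeq]; nlinarith
  have := nu_anti hpq hcop hm hnt hc (j + 1) (i - 1) (by omega) (by omega)
  linarith

end cone

section bounds
variable {p q m : ℕ} {c : List ℤ}
variable (hpq : p < q) (hcop : Nat.Coprime p q) (hm : 0 < m) (hnt : ¬ (q - p ∣ m))
  (hc : IsHJDigits p q m c)

include hpq hcop hm hnt hc in
theorem nu_lt_bB (i : ℕ) (hi1 : 1 ≤ i) (hi : i ≤ c.length + 1) : nu p q m c i < bB p q m := by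
  have h1 := nu_anti hpq hcop hm hnt hc 1 i hi1 hi
  rw [nu_one] at h1
  have := tT_lt_bB hpq hcop hm hnt
  have h2 : (tT p q m : ℤ) < (bB p q m : ℤ) := by exact_mod_cast this
  linarith

include hpq hcop hm hnt hc in
theorem mul_hjP_emod (i : ℕ) (hi1 : 1 ≤ i) (hi : i ≤ c.length + 1) :
    Int.emod ((tT p q m : ℤ) * hjP c i) (bB p q m : ℤ) = nu p q m c i := by
  have h0 := nu_nonneg hpq hcop hm hnt hc i hi
  have h1 := nu_lt_bB hpq hcop hm hnt hc i hi1 hi
  have : (tT p q m : ℤ) * hjP c i = nu p q m c i + (bB p q m : ℤ) * hjQ c i := by unfold nu; ring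
  rw [this]
  change (nu p q m c i + (bB p q m : ℤ) * hjQ c i) % (bB p q m : ℤ) = _
  rw [Int.add_mul_emod_self_left]
  exact Int.emod_eq_of_lt h0 h1

include hpq hcop hm hnt hc in
theorem upper_bound (i : ℕ) (hi1 : 1 < i) (hi : i ≤ c.length + 1) (x : ℤ) (hx0 : 0 < x)
    (hx : x < hjP c i) :
    Int.emod ((tT p q m : ℤ) * x) (bB p q m : ℤ) ≤
      (bB p q m : ℤ) + nu p q m c i - nu p q m c (i - 1) := by
  have hbpos : (0 : ℤ) < (bB p q m : ℤ) := by
    have := tT_lt_bB hpq hcop hm hnt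
    exact_mod_cast (by omega : 0 < bB p q m)
  have hlow := lower_bound hpq hcop hm hnt hc i (by omega) hi x hx0 hx
  have hlow' := lower_bound hpq hcop hm hnt hc i (by omega) hi (hjP c i - x) (by linarith) (by linarith)
  set ρ := Int.emod ((tT p q m : ℤ) * x) (bB p q m : ℤ) with hρ
  set k := ((tT p q m : ℤ) * x) / (bB p q m : ℤ) with hk
  have hρ0 : 0 ≤ ρ := Int.emod_nonneg _ hbpos.ne'
  have hρb : ρ < (bB p q m : ℤ) := Int.emod_lt_of_pos _ hbpos
  have hdecomp : (tT p q m : ℤ) * x = (bB p q m : ℤ) * k + ρ := (Int.mul_ediv_add_emod _ _).symm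
  have hνi0 := nu_nonneg hpq hcop hm hnt hc i hi
  have hdec : nu p q m c i < nu p q m c (i - 1) := by
    obtain ⟨h1, _, _⟩ := nu_facts hpq hcop hm hnt hc
    have := h1 (i - 1) (by omega)
    have e : i - 1 + 1 = i := by omega
    rwa [e] at this
  have hcalc : (tT p q m : ℤ) * (hjP c i - x) =
      (nu p q m c i - ρ + (bB p q m : ℤ)) + (bB p q m : ℤ) * (hjQ c i - k - 1) := by
    unfold nu
    linear_combination (-1 : ℤ) * hdecomp
  have hmod : Int.emod ((tT p q m : ℤ) * (hjP c i - x)) (bB p q m : ℤ) =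
      nu p q m c i - ρ + (bB p q m : ℤ) := by
    rw [hcalc]
    change (nu p q m c i - ρ + (bB p q m : ℤ) + (bB p q m : ℤ) * (hjQ c i - k - 1)) % (bB p q m : ℤ) = _
    rw [Int.add_mul_emod_self_left]
    exact Int.emod_eq_of_lt (by linarith) (by linarith)
  rw [hmod] at hlow'
  linarith

end bounds

/-! ### Monomials of weight `(n_j, 0)` -/

section monomials
variable {p q m : ℕ} {c : List ℤ}
variable (hpq : p < q) (hcop : Nat.Coprime p q) (hm : 0 < m) (hnt : ¬ (q - p ∣ m))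
  (hc : IsHJDigits p q m c)

theorem bB_mul_gcdK_int (hpq : p < q) : ((bB p q m : ℤ)) * (gcdK p q m : ℤ) = (q : ℤ) - p := by
  have := bB_mul_gcdK p q m
  have h2 : ((bB p q m * gcdK p q m : ℕ) : ℤ) = ((q - p : ℕ) : ℤ) := by rw [this]
  rw [Nat.cast_sub hpq.le] at h2
  push_cast at h2
  exact h2

include hpq hcop hm hnt in
theorem bB_pos_int : (0 : ℤ) < (bB p q m : ℤ) := by
  have := tT_lt_bB hpq hcop hm hnt
  exact_mod_cast (by omega : 0 < bB p q m)

include hpq in
/-- `p m s + n_j ≡ g (ν_j - ρ(s))` modulo `q - p`. -/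
theorem residue (j : ℕ) (s : ℤ) : ∃ K : ℤ, (p : ℤ) * m * s + nN p q m c j =
    ((q : ℤ) - p) * K + (gcdK p q m : ℤ) *
      (nu p q m c j - Int.emod ((tT p q m : ℤ) * s) (bB p q m : ℤ)) := by
  have hkey := key_identity (m := m) hpq
  have hd := bB_mul_gcdK_int (m := m) hpq
  have hdecomp : (tT p q m : ℤ) * s = (bB p q m : ℤ) * (((tT p q m : ℤ) * s) / (bB p q m : ℤ)) +
      Int.emod ((tT p q m : ℤ) * s) (bB p q m : ℤ) := (Int.mul_ediv_add_emod _ _).symm
  refine ⟨((alpha p q m : ℤ) + 1) * s - ((tT p q m : ℤ) * s) / (bB p q m : ℤ), ?_⟩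
  rw [nN_eq_nu hpq]
  linear_combination (-s) * hkey - (gcdK p q m : ℤ) * hdecomp -
    (((tT p q m : ℤ) * s) / (bB p q m : ℤ)) * hd

include hpq hcop hm hnt hc in
theorem nN_le_sub (j : ℕ) (hj : j ≤ c.length + 1) : nN p q m c j ≤ (q : ℤ) - p := by
  have hg : (0 : ℤ) < (gcdK p q m : ℤ) := by exact_mod_cast gcdK_pos p q m hm
  rw [nN_eq_nu hpq, ← bB_mul_gcdK_int (m := m) hpq, mul_comm]
  have := nu_anti hpq hcop hm hnt hc 0 j (Nat.zero_le _) hj
  rw [nu_zero] at this
  exact mul_le_mul_of_nonneg_right this hg.le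

include hpq hcop hm hnt hc in
theorem nN_lt_sub (j : ℕ) (hj1 : 1 ≤ j) (hj : j ≤ c.length + 1) : nN p q m c j < (q : ℤ) - p := by
  have hg : (0 : ℤ) < (gcdK p q m : ℤ) := by exact_mod_cast gcdK_pos p q m hm
  rw [nN_eq_nu hpq, ← bB_mul_gcdK_int (m := m) hpq, mul_comm]
  have := nu_lt_bB hpq hcop hm hnt hc j hj1 hj
  exact mul_lt_mul_of_pos_right this hg

include hpq hcop hm hnt hc in
theorem no_sol (j : ℕ) (hj : j ≤ c.length + 1) (s v a : ℤ)
    (ha : a = nN p q m c j + (p : ℤ) * m * s - ((q : ℤ) - p) * v) (ha0 : 0 ≤ a) (ha1 : a < nN p q m c j)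
    (hρ : nu p q m c j < Int.emod ((tT p q m : ℤ) * s) (bB p q m : ℤ) ∨
      (nu p q m c j = Int.emod ((tT p q m : ℤ) * s) (bB p q m : ℤ) ∧ 0 < a)) : False := by
  have hg : (0 : ℤ) < (gcdK p q m : ℤ) := by exact_mod_cast gcdK_pos p q m hm
  have hbpos := bB_pos_int hpq hcop hm hnt
  have hd := bB_mul_gcdK_int (m := m) hpq
  have hdpos : (0 : ℤ) < (q : ℤ) - p := by
    have : (p : ℤ) < q := by exact_mod_cast hpq
    linarith
  obtain ⟨K, hK⟩ := residue (m := m) (c := c) hpq j s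
  have hnle := nN_le_sub hpq hcop hm hnt hc j hj
  have hρb : Int.emod ((tT p q m : ℤ) * s) (bB p q m : ℤ) < (bB p q m : ℤ) := Int.emod_lt_of_pos _ hbpos
  set ρ := Int.emod ((tT p q m : ℤ) * s) (bB p q m : ℤ) with hρdef
  set w := K - v with hw
  have haw : a = ((q : ℤ) - p) * w + (gcdK p q m : ℤ) * (nu p q m c j - ρ) := by
    rw [ha, hw]; linear_combination hK
  have hnν : nN p q m c j = (gcdK p q m : ℤ) * nu p q m c j := nN_eq_nu hpq j
  rcases hρ with h | ⟨h, h0⟩
  · have hr1 : (gcdK p q m : ℤ) * (nu p q m c j - ρ) < 0 := by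
      have : nu p q m c j - ρ < 0 := by linarith
      exact mul_neg_of_pos_of_neg hg this
    have hνnn := nu_nonneg hpq hcop hm hnt hc j hj
    have hr2 : -((q : ℤ) - p) < (gcdK p q m : ℤ) * (nu p q m c j - ρ) := by
      rw [← hd]
      have : -(bB p q m : ℤ) < nu p q m c j - ρ := by linarith
      nlinarith
    rcases lt_trichotomy w 1 with hw1 | hw1 | hw1
    · have : w ≤ 0 := by omega
      nlinarith
    · rw [hw1] at haw
      have : (gcdK p q m : ℤ) * ρ < (bB p q m : ℤ) * (gcdK p q m : ℤ) := by nlinarith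
      nlinarith
    · have : 2 ≤ w := by omega
      nlinarith
  · rw [h, sub_self, mul_zero, add_zero] at haw
    rcases lt_trichotomy w 1 with hw1 | hw1 | hw1
    · have : w ≤ 0 := by omega
      nlinarith
    · rw [hw1] at haw; linarith
    · have : 2 ≤ w := by omega
      nlinarith

end monomials

section monobound
variable {p q m : ℕ} {c : List ℤ}
variable (hpq : p < q) (hcop : Nat.Coprime p q) (hm : 0 < m) (hnt : ¬ (q - p ∣ m))
  (hc : IsHJDigits p q m c)

theorem eE_eq (i : ℕ) : eE p q m c i = lL p q m c i + (m : ℤ) * hjP c i := by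
  unfold eE lL; push_cast; ring

theorem nN_eq' (i : ℕ) : nN p q m c i = ((q : ℤ) - p) * lL p q m c i - (p : ℤ) * m * hjP c i := by
  unfold nN; rw [eE_eq]; ring

include hpq hcop hm hnt hc in
/-- A monomial `X₀^a X₁^u X₂^v` of weight `(n_j, 0)` with `a < n_j` is divisible by
`X₁^(e_i') X₂^(l_i')`, where `i' = j` (and `j ≥ 1`), or `i' = j + 1` provided `a > 0`. -/
theorem mono_bound (j i' : ℕ) (hi'1 : 1 ≤ i') (hi' : i' ≤ c.length + 1)
    (hcase : i' = j ∨ i' = j + 1) (a u v : ℕ)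
    (hw1 : (a : ℤ) - p * u + q * v = nN p q m c j)
    (hw2 : (m : ℤ) ∣ (u : ℤ) - v)
    (ha1 : (a : ℤ) < nN p q m c j)
    (hpos : i' = j + 1 → 0 < a) :
    eE p q m c i' ≤ u ∧ lL p q m c i' ≤ v := by
  have hj : j ≤ c.length + 1 := by rcases hcase with h | h <;> omega
  have hdpos : (0 : ℤ) < (q : ℤ) - p := by
    have : (p : ℤ) < q := by exact_mod_cast hpq
    linarith
  have hmpos : (0 : ℤ) < (m : ℤ) := by exact_mod_cast hm
  have hp0 : (0 : ℤ) ≤ (p : ℤ) := Int.natCast_nonneg p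
  have hpm0 : (0 : ℤ) ≤ (p : ℤ) * m := by positivity
  obtain ⟨s, hs⟩ := hw2
  have hu : (u : ℤ) = v + m * s := by linarith
  have ha : (a : ℤ) = nN p q m c j + (p : ℤ) * m * s - ((q : ℤ) - p) * v := by
    rw [← hw1, hu]; ring
  have ha0 : (0 : ℤ) ≤ (a : ℤ) := Int.natCast_nonneg a
  have hv0 : (0 : ℤ) ≤ (v : ℤ) := Int.natCast_nonneg v
  have hu0 : (0 : ℤ) ≤ (u : ℤ) := Int.natCast_nonneg u
  have hnle := nN_le_sub hpq hcop hm hnt hc j hj
  -- strict upper bound d v < d + p m s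
  have hlt : ((q : ℤ) - p) * v < ((q : ℤ) - p) + (p : ℤ) * m * s := by
    rcases hcase with h | h
    · have := nN_lt_sub hpq hcop hm hnt hc j (by omega) hj
      linarith
    · have : (0 : ℤ) < (a : ℤ) := by exact_mod_cast hpos h
      linarith
  have hgt : (p : ℤ) * m * s < ((q : ℤ) - p) * v := by linarith
  -- Step 1
  have hs1 : 1 ≤ s := by
    by_contra hcon
    push Not at hcon
    have hs0 : s ≤ 0 := by omega
    have h1 : (p : ℤ) * m * s ≤ 0 := mul_nonpos_of_nonneg_of_nonpos hpm0 hs0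
    have hv : (v : ℤ) < 1 := by
      by_contra hv
      push Not at hv
      nlinarith
    have hv' : (v : ℤ) = 0 := by omega
    rw [hv', mul_zero] at hgt
    have hsneg : s < 0 := by
      rcases lt_or_eq_of_le hs0 with h | h
      · exact h
      · rw [h, mul_zero] at hgt; exact absurd hgt (lt_irrefl _)
    rw [hv', zero_add] at hu
    have : (m : ℤ) * s < 0 := mul_neg_of_pos_of_neg hmpos hsneg
    linarith
  -- Step 2
  have hs2 : hjP c i' ≤ s := by
    by_contra hcon
    push Not at hcon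
    have hlow := lower_bound hpq hcop hm hnt hc i' hi'1 hi' s (by linarith) hcon
    rcases hcase with h | h
    · subst h
      have hdec : nu p q m c i' < nu p q m c (i' - 1) := by
        obtain ⟨h1, _, _⟩ := nu_facts hpq hcop hm hnt hc
        have := h1 (i' - 1) (by omega)
        have e : i' - 1 + 1 = i' := by omega
        rwa [e] at this
      exact no_sol hpq hcop hm hnt hc i' hj s v a ha ha0 ha1 (Or.inl (by linarith))
    · subst h
      have e : j + 1 - 1 = j := by omega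
      rw [e] at hlow
      rcases lt_or_eq_of_le hlow with h' | h'
      · exact no_sol hpq hcop hm hnt hc j hj s v a ha ha0 ha1 (Or.inl h')
      · exact no_sol hpq hcop hm hnt hc j hj s v a ha ha0 ha1
          (Or.inr ⟨h', by exact_mod_cast hpos rfl⟩)
  -- Step 3
  have hnlt := nN_lt_sub hpq hcop hm hnt hc i' hi'1 hi'
  have hid := nN_eq' (p := p) (q := q) (m := m) (c := c) i'
  have hpmP : (p : ℤ) * m * hjP c i' ≤ (p : ℤ) * m * s := mul_le_mul_of_nonneg_left hs2 hpm0
  have hv : lL p q m c i' ≤ v := by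
    by_contra hcon
    push Not at hcon
    have : (v : ℤ) + 1 ≤ lL p q m c i' := by omega
    nlinarith
  refine ⟨?_, hv⟩
  rw [eE_eq, hu]
  have : (m : ℤ) * hjP c i' ≤ (m : ℤ) * s := mul_le_mul_of_nonneg_left hs2 hmpos.le
  linarith

end monobound

end Groth.Agent.Lib.Helper9.HJ
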