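import Mathlib

/-!
# Decomposing weighted homogeneous polynomials along monomial generators (helper9)
-/

set_option autoImplicit false

namespace Groth.Agent.Lib.Helper9.WHDecomp

open MvPolynomial Finsupp

variable {σ : Type*} {k : Type*} [CommRing k] {M : Type*} [AddCommGroup M]

theorem weight_tsub (w : σ → M) {D E : σ →₀ ℕ} (h : E ≤ D) :
    weight w (D - E) = weight w D - weight w E := by
  have : weight w (D - E + E) = weight w D := by rw [tsub_add_cancel_of_le h]
  rw [map_add] at this
  rw [← this]; abel

/-- If every monomial of `f` (weighted homogeneous of weight `ν`) is divisible by one of the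
monomials `X^(E r)` (all of weight `ν`), then `f = Σ a_r X^(E r)` with `a_r` of weight zero. -/
theorem exists_decomp {ι : Type*} [Fintype ι] [DecidableEq ι] [Nonempty ι] (w : σ → M) (ν : M) (E : ι → σ →₀ ℕ)
    (hE : ∀ r, weight w (E r) = ν)
    (f : MvPolynomial σ k) (hf : f ∈ weightedHomogeneousSubmodule k w ν)
    (hdiv : ∀ D ∈ f.support, ∃ r, E r ≤ D) :
    ∃ a : ι → MvPolynomial σ k, (∀ r, a r ∈ weightedHomogeneousSubmodule k w 0) ∧
      f = ∑ r, a r * monomial (E r) 1 := by
  classical
  choose! ρ hρ using hdiv
  refine ⟨fun r => ∑ D ∈ f.support.filter (fun D => ρ D = r), monomial (D - E r) (coeff D f), ?_, ?_⟩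
  · intro r
    apply Submodule.sum_mem
    intro D hD
    rw [Finset.mem_filter] at hD
    rw [mem_weightedHomogeneousSubmodule]
    apply isWeightedHomogeneous_monomial
    have hle : E r ≤ D := by rw [← hD.2]; exact hρ D hD.1
    rw [weight_tsub w hle, hE]
    have : weight w D = ν := hf (MvPolynomial.mem_support_iff.mp hD.1)
    rw [this, sub_self]
  · conv_lhs => rw [← support_sum_monomial_coeff f]
    rw [← Finset.sum_fiberwise f.support ρ]
    refine Finset.sum_congr rfl fun r _ => ?_
    rw [Finset.sum_mul]
    refine Finset.sum_congr rfl fun D hD => ?_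
    rw [Finset.mem_filter] at hD
    have hle : E r ≤ D := by rw [← hD.2]; exact hρ D hD.1
    rw [monomial_mul, mul_one, tsub_add_cancel_of_le hle]

/-- If among any two distinct monomials of weight `ν` one lies in the ideal `I`, the image of the weight-`ν`
polynomials in the quotient by `I` has rank at most one. -/
theorem rank_piece_le_one {k : Type*} [Field k] (w : σ → M) (I : Ideal (MvPolynomial σ k)) (ν : M)
    (h : ∀ D D' : σ →₀ ℕ, D ≠ D' → weight w D = ν → weight w D' = ν →
      monomial D (1 : k) ∈ I ∨ monomial D' (1 : k) ∈ I) :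
    Module.rank k (Submodule.map (Ideal.Quotient.mkₐ k I).toLinearMap
      (weightedHomogeneousSubmodule k w ν)) ≤ 1 := by
  classical
  have : Module.Free k ↥(Submodule.map (Ideal.Quotient.mkₐ k I).toLinearMap
      (weightedHomogeneousSubmodule k w ν)) := Module.Free.of_divisionRing _ _
  rw [rank_submodule_le_one_iff']
  by_cases hall : ∀ D : σ →₀ ℕ, weight w D = ν → monomial D (1 : k) ∈ I
  · refine ⟨0, ?_⟩
    rintro _ ⟨f, hf, rfl⟩
    have : (Ideal.Quotient.mkₐ k I).toLinearMap f = 0 := by
      change Ideal.Quotient.mk I f = 0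
      rw [Ideal.Quotient.eq_zero_iff_mem, ← support_sum_monomial_coeff f]
      apply Ideal.sum_mem
      intro D hD
      have hw : weight w D = ν := hf (MvPolynomial.mem_support_iff.mp hD)
      have : monomial D (coeff D f) = C (coeff D f) * monomial D 1 := by
        rw [C_mul_monomial, mul_one]
      rw [this]
      exact Ideal.mul_mem_left _ _ (hall D hw)
    rw [this]
    exact Submodule.zero_mem _
  · push Not at hall
    obtain ⟨D₀, hw₀, hD₀⟩ := hall
    refine ⟨Ideal.Quotient.mk I (monomial D₀ 1), ?_⟩
    rintro _ ⟨f, hf, rfl⟩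
    rw [Submodule.mem_span_singleton]
    refine ⟨coeff D₀ f, ?_⟩
    change coeff D₀ f • Ideal.Quotient.mk I (monomial D₀ 1) = Ideal.Quotient.mk I f
    have hsm : coeff D₀ f • Ideal.Quotient.mk I (monomial D₀ (1 : k)) =
        Ideal.Quotient.mk I (monomial D₀ (coeff D₀ f)) := by
      rw [← Ideal.Quotient.mkₐ_eq_mk k, ← map_smul, smul_monomial, smul_eq_mul, mul_one]
    rw [hsm, ← sub_eq_zero, ← map_sub, Ideal.Quotient.eq_zero_iff_mem]
    have hdecomp : f = ∑ D ∈ f.support, monomial D (coeff D f) := (support_sum_monomial_coeff f).symm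
    have key : monomial D₀ (coeff D₀ f) - f = - ∑ D ∈ f.support.erase D₀, monomial D (coeff D f) := by
      by_cases hmem : D₀ ∈ f.support
      · have h1 : ∑ D ∈ f.support, monomial D (coeff D f) =
            monomial D₀ (coeff D₀ f) + ∑ D ∈ f.support.erase D₀, monomial D (coeff D f) :=
          (Finset.add_sum_erase _ _ hmem).symm
        have hf2 := hdecomp.trans h1
        linear_combination (-1 : MvPolynomial σ k) * hf2
      · have : coeff D₀ f = 0 := by rwa [MvPolynomial.mem_support_iff, not_not] at hmem
        rw [this, monomial_zero, zero_sub, Finset.erase_eq_of_notMem hmem, ← hdecomp]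
    rw [key]
    apply Submodule.neg_mem
    apply Ideal.sum_mem
    intro D hD
    rw [Finset.mem_erase] at hD
    have hw : weight w D = ν := hf (MvPolynomial.mem_support_iff.mp hD.2)
    have hmem : monomial D (1 : k) ∈ I := by
      rcases h D D₀ hD.1 hw hw₀ with h1 | h1
      · exact h1
      · exact absurd h1 hD₀
    have : monomial D (coeff D f) = C (coeff D f) * monomial D 1 := by
      rw [C_mul_monomial, mul_one]
    rw [this]
    exact Ideal.mul_mem_left _ _ hmem

/-- Generalised form: if any two monomials of weight `ν` are congruent modulo `I` unless one of them lies in `I`,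
the image of the weight-`ν` polynomials in the quotient by `I` has rank at most one. -/
theorem rank_piece_le_one' {k : Type*} [Field k] (w : σ → M) (I : Ideal (MvPolynomial σ k)) (ν : M)
    (h : ∀ D D' : σ →₀ ℕ, weight w D = ν → weight w D' = ν →
      monomial D (1 : k) ∈ I ∨ monomial D' (1 : k) ∈ I ∨ monomial D (1 : k) - monomial D' 1 ∈ I) :
    Module.rank k (Submodule.map (Ideal.Quotient.mkₐ k I).toLinearMap
      (weightedHomogeneousSubmodule k w ν)) ≤ 1 := by
  classical
  have : Module.Free k ↥(Submodule.map (Ideal.Quotient.mkₐ k I).toLinearMap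
      (weightedHomogeneousSubmodule k w ν)) := Module.Free.of_divisionRing _ _
  rw [rank_submodule_le_one_iff']
  by_cases hall : ∀ D : σ →₀ ℕ, weight w D = ν → monomial D (1 : k) ∈ I
  · refine ⟨0, ?_⟩
    rintro _ ⟨f, hf, rfl⟩
    have : (Ideal.Quotient.mkₐ k I).toLinearMap f = 0 := by
      change Ideal.Quotient.mk I f = 0
      rw [Ideal.Quotient.eq_zero_iff_mem, ← support_sum_monomial_coeff f]
      apply Ideal.sum_mem
      intro D hD
      have hw : weight w D = ν := hf (MvPolynomial.mem_support_iff.mp hD)
      have : monomial D (coeff D f) = C (coeff D f) * monomial D 1 := by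
        rw [C_mul_monomial, mul_one]
      rw [this]
      exact Ideal.mul_mem_left _ _ (hall D hw)
    rw [this]
    exact Submodule.zero_mem _
  · push Not at hall
    obtain ⟨D₀, hw₀, hD₀⟩ := hall
    refine ⟨Ideal.Quotient.mk I (monomial D₀ 1), ?_⟩
    rintro _ ⟨f, hf, rfl⟩
    change Ideal.Quotient.mk I f ∈ _
    rw [← support_sum_monomial_coeff f, map_sum]
    apply Submodule.sum_mem
    intro D hD
    have hw : weight w D = ν := hf (MvPolynomial.mem_support_iff.mp hD)
    have hmono : monomial D (coeff D f) = C (coeff D f) * monomial D 1 := by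
      rw [C_mul_monomial, mul_one]
    rw [hmono, map_mul]
    have hC : Ideal.Quotient.mk I (C (coeff D f)) * Ideal.Quotient.mk I (monomial D 1) =
        coeff D f • Ideal.Quotient.mk I (monomial D (1 : k)) := by
      rw [← Ideal.Quotient.mkₐ_eq_mk k, ← map_smul, ← map_mul, C_mul', smul_eq_C_mul]
    rw [hC]
    apply Submodule.smul_mem
    rcases h D D₀ hw hw₀ with h1 | h1 | h1
    · rw [Ideal.Quotient.eq_zero_iff_mem.mpr h1]
      exact Submodule.zero_mem _
    · exact absurd h1 hD₀
    · have : Ideal.Quotient.mk I (monomial D (1 : k)) = Ideal.Quotient.mk I (monomial D₀ 1) := by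
        rw [← sub_eq_zero, ← map_sub]
        exact Ideal.Quotient.eq_zero_iff_mem.mpr h1
      rw [this]
      exact Submodule.mem_span_singleton_self _

end Groth.Agent.Lib.Helper9.WHDecomp
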