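import Mathlib
import Groth.Agent.Lib.Helper9.HJ
import Groth.Agent.Lib.Helper9.WHDecomp

/-!
# Weighted homogeneous monomials for the `wt3` grading (helper9)
-/

set_option autoImplicit false

namespace Groth.Agent.Lib.Helper9.HJPoly

open W4c2invhilbsl2 MvPolynomial Groth.Agent.Lib.Helper9.HJ

theorem weight_wt3 (p q m : ℕ) (D : Fin 3 →₀ ℕ) :
    Finsupp.weight (wt3 p q m) D =
      ((D 0 : ℤ) - p * D 1 + q * D 2, -(D 1 : ZMod m) + (D 2 : ZMod m)) := by
  rw [Finsupp.weight_eq_sum, Fin.sum_univ_three]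
  simp only [wt3, Matrix.cons_val_zero, Matrix.cons_val_one, Matrix.cons_val_two,
    Matrix.head_cons, Matrix.tail_cons]
  ext
  · simp; ring
  · simp

theorem weight_wt3_eq_iff (p q m : ℕ) (D : Fin 3 →₀ ℕ) (N : ℤ) :
    Finsupp.weight (wt3 p q m) D = (N, (0 : ZMod m)) ↔
      ((D 0 : ℤ) - p * D 1 + q * D 2 = N ∧ (m : ℤ) ∣ (D 1 : ℤ) - D 2) := by
  rw [weight_wt3, Prod.mk.injEq]
  refine and_congr Iff.rfl ?_
  rw [← ZMod.intCast_zmod_eq_zero_iff_dvd]
  push_cast
  constructor
  · intro h; linear_combination (-1 : ZMod m) * h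
  · intro h; linear_combination (-1 : ZMod m) * h

section nonneg
variable {p q m : ℕ} {c : List ℤ}
variable (hpq : p < q) (hcop : Nat.Coprime p q) (hm : 0 < m) (hnt : ¬ (q - p ∣ m))
  (hc : IsHJDigits p q m c)

include hpq hcop hm hnt hc in
theorem nN_nonneg (i : ℕ) (hi : i ≤ c.length + 1) : 0 ≤ nN p q m c i := by
  rw [nN_eq_nu hpq]
  have := nu_nonneg hpq hcop hm hnt hc i hi
  positivity

include hpq hcop hm hnt hc in
theorem lL_nonneg (i : ℕ) (hi : i ≤ c.length + 1) : 0 ≤ lL p q m c i := by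
  have h1 := nN_nonneg hpq hcop hm hnt hc i hi
  have h2 := nN_eq' (p := p) (q := q) (m := m) (c := c) i
  have h3 := hjP_nonneg hc.1 i hi
  have hdpos : (0 : ℤ) < (q : ℤ) - p := by
    have : (p : ℤ) < q := by exact_mod_cast hpq
    linarith
  have hpm0 : (0 : ℤ) ≤ (p : ℤ) * m := by positivity
  by_contra hcon
  push Not at hcon
  have : lL p q m c i ≤ -1 := by omega
  nlinarith

include hpq hcop hm hnt hc in
theorem eE_nonneg (i : ℕ) (hi : i ≤ c.length + 1) : 0 ≤ eE p q m c i := by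
  rw [eE_eq]
  have h1 := lL_nonneg hpq hcop hm hnt hc i hi
  have h3 := hjP_nonneg hc.1 i hi
  positivity

end nonneg

/-! ### The ideals `L⁽ⁱ⁾` -/

/-- sufficient condition for the monomial `X^D` to lie in `idealL k p q m c i 0` -/
def InL (p q m : ℕ) (c : List ℤ) (i : ℕ) (D : Fin 3 →₀ ℕ) : Prop :=
  (nN p q m c (i - 1)).toNat ≤ D 0 ∨ ((eE p q m c i).toNat ≤ D 1 ∧ (lL p q m c i).toNat ≤ D 2) ∨
    ∃ Z : Fin 3 →₀ ℕ, Z ≠ 0 ∧ Finsupp.weight (wt3 p q m) Z = 0 ∧ Z ≤ D

theorem monomial_eq_mul_of_le {k : Type*} [CommRing k] {σ : Type*} {Z D : σ →₀ ℕ} (h : Z ≤ D) :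
    monomial D (1 : k) = monomial (D - Z) 1 * monomial Z 1 := by
  rw [monomial_mul, mul_one, tsub_add_cancel_of_le h]

theorem monomial_mem_idealL_zero {k : Type*} [CommRing k] (p q m : ℕ) (c : List ℤ) (i : ℕ)
    (D : Fin 3 →₀ ℕ) (h : InL p q m c i D) : monomial D (1 : k) ∈ idealL k p q m c i 0 := by
  unfold idealL
  rcases h with h | ⟨h1, h2⟩ | ⟨Z, hZ0, hZw, hZle⟩
  · apply Ideal.mem_sup_left
    have hle : Finsupp.single (0 : Fin 3) (nN p q m c (i - 1)).toNat ≤ D := by
      intro j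
      by_cases hj : j = 0
      · subst hj; simpa using h
      · rw [Finsupp.single_apply, if_neg (Ne.symm hj)]; exact Nat.zero_le _
    rw [monomial_eq_mul_of_le hle]
    apply Ideal.mul_mem_left
    apply Ideal.subset_span
    left
    rw [X_pow_eq_monomial]
  · apply Ideal.mem_sup_left
    have hle : Finsupp.single (1 : Fin 3) (eE p q m c i).toNat +
        Finsupp.single (2 : Fin 3) (lL p q m c i).toNat ≤ D := by
      intro j
      fin_cases j
      · simp
      · simpa using h1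
      · simpa using h2
    rw [monomial_eq_mul_of_le hle]
    apply Ideal.mul_mem_left
    have hgen : (C (0 : k) * X 0 ^ (nN p q m c i).toNat -
        X 1 ^ (eE p q m c i).toNat * X 2 ^ (lL p q m c i).toNat : MvPolynomial (Fin 3) k) ∈
        Ideal.span {X 0 ^ (nN p q m c (i - 1)).toNat,
          C (0 : k) * X 0 ^ (nN p q m c i).toNat -
            X 1 ^ (eE p q m c i).toNat * X 2 ^ (lL p q m c i).toNat} :=
      Ideal.subset_span (by right; rfl)
    have := Submodule.neg_mem _ hgen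
    convert this using 1
    rw [X_pow_eq_monomial (R := k) (n := (1 : Fin 3)), X_pow_eq_monomial (R := k) (n := (2 : Fin 3)),
      monomial_mul, mul_one]
    simp
  · apply Ideal.mem_sup_right
    rw [monomial_eq_mul_of_le hZle]
    apply Ideal.mul_mem_left
    unfold idealK
    apply Ideal.subset_span
    exact ⟨Z, hZ0, hZw, rfl⟩

theorem InL_mono {p q m : ℕ} {c : List ℤ} {i : ℕ} {D D₂ : Fin 3 →₀ ℕ} (hle : D ≤ D₂)
    (h : InL p q m c i D) : InL p q m c i D₂ := by
  rcases h with h | ⟨h1, h2⟩ | ⟨Z, hZ0, hZw, hZle⟩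
  · exact Or.inl (le_trans h (hle 0))
  · exact Or.inr (Or.inl ⟨le_trans h1 (hle 1), le_trans h2 (hle 2)⟩)
  · exact Or.inr (Or.inr ⟨Z, hZ0, hZw, le_trans hZle hle⟩)

section dichotomy
variable {p q m : ℕ} {c : List ℤ}
variable (hpq : p < q) (hcop : Nat.Coprime p q) (hm : 0 < m) (hnt : ¬ (q - p ∣ m))
  (hc : IsHJDigits p q m c)

theorem weight_wt3_eq_weight_iff (p q m : ℕ) (D D' : Fin 3 →₀ ℕ) :
    Finsupp.weight (wt3 p q m) D = Finsupp.weight (wt3 p q m) D' ↔
      ((D 0 : ℤ) - p * D 1 + q * D 2 = (D' 0 : ℤ) - p * D' 1 + q * D' 2 ∧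
        (m : ℤ) ∣ ((D 1 : ℤ) - D' 1) - ((D 2 : ℤ) - D' 2)) := by
  rw [weight_wt3, weight_wt3, Prod.mk.injEq]
  refine and_congr Iff.rfl ?_
  rw [← ZMod.intCast_zmod_eq_zero_iff_dvd]
  push_cast
  constructor
  · intro h; linear_combination (-1 : ZMod m) * h
  · intro h; linear_combination (-1 : ZMod m) * h

theorem tsub_ne_zero_of_le_of_ne {D D' : Fin 3 →₀ ℕ} (hle : D' ≤ D) (hne : D ≠ D') : D - D' ≠ 0 := by
  intro h
  apply hne
  apply le_antisymm _ hle
  exact tsub_eq_zero_iff_le.mp h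

include hpq hcop hm hnt hc in
theorem dichotomy_aux (i : ℕ) (hi1 : 1 ≤ i) (hi : i ≤ c.length) (D D' : Fin 3 →₀ ℕ) (hne : D ≠ D')
    (hw : Finsupp.weight (wt3 p q m) D = Finsupp.weight (wt3 p q m) D') (h2 : D' 2 ≤ D 2) :
    InL p q m c i D ∨ InL p q m c i D' := by
  have hw' := (weight_wt3_eq_weight_iff p q m D D').mp hw
  obtain ⟨hw1, hw2⟩ := hw'
  have hN0 := nN_nonneg hpq hcop hm hnt hc (i - 1) (by omega)
  have hN : (((nN p q m c (i - 1)).toNat : ℕ) : ℤ) = nN p q m c (i - 1) := Int.toNat_of_nonneg hN0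
  have hNle := nN_le_sub hpq hcop hm hnt hc (i - 1) (by omega)
  have h2' : ((D' 2 : ℕ) : ℤ) ≤ (D 2 : ℤ) := by exact_mod_cast h2
  have hp0 : (0 : ℤ) ≤ (p : ℤ) := Int.natCast_nonneg p
  have hq0 : (0 : ℤ) ≤ (q : ℤ) := Int.natCast_nonneg q
  by_cases h1 : D' 1 ≤ D 1
  · have h1' : ((D' 1 : ℕ) : ℤ) ≤ (D 1 : ℤ) := by exact_mod_cast h1
    by_cases h0 : D' 0 ≤ D 0
    · -- D' ≤ D
      left
      have hle : D' ≤ D := by
        intro j; fin_cases j
        · exact h0
        · exact h1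
        · exact h2
      refine Or.inr (Or.inr ⟨D - D', tsub_ne_zero_of_le_of_ne hle hne, ?_, tsub_le_self⟩)
      rw [Groth.Agent.Lib.Helper9.WHDecomp.weight_tsub _ hle, hw, sub_self]
    · push Not at h0
      by_cases ha : (nN p q m c (i - 1)).toNat ≤ D' 0 - D 0
      · right
        exact Or.inl (le_trans ha (Nat.sub_le _ _))
      · push Not at ha
        left
        have h0' : ((D 0 : ℕ) : ℤ) < (D' 0 : ℤ) := by exact_mod_cast h0
        have hcast0 : (((nN p q m c (i - 1)).toNat - (D' 0 - D 0) : ℕ) : ℤ) =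
            nN p q m c (i - 1) - ((D' 0 : ℤ) - D 0) := by
          rw [Nat.cast_sub ha.le, Nat.cast_sub h0.le, hN]
        have hcast1 : ((D 1 - D' 1 : ℕ) : ℤ) = (D 1 : ℤ) - D' 1 := Nat.cast_sub h1
        have hcast2 : ((D 2 - D' 2 : ℕ) : ℤ) = (D 2 : ℤ) - D' 2 := Nat.cast_sub h2
        have hb := mono_bound hpq hcop hm hnt hc (i - 1) i hi1 (by omega) (Or.inr (by omega))
          ((nN p q m c (i - 1)).toNat - (D' 0 - D 0)) (D 1 - D' 1) (D 2 - D' 2)
          (by rw [hcast0, hcast1, hcast2]; linarith)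
          (by rw [hcast1, hcast2]; exact hw2)
          (by rw [hcast0]; linarith)
          (fun _ => by omega)
        refine Or.inr (Or.inl ⟨?_, ?_⟩)
        · rw [Int.toNat_le]
          have := hb.1
          rw [hcast1] at this
          have hD'1 : (0 : ℤ) ≤ (D' 1 : ℤ) := Int.natCast_nonneg _
          linarith
        · rw [Int.toNat_le]
          have := hb.2
          rw [hcast2] at this
          have hD'2 : (0 : ℤ) ≤ (D' 2 : ℤ) := Int.natCast_nonneg _
          linarith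
  · push Not at h1
    have h1' : ((D 1 : ℕ) : ℤ) < (D' 1 : ℤ) := by exact_mod_cast h1
    right
    rcases Nat.eq_or_lt_of_le h2 with h2e | h2l
    · -- δ₂ = 0: D ≤ D'
      have h2e' : ((D' 2 : ℕ) : ℤ) = (D 2 : ℤ) := by exact_mod_cast h2e
      have h0 : D 0 ≤ D' 0 := by
        have : ((D 0 : ℕ) : ℤ) ≤ (D' 0 : ℤ) := by nlinarith
        exact_mod_cast this
      have hle : D ≤ D' := by
        intro j; fin_cases j
        · exact h0
        · exact h1.le
        · exact h2e.symm.le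
      refine Or.inr (Or.inr ⟨D' - D, tsub_ne_zero_of_le_of_ne hle hne.symm, ?_, tsub_le_self⟩)
      rw [Groth.Agent.Lib.Helper9.WHDecomp.weight_tsub _ hle, hw, sub_self]
    · -- δ₂ > 0
      have h2l' : ((D' 2 : ℕ) : ℤ) + 1 ≤ (D 2 : ℤ) := by exact_mod_cast h2l
      refine Or.inl ?_
      rw [Int.toNat_le]
      have hD0 : (0 : ℤ) ≤ (D 0 : ℤ) := Int.natCast_nonneg _
      have hpq' : (p : ℤ) < q := by exact_mod_cast hpq
      nlinarith

include hpq hcop hm hnt hc in
theorem dichotomy (i : ℕ) (hi1 : 1 ≤ i) (hi : i ≤ c.length) (D D' : Fin 3 →₀ ℕ) (hne : D ≠ D')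
    (hw : Finsupp.weight (wt3 p q m) D = Finsupp.weight (wt3 p q m) D') :
    InL p q m c i D ∨ InL p q m c i D' := by
  rcases le_total (D' 2) (D 2) with h | h
  · exact dichotomy_aux hpq hcop hm hnt hc i hi1 hi D D' hne hw h
  · exact (dichotomy_aux hpq hcop hm hnt hc i hi1 hi D' D hne.symm hw.symm h).symm

end dichotomy

section reduce
variable {p q m : ℕ} {c : List ℤ}
variable (hpq : p < q) (hcop : Nat.Coprime p q) (hm : 0 < m) (hnt : ¬ (q - p ∣ m))
  (hc : IsHJDigits p q m c)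

include hpq hcop hm hnt hc in
theorem weight_single0 (i : ℕ) (hi : i ≤ c.length + 1) :
    Finsupp.weight (wt3 p q m) (Finsupp.single (0 : Fin 3) (nN p q m c i).toNat) =
      (nN p q m c i, (0 : ZMod m)) := by
  have hN : (((nN p q m c i).toNat : ℕ) : ℤ) = nN p q m c i :=
    Int.toNat_of_nonneg (nN_nonneg hpq hcop hm hnt hc i hi)
  rw [weight_wt3_eq_iff]
  simp [hN]

include hpq hcop hm hnt hc in
theorem weight_EL (i : ℕ) (hi : i ≤ c.length + 1) :
    Finsupp.weight (wt3 p q m) (Finsupp.single (1 : Fin 3) (eE p q m c i).toNat +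
      Finsupp.single (2 : Fin 3) (lL p q m c i).toNat) = (nN p q m c i, (0 : ZMod m)) := by
  have hE : (((eE p q m c i).toNat : ℕ) : ℤ) = eE p q m c i :=
    Int.toNat_of_nonneg (eE_nonneg hpq hcop hm hnt hc i hi)
  have hL : (((lL p q m c i).toNat : ℕ) : ℤ) = lL p q m c i :=
    Int.toNat_of_nonneg (lL_nonneg hpq hcop hm hnt hc i hi)
  rw [weight_wt3_eq_iff]
  simp only [Finsupp.coe_add, Pi.add_apply]
  have h10 : (Finsupp.single (1 : Fin 3) (eE p q m c i).toNat) 0 = 0 := by simp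
  have h20 : (Finsupp.single (2 : Fin 3) (lL p q m c i).toNat) 0 = 0 := by simp
  have h11 : (Finsupp.single (1 : Fin 3) (eE p q m c i).toNat) 1 = (eE p q m c i).toNat := by simp
  have h21 : (Finsupp.single (2 : Fin 3) (lL p q m c i).toNat) 1 = 0 := by simp
  have h12 : (Finsupp.single (1 : Fin 3) (eE p q m c i).toNat) 2 = 0 := by simp
  have h22 : (Finsupp.single (2 : Fin 3) (lL p q m c i).toNat) 2 = (lL p q m c i).toNat := by simp
  rw [h10, h20, h11, h21, h12, h22]
  push_cast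
  rw [hE, hL]
  constructor
  · unfold nN; ring
  · rw [eE_eq]
    exact ⟨hjP c i, by ring⟩

include hpq hcop hm hnt hc in
theorem eE_toNat_pos (i : ℕ) (hi1 : 1 ≤ i) (hi : i ≤ c.length + 1) : 1 ≤ (eE p q m c i).toNat := by
  have hL := lL_nonneg hpq hcop hm hnt hc i hi
  have hP : 1 ≤ hjP c i := by
    have := hjP_mono hc.1 1 i hi1 hi
    simpa [hjP] using this
  have hmpos : (1 : ℤ) ≤ (m : ℤ) := by exact_mod_cast hm
  have : 1 ≤ eE p q m c i := by
    rw [eE_eq]; nlinarith
  omega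

include hpq hcop hm hnt hc in
theorem exists_reduced {k : Type*} [CommRing k] (i : ℕ) (hi1 : 1 ≤ i) (hi : i ≤ c.length + 1) :
    ∀ n : ℕ, ∀ D : Fin 3 →₀ ℕ, D 1 = n → ∃ Dr : Fin 3 →₀ ℕ,
      Finsupp.weight (wt3 p q m) Dr = Finsupp.weight (wt3 p q m) D ∧
      monomial D (1 : k) - monomial Dr 1 ∈ idealL k p q m c i 1 ∧
      ¬ ((eE p q m c i).toNat ≤ Dr 1 ∧ (lL p q m c i).toNat ≤ Dr 2) := by
  intro n
  induction n using Nat.strong_induction_on with
  | _ n ih =>
    intro D hD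
    by_cases hred : (eE p q m c i).toNat ≤ D 1 ∧ (lL p q m c i).toNat ≤ D 2
    · have hEpos := eE_toNat_pos hpq hcop hm hnt hc i hi1 hi
      have hle : Finsupp.single (1 : Fin 3) (eE p q m c i).toNat +
          Finsupp.single (2 : Fin 3) (lL p q m c i).toNat ≤ D := by
        intro j
        fin_cases j
        · simp
        · simpa using hred.1
        · simpa using hred.2
      set EL := Finsupp.single (1 : Fin 3) (eE p q m c i).toNat +
          Finsupp.single (2 : Fin 3) (lL p q m c i).toNat with hEL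
      set D₂ := (D - EL) + Finsupp.single (0 : Fin 3) (nN p q m c i).toNat with hD₂
      have hD₂1 : D₂ 1 = D 1 - (eE p q m c i).toNat := by
        simp [hD₂, hEL]
      obtain ⟨Dr, hw, hmem, hnot⟩ := ih (D₂ 1) (by rw [hD₂1, ← hD]; omega) D₂ rfl
      refine ⟨Dr, ?_, ?_, hnot⟩
      · rw [hw, hD₂, map_add, weight_single0 hpq hcop hm hnt hc i hi,
          Groth.Agent.Lib.Helper9.WHDecomp.weight_tsub _ hle, weight_EL hpq hcop hm hnt hc i hi]
        abel
      · have h1 : monomial D (1 : k) - monomial D₂ 1 ∈ idealL k p q m c i 1 := by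
          have e1 : monomial D (1 : k) = monomial (D - EL) 1 * monomial EL 1 := monomial_eq_mul_of_le hle
          have e2 : monomial D₂ (1 : k) = monomial (D - EL) 1 *
              monomial (Finsupp.single (0 : Fin 3) (nN p q m c i).toNat) 1 := by
            rw [monomial_mul, mul_one]
          have e3 : monomial EL (1 : k) = X 1 ^ (eE p q m c i).toNat * X 2 ^ (lL p q m c i).toNat := by
            rw [X_pow_eq_monomial (R := k) (n := (1 : Fin 3)), X_pow_eq_monomial (R := k) (n := (2 : Fin 3)),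
              monomial_mul, mul_one]
          have e4 : monomial (Finsupp.single (0 : Fin 3) (nN p q m c i).toNat) (1 : k) =
              X 0 ^ (nN p q m c i).toNat := by rw [X_pow_eq_monomial]
          have hgen : (C (1 : k) * X 0 ^ (nN p q m c i).toNat -
              X 1 ^ (eE p q m c i).toNat * X 2 ^ (lL p q m c i).toNat : MvPolynomial (Fin 3) k) ∈
              idealL k p q m c i 1 := by
            unfold idealL
            apply Ideal.mem_sup_left
            exact Ideal.subset_span (by right; rfl)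
          have : monomial D (1 : k) - monomial D₂ 1 = -(monomial (D - EL) 1) *
              (C (1 : k) * X 0 ^ (nN p q m c i).toNat -
                X 1 ^ (eE p q m c i).toNat * X 2 ^ (lL p q m c i).toNat) := by
            rw [e1, e2, e3, e4, C_1]; ring
          rw [this]
          exact Ideal.mul_mem_left _ _ hgen
        have : monomial D (1 : k) - monomial Dr 1 =
            (monomial D (1 : k) - monomial D₂ 1) + (monomial D₂ (1 : k) - monomial Dr 1) := by ring
        rw [this]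
        exact Ideal.add_mem _ h1 hmem
    · exact ⟨D, rfl, by simp, hred⟩

theorem monomial_mem_idealL_one {k : Type*} [CommRing k] (p q m : ℕ) (c : List ℤ) (i : ℕ)
    (D : Fin 3 →₀ ℕ) (h : InL p q m c i D)
    (hred : ¬ ((eE p q m c i).toNat ≤ D 1 ∧ (lL p q m c i).toNat ≤ D 2)) :
    monomial D (1 : k) ∈ idealL k p q m c i 1 := by
  unfold idealL
  rcases h with h | h | ⟨Z, hZ0, hZw, hZle⟩
  · apply Ideal.mem_sup_left
    have hle : Finsupp.single (0 : Fin 3) (nN p q m c (i - 1)).toNat ≤ D := by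
      intro j
      by_cases hj : j = 0
      · subst hj; simpa using h
      · rw [Finsupp.single_apply, if_neg (Ne.symm hj)]; exact Nat.zero_le _
    rw [monomial_eq_mul_of_le hle]
    apply Ideal.mul_mem_left
    apply Ideal.subset_span
    left
    rw [X_pow_eq_monomial]
  · exact absurd h hred
  · apply Ideal.mem_sup_right
    rw [monomial_eq_mul_of_le hZle]
    apply Ideal.mul_mem_left
    unfold idealK
    apply Ideal.subset_span
    exact ⟨Z, hZ0, hZw, rfl⟩

end reduce

/-! ### Five variables -/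

theorem weight_wt5 (p q m : ℕ) (D : Fin 5 →₀ ℕ) :
    Finsupp.weight (wt5 p q m) D =
      ((D 0 : ℤ) - p * ((D 1 : ℤ) + D 2) + q * ((D 3 : ℤ) + D 4),
        -((D 1 : ZMod m) + D 2) + ((D 3 : ZMod m) + D 4)) := by
  rw [Finsupp.weight_eq_sum, Fin.sum_univ_five]
  simp only [wt5, Matrix.cons_val_zero, Matrix.cons_val_one, Matrix.cons_val_two,
    Matrix.head_cons, Matrix.tail_cons, Matrix.cons_val_three, Matrix.cons_val_four]
  ext
  · simp; ring
  · simp; ring

theorem weight_wt5_eq_iff (p q m : ℕ) (D : Fin 5 →₀ ℕ) (N : ℤ) :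
    Finsupp.weight (wt5 p q m) D = (N, (0 : ZMod m)) ↔
      ((D 0 : ℤ) - p * ((D 1 + D 2 : ℕ) : ℤ) + q * ((D 3 + D 4 : ℕ) : ℤ) = N ∧
        (m : ℤ) ∣ ((D 1 + D 2 : ℕ) : ℤ) - ((D 3 + D 4 : ℕ) : ℤ)) := by
  rw [weight_wt5, Prod.mk.injEq]
  push_cast
  refine and_congr Iff.rfl ?_
  rw [← ZMod.intCast_zmod_eq_zero_iff_dvd]
  push_cast
  constructor
  · intro h; linear_combination (-1 : ZMod m) * h
  · intro h; linear_combination (-1 : ZMod m) * h

end Groth.Agent.Lib.Helper9.HJPoly
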