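import Mathlib
import Groth.Agent.Lib.Helper10.Hartogs

/-!
# Hartogs' extension theorem with local hypotheses (helper9)

Local variants of helper10's `Hartogs` library: the depth hypothesis is only required at the
points of the (affine) open on which sections are extended.  The proofs follow helper10's.
-/

set_option autoImplicit false
set_option linter.unusedSectionVars false
open CategoryTheory CategoryTheory.Limits AlgebraicGeometry Opposite
universe u

namespace Groth.Agent.Lib.Helper9.HartogsLoc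

open Groth.Agent.Lib.Helper29.QCoh TopologicalSpace Groth.Agent.Lib.Helper10.Hartogs
open Pointwise RingTheory.Sequence

variable {X : Scheme.{u}} [IsLocallyNoetherian X] (F : X.Modules) [F.IsQuasicoherent]
  (U : X.Opens)

/-- depth at least two off `U` at the points of the affine open `W` -/
def LocDepthTwoOn {W : X.Opens} (hW : IsAffineOpen W) : Prop :=
  Module.Finite Γ(X, W) Γ(F, W) ∧
    ∀ (x : X) (hxW : x ∈ W), x ∉ U →
      (2 : ℕ∞) ≤ LocCoh.depth (Localization.AtPrime (hW.primeIdealOf ⟨x, hxW⟩).asIdeal)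
        (LocalizedModule (hW.primeIdealOf ⟨x, hxW⟩).asIdeal.primeCompl Γ(F, W))

theorem locDepthTwoOn_of_stalk_depth [F.IsFiniteType] {W : X.Opens} (hW : IsAffineOpen W)
    (hdepth : ∀ x : X, x ∈ W → x ∉ U →
      2 ≤ LocCoh.depth (X.presheaf.stalk x) (F.presheaf.stalk x)) :
    LocDepthTwoOn F U hW :=
  ⟨module_finite_of_isFiniteType F hW, fun x hxW hxU => by
    rw [← depth_stalk_eq_depth_localized F hW x hxW]
    exact hdepth x hxW hxU⟩

theorem two_le_idealDepth_of_forall_pow_mem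
    {W : X.Opens} (hW : IsAffineOpen W) (hloc : LocDepthTwoOn F U hW) (K : Ideal Γ(X, W))
    (hK : ∀ c : Γ(X, W), X.basicOpen c ≤ W ⊓ U → ∃ n : ℕ, c ^ n ∈ K) :
    ((2 : ℕ) : ℕ∞) ≤ LocCoh.idealDepth K Γ(F, W) := by
  have : IsNoetherianRing Γ(X, W) := IsLocallyNoetherian.component_noetherian ⟨W, hW⟩
  have : Module.Finite Γ(X, W) Γ(F, W) := hloc.1
  apply Groth.Agent.Lib.Helper18.QGor.le_idealDepth_of_forall_le_depth K 2 Γ(F, W)
  intro p _ hKp
  obtain ⟨x, hxW, hxp⟩ := exists_point_primeIdealOf_eq hW p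
  have hxU : x ∉ U := by
    intro hxU
    obtain ⟨c, hcT, hxc⟩ := hW.exists_basicOpen_le (V := W ⊓ U) ⟨x, ⟨hxW, hxU⟩⟩ hxW
    obtain ⟨n, hn⟩ := hK c hcT
    have h1 : c ∉ (hW.primeIdealOf ⟨x, hxW⟩).asIdeal :=
      (mem_basicOpen_iff_notMem_primeIdealOf hW x hxW c).mp hxc
    rw [hxp] at h1
    exact h1 (Ideal.IsPrime.mem_of_pow_mem ‹_› n (hKp hn))
  have h2 := hloc.2 x hxW hxU
  subst hxp
  exact h2

/-- Injectivity in the affine case. -/
theorem res_injective_of_isAffineOpen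
    {W : X.Opens} (hW : IsAffineOpen W) (hloc : LocDepthTwoOn F U hW) (m : Γ(F, W))
    (hm : res F (inf_le_left : W ⊓ U ≤ W) m = 0) : m = 0 := by
  have : IsNoetherianRing Γ(X, W) := IsLocallyNoetherian.component_noetherian ⟨W, hW⟩
  have : Module.Finite Γ(X, W) Γ(F, W) := hloc.1
  have h2 := two_le_idealDepth_of_forall_pow_mem F U hW hloc
    ((⊥ : Submodule Γ(X, W) Γ(F, W)).colon {m}) (fun c hc => by
      have h0 : res F (X.basicOpen_le c) m = 0 := by
        rw [← res_res F (inf_le_left : W ⊓ U ≤ W) hc, hm, map_zero]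
      obtain ⟨n, hn⟩ := exists_pow_smul_eq_zero F hW c m h0
      exact ⟨n, by rw [Submodule.mem_colon_singleton, Submodule.mem_bot]; exact hn⟩)
  have h1 : 1 ≤ LocCoh.idealDepth ((⊥ : Submodule Γ(X, W) Γ(F, W)).colon {m}) Γ(F, W) :=
    le_trans (by norm_num) h2
  refine Groth.Agent.Lib.Helper18.QGor.eq_zero_of_forall_pow_smul_eq_zero _ _ h1 m
    (fun j hj => ⟨1, ?_⟩)
  rw [Submodule.mem_colon_singleton, Submodule.mem_bot] at hj
  rw [pow_one]
  exact hj

/-- Surjectivity in the affine case. -/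
theorem res_surjective_of_isAffineOpen
    {W : X.Opens} (hW : IsAffineOpen W) (hloc : LocDepthTwoOn F U hW) (s : Γ(F, W ⊓ U)) :
    ∃ m : Γ(F, W), res F (inf_le_left : W ⊓ U ≤ W) m = s := by
  have : IsNoetherianRing Γ(X, W) := IsLocallyNoetherian.component_noetherian ⟨W, hW⟩
  have : Module.Finite Γ(X, W) Γ(F, W) := hloc.1
  have hT : W ⊓ U ≤ W := inf_le_left
  have h2 := two_le_idealDepth_of_forall_pow_mem F U hW hloc (denomIdeal F hT s)
    (fun c hc => by
      obtain ⟨n, m, hnm⟩ := exists_pow_rsmul_eq_res F hW hT c hc s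
      exact ⟨n, m, hnm⟩)
  rw [Groth.Agent.Lib.Helper16.Depth.le_idealDepth_iff] at h2
  rcases h2 with htop | ⟨rs, hlen, hreg, hmem⟩
  · obtain ⟨e, he, heM⟩ := Submodule.exists_sub_one_mem_and_smul_eq_zero_of_fg_of_le_smul
      (denomIdeal F hT s) (⊤ : Submodule Γ(X, W) Γ(F, W)) Module.Finite.fg_top htop.ge
    have hc : 1 - e ∈ denomIdeal F hT s := by
      have := (denomIdeal F hT s).neg_mem he
      simpa using this
    obtain ⟨m0, hm0⟩ := hc
    refine ⟨m0, ?_⟩
    rw [← hm0]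
    have h3 : rsmul F hT e s = 0 :=
      rsmul_eq_zero_of_forall_smul_eq_zero F hW hT e (fun m => heM m trivial) s
    unfold rsmul at h3 ⊢
    rw [map_sub, sub_smul, h3, sub_zero, map_one, one_smul]
  · obtain ⟨x, y, rfl⟩ := List.length_eq_two.mp hlen
    rw [isWeaklyRegular_cons_iff, isWeaklyRegular_cons_iff] at hreg
    obtain ⟨hx, hy, -⟩ := hreg
    obtain ⟨mx, hmx⟩ := hmem x (by simp)
    obtain ⟨my, hmy⟩ := hmem y (by simp)
    have heq : y • mx = x • my := by
      rw [← sub_eq_zero]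
      apply res_injective_of_isAffineOpen F U hW hloc
      rw [map_sub, ← rsmul_eq_smul_res, ← rsmul_eq_smul_res, ← hmx, ← hmy, sub_eq_zero]
      unfold rsmul
      rw [smul_comm]
    have hmem' : mx ∈ x • (⊤ : Submodule Γ(X, W) Γ(F, W)) := by
      have h0 : y • (Submodule.Quotient.mk mx : QuotSMulTop x Γ(F, W)) = y • 0 := by
        rw [smul_zero, ← Submodule.Quotient.mk_smul, heq, Submodule.Quotient.mk_eq_zero]
        exact Submodule.smul_mem_pointwise_smul _ _ _ Submodule.mem_top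
      have := hy h0
      rwa [Submodule.Quotient.mk_eq_zero] at this
    obtain ⟨m', -, hm'⟩ := (Submodule.mem_smul_pointwise_iff_exists _ _ _).mp hmem'
    refine ⟨m', ?_⟩
    rw [← sub_eq_zero]
    apply eq_zero_of_rsmul_eq_zero_of_isSMulRegular F hW hT x hx
    rw [rsmul_sub, rsmul_eq_smul_res, hm', hmx, sub_self]

/-- **Hartogs relative to an open `V₀`**: depth at least two at the points of `V₀ ∖ U` gives
bijective restrictions `Γ(V, F) → Γ(V ∩ U, F)` for all opens `V ≤ V₀`. -/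
theorem res_bijective_of_le [F.IsFiniteType] (V₀ : X.Opens)
    (hdepth : ∀ x : X, x ∈ V₀ → x ∉ U →
      2 ≤ LocCoh.depth (X.presheaf.stalk x) (F.presheaf.stalk x))
    (V : X.Opens) (hV : V ≤ V₀) : Function.Bijective (res F (inf_le_left : V ⊓ U ≤ V)) := by
  have hloc : ∀ {W : X.Opens} (hW : IsAffineOpen W), W ≤ V₀ → LocDepthTwoOn F U hW :=
    fun hW hWV => locDepthTwoOn_of_stalk_depth F U hW (fun x hxW hxU => hdepth x (hWV hxW) hxU)
  have hinj : ∀ (V : X.Opens), V ≤ V₀ → ∀ (m : Γ(F, V)),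
      res F (inf_le_left : V ⊓ U ≤ V) m = 0 → m = 0 := by
    intro V hVV m hm
    refine eq_zero_of_res_cover_eq_zero F
      (fun W : {W : X.Opens // IsAffineOpen W ∧ W ≤ V} => W.1) (fun W => W.2.2) ?_ m ?_
    · intro x hx
      obtain ⟨W, hW, hxW, hWV⟩ := exists_isAffineOpen_mem_and_subset (x := x) (U := V) hx
      exact Opens.mem_iSup.mpr ⟨⟨W, hW, hWV⟩, hxW⟩
    · rintro ⟨W, hW, hWV⟩
      apply res_injective_of_isAffineOpen F U hW (hloc hW (hWV.trans hVV))
      rw [res_res, ← res_res F (inf_le_left : V ⊓ U ≤ V) (inf_le_inf_right U hWV), hm, map_zero]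
  refine ⟨fun a b hab => ?_, fun t => ?_⟩
  · rw [← sub_eq_zero]
    apply hinj V hV
    rw [map_sub, hab, sub_self]
  · have hloc' : ∀ W : {W : X.Opens // IsAffineOpen W ∧ W ≤ V}, ∃ m : Γ(F, W.1),
        res F (inf_le_left : W.1 ⊓ U ≤ W.1) m = res F (inf_le_inf_right U W.2.2) t :=
      fun W => res_surjective_of_isAffineOpen F U W.2.1 (hloc W.2.1 (W.2.2.trans hV)) _
    choose sf hsf using hloc'
    obtain ⟨s, hs⟩ := exists_gluing F (fun W : {W : X.Opens // IsAffineOpen W ∧ W ≤ V} => W.1) V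
      (fun W => W.2.2) (by
        intro x hx
        obtain ⟨W, hW, hxW, hWV⟩ := exists_isAffineOpen_mem_and_subset (x := x) (U := V) hx
        exact Opens.mem_iSup.mpr ⟨⟨W, hW, hWV⟩, hxW⟩) sf (by
        intro W W'
        rw [← sub_eq_zero]
        apply hinj (W.1 ⊓ W'.1) (inf_le_left.trans (W.2.2.trans hV))
        rw [map_sub, res_res, res_res, sub_eq_zero,
          ← res_res F (inf_le_left : W.1 ⊓ U ≤ W.1)
            (inf_le_inf_right U (inf_le_left : W.1 ⊓ W'.1 ≤ W.1)),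
          ← res_res F (inf_le_left : W'.1 ⊓ U ≤ W'.1)
            (inf_le_inf_right U (inf_le_right : W.1 ⊓ W'.1 ≤ W'.1)),
          hsf W, hsf W', res_res, res_res])
    refine ⟨s, ?_⟩
    rw [← sub_eq_zero]
    refine eq_zero_of_res_cover_eq_zero F
      (fun W : {W : X.Opens // IsAffineOpen W ∧ W ≤ V} => W.1 ⊓ U)
      (fun W => inf_le_inf_right U W.2.2) ?_ _ ?_
    · intro x hx
      obtain ⟨W, hW, hxW, hWV⟩ := exists_isAffineOpen_mem_and_subset (x := x) (U := V) hx.1
      exact Opens.mem_iSup.mpr ⟨⟨W, hW, hWV⟩, ⟨hxW, hx.2⟩⟩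
    · intro W
      rw [map_sub, res_res, ← res_res F W.2.2 (inf_le_left : W.1 ⊓ U ≤ W.1), hs W, hsf W,
        sub_self]

end Groth.Agent.Lib.Helper9.HartogsLoc
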