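import Mathlib
import Groth.Prelude.Def_Dual3
import Groth.Agent.Lib.Helper9.IdMul6
import Groth.Agent.Lib.Helper29.ProjF1

/-!
# Cycles and homology of complexes of quasi-coherent modules, sectionwise (helper9)
-/

set_option autoImplicit false
universe u
open CategoryTheory CategoryTheory.Limits AlgebraicGeometry TopologicalSpace Opposite TensorProduct

namespace Groth.Agent.Lib.Helper9.IdMul

open Groth.Agent.Lib.Helper29.QCoh

variable {X : Scheme.{u}} (K : CochainComplex X.Modules ℤ) (p : ℤ)

theorem exact_iCycles_d :
    (ShortComplex.mk (K.iCycles p) (K.d p (p + 1)) (K.iCycles_d p (p + 1))).Exact :=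
  ShortComplex.exact_of_f_is_kernel _ (K.cyclesIsKernel p (p + 1) (by simp))

theorem exact_toCycles_homologyπ :
    (ShortComplex.mk (K.toCycles (p - 1) p) (K.homologyπ p)
      (K.toCycles_comp_homologyπ (p - 1) p)).Exact :=
  ShortComplex.exact_of_g_is_cokernel _ (K.homologyIsCokernel (p - 1) p (by simp))

theorem isQuasicoherent_cycles (hK : ∀ q, (K.X q).IsQuasicoherent) :
    (K.cycles p).IsQuasicoherent := by
  have := hK p
  have := hK (p + 1)
  exact isQuasicoherent_of_exact_of_mono
    (ShortComplex.mk (K.iCycles p) (K.d p (p + 1)) (K.iCycles_d p (p + 1))) (exact_iCycles_d K p)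

theorem isQuasicoherent_homology (hK : ∀ q, (K.X q).IsQuasicoherent) :
    (K.homology p).IsQuasicoherent := by
  have := hK (p - 1)
  have := isQuasicoherent_cycles K p hK
  let e : K.homology p ≅ cokernel (K.toCycles (p - 1) p) :=
    IsColimit.coconePointUniqueUpToIso (K.homologyIsCokernel (p - 1) p (by simp))
      (colimit.isColimit (parallelPair (K.toCycles (p - 1) p) 0))
  exact isQuasicoherent_of_iso e.symm

theorem exact_iCycles_app (U : X.Opens) :
    Function.Exact ((K.iCycles p).app U) ((K.d p (p + 1)).app U) :=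
  app_exact_of_exact_of_mono
    (ShortComplex.mk (K.iCycles p) (K.d p (p + 1)) (K.iCycles_d p (p + 1)))
    (exact_iCycles_d K p) U

theorem iCycles_app_injective (U : X.Opens) : Function.Injective ((K.iCycles p).app U) :=
  Groth.Agent.Lib.Helper12.H12ModLim.app_injective_of_mono (K.iCycles p) U

theorem range_iCycles (U : X.Opens) :
    LinearMap.range (appₗ (K.iCycles p) U) = LinearMap.ker (appₗ (K.d p (p + 1)) U) := by
  ext m
  exact ((exact_iCycles_app K p U) m).symm

theorem exact_toCycles_app (hK : ∀ q, (K.X q).IsQuasicoherent) {W : X.Opens}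
    (hW : IsAffineOpen W) :
    Function.Exact ((K.toCycles (p - 1) p).app W) ((K.homologyπ p).app W) := by
  have := hK (p - 1)
  have := isQuasicoherent_cycles K p hK
  exact app_exact_of_exact (ShortComplex.mk (K.toCycles (p - 1) p) (K.homologyπ p)
      (K.toCycles_comp_homologyπ (p - 1) p)) (exact_toCycles_homologyπ K p) hW

theorem homologyπ_app_surjective (hK : ∀ q, (K.X q).IsQuasicoherent) {W : X.Opens}
    (hW : IsAffineOpen W) : Function.Surjective ((K.homologyπ p).app W) := by
  have := isQuasicoherent_cycles K p hK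
  have := isQuasicoherent_homology K p hK
  exact app_surjective_of_epi (K.homologyπ p) hW

theorem toCycles_naturality {K L : CochainComplex X.Modules ℤ} (φ : K ⟶ L) (i j : ℤ) :
    K.toCycles i j ≫ HomologicalComplex.cyclesMap φ j = φ.f i ≫ L.toCycles i j := by
  rw [← cancel_mono (L.iCycles j), Category.assoc, HomologicalComplex.cyclesMap_i,
    HomologicalComplex.toCycles_i_assoc, Category.assoc, HomologicalComplex.toCycles_i,
    φ.comm]

/-- Descent of a morphism from the cycles to the homology. -/
noncomputable def descH {A : X.Modules} (k : K.cycles p ⟶ A)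
    (hk : K.toCycles (p - 1) p ≫ k = 0) : K.homology p ⟶ A :=
  (K.homologyIsCokernel (p - 1) p (by simp)).desc (CokernelCofork.ofπ k hk)

@[reassoc (attr := simp)]
theorem π_descH {A : X.Modules} (k : K.cycles p ⟶ A)
    (hk : K.toCycles (p - 1) p ≫ k = 0) : K.homologyπ p ≫ descH K p k hk = k :=
  (K.homologyIsCokernel (p - 1) p (by simp)).fac (CokernelCofork.ofπ k hk)
    WalkingParallelPair.one

end Groth.Agent.Lib.Helper9.IdMul
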