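import Mathlib
import Groth.Prelude.Def_Dual3
import Groth.Agent.Lib.Helper9.IdMul10

/-!
# The Deligne system `Iⁿ F^•` sectionwise (helper9)
-/

set_option autoImplicit false
universe u
open CategoryTheory CategoryTheory.Limits AlgebraicGeometry TopologicalSpace Opposite TensorProduct

namespace Groth.Agent.Lib.Helper9.IdMul

open Groth.Agent.Lib.Helper29.QCoh

variable {X : Scheme.{u}} (I : X.IdealSheafData) (F : CochainComplex X.Modules ℤ) (p : ℤ)

theorem app_congr {A B : X.Modules} {f g : A ⟶ B} (h : f = g) (U : X.Opens) (z : Γ(A, U)) :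
    f.app U z = g.app U z := by rw [h]

/-- Pure algebra: a consequence of the Artin–Rees identity. -/
theorem ar_le {R M : Type*} [CommRing R] [AddCommGroup M] [Module R M]
    (J : Ideal R) (N : Submodule R M) (c : ℕ)
    (hc : ∀ n ≥ c, J ^ n • ⊤ ⊓ N = J ^ (n - c) • (J ^ c • ⊤ ⊓ N)) (m n : ℕ) (h : m + c ≤ n) :
    J ^ n • ⊤ ⊓ N ≤ J ^ m • N := by
  rw [hc n (by omega)]
  refine le_trans (Submodule.smul_mono (Ideal.pow_le_pow_right (by omega)) inf_le_right) le_rfl

/-- The complex `Iⁿ F^•`. -/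
noncomputable abbrev Kn (n : ℕ) : CochainComplex X.Modules ℤ := (Dual3.deligne I n).obj F

theorem isQuasicoherent_Kn (hF : ∀ q, (F.X q).IsQuasicoherent) (n : ℕ) (q : ℤ) :
    ((Kn I F n).X q).IsQuasicoherent := by
  have := hF q
  exact isQuasicoherent_idealMul (I ^ n) (F.X q)

theorem deligneι_f_app_injective (n : ℕ) (q : ℤ) (U : X.Opens) :
    Function.Injective (((Dual3.deligneι I n F).f q).app U) :=
  idealMulι_app_injective (I ^ n) (F.X q) U

theorem range_deligneι_f (hF : ∀ q, (F.X q).IsQuasicoherent) (n : ℕ) (q : ℤ)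
    (W : X.affineOpens) :
    LinearMap.range (appₗ ((Dual3.deligneι I n F).f q) W.1) =
      ((I.ideal W) ^ n) • (⊤ : Submodule Γ(X, W.1) Γ(F.X q, W.1)) := by
  have := hF q
  exact range_idealMulι I (F.X q) n W

/-- `τ ∘ d_{Iⁿ F} = d_F ∘ τ` sectionwise. -/
theorem deligneι_d_app (n : ℕ) (i j : ℤ) (U : X.Opens) (y : Γ((Kn I F n).X i, U)) :
    ((Dual3.deligneι I n F).f j).app U (((Kn I F n).d i j).app U y) =
      (F.d i j).app U (((Dual3.deligneι I n F).f i).app U y) := by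
  have := app_congr ((Dual3.deligneι I n F).comm i j) U y
  rw [app_comp_apply, app_comp_apply] at this
  exact this.symm

/-- Sections of the cycles of `Iⁿ F^•` over an affine open, inside `Γ(F^p, W)`. -/
theorem range_iCycles_deligneι (hF : ∀ q, (F.X q).IsQuasicoherent) (n : ℕ)
    (W : X.affineOpens) :
    LinearMap.range (appₗ ((Kn I F n).iCycles p ≫ (Dual3.deligneι I n F).f p) W.1) =
      ((I.ideal W) ^ n) • (⊤ : Submodule Γ(X, W.1) Γ(F.X p, W.1)) ⊓
        LinearMap.ker (appₗ (F.d p (p + 1)) W.1) := by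
  ext m
  rw [Submodule.mem_inf, ← range_deligneι_f I F hF n p W]
  constructor
  · rintro ⟨z, rfl⟩
    refine ⟨⟨((Kn I F n).iCycles p).app W.1 z, rfl⟩, ?_⟩
    rw [LinearMap.mem_ker]
    change (F.d p (p + 1)).app W.1 (((Dual3.deligneι I n F).f p).app W.1
      (((Kn I F n).iCycles p).app W.1 z)) = 0
    rw [← deligneι_d_app]
    have := app_congr ((Kn I F n).iCycles_d p (p + 1)) W.1 z
    rw [app_comp_apply, zero_app_apply] at this
    rw [this, map_zero]
  · rintro ⟨⟨y, rfl⟩, hd⟩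
    rw [LinearMap.mem_ker] at hd
    have hd' : (F.d p (p + 1)).app W.1 (((Dual3.deligneι I n F).f p).app W.1 y) = 0 := hd
    rw [← deligneι_d_app] at hd'
    have hy : ((Kn I F n).d p (p + 1)).app W.1 y = 0 :=
      deligneι_f_app_injective I F n (p + 1) W.1 (hd'.trans (map_zero _).symm)
    obtain ⟨z, hz⟩ := (exact_iCycles_app (Kn I F n) p W.1 y).mp hy
    refine ⟨z, ?_⟩
    change ((Dual3.deligneι I n F).f p).app W.1 (((Kn I F n).iCycles p).app W.1 z) = _
    rw [hz]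
    rfl

/-- Sections of `I^m Z^p(F)` over an affine open, inside `Γ(F^p, W)`. -/
theorem range_idealMulι_iCycles (hF : ∀ q, (F.X q).IsQuasicoherent) (m : ℕ)
    (W : X.affineOpens) :
    LinearMap.range (appₗ (Dual3.idealMulι (I ^ m) (F.cycles p) ≫ F.iCycles p) W.1) =
      ((I.ideal W) ^ m) • LinearMap.ker (appₗ (F.d p (p + 1)) W.1) := by
  have := isQuasicoherent_cycles F p hF
  rw [range_appₗ_comp, range_idealMulι, Submodule.map_smul'', Submodule.map_top, range_iCycles]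


instance mono_iCycles_deligneι (n : ℕ) :
    Mono ((Kn I F n).iCycles p ≫ (Dual3.deligneι I n F).f p) := by
  have : Mono ((Dual3.deligneι I n F).f p) := Dual3.mono_idealMulι (I ^ n) (F.X p)
  exact mono_comp _ _

instance mono_idealMulι_iCycles (m : ℕ) :
    Mono (Dual3.idealMulι (I ^ m) (F.cycles p) ≫ F.iCycles p) := mono_comp _ _

section cover

variable {ι : Type*} (W : ι → X.affineOpens) (hcov : ∀ x : X, ∃ i, x ∈ (W i).1) (c : ℕ)

include hcov in
/-- (AR1) `Z^p ∩ Iⁿ F^p ⊆ I^m Z^p` for `m + c ≤ n`. -/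
theorem cycles_le (hF : ∀ q, (F.X q).IsQuasicoherent)
    (hAR : ∀ i, ∀ n ≥ c, (I.ideal (W i)) ^ n • ⊤ ⊓ LinearMap.ker (appₗ (F.d p (p + 1)) (W i).1) =
      (I.ideal (W i)) ^ (n - c) • ((I.ideal (W i)) ^ c • ⊤ ⊓
        LinearMap.ker (appₗ (F.d p (p + 1)) (W i).1)))
    (m n : ℕ) (h : m + c ≤ n) :
    Subobject.mk ((Kn I F n).iCycles p ≫ (Dual3.deligneι I n F).f p) ≤
      Subobject.mk (Dual3.idealMulι (I ^ m) (F.cycles p) ≫ F.iCycles p) := by
  have : ((Kn I F n).cycles p).IsQuasicoherent :=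
    isQuasicoherent_cycles (Kn I F n) p (isQuasicoherent_Kn I F hF n)
  refine mk_le_mk_of_range_le _ _ (fun i => ((W i).1 : X.Opens)) (fun i => (W i).2) hcov ?_
  intro i
  rw [range_iCycles_deligneι I F p hF n (W i), range_idealMulι_iCycles I F p hF m (W i)]
  exact ar_le _ _ c (hAR i) m n h

end cover

/-- The composite `Iⁿ Z^p(F) ⟶ I^m Z^p(F) ⟶ I^m F^p` for `m ≤ n`. -/
noncomputable def sigmaAux (hZ : (F.cycles p).IsQuasicoherent) (m n : ℕ) (hmn : m ≤ n) :
    (Dual3.idealMul (I ^ n)).obj (F.cycles p) ⟶ (Kn I F m).X p :=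
  idealMulLE (pow_le_pow_of_le I hmn) (F.cycles p) ≫
    (Dual3.idealMul (I ^ m)).map (F.iCycles p)

theorem sigmaAux_d (hZ : (F.cycles p).IsQuasicoherent) (m n : ℕ) (hmn : m ≤ n) :
    sigmaAux I F p hZ m n hmn ≫ (Kn I F m).d p (p + 1) = 0 := by
  have h1 : (Dual3.idealMul (I ^ m)).map (F.iCycles p) ≫
      (Dual3.idealMul (I ^ m)).map (F.d p (p + 1)) = 0 := by
    rw [← Functor.map_comp, F.iCycles_d, Functor.map_zero]
  show (idealMulLE (pow_le_pow_of_le I hmn) (F.cycles p) ≫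
    (Dual3.idealMul (I ^ m)).map (F.iCycles p)) ≫
      (Dual3.idealMul (I ^ m)).map (F.d p (p + 1)) = 0
  rw [Category.assoc, h1, comp_zero]

theorem sigmaAux_deligneι (hZ : (F.cycles p).IsQuasicoherent) (m n : ℕ) (hmn : m ≤ n) :
    sigmaAux I F p hZ m n hmn ≫ (Dual3.deligneι I m F).f p =
      Dual3.idealMulι (I ^ n) (F.cycles p) ≫ F.iCycles p := by
  show (idealMulLE (pow_le_pow_of_le I hmn) (F.cycles p) ≫
    (Dual3.idealMul (I ^ m)).map (F.iCycles p)) ≫ Dual3.idealMulι (I ^ m) (F.X p) = _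
  rw [Category.assoc, Dual3.idealMul_map_ι, idealMulLE_ι_assoc]

/-- The comparison `Iⁿ Z^p(F) ⟶ Z^p(I^m F)` for `m ≤ n`. -/
noncomputable def sigma (hZ : (F.cycles p).IsQuasicoherent) (m n : ℕ) (hmn : m ≤ n) :
    (Dual3.idealMul (I ^ n)).obj (F.cycles p) ⟶ (Kn I F m).cycles p :=
  (Kn I F m).liftCycles (sigmaAux I F p hZ m n hmn) (p + 1) (by simp)
    (sigmaAux_d I F p hZ m n hmn)

theorem sigma_comp (hZ : (F.cycles p).IsQuasicoherent) (m n : ℕ) (hmn : m ≤ n) :
    sigma I F p hZ m n hmn ≫ (Kn I F m).iCycles p ≫ (Dual3.deligneι I m F).f p =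
      Dual3.idealMulι (I ^ n) (F.cycles p) ≫ F.iCycles p := by
  unfold sigma
  rw [HomologicalComplex.liftCycles_i_assoc, sigmaAux_deligneι]

end Groth.Agent.Lib.Helper9.IdMul
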