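import Mathlib
import Groth.Prelude.Def_Dual3
import Groth.Agent.Lib.Helper9.IdMul11

/-!
# The Deligne system `Iⁿ F^•`: homology, part 2 (helper9)
-/

set_option autoImplicit false
universe u
open CategoryTheory CategoryTheory.Limits AlgebraicGeometry TopologicalSpace Opposite TensorProduct

namespace Groth.Agent.Lib.Helper9.IdMul

open Groth.Agent.Lib.Helper29.QCoh

variable {X : Scheme.{u}} (I : X.IdealSheafData) (F : CochainComplex X.Modules ℤ) (p : ℤ)

/-- `Iⁿ Z^p ⟶ Iⁿ H^p` is an epimorphism. -/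
theorem epi_idealMul_map_homologyπ (hF : ∀ q, (F.X q).IsQuasicoherent) (n : ℕ) :
    Epi ((Dual3.idealMul (I ^ n)).map (F.homologyπ p)) := by
  have hZ := isQuasicoherent_cycles F p hF
  have hH := isQuasicoherent_homology F p hF
  refine Groth.Agent.Lib.Helper29.QCoh.ProjF.epi_of_app_surjective_affine _ fun U hU h' => ?_
  have h1 : (Dual3.idealMulι (I ^ n) (F.homology p)).app U h' ∈
      ((I.ideal ⟨U, hU⟩) ^ n) • (⊤ : Submodule Γ(X, U) Γ(F.homology p, U)) := by
    have := idealMulι_app_mem (I ^ n) (F.homology p) ⟨U, hU⟩ h'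
    rw [Scheme.IdealSheafData.ideal_pow] at this
    exact this
  have hsurj : LinearMap.range (appₗ (F.homologyπ p) U) = ⊤ :=
    LinearMap.range_eq_top.mpr (homologyπ_app_surjective F p hF hU)
  rw [← hsurj, LinearMap.range_eq_map, ← Submodule.map_smul''] at h1
  obtain ⟨z, hz, hzh⟩ := h1
  rw [← range_idealMulι I (F.cycles p) n ⟨U, hU⟩] at hz
  obtain ⟨y, rfl⟩ := hz
  refine ⟨y, ?_⟩
  apply idealMulι_app_injective (I ^ n) (F.homology p) U
  have := app_congr (Dual3.idealMul_map_ι (I ^ n) (F.homologyπ p)) U y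
  rw [app_comp_apply, app_comp_apply] at this
  rw [this]
  exact hzh

section cover

variable {ι : Type*} (W : ι → X.affineOpens) (hcov : ∀ x : X, ∃ i, x ∈ (W i).1) (c : ℕ)

include hcov in
/-- (AR2) the kernel of `Iⁿ Z^p ⟶ Iⁿ H^p` dies in `H^p(I^m F)` for `m + c ≤ n`. -/
theorem kernel_comp_eq_zero (hF : ∀ q, (F.X q).IsQuasicoherent)
    (hAR : ∀ i, ∀ n ≥ c, (I.ideal (W i)) ^ n • ⊤ ⊓
        LinearMap.range (appₗ (F.d (p - 1) p) (W i).1) =
      (I.ideal (W i)) ^ (n - c) • ((I.ideal (W i)) ^ c • ⊤ ⊓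
        LinearMap.range (appₗ (F.d (p - 1) p) (W i).1)))
    (m n : ℕ) (h : m + c ≤ n) :
    kernel.ι ((Dual3.idealMul (I ^ n)).map (F.homologyπ p)) ≫
      sigma I F p (isQuasicoherent_cycles F p hF) m n (by omega) ≫
        (Kn I F m).homologyπ p = 0 := by
  have hZ := isQuasicoherent_cycles F p hF
  have hH := isQuasicoherent_homology F p hF
  refine Groth.Agent.Lib.Helper12.H12ModLim.hom_ext_of_affine_cover _ _
    (fun i => ((W i).1 : X.Opens)) (fun i => (W i).2) hcov (fun _ => Set.univ)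
    (fun _ => Submodule.span_univ) ?_
  intro i y _
  rw [zero_app_apply, app_comp_apply, app_comp_apply]
  generalize hy0 : (kernel.ι ((Dual3.idealMul (I ^ n)).map (F.homologyπ p))).app (W i).1 y = y0
  have hy0' : ((Dual3.idealMul (I ^ n)).map (F.homologyπ p)).app (W i).1 y0 = 0 := by
    have := app_congr (kernel.condition ((Dual3.idealMul (I ^ n)).map (F.homologyπ p))) (W i).1 y
    rw [app_comp_apply, zero_app_apply, hy0] at this
    exact this
  -- the cycle `z`
  generalize hz : (Dual3.idealMulι (I ^ n) (F.cycles p)).app (W i).1 y0 = z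
  have hzI : z ∈ ((I.ideal (W i)) ^ n) • (⊤ : Submodule Γ(X, (W i).1) Γ(F.cycles p, (W i).1)) := by
    rw [← hz, ← range_idealMulι I (F.cycles p) n (W i)]
    exact ⟨y0, rfl⟩
  have hzπ : (F.homologyπ p).app (W i).1 z = 0 := by
    have := app_congr (Dual3.idealMul_map_ι (I ^ n) (F.homologyπ p)) (W i).1 y0
    rw [app_comp_apply, app_comp_apply, hy0', map_zero, hz] at this
    exact this.symm
  obtain ⟨x, hx⟩ := (exact_toCycles_app F p hF (W i).2 z).mp hzπ
  -- its image `m0` in `Γ(F^p, W)`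
  generalize hm0 : (F.iCycles p).app (W i).1 z = m0
  have hm0d : (F.d (p - 1) p).app (W i).1 x = m0 := by
    have := app_congr (F.toCycles_i (p - 1) p) (W i).1 x
    rw [app_comp_apply, hx, hm0] at this
    exact this.symm
  have hm0I : m0 ∈ ((I.ideal (W i)) ^ n) • (⊤ : Submodule Γ(X, (W i).1) Γ(F.X p, (W i).1)) := by
    have h2 : m0 ∈ Submodule.map (appₗ (F.iCycles p) (W i).1) (((I.ideal (W i)) ^ n) • ⊤) :=
      ⟨z, hzI, hm0⟩
    rw [Submodule.map_smul''] at h2
    exact Submodule.smul_mono le_rfl le_top h2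
  have hm0' : m0 ∈ ((I.ideal (W i)) ^ m) • LinearMap.range (appₗ (F.d (p - 1) p) (W i).1) :=
    ar_le _ _ c (hAR i) m n h ⟨hm0I, ⟨x, hm0d⟩⟩
  rw [LinearMap.range_eq_map, ← Submodule.map_smul''] at hm0'
  obtain ⟨x', hx', hdx'⟩ := hm0'
  rw [← range_deligneι_f I F hF m (p - 1) (W i)] at hx'
  obtain ⟨y', rfl⟩ := hx'
  -- compare in `Γ(F^p, W)`
  have key : (sigma I F p hZ m n (by omega)).app (W i).1 y0 =
      ((Kn I F m).toCycles (p - 1) p).app (W i).1 y' := by
    apply Groth.Agent.Lib.Helper12.H12ModLim.app_injective_of_mono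
      ((Kn I F m).iCycles p ≫ (Dual3.deligneι I m F).f p) (W i).1
    rw [← app_comp_apply, sigma_comp, app_comp_apply, hz, hm0]
    have h3 := app_congr ((Kn I F m).toCycles_i (p - 1) p) (W i).1 y'
    rw [app_comp_apply] at h3
    rw [app_comp_apply, h3, deligneι_d_app]
    exact hdx'.symm
  rw [key]
  have := app_congr ((Kn I F m).toCycles_comp_homologyπ (p - 1) p) (W i).1 y'
  rw [app_comp_apply, zero_app_apply] at this
  exact this

end cover

end Groth.Agent.Lib.Helper9.IdMul
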