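import Mathlib
import Groth.Prelude.Def_Dual3
import Groth.Agent.Lib.Helper9.IdMul12

/-!
# The Deligne system `Iⁿ F^•`: the pro-isomorphism `H^p(Iⁿ F) ↔ Iⁿ H^p(F)` (helper9)
-/

set_option autoImplicit false
universe u
open CategoryTheory CategoryTheory.Limits AlgebraicGeometry TopologicalSpace Opposite TensorProduct

namespace Groth.Agent.Lib.Helper9.IdMul

open Groth.Agent.Lib.Helper29.QCoh

variable {X : Scheme.{u}} (I : X.IdealSheafData) (F : CochainComplex X.Modules ℤ) (p : ℤ)

section formal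

variable (hF : ∀ q, (F.X q).IsQuasicoherent) (c : ℕ)
  (hle : ∀ m n : ℕ, m + c ≤ n →
    Subobject.mk ((Kn I F n).iCycles p ≫ (Dual3.deligneι I n F).f p) ≤
      Subobject.mk (Dual3.idealMulι (I ^ m) (F.cycles p) ≫ F.iCycles p))
  (hker : ∀ (m n : ℕ) (h : m + c ≤ n),
    kernel.ι ((Dual3.idealMul (I ^ n)).map (F.homologyπ p)) ≫
      sigma I F p (isQuasicoherent_cycles F p hF) m n (by omega) ≫
        (Kn I F m).homologyπ p = 0)

/-- `Z^p(Iⁿ F) ⟶ I^m Z^p(F)`. -/
noncomputable def theta (m n : ℕ) (h : m + c ≤ n) :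
    (Kn I F n).cycles p ⟶ (Dual3.idealMul (I ^ m)).obj (F.cycles p) :=
  Subobject.ofMkLEMk _ _ (hle m n h)

theorem theta_comp (m n : ℕ) (h : m + c ≤ n) :
    theta I F p c hle m n h ≫ Dual3.idealMulι (I ^ m) (F.cycles p) ≫ F.iCycles p =
      (Kn I F n).iCycles p ≫ (Dual3.deligneι I n F).f p :=
  Subobject.ofMkLEMk_comp (hle m n h)

theorem theta_ι (m n : ℕ) (h : m + c ≤ n) :
    theta I F p c hle m n h ≫ Dual3.idealMulι (I ^ m) (F.cycles p) =
      HomologicalComplex.cyclesMap (Dual3.deligneι I n F) p := by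
  rw [← cancel_mono (F.iCycles p), Category.assoc, theta_comp, HomologicalComplex.cyclesMap_i]

theorem toCycles_theta (m n : ℕ) (h : m + c ≤ n) :
    (Kn I F n).toCycles (p - 1) p ≫ theta I F p c hle m n h ≫
      (Dual3.idealMul (I ^ m)).map (F.homologyπ p) = 0 := by
  rw [← cancel_mono (Dual3.idealMulι (I ^ m) (F.homology p)), Category.assoc, Category.assoc,
    Dual3.idealMul_map_ι, zero_comp, ← Category.assoc (theta I F p c hle m n h), theta_ι,
    ← Category.assoc, toCycles_naturality, Category.assoc, F.toCycles_comp_homologyπ, comp_zero]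

/-- `φ : H^p(Iⁿ F) ⟶ I^m H^p(F)` for `m + c ≤ n`. -/
noncomputable def phi (m n : ℕ) (h : m + c ≤ n) :
    (Kn I F n).homology p ⟶ (Dual3.idealMul (I ^ m)).obj (F.homology p) :=
  descH (Kn I F n) p (theta I F p c hle m n h ≫ (Dual3.idealMul (I ^ m)).map (F.homologyπ p))
    (toCycles_theta I F p c hle m n h)

theorem π_phi (m n : ℕ) (h : m + c ≤ n) :
    (Kn I F n).homologyπ p ≫ phi I F p c hle m n h =
      theta I F p c hle m n h ≫ (Dual3.idealMul (I ^ m)).map (F.homologyπ p) :=
  π_descH _ _ _ _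

theorem phi_ι (m n : ℕ) (h : m + c ≤ n) :
    phi I F p c hle m n h ≫ Dual3.idealMulι (I ^ m) (F.homology p) =
      HomologicalComplex.homologyMap (Dual3.deligneι I n F) p := by
  rw [← cancel_epi ((Kn I F n).homologyπ p), ← Category.assoc, π_phi, Category.assoc,
    Dual3.idealMul_map_ι, ← Category.assoc, theta_ι, HomologicalComplex.homologyπ_naturality]

/-- `ψ : Iⁿ H^p(F) ⟶ H^p(I^m F)` for `m + c ≤ n`. -/
noncomputable def psi (m n : ℕ) (h : m + c ≤ n) :
    (Dual3.idealMul (I ^ n)).obj (F.homology p) ⟶ (Kn I F m).homology p :=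
  have := epi_idealMul_map_homologyπ I F p hF n
  Abelian.epiDesc ((Dual3.idealMul (I ^ n)).map (F.homologyπ p))
    (sigma I F p (isQuasicoherent_cycles F p hF) m n (by omega) ≫ (Kn I F m).homologyπ p)
    (hker m n h)

theorem map_π_psi (m n : ℕ) (h : m + c ≤ n) :
    (Dual3.idealMul (I ^ n)).map (F.homologyπ p) ≫ psi I F p hF c hker m n h =
      sigma I F p (isQuasicoherent_cycles F p hF) m n (by omega) ≫ (Kn I F m).homologyπ p := by
  have := epi_idealMul_map_homologyπ I F p hF n
  exact Abelian.comp_epiDesc _ _ _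

theorem sigma_cyclesMap (m n : ℕ) (hmn : m ≤ n) :
    sigma I F p (isQuasicoherent_cycles F p hF) m n hmn ≫
      HomologicalComplex.cyclesMap (Dual3.deligneι I m F) p =
        Dual3.idealMulι (I ^ n) (F.cycles p) := by
  rw [← cancel_mono (F.iCycles p), Category.assoc, HomologicalComplex.cyclesMap_i, sigma_comp]

theorem psi_homologyMap (m n : ℕ) (h : m + c ≤ n) :
    psi I F p hF c hker m n h ≫ HomologicalComplex.homologyMap (Dual3.deligneι I m F) p =
      Dual3.idealMulι (I ^ n) (F.homology p) := by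
  have := epi_idealMul_map_homologyπ I F p hF n
  rw [← cancel_epi ((Dual3.idealMul (I ^ n)).map (F.homologyπ p)), ← Category.assoc, map_π_psi,
    Category.assoc, HomologicalComplex.homologyπ_naturality, ← Category.assoc,
    sigma_cyclesMap I F p hF, Dual3.idealMul_map_ι]

theorem phi_psi (m' m n : ℕ) (h1 : m + c ≤ n) (h2 : m' + c ≤ m)
    (t : Kn I F n ⟶ Kn I F m') (ht : t ≫ Dual3.deligneι I m' F = Dual3.deligneι I n F) :
    phi I F p c hle m n h1 ≫ psi I F p hF c hker m' m h2 =
      HomologicalComplex.homologyMap t p := by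
  rw [← cancel_epi ((Kn I F n).homologyπ p), ← Category.assoc, π_phi, Category.assoc, map_π_psi,
    HomologicalComplex.homologyπ_naturality, ← Category.assoc]
  congr 1
  rw [← cancel_mono ((Kn I F m').iCycles p ≫ (Dual3.deligneι I m' F).f p), Category.assoc,
    sigma_comp, theta_comp, ← Category.assoc, HomologicalComplex.cyclesMap_i, Category.assoc,
    ← HomologicalComplex.comp_f, ht]

end formal

end Groth.Agent.Lib.Helper9.IdMul
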