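import Mathlib
import Groth.Prelude.Def_Dual3
import Groth.Agent.Lib.Helper9.IdMul13

/-!
# The Deligne system `Iⁿ F^•`: the pro-isomorphism `H^p(Iⁿ F) ↔ Iⁿ H^p(F)`, main statement
(helper9)
-/

set_option autoImplicit false
universe u
open CategoryTheory CategoryTheory.Limits AlgebraicGeometry TopologicalSpace Opposite TensorProduct

namespace Groth.Agent.Lib.Helper9.IdMul

open Groth.Agent.Lib.Helper29.QCoh

theorem main3668 (X : Scheme.{u}) [IsNoetherian X] (I : X.IdealSheafData)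
    (F : CochainComplex X.Modules ℤ) (hFc : ∀ q : ℤ, Coh.IsCoh (F.X q)) (p : ℤ) :
    ∃ (c : ℕ)
      (φ : ∀ n : ℕ, ((Dual3.deligne I n).obj F).homology p ⟶
        (Dual3.idealMul (I ^ (n - c))).obj (F.homology p))
      (ψ : ∀ n : ℕ, (Dual3.idealMul (I ^ n)).obj (F.homology p) ⟶
        ((Dual3.deligne I (n - c)).obj F).homology p),
      0 < c ∧
      (∀ n : ℕ, c ≤ n → φ n ≫ Dual3.idealMulι (I ^ (n - c)) (F.homology p) =
        HomologicalComplex.homologyMap (Dual3.deligneι I n F) p) ∧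
      (∀ n : ℕ, c ≤ n → ψ n ≫ HomologicalComplex.homologyMap (Dual3.deligneι I (n - c) F) p =
        Dual3.idealMulι (I ^ n) (F.homology p)) ∧
      (∀ n : ℕ, 2 * c ≤ n → (ψ n ≫ φ (n - c)) ≫
        Dual3.idealMulι (I ^ (n - c - c)) (F.homology p) =
          Dual3.idealMulι (I ^ n) (F.homology p)) ∧
      ∀ (n : ℕ), 2 * c ≤ n → ∀ t : (Dual3.deligne I n).obj F ⟶ (Dual3.deligne I (n - c - c)).obj F,
        t ≫ Dual3.deligneι I (n - c - c) F = Dual3.deligneι I n F →
          φ n ≫ ψ (n - c) = HomologicalComplex.homologyMap t p := by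
  have hF : ∀ q, (F.X q).IsQuasicoherent := fun q => (hFc q).1
  have hloc : ∀ W : X.affineOpens, ∃ k : ℕ,
      (∀ n ≥ k, (I.ideal W) ^ n • ⊤ ⊓ LinearMap.ker (appₗ (F.d p (p + 1)) W.1) =
        (I.ideal W) ^ (n - k) • ((I.ideal W) ^ k • ⊤ ⊓
          LinearMap.ker (appₗ (F.d p (p + 1)) W.1))) ∧
      (∀ n ≥ k, (I.ideal W) ^ n • ⊤ ⊓ LinearMap.range (appₗ (F.d (p - 1) p) W.1) =
        (I.ideal W) ^ (n - k) • ((I.ideal W) ^ k • ⊤ ⊓
          LinearMap.range (appₗ (F.d (p - 1) p) W.1))) := by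
    intro W
    have : IsNoetherianRing Γ(X, W.1) := IsLocallyNoetherian.component_noetherian W
    have : (F.X p).IsQuasicoherent := hF p
    have : (F.X p).IsFiniteType := (hFc p).2
    have : Module.Finite Γ(X, W.1) Γ(F.X p, W.1) := module_finite_of_isFiniteType (F.X p) W.2
    obtain ⟨k1, hk1⟩ := Ideal.exists_pow_inf_eq_pow_smul (I.ideal W)
      (LinearMap.ker (appₗ (F.d p (p + 1)) W.1))
    obtain ⟨k2, hk2⟩ := Ideal.exists_pow_inf_eq_pow_smul (I.ideal W)
      (LinearMap.range (appₗ (F.d (p - 1) p) W.1))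
    exact ⟨max k1 k2, artinRees_of_le _ _ k1 hk1 _ (le_max_left _ _),
      artinRees_of_le _ _ k2 hk2 _ (le_max_right _ _)⟩
  choose kk hkk1 hkk2 using hloc
  have hcov : ∀ x : X, ∃ W : X.affineOpens, x ∈ W.1 := by
    intro x
    obtain ⟨W, hW, hxW, -⟩ := Opens.isBasis_iff_nbhd.mp X.isBasis_affineOpens (Opens.mem_top x)
    exact ⟨⟨W, hW⟩, hxW⟩
  choose Wx hWx using hcov
  obtain ⟨t, ht⟩ := isCompact_univ.elim_finite_subcover (fun x : X => ((Wx x).1 : Set X))
    (fun x => (Wx x).1.isOpen) (fun x _ => Set.mem_iUnion.mpr ⟨x, hWx x⟩)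
  have hcov' : ∀ x : X, ∃ y : t, x ∈ (Wx y.1).1 := by
    intro x
    obtain ⟨y, hy, hxy⟩ := Set.mem_iUnion₂.mp (ht (Set.mem_univ x))
    exact ⟨⟨y, hy⟩, hxy⟩
  let c : ℕ := (t.sup fun x => kk (Wx x)) + 1
  have hkc : ∀ y : t, kk (Wx y.1) ≤ c := fun y =>
    le_trans (Finset.le_sup (f := fun x => kk (Wx x)) y.2) (Nat.le_succ _)
  have hAR1 := fun y : t => artinRees_of_le _ _ _ (hkk1 (Wx y.1)) c (hkc y)
  have hAR2 := fun y : t => artinRees_of_le _ _ _ (hkk2 (Wx y.1)) c (hkc y)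
  have hle := fun (m n : ℕ) (h : m + c ≤ n) =>
    cycles_le I F p (fun y : t => Wx y.1) hcov' c hF hAR1 m n h
  have hker := fun (m n : ℕ) (h : m + c ≤ n) =>
    kernel_comp_eq_zero I F p (fun y : t => Wx y.1) hcov' c hF hAR2 m n h
  refine ⟨c, fun n => if h : c ≤ n then phi I F p c hle (n - c) n (by omega) else 0,
    fun n => if h : c ≤ n then psi I F p hF c hker (n - c) n (by omega) else 0,
    Nat.succ_pos _, ?_, ?_, ?_, ?_⟩
  · intro n hn
    dsimp only
    rw [dif_pos hn]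
    exact phi_ι I F p c hle (n - c) n (by omega)
  · intro n hn
    dsimp only
    rw [dif_pos hn]
    exact psi_homologyMap I F p hF c hker (n - c) n (by omega)
  · intro n hn
    have h1 : c ≤ n := by omega
    have h2 : c ≤ n - c := by omega
    dsimp only
    rw [dif_pos h1, dif_pos h2, Category.assoc, phi_ι, psi_homologyMap]
  · intro n hn t' ht'
    have h1 : c ≤ n := by omega
    have h2 : c ≤ n - c := by omega
    dsimp only
    rw [dif_pos h1, dif_pos h2]
    exact phi_psi I F p hF c hle hker (n - c - c) (n - c) n (by omega) (by omega) t' ht'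

end Groth.Agent.Lib.Helper9.IdMul
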