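import Mathlib
import Groth.Prelude.Def_Dual3
import Groth.Agent.Lib.Helper9.IdMul1

/-!
# `⋂ Γ(X, Iⁿ F)` = sections vanishing near `V(I)` (helper9)
-/

set_option autoImplicit false
universe u
open CategoryTheory CategoryTheory.Limits AlgebraicGeometry TopologicalSpace Opposite TensorProduct

namespace Groth.Agent.Lib.Helper9.IdMul

open Groth.Agent.Lib.Helper29.QCoh

variable {X : Scheme.{u}} (I : X.IdealSheafData)

theorem exists_nhds_of_forall_mem [IsLocallyNoetherian X] (F : X.Modules) [F.IsQuasicoherent]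
    [F.IsFiniteType] (s : Γ(F, (⊤ : X.Opens)))
    (H : ∀ n : ℕ, ∃ t : Γ((Dual3.idealMul (I ^ n)).obj F, (⊤ : X.Opens)),
      (Dual3.idealMulι (I ^ n) F).app ⊤ t = s) :
    ∃ V : X.Opens, I.supportSet ⊆ (V : Set X) ∧ res F (le_top : V ≤ ⊤) s = 0 := by
  have key : ∀ W : X.affineOpens, ∃ r : Γ(X, W.1), r ∈ I.ideal W ∧
      r • res F (le_top : W.1 ≤ ⊤) s = res F (le_top : W.1 ≤ ⊤) s := by
    intro W
    have : IsNoetherianRing Γ(X, W.1) := IsLocallyNoetherian.component_noetherian W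
    have : Module.Finite Γ(X, W.1) Γ(F, W.1) := module_finite_of_isFiniteType F W.2
    have hmem : res F (le_top : W.1 ≤ ⊤) s ∈
        (⨅ i : ℕ, (I.ideal W) ^ i • ⊤ : Submodule Γ(X, W.1) Γ(F, W.1)) := by
      rw [Submodule.mem_iInf]
      intro n
      have h1 := (mem_range_idealMulι_app_iff_forall (I ^ n) F ⊤ s).mp (H n) W le_top
      exact h1
    obtain ⟨r, hr⟩ := (Ideal.mem_iInf_smul_pow_eq_bot_iff (I.ideal W) _).mp hmem
    exact ⟨r.1, r.2, hr⟩
  choose r hrI hrs using key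
  refine ⟨⨆ W : X.affineOpens, X.basicOpen (1 - r W), ?_, ?_⟩
  · intro x hx
    obtain ⟨W, hW, hxW, -⟩ := (Opens.isBasis_iff_nbhd.mp X.isBasis_affineOpens)
      (show x ∈ (⊤ : X.Opens) from trivial)
    have hx0 : x ∈ X.zeroLocus (U := W) (I.ideal ⟨W, hW⟩) :=
      (Scheme.IdealSheafData.mem_supportSet_iff_of_mem (U := ⟨W, hW⟩) hxW).mp hx
    have hx1 : x ∉ X.basicOpen (r ⟨W, hW⟩) :=
      (Scheme.mem_zeroLocus_iff _ _ _).mp hx0 _ (hrI ⟨W, hW⟩)
    rw [mem_basicOpen_iff_notMem_primeIdealOf hW x hxW, not_not] at hx1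
    have hx2 : x ∈ X.basicOpen (1 - r ⟨W, hW⟩) := by
      rw [mem_basicOpen_iff_notMem_primeIdealOf hW x hxW]
      intro h
      have h1 : (1 : Γ(X, W)) ∈ (hW.primeIdealOf ⟨x, hxW⟩).asIdeal := by
        have := Ideal.add_mem _ h hx1
        rwa [sub_add_cancel] at this
      exact (hW.primeIdealOf ⟨x, hxW⟩).isPrime.ne_top ((Ideal.eq_top_iff_one _).mpr h1)
    exact Opens.mem_iSup.mpr ⟨⟨W, hW⟩, hx2⟩
  · refine eq_zero_of_germ_eq_zero _ _ fun x hx => ?_
    obtain ⟨W, hxW⟩ := Opens.mem_iSup.mp hx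
    have hxW' : x ∈ W.1 := X.basicOpen_le _ hxW
    rw [germ_res, ← germ_res F (le_top : W.1 ≤ ⊤) x hxW']
    rw [germ_eq_zero_iff F W.2 x hxW']
    refine ⟨1 - r W, hxW, ?_⟩
    rw [sub_smul, one_smul, hrs W, sub_self]

theorem forall_mem_of_exists_nhds (F : X.Modules) [F.IsQuasicoherent]
    (s : Γ(F, (⊤ : X.Opens))) (V : X.Opens) (hV : I.supportSet ⊆ (V : Set X))
    (hs : res F (le_top : V ≤ ⊤) s = 0) (n : ℕ) :
    ∃ t : Γ((Dual3.idealMul (I ^ n)).obj F, (⊤ : X.Opens)),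
      (Dual3.idealMulι (I ^ n) F).app ⊤ t = s := by
  rw [mem_range_idealMulι_app_iff_forall]
  intro W _
  set m := res F (le_top : W.1 ≤ ⊤) s with hm
  let J : Ideal Γ(X, W.1) := Ideal.span {a | a • m = 0} ⊔ (I.ideal W) ^ n
  have hJ : J = ⊤ := by
    refine ideal_eq_top_of_forall_mem_basicOpen W.2 J fun x hxW => ?_
    by_cases hx : x ∈ I.supportSet
    · have hxV : x ∈ V := hV hx
      have hg : F.presheaf.germ W.1 x hxW m = 0 := by
        rw [hm, germ_res, ← germ_res F (le_top : V ≤ ⊤) x hxV, hs, map_zero]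
      obtain ⟨a, hxa, ham⟩ := (germ_eq_zero_iff F W.2 x hxW m).mp hg
      exact ⟨a, Ideal.mem_sup_left (Ideal.subset_span ham), hxa⟩
    · have hx0 : x ∉ X.zeroLocus (U := W.1) (I.ideal W) := fun h =>
        hx ((Scheme.IdealSheafData.mem_supportSet_iff_of_mem (U := W) hxW).mpr h)
      rw [Scheme.mem_zeroLocus_iff] at hx0
      push Not at hx0
      obtain ⟨a, haI, hxa⟩ := hx0
      exact ⟨a ^ n, Ideal.mem_sup_right (Ideal.pow_mem_pow haI n),
        mem_basicOpen_pow a n x hxW hxa⟩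
  have h1 : (1 : Γ(X, W.1)) ∈ J := by rw [hJ]; trivial
  obtain ⟨a, ha, i, hi, hai⟩ := Submodule.mem_sup.mp h1
  have ham : a • m = 0 := by
    refine Submodule.span_induction (p := fun a _ => a • m = 0) (fun a ha => ha) (zero_smul _ _)
      (fun a b _ _ ha hb => by rw [add_smul, ha, hb, add_zero])
      (fun c a _ ha => by rw [smul_eq_mul, mul_smul, ha, smul_zero]) ha
  have : m = i • m := by
    conv_lhs => rw [← one_smul Γ(X, W.1) m, ← hai, add_smul, ham, zero_add]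
  rw [this]
  exact Submodule.smul_mem_smul hi trivial

theorem main3665 (k : Type u) [Field k] (X : Scheme.{u}) (f : X ⟶ Spec (CommRingCat.of k))
    [IsProper f] (I : X.IdealSheafData) (F : X.Modules) (hF : Coh.IsCoh F)
    (s : F.val.obj (Opposite.op ⊤)) :
    (∀ n : ℕ, ∃ t : ((Dual3.idealMul (I ^ n)).obj F).val.obj (Opposite.op ⊤),
      (Dual3.idealMulι (I ^ n) F).val.app (Opposite.op ⊤) t = s) ↔
    ∃ V : X.Opens, I.supportSet ⊆ (V : Set X) ∧
      F.val.map (homOfLE le_top : V ⟶ ⊤).op s = 0 := by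
  have : F.IsQuasicoherent := hF.1
  have : F.IsFiniteType := hF.2
  have : IsLocallyNoetherian (Spec (CommRingCat.of k)) := inferInstance
  have : IsLocallyNoetherian X := LocallyOfFiniteType.isLocallyNoetherian f
  constructor
  · intro H
    exact exists_nhds_of_forall_mem I F s H
  · rintro ⟨V, hV, hs⟩ n
    exact forall_mem_of_exists_nhds I F s V hV hs n

end Groth.Agent.Lib.Helper9.IdMul
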