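/-
Flatness criteria for ideally separated modules (Bourbaki AC III §5.2 Thm 1, (ii) ⇒ (i)),
and a "chain" lemma for proving `Tor_1(A/J, M) = 0` from flatness at finitely many primes.
-/
import Mathlib
import Groth.Agent.Lib.Helper9.FlatCrit

set_option autoImplicit false

universe u v

namespace Groth.Agent.Lib.Helper9

open TensorProduct Function

section IdeallySep

variable {R : Type u} [CommRing R] {M : Type v} [AddCommGroup M] [Module R M]

theorem tmul_mem_smul_top_left (I' : Ideal R) {J : Type*} [AddCommGroup J] [Module R J] (m : M)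
    (c : J) (hc : c ∈ I' • (⊤ : Submodule R J)) :
    c ⊗ₜ[R] m ∈ I' • (⊤ : Submodule R (J ⊗[R] M)) := by
  induction hc using Submodule.smul_induction_on' with
  | smul r hr n _ =>
    rw [← TensorProduct.smul_tmul']
    exact Submodule.smul_mem_smul hr trivial
  | add x hx y hy ihx ihy =>
    rw [TensorProduct.add_tmul]
    exact Submodule.add_mem _ ihx ihy

/-- Local criterion of flatness for ideally separated modules (Bourbaki AC III §5.2 Thm 1):
`R` Noetherian, `I` an ideal, `M` ideally separated for `I`. If `I ⊗ M → M` is injective and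
`M / I M` is flat over `R / I`, then `M` is flat over `R`. -/
theorem flat_of_rTensor_injective_of_isHausdorff [IsNoetherianRing R] (I : Ideal R)
    (hsep : ∀ J : Ideal R, IsHausdorff I (↥J ⊗[R] M))
    (hI : Injective (I.subtype.rTensor M)) [Module.Flat (R ⧸ I) ((R ⧸ I) ⊗[R] M)] :
    Module.Flat R M := by
  rw [Module.Flat.iff_lTensor_injective']
  intro J
  rw [injective_iff_map_eq_zero]
  intro x hx
  obtain ⟨k, hk⟩ := Ideal.exists_pow_inf_eq_pow_smul I (J : Submodule R R)
  have key : ∀ n : ℕ, x ∈ (I ^ n) • (⊤ : Submodule R (M ⊗[R] J)) := by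
    intro n
    set N := n + k with hN
    let JN : Submodule R J := Submodule.comap J.subtype (I ^ N)
    let j : (J ⧸ JN) →ₗ[R] (R ⧸ I ^ N) := JN.mapQ (I ^ N) J.subtype le_rfl
    have hj : Injective j := by
      rw [← LinearMap.ker_eq_bot, Submodule.ker_mapQ]
      exact Submodule.mkQ_map_self JN
    have hRN : Module.IsTorsionBySet R (R ⧸ I ^ N) ((I ^ N : Ideal R) : Set R) := by
      rintro y ⟨a, ha⟩
      obtain ⟨r, rfl⟩ := Ideal.Quotient.mk_surjective y
      change Ideal.Quotient.mk (I ^ N) (a • r) = 0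
      rw [Ideal.Quotient.eq_zero_iff_mem]
      exact Ideal.mul_mem_right _ _ ha
    have hQ : TorOneVanish R M ((R ⧸ I ^ N) ⧸ LinearMap.range j) :=
      torOneVanish_of_isTorsionBySet_pow I hI N (hRN.quotient _)
    have hjM : Injective (j.rTensor M) :=
      hQ _ _ j (LinearMap.range j).mkQ hj (LinearMap.exact_map_mkQ_range j)
        (Submodule.mkQ_surjective _)
    have hjM' : Injective (j.lTensor M) := (j.lTensor_inj_iff_rTensor_inj M).mpr hjM
    have hsq : j ∘ₗ JN.mkQ = (I ^ N).mkQ ∘ₗ J.subtype := rfl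
    have h1 : JN.mkQ.lTensor M x = 0 := by
      apply hjM'
      rw [← LinearMap.lTensor_comp_apply, hsq, LinearMap.lTensor_comp_apply, hx, map_zero, map_zero]
    have h2 : ∀ y : M ⊗[R] JN, JN.subtype.lTensor M y ∈ (I ^ n) • (⊤ : Submodule R (M ⊗[R] J)) := by
      intro y
      induction y using TensorProduct.induction_on with
      | zero => simp
      | add y z hy hz =>
        rw [map_add]
        exact Submodule.add_mem _ hy hz
      | tmul m b => ?_
      rw [LinearMap.lTensor_tmul]
      apply tmul_mem_smul_top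
      rw [Submodule.mem_smul_top_iff]
      have hb : ((b : J) : R) ∈ I ^ N • (⊤ : Submodule R R) ⊓ J := by
        refine ⟨?_, (b : J).2⟩
        have hb' : ((b : J) : R) ∈ I ^ N := b.2
        rwa [smul_eq_mul, Ideal.mul_top]
      rw [hk N (Nat.le_add_left k n)] at hb
      have : N - k = n := by omega
      rw [this] at hb
      exact Submodule.smul_mono le_rfl inf_le_right hb
    obtain ⟨y, rfl⟩ := (lTensor_exact M (LinearMap.exact_subtype_mkQ JN) JN.mkQ_surjective _).mp h1
    exact h2 y
  have h3 : ∀ (n : ℕ) (z : M ⊗[R] J), z ∈ (I ^ n) • (⊤ : Submodule R (M ⊗[R] J)) →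
      TensorProduct.comm R M J z ∈ (I ^ n) • (⊤ : Submodule R (J ⊗[R] M)) := by
    intro n z hz
    induction hz using Submodule.smul_induction_on' with
    | smul r hr z _ =>
      rw [map_smul]
      exact Submodule.smul_mem_smul hr trivial
    | add x hx y hy ihx ihy =>
      rw [map_add]
      exact Submodule.add_mem _ ihx ihy
  have h4 : TensorProduct.comm R M J x = 0 := by
    refine (hsep J).haus' _ fun n => ?_
    rw [SModEq.zero]
    exact h3 n x (key n)
  exact (TensorProduct.comm R M J).map_eq_zero_iff.mp h4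

/-- Flatness of `M_p` over `R_p` kills, locally at `p`, the kernel of `F ⊗ M → M`. -/
theorem exists_smul_eq_zero_of_flat_localizedModule (p : Ideal R) [p.IsPrime]
    [Module.Flat (Localization.AtPrime p) (LocalizedModule p.primeCompl M)]
    (F : Ideal R) (x : ↥F ⊗[R] M) (hx : F.subtype.rTensor M x = 0) :
    ∃ s, s ∉ p ∧ s • x = 0 := by
  let Mp := LocalizedModule p.primeCompl M
  let g : M →ₗ[R] Mp := LocalizedModule.mkLinearMap p.primeCompl M
  have hflat : Module.Flat R Mp := Module.Flat.trans R (Localization.AtPrime p) Mp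
  have h1 : F.subtype.rTensor Mp (g.lTensor F x) = 0 := by
    have : F.subtype.rTensor Mp ∘ₗ g.lTensor F = g.lTensor R ∘ₗ F.subtype.rTensor M := by
      ext a m
      simp
    rw [← LinearMap.comp_apply, this, LinearMap.comp_apply, hx, map_zero]
  have h2 : g.lTensor F x = 0 :=
    (injective_iff_map_eq_zero _).mp
      (Module.Flat.rTensor_preserves_injective_linearMap _ F.injective_subtype) _ h1
  have h3 : (AlgebraTensorModule.rTensor R F g) (TensorProduct.comm R F M x) = 0 := by
    have : ∀ y : ↥F ⊗[R] M, (AlgebraTensorModule.rTensor R F g) (TensorProduct.comm R F M y) =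
        TensorProduct.comm R F Mp (g.lTensor F y) := by
      intro y
      induction y using TensorProduct.induction_on with
      | zero => simp
      | add y z hy hz => simp only [map_add, hy, hz]
      | tmul a m => simp
    rw [this, h2, map_zero]
  obtain ⟨s, hs⟩ := (IsLocalizedModule.eq_zero_iff p.primeCompl
    (AlgebraTensorModule.rTensor R F g)).mp h3
  refine ⟨s.1, s.2, ?_⟩
  apply (TensorProduct.comm R F M).injective
  rw [map_smul, map_zero]
  exact hs

/-- Prime avoidance for annihilators. -/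
theorem exists_smul_eq_zero_forall_notMem {ι : Type*} (s : Finset ι) (f : ι → Ideal R)
    (hf : ∀ i ∈ s, (f i).IsPrime) {N : Type*} [AddCommGroup N] [Module R N] (x : N)
    (hx : ∀ i ∈ s, ∃ a, a ∉ f i ∧ a • x = 0) : ∃ a, a • x = 0 ∧ ∀ i ∈ s, a ∉ f i := by
  by_contra hcon
  push Not at hcon
  let I : Ideal R := LinearMap.ker (LinearMap.toSpanSingleton R N x)
  have hI : ∀ a, a ∈ I ↔ a • x = 0 := fun a => by simp [I, LinearMap.mem_ker]
  have hsub : (I : Set R) ⊆ ⋃ i ∈ (↑s : Set ι), f i := by
    intro a ha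
    obtain ⟨i, his, hai⟩ := hcon a ((hI a).mp ha)
    exact Set.mem_biUnion (Finset.mem_coe.mpr his) hai
  classical
  obtain ⟨i₀, _, _⟩ := hcon 0 (zero_smul R x)
  obtain ⟨i, his, hle⟩ := (Ideal.subset_union_prime (f := f) i₀ i₀
    (fun i hi _ _ => hf i hi)).mp hsub
  obtain ⟨a, hai, hax⟩ := hx i his
  exact hai (hle ((hI a).mpr hax))

end IdeallySep

section Chain

variable {R : Type u} [CommRing R] {M : Type v} [AddCommGroup M] [Module R M]

/-- One step of the chain argument: if `s` kills `x ∈ F ⊗ M` and `s` is a nonzerodivisor on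
`F / F'` (a module killed by `J`), with `M / J M` flat over `R / J`, then `x` comes from
`F' ⊗ M`. -/
theorem exists_rTensor_inclusion_eq_of_smul_eq_zero (J : Ideal R)
    [Module.Flat (R ⧸ J) ((R ⧸ J) ⊗[R] M)] {F' F : Ideal R} (h : F' ≤ F) (hJF : J * F ≤ F')
    (s : R) (hs : ∀ a ∈ F, s * a ∈ F' → a ∈ F') (x : ↥F ⊗[R] M) (hx : s • x = 0) :
    ∃ y : ↥F' ⊗[R] M, (Submodule.inclusion h).rTensor M y = x := by
  let L : Submodule R F := Submodule.comap F.subtype F'
  let Q := F ⧸ L
  have hQ : Module.IsTorsionBySet R Q J := by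
    rw [Module.isTorsionBySet_quotient_iff]
    intro a r hr
    change r * (a : R) ∈ F'
    exact hJF (Ideal.mul_mem_mul hr a.2)
  let j : Q →ₗ[R] Q := LinearMap.lsmul R Q s
  have hj : Injective j := by
    rw [injective_iff_map_eq_zero]
    intro q hq
    obtain ⟨a, rfl⟩ := Submodule.Quotient.mk_surjective L q
    change s • (Submodule.Quotient.mk a : F ⧸ L) = 0 at hq
    rw [← Submodule.Quotient.mk_smul, Submodule.Quotient.mk_eq_zero] at hq
    rw [Submodule.Quotient.mk_eq_zero]
    change ((a : F) : R) ∈ F'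
    apply hs _ a.2
    exact hq
  have hjM : Injective (j.rTensor M) := rTensor_injective_of_isTorsionBySet M J hQ hQ j hj
  have h1 : L.mkQ.rTensor M x = 0 := by
    apply hjM
    rw [map_zero]
    have : j.rTensor M = s • LinearMap.id := by
      ext q m
      simp [j, TensorProduct.smul_tmul']
    rw [this, LinearMap.smul_apply, LinearMap.id_apply, ← map_smul, hx, map_zero]
  obtain ⟨y, hy⟩ := (rTensor_exact M (LinearMap.exact_subtype_mkQ L) L.mkQ_surjective _).mp h1
  let e : L ≃ₗ[R] F' := Submodule.comapSubtypeEquivOfLe h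
  refine ⟨e.toLinearMap.rTensor M y, ?_⟩
  rw [← LinearMap.rTensor_comp_apply]
  have : Submodule.inclusion h ∘ₗ e.toLinearMap = L.subtype := rfl
  rw [this, hy]

/-- The chain argument. -/
theorem exists_rTensor_inclusion_eq_of_chain (J : Ideal R)
    [Module.Flat (R ⧸ J) ((R ⧸ J) ⊗[R] M)] (F : ℕ → Ideal R)
    (hle : ∀ m, F (m + 1) ≤ F m) (hJF : ∀ m, J * F m ≤ F (m + 1))
    (hs : ∀ m (y : ↥(F m) ⊗[R] M), (F m).subtype.rTensor M y = 0 →
      ∃ s : R, s • y = 0 ∧ ∀ a ∈ F m, s * a ∈ F (m + 1) → a ∈ F (m + 1))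
    (x : ↥(F 0) ⊗[R] M) (hx : (F 0).subtype.rTensor M x = 0) (m : ℕ) :
    ∃ (h : F m ≤ F 0) (y : ↥(F m) ⊗[R] M), (Submodule.inclusion h).rTensor M y = x := by
  induction m with
  | zero =>
    refine ⟨le_rfl, x, ?_⟩
    have : Submodule.inclusion (le_refl (F 0)) = LinearMap.id := by
      ext a
      rfl
    rw [this, LinearMap.rTensor_id, LinearMap.id_apply]
  | succ m ih =>
    obtain ⟨h, y, hy⟩ := ih
    have hy0 : (F m).subtype.rTensor M y = 0 := by
      have : (F m).subtype = (F 0).subtype ∘ₗ Submodule.inclusion h := rfl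
      rw [this, LinearMap.rTensor_comp_apply, hy, hx]
    obtain ⟨s, hsy, hsF⟩ := hs m y hy0
    obtain ⟨y', hy'⟩ := exists_rTensor_inclusion_eq_of_smul_eq_zero J (hle m) (hJF m) s hsF y hsy
    refine ⟨(hle m).trans h, y', ?_⟩
    have : Submodule.inclusion ((hle m).trans h) =
        Submodule.inclusion h ∘ₗ Submodule.inclusion (hle m) := rfl
    rw [this, LinearMap.rTensor_comp_apply, hy', hy]

theorem rTensor_inclusion_mem_smul_top (J : Ideal R) {F : Ideal R} (h : F ≤ J) (n : ℕ)
    (hn : F ≤ J ^ (n + 1)) (y : ↥F ⊗[R] M) :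
    (Submodule.inclusion h).rTensor M y ∈ (J ^ n) • (⊤ : Submodule R (↥J ⊗[R] M)) := by
  induction y using TensorProduct.induction_on with
  | zero => simp
  | add y z hy hz =>
    rw [map_add]
    exact Submodule.add_mem _ hy hz
  | tmul a m =>
    rw [LinearMap.rTensor_tmul]
    apply tmul_mem_smul_top_left
    rw [Submodule.mem_smul_top_iff]
    have : (a : R) ∈ J ^ (n + 1) := hn a.2
    rw [pow_succ] at this
    exact this

/-- Conclusion of the chain argument: `J ⊗ M → M` is injective. -/
theorem rTensor_injective_of_chain (J : Ideal R)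
    [Module.Flat (R ⧸ J) ((R ⧸ J) ⊗[R] M)] (hsep : IsHausdorff J (↥J ⊗[R] M))
    (F : ℕ → Ideal R) (hF0 : J ≤ F 0) (hFJ : F 0 ≤ J)
    (hle : ∀ m, F (m + 1) ≤ F m) (hJF : ∀ m, J * F m ≤ F (m + 1))
    (hs : ∀ m (y : ↥(F m) ⊗[R] M), (F m).subtype.rTensor M y = 0 →
      ∃ s : R, s • y = 0 ∧ ∀ a ∈ F m, s * a ∈ F (m + 1) → a ∈ F (m + 1))
    (hcof : ∀ n, ∃ m, F m ≤ J ^ n) : Injective (J.subtype.rTensor M) := by
  rw [injective_iff_map_eq_zero]
  intro x hx
  let x0 : ↥(F 0) ⊗[R] M := (Submodule.inclusion hF0).rTensor M x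
  have hx0 : (F 0).subtype.rTensor M x0 = 0 := by
    have : J.subtype = (F 0).subtype ∘ₗ Submodule.inclusion hF0 := rfl
    rw [this, LinearMap.rTensor_comp_apply] at hx
    exact hx
  have hxx0 : (Submodule.inclusion hFJ).rTensor M x0 = x := by
    change (Submodule.inclusion hFJ).rTensor M ((Submodule.inclusion hF0).rTensor M x) = x
    rw [← LinearMap.rTensor_comp_apply]
    have : Submodule.inclusion hFJ ∘ₗ Submodule.inclusion hF0 = LinearMap.id := by
      ext a
      rfl
    rw [this, LinearMap.rTensor_id, LinearMap.id_apply]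
  refine hsep.haus' _ fun n => ?_
  rw [SModEq.zero]
  obtain ⟨m, hm⟩ := hcof (n + 1)
  obtain ⟨h, y, hy⟩ := exists_rTensor_inclusion_eq_of_chain J F hle hJF hs x0 hx0 m
  have h' : F m ≤ J := h.trans hFJ
  have : x = (Submodule.inclusion h').rTensor M y := by
    have h2 : Submodule.inclusion h' = Submodule.inclusion hFJ ∘ₗ Submodule.inclusion h := rfl
    rw [h2, LinearMap.rTensor_comp_apply, hy, hxx0]
  rw [this]
  exact rTensor_inclusion_mem_smul_top J h' n hm y

end Chain

end Groth.Agent.Lib.Helper9
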