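import Mathlib

/-!
# Involutions of finite-dimensional `𝔽₂`-vector spaces have a permuted basis

Structure theory of finitely generated `𝔽₂[C₂]`-modules in concrete form.
-/

namespace Groth.Agent.Lib.Helper9.InvolutionF2

theorem add_self_eq_zero' {V : Type*} [AddCommGroup V] [Module (ZMod 2) V] (x : V) : x + x = 0 := by
  rw [← two_smul (ZMod 2) x]
  have : (2 : ZMod 2) = 0 := by decide
  rw [this, zero_smul]

theorem zmod2_cases (a : ZMod 2) : a = 0 ∨ a = 1 := by
  revert a; decide

/-- The permutation of `Fin 2 ⊕ Fin n` swapping the two left elements and applying `τ` on the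
right. -/
def sumPerm {n : ℕ} (τ : Fin n → Fin n) : Fin 2 ⊕ Fin n → Fin 2 ⊕ Fin n
  | Sum.inl i => Sum.inl (if i = 0 then 1 else 0)
  | Sum.inr j => Sum.inr (τ j)

theorem exists_perm_basis_aux (N : ℕ) : ∀ (V : Type*) [AddCommGroup V] [Module (ZMod 2) V]
    [Module.Finite (ZMod 2) V] (T : V →ₗ[ZMod 2] V), (∀ v, T (T v) = v) →
    Module.finrank (ZMod 2) V < N →
    ∃ (n : ℕ) (b : Module.Basis (Fin n) (ZMod 2) V) (τ : Fin n → Fin n), ∀ i, T (b i) = b (τ i) := by
  induction N with
  | zero => intro V _ _ _ T _ h; exact absurd h (Nat.not_lt_zero _)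
  | succ N ih =>
    intro V _ _ _ T hT hrank
    by_cases hid : ∀ v, T v = v
    · exact ⟨_, Module.finBasis (ZMod 2) V, id, fun i => hid _⟩
    push Not at hid
    obtain ⟨c₀, hc₀⟩ := hid
    have hu : T c₀ + c₀ ≠ 0 := by
      intro h
      apply hc₀
      have := add_self_eq_zero' c₀
      exact add_right_cancel (h.trans this.symm)
    obtain ⟨lam, hlam, -⟩ := Submodule.exists_le_ker_of_notMem
      (p := (⊥ : Submodule (ZMod 2) V)) (v := T c₀ + c₀) (by simpa using hu)
    -- choose c with lam c = 1, lam (T c) = 0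
    obtain ⟨c, hc1, hc0⟩ : ∃ c, lam c = 1 ∧ lam (T c) = 0 := by
      rw [map_add] at hlam
      rcases zmod2_cases (lam c₀) with h0 | h1
      · refine ⟨T c₀, ?_, ?_⟩
        · rcases zmod2_cases (lam (T c₀)) with h0' | h1'
          · rw [h0, h0'] at hlam; simp at hlam
          · exact h1'
        · rw [hT, h0]
      · refine ⟨c₀, h1, ?_⟩
        rcases zmod2_cases (lam (T c₀)) with h0' | h1'
        · exact h0'
        · rw [h1, h1'] at hlam
          exfalso; apply hlam; decide
    let φ : V →ₗ[ZMod 2] ZMod 2 × ZMod 2 := lam.prod (lam ∘ₗ T)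
    let U' : Submodule (ZMod 2) V := LinearMap.ker φ
    have hTU' : ∀ x ∈ U', T x ∈ U' := by
      intro x hx
      have hx' : lam x = 0 ∧ lam (T x) = 0 := by
        simpa [U', φ, LinearMap.mem_ker, Prod.ext_iff] using hx
      have : lam (T x) = 0 ∧ lam (T (T x)) = 0 := by rw [hT]; exact ⟨hx'.2, hx'.1⟩
      simpa [U', φ, LinearMap.mem_ker, Prod.ext_iff] using this
    let T' : U' →ₗ[ZMod 2] U' := T.restrict hTU'
    have hT' : ∀ w, T' (T' w) = w := fun w => Subtype.ext (by simp [T', LinearMap.restrict_apply, hT])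
    have hcU' : c ∉ U' := by
      intro h
      have : lam c = 0 ∧ lam (T c) = 0 := by
        simpa [U', φ, LinearMap.mem_ker, Prod.ext_iff] using h
      rw [hc1] at this
      exact one_ne_zero this.1
    have hlt : Module.finrank (ZMod 2) U' < Module.finrank (ZMod 2) V := by
      apply Submodule.finrank_lt
      exact fun (h : U' = ⊤) => hcU' (by rw [h]; exact Submodule.mem_top)
    obtain ⟨n', b', τ', hb'⟩ := ih U' T' hT' (by omega)
    -- the projection and the equivalence
    let P : V →ₗ[ZMod 2] V := lam.smulRight c + (lam ∘ₗ T).smulRight (T c)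
    have hPφ : ∀ v, φ (P v) = φ v := by
      intro v
      simp [P, φ, hc1, hc0, hT]
    have hker : ∀ v, v - P v ∈ U' := by
      intro v
      change φ (v - P v) = 0
      rw [map_sub, hPφ, sub_self]
    let g₂ : V →ₗ[ZMod 2] U' := LinearMap.codRestrict U' (LinearMap.id - P) (fun v => hker v)
    let g : V →ₗ[ZMod 2] (ZMod 2 × ZMod 2) × U' := φ.prod g₂
    let f : (ZMod 2 × ZMod 2) × U' →ₗ[ZMod 2] V :=
      ((LinearMap.fst _ _ _).smulRight c + (LinearMap.snd _ _ _).smulRight (T c)).coprod U'.subtype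
    have hfg : f ∘ₗ g = LinearMap.id := by
      ext v
      simp [f, g, g₂, φ, P]
    have hgf : g ∘ₗ f = LinearMap.id := by
      apply LinearMap.ext
      rintro ⟨⟨x, y⟩, w⟩
      have hw : lam (w : V) = 0 ∧ lam (T (w : V)) = 0 := by
        have := w.2
        simpa [U', φ, LinearMap.mem_ker, Prod.ext_iff] using this
      apply Prod.ext
      · simp [f, g, φ, hc1, hc0, hT, hw.1, hw.2]
      · apply Subtype.ext
        simp [f, g, g₂, P, hc1, hc0, hT, hw.1, hw.2]
    let e : ((ZMod 2 × ZMod 2) × U') ≃ₗ[ZMod 2] V := LinearEquiv.ofLinearMap f g hfg hgf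
    let bV : Module.Basis (Fin 2 ⊕ Fin n') (ZMod 2) V :=
      ((Module.Basis.finTwoProd (ZMod 2)).prod b').map e
    have hbV0 : bV (Sum.inl 0) = c := by
      simp [bV, e, f, Module.Basis.finTwoProd_zero]
    have hbV1 : bV (Sum.inl 1) = T c := by
      simp [bV, e, f, Module.Basis.finTwoProd_one]
    have hbVr : ∀ j, bV (Sum.inr j) = (b' j : V) := by
      intro j
      simp [bV, e, f]
    have hperm : ∀ i, T (bV i) = bV (sumPerm τ' i) := by
      rintro (i | j)
      · fin_cases i
        · change T (bV (Sum.inl 0)) = bV (Sum.inl 1)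
          rw [hbV0, hbV1]
        · change T (bV (Sum.inl 1)) = bV (Sum.inl 0)
          rw [hbV0, hbV1, hT]
      · change T (bV (Sum.inr j)) = bV (Sum.inr (τ' j))
        rw [hbVr, hbVr, ← hb' j]
        rfl
    refine ⟨2 + n', bV.reindex finSumFinEquiv,
      fun i => finSumFinEquiv (sumPerm τ' (finSumFinEquiv.symm i)), fun i => ?_⟩
    simp only [Module.Basis.reindex_apply, Equiv.symm_apply_apply]
    exact hperm _

/-- A linear involution of a finite-dimensional `𝔽₂`-vector space permutes some basis. -/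
theorem exists_perm_basis {V : Type*} [AddCommGroup V] [Module (ZMod 2) V]
    [Module.Finite (ZMod 2) V] (T : V →ₗ[ZMod 2] V) (hT : ∀ v, T (T v) = v) :
    ∃ (n : ℕ) (b : Module.Basis (Fin n) (ZMod 2) V) (τ : Fin n → Fin n), ∀ i, T (b i) = b (τ i) :=
  exists_perm_basis_aux _ V T hT (Nat.lt_succ_self _)

end Groth.Agent.Lib.Helper9.InvolutionF2
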