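import Mathlib
import Groth.Agent.Lib.Helper9.JacobianPt

/-!
# The Jacobian criterion for a hypersurface, in derivation form

`A` smooth over a Noetherian ring `R`, `g : A`, `P` a prime of `A ⧸ (g)` with preimage `q` in `A`.

* `isSmoothAt_of_derivation`: if some `R`-derivation `δ : A → L` into a field `L` (an `A`-algebra with kernel `q`)
  has `δ g ≠ 0`, then `A ⧸ (g)` is smooth at `P`.
* `exists_derivation_of_isSmoothAt`: if `A ⧸ (g)` is smooth at `P` and `g ≠ 0` in `A_q`, then some `R`-derivation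
  `δ : A → κ(q)` has `δ g ≠ 0`.
-/

set_option autoImplicit false
universe u

namespace Groth.Agent.Lib.Helper9.JacobianPrincipal

open TensorProduct KaehlerDifferential Groth.Agent.Lib.Helper9.JacobianPt

section general

variable {R A : Type u} [CommRing R] [CommRing A] [Algebra R A]

/-- a derivation into a field `L` with kernel `q` detects non-vanishing of `1 ⊗ dg` in `κ(q) ⊗ Ω`. -/
theorem tmul_D_ne_zero_of_derivation (q : Ideal A) [q.IsPrime] (g : A)
    (L : Type u) [Field L] [Algebra A L] [Algebra R L] [IsScalarTower R A L]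
    (hker : RingHom.ker (algebraMap A L) = q)
    (δ : Derivation R A L) (hδ : δ g ≠ 0) :
    (1 : q.ResidueField) ⊗ₜ[A] D R A g ≠ 0 := by
  intro h0
  -- the field map `κ(q) → L`
  let ι : q.ResidueField →+* L := Ideal.ResidueField.lift q (algebraMap A L) hker.ge (by
    intro a ha
    change IsUnit (algebraMap A L a)
    rw [isUnit_iff_ne_zero]
    intro h
    exact ha (hker ▸ (RingHom.mem_ker.mpr h)))
  have hι : ∀ a : A, ι (algebraMap A q.ResidueField a) = algebraMap A L a := fun a =>
    Ideal.ResidueField.lift_algebraMap _ _ _ _ a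
  let ιl : q.ResidueField →ₗ[A] L :=
    { toFun := ι
      map_add' := map_add ι
      map_smul' := fun a x => by
        simp only [RingHom.id_apply, Algebra.smul_def, map_mul, hι] }
  have h1 : (LinearMap.rTensor Ω[A⁄R] ιl) ((1 : q.ResidueField) ⊗ₜ[A] D R A g) =
      (1 : L) ⊗ₜ[A] D R A g := by
    rw [LinearMap.rTensor_tmul]
    change ι 1 ⊗ₜ[A] _ = _
    rw [map_one]
  rw [h0, map_zero] at h1
  have h2 : (LinearMap.liftBaseChange L δ.liftKaehlerDifferential) ((1 : L) ⊗ₜ[A] D R A g) = δ g := by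
    rw [LinearMap.liftBaseChange_tmul, one_smul, Derivation.liftKaehlerDifferential_comp_D]
  rw [← h1, map_zero] at h2
  exact hδ h2.symm

/-- non-vanishing of `1 ⊗ dg` in `κ(q) ⊗ Ω` is detected by a derivation into `κ(q)`. -/
theorem exists_derivation_of_tmul_D_ne_zero (q : Ideal A) [q.IsPrime] (g : A)
    (h : (1 : q.ResidueField) ⊗ₜ[A] D R A g ≠ 0) :
    ∃ δ : Derivation R A q.ResidueField, δ g ≠ 0 := by
  obtain ⟨f, hf⟩ : ∃ f : Module.Dual q.ResidueField (q.ResidueField ⊗[A] Ω[A⁄R]),
      f ((1 : q.ResidueField) ⊗ₜ[A] D R A g) ≠ 0 := by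
    by_contra hcon
    push Not at hcon
    exact h ((Module.forall_dual_apply_eq_zero_iff q.ResidueField _).mp hcon)
  let φ : Ω[A⁄R] →ₗ[A] q.ResidueField :=
    (f.restrictScalars A) ∘ₗ (TensorProduct.mk A q.ResidueField Ω[A⁄R] 1)
  refine ⟨φ.compDer (D R A), ?_⟩
  exact hf

end general

section smooth

variable (R A : Type u) [CommRing R] [CommRing A] [IsNoetherianRing R] [Algebra R A]
  [Algebra.Smooth R A] (g : A) (P : Ideal (A ⧸ Ideal.span {g})) [P.IsPrime]

theorem isSmoothAt_of_tmul_D_ne_zero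
    (h : (1 : (qq (Ideal.span {g}) P).ResidueField) ⊗ₜ[A] D R A g ≠ 0) :
    Algebra.IsSmoothAt R P := by
  classical
  rw [isSmoothAt_iff R A (Ideal.span {g}) P]
  refine ⟨{g}, ?_, ?_, ?_⟩
  · intro x hx
    rw [Finset.coe_singleton, Set.mem_singleton_iff] at hx
    rw [hx]
    exact Ideal.subset_span rfl
  · rw [Ideal.map_span, Finset.coe_singleton]
  · have : Subsingleton ↥({g} : Finset A) := ⟨fun a b => Subtype.ext (by
      rw [Finset.mem_singleton.mp a.2, Finset.mem_singleton.mp b.2])⟩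
    refine LinearIndependent.of_subsingleton (⟨g, Finset.mem_singleton_self g⟩ : ↥({g} : Finset A)) ?_
    exact h

theorem isSmoothAt_of_derivation
    (L : Type u) [Field L] [Algebra A L] [Algebra R L] [IsScalarTower R A L]
    (hker : RingHom.ker (algebraMap A L) = qq (Ideal.span {g}) P)
    (δ : Derivation R A L) (hδ : δ g ≠ 0) : Algebra.IsSmoothAt R P :=
  isSmoothAt_of_tmul_D_ne_zero R A g P
    (tmul_D_ne_zero_of_derivation (qq (Ideal.span {g}) P) g L hker δ hδ)

theorem tmul_D_ne_zero_of_isSmoothAt (h : Algebra.IsSmoothAt R P)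
    (hg : algebraMap A (Localization.AtPrime (qq (Ideal.span {g}) P)) g ≠ 0) :
    (1 : (qq (Ideal.span {g}) P).ResidueField) ⊗ₜ[A] D R A g ≠ 0 := by
  classical
  rw [isSmoothAt_iff R A (Ideal.span {g}) P] at h
  obtain ⟨s, hs, hspan, hli⟩ := h
  have hne : s.Nonempty := by
    rw [Finset.nonempty_iff_ne_empty]
    rintro rfl
    rw [Finset.coe_empty, Set.image_empty, Ideal.span_empty, Ideal.map_span, Set.image_singleton,
      Ideal.span_singleton_eq_bot] at hspan
    exact hg hspan
  obtain ⟨g', hg'⟩ := hne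
  obtain ⟨a, rfl⟩ := Ideal.mem_span_singleton'.mp (hs hg')
  have h1 := hli.ne_zero ⟨a * g, hg'⟩
  intro h0
  apply h1
  change (1 : (qq (Ideal.span {g}) P).ResidueField) ⊗ₜ[A] D R A (a * g) = 0
  rw [Derivation.leibniz, tmul_add, tmul_smul, h0, smul_zero, zero_add, ← smul_tmul,
    Algebra.smul_def, mul_one]
  have hgq : g ∈ qq (Ideal.span {g}) P := le_qq _ P (Ideal.subset_span rfl)
  rw [(Ideal.algebraMap_residueField_eq_zero).mpr hgq, zero_tmul]

theorem exists_derivation_of_isSmoothAt (h : Algebra.IsSmoothAt R P)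
    (hg : algebraMap A (Localization.AtPrime (qq (Ideal.span {g}) P)) g ≠ 0) :
    ∃ δ : Derivation R A (qq (Ideal.span {g}) P).ResidueField, δ g ≠ 0 :=
  exists_derivation_of_tmul_D_ne_zero _ g (tmul_D_ne_zero_of_isSmoothAt R A g P h hg)

end smooth

end Groth.Agent.Lib.Helper9.JacobianPrincipal
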