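import Mathlib
import Groth.Agent.Lib.Helper9.K0Ref1
import Groth.Agent.Lib.Helper17.K0Der
import Groth.Agent.Lib.Helper12.Dev2
import Groth.Agent.S9705
import Groth.Prelude.Def_ChowK

/-!
# Classes of rank one reflexive modules in `K_0(Coh) / K_{n-1}` (helper9)
-/

set_option autoImplicit false
universe u
open CategoryTheory CategoryTheory.Limits AlgebraicGeometry TopologicalSpace Opposite

namespace Groth.Agent.Lib.Helper9.K0Ref

open Groth.Agent.Lib.Helper29.QCoh Groth.Agent.Lib.Helper9.Dev Groth.Agent.Lib.Helper12.H12Dev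

variable {X : Scheme.{u}}

/-- A coherent submodule which is everything near the generic point has the same class modulo
modules of smaller dimension. -/
theorem toK0CohQuot_eq_of_sub [IsIntegral X] (δ : X → ℤ) (hδ : Cyc.IsSetup X δ) (n m : ℤ)
    (hδη : δ (genericPoint X) = n) (hnm : n ≤ m + 1) {Q M : X.Modules} (a : Q ⟶ M) [Mono a]
    (hQ : Coh.IsCoh Q) (hM : Coh.IsCoh M) (V : X.Opens) (hηV : genericPoint X ∈ V)
    (ha : ∀ W : X.Opens, W ≤ V → Function.Surjective (a.app W)) :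
    Cyc.toK0CohQuot δ n m M = Cyc.toK0CohQuot δ n m Q := by
  have hLN : IsLocallyNoetherian X := hδ.1
  have hlt : ∀ x : X, x ≠ genericPoint X → δ x < n := by
    intro x hx
    rw [← hδη]
    exact (hδ.2.2 (genericPoint X) x (genericPoint_specializes x) (Ne.symm hx)).1
  have hle : ∀ x : X, δ x ≤ n := by
    intro x
    by_cases hx : x = genericPoint X
    · rw [hx, hδη]
    · exact (hlt x hx).le
  have hC : Coh.IsCoh (cokernel a) := isCoh_cokernel a hQ hM
  have hQn : Cyc.CohLe δ n Q := ⟨hQ, fun x _ => hle x⟩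
  have hMn : Cyc.CohLe δ n M := ⟨hM, fun x _ => hle x⟩
  have hCn : Cyc.CohLe δ n (cokernel a) := ⟨hC, fun x _ => hle x⟩
  have hCm : Cyc.CohLe δ m (cokernel a) := by
    refine ⟨hC, fun x hx => ?_⟩
    have hxV : x ∉ V := by
      intro hxV
      have hsurj := stalkMap_surjective_of_app_surjective a V x hxV ha
      have := notMem_support_cokernel a x hsurj
      exact this (not_subsingleton_iff_nontrivial.mpr hx)
    have hxη : x ≠ genericPoint X := fun h => hxV (h ▸ hηV)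
    have := hlt x hxη
    omega
  have hS : (ShortComplex.mk a (cokernel.π a) (cokernel.condition a)).ShortExact :=
    ShortComplex.ShortExact.mk (ShortComplex.exact_cokernel a)
  have h := Groth.Agent.Lib.Helper17.K0Der.clSub_of_shortExact (Cyc.CohLe δ n) _ hS hQn hMn hCn
  have h' : KZero.clSub (Cyc.CohLe δ n) M =
      KZero.clSub (Cyc.CohLe δ n) Q + KZero.clSub (Cyc.CohLe δ n) (cokernel a) := h
  unfold Cyc.toK0CohQuot
  rw [h', QuotientAddGroup.mk_add]
  have h0 : (QuotientAddGroup.mk (KZero.clSub (Cyc.CohLe δ n) (cokernel a)) :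
      Cyc.K0CohQuot δ n m) = 0 := by
    rw [QuotientAddGroup.eq_zero_iff]
    exact AddSubgroup.subset_closure ⟨cokernel a, hCm, rfl⟩
  rw [h0, add_zero]

theorem main17924 (k : Type u) [Field k] (X : Scheme.{u}) [X.Over (Spec (CommRingCat.of k))]
    [AlgebraicGeometry.IsIntegral X] (s : ℕ)
    (hproj : ∃ (N : ℕ) (ι : X ⟶ CohB1.ProjSpace N k), IsClosedImmersion ι ∧
      ι ≫ CohB1.ProjSpace.toSpec N k = X ↘ Spec (CommRingCat.of k))
    (δ : X → ℤ) (hδ : Cyc.IsSetup X δ) (hδη : δ (genericPoint X) = (s + 2 : ℕ))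
    (ℒ : X.Modules) (hℒ : RefHull.IsRef1 ℒ) :
    Cyc.toK0CohQuot δ (s + 2 : ℕ) (s + 1 : ℕ) (Coh.structureModule X) =
      Cyc.toK0CohQuot δ (s + 2 : ℕ) (s + 1 : ℕ) ℒ := by
  have hLN : IsLocallyNoetherian X := hδ.1
  have hcpt : CompactSpace X := by
    obtain ⟨N, ι, hι, hcomp⟩ := hproj
    have hprop : IsProper (CohB1.ProjSpace.toSpec N k) := Groth.Agent.S9705.isProper_toSpec N k
    have : QuasiCompact (X ↘ Spec (CommRingCat.of k)) := by
      rw [← hcomp]
      infer_instance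
    exact QuasiCompact.compactSpace_of_compactSpace (X ↘ Spec (CommRingCat.of k))
  have hN : IsNoetherian X := {}
  obtain ⟨hcoh, hrefl, hrk⟩ := hℒ
  obtain ⟨V, e, hV, hT⟩ := Groth.Agent.Lib.Helper9.RefGrp.exists_isTriv_of_genInvertible ℒ hrk
  obtain ⟨Q, a, ψ, hQ, hamono, hψmono, habij, hψbij⟩ := exists_common_sub ℒ hcoh hV hT
  have hηV : genericPoint X ∈ V :=
    ((genericPoint_spec X).mem_open_set_iff V.isOpen).mpr
      (by obtain ⟨x, hx⟩ := hV; exact ⟨x, trivial, hx⟩)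
  have hnm : ((s + 2 : ℕ) : ℤ) ≤ ((s + 1 : ℕ) : ℤ) + 1 := by push_cast; omega
  have h1 := toK0CohQuot_eq_of_sub δ hδ ((s + 2 : ℕ) : ℤ) ((s + 1 : ℕ) : ℤ) hδη hnm a hQ
    (Groth.Agent.Lib.Helper9.RefStalk.isCoh_unit X) V hηV (fun W hW => (habij W hW).2)
  have h2 := toK0CohQuot_eq_of_sub δ hδ ((s + 2 : ℕ) : ℤ) ((s + 1 : ℕ) : ℤ) hδη hnm ψ hQ
    hcoh V hηV (fun W hW => (hψbij W hW).2)
  exact h1.trans h2.symm

end Groth.Agent.Lib.Helper9.K0Ref
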