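import Mathlib
import Groth.Prelude.Def_CAlg
import Groth.Agent.Lib.Helper18.CM2

set_option autoImplicit false
universe u

open IsLocalRing

namespace Groth.Agent.Lib.Helper9.Kollar4

/-- The conclusion of Kollár's tetrachotomy (case 4). -/
def Concl (R : Type u) [CommRing R] [IsLocalRing R] : Prop :=
  ∃ (R' : Type u) (_ : CommRing R') (_ : Algebra R R'), Nontrivial R' ∧ Module.Finite R R' ∧
      ¬ Function.Bijective (algebraMap R R') ∧
      (∃ n : ℕ, (∀ x : R, algebraMap R R' x = 0 → ∀ a ∈ IsLocalRing.maximalIdeal R ^ n, a * x = 0) ∧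
        (∀ y : R', ∀ a ∈ IsLocalRing.maximalIdeal R ^ n, a • y ∈ Set.range (algebraMap R R'))) ∧
      IsLocalRing.maximalIdeal R ∉ associatedPrimes R R'

variable {R : Type u} [CommRing R] [IsLocalRing R]

/-- elements killed by `m^n`. -/
def J (R : Type u) [CommRing R] [IsLocalRing R] (n : ℕ) : Ideal R where
  carrier := {x | ∀ a ∈ maximalIdeal R ^ n, a * x = 0}
  add_mem' := fun {x y} hx hy a ha => by rw [mul_add, hx a ha, hy a ha, add_zero]
  zero_mem' := fun a _ => mul_zero a
  smul_mem' := fun c x hx a ha => by rw [smul_eq_mul, mul_left_comm, hx a ha, mul_zero]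

theorem mem_J {n : ℕ} {x : R} : x ∈ J R n ↔ ∀ a ∈ maximalIdeal R ^ n, a * x = 0 := Iff.rfl

theorem J_mono : Monotone (J R) := by
  intro n k hnk x hx a ha
  exact hx a (Ideal.pow_le_pow_right hnk ha)

variable [IsNoetherianRing R]

theorem concl_of_mem_ass (h1 : ¬ IsArtinianRing R)
    (h : maximalIdeal R ∈ associatedPrimes R R) : Concl R := by
  obtain ⟨N, hN⟩ := monotone_stabilizes_iff_noetherian.mpr (inferInstance : IsNoetherian R R)
    ⟨J R, J_mono⟩
  have hK : J R (N + 2) = J R (N + 1) :=
    (hN (N + 2) (by omega)).symm.trans (hN (N + 1) (by omega))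
  have hne : J R (N + 1) ≠ ⊤ := by
    intro htop
    apply h1
    rw [isArtinianRing_iff_isNilpotent_maximalIdeal]
    refine ⟨N + 1, ?_⟩
    rw [Ideal.zero_eq_bot, eq_bot_iff]
    intro a ha
    have : (1 : R) ∈ J R (N + 1) := htop ▸ Submodule.mem_top
    simpa using this a ha
  refine ⟨R ⧸ J R (N + 1), inferInstance, inferInstance, ?_, inferInstance, ?_, ⟨N + 1, ?_, ?_⟩, ?_⟩
  · exact Ideal.Quotient.nontrivial_iff.mpr hne
  · rintro ⟨hinj, -⟩
    obtain ⟨-, x, hx⟩ := isAssociatedPrime_iff.mp h
    have hx0 : x ≠ 0 := by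
      rintro rfl
      have : (1 : R) ∈ maximalIdeal R := by
        rw [hx, Submodule.mem_colon_singleton]; simp
      exact (maximalIdeal.isMaximal R).ne_top ((Ideal.eq_top_iff_one _).mpr this)
    apply hx0
    apply hinj
    rw [map_zero]
    change Ideal.Quotient.mk _ x = 0
    rw [Ideal.Quotient.eq_zero_iff_mem]
    apply J_mono (show 1 ≤ N + 1 by omega)
    intro a ha
    rw [pow_one, hx, Submodule.mem_colon_singleton] at ha
    simpa using ha
  · intro x hx a ha
    have hx' : Ideal.Quotient.mk (J R (N + 1)) x = 0 := hx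
    rw [Ideal.Quotient.eq_zero_iff_mem] at hx'
    exact hx' a ha
  · intro y a _
    obtain ⟨y, rfl⟩ := Ideal.Quotient.mk_surjective y
    exact ⟨a * y, by rw [Algebra.smul_def]; rfl⟩
  · intro hass
    obtain ⟨-, x, hx⟩ := isAssociatedPrime_iff.mp hass
    obtain ⟨x, rfl⟩ := Ideal.Quotient.mk_surjective x
    have hxJ : x ∈ J R (N + 2) := by
      intro b hb
      have hle : maximalIdeal R ^ (N + 2) ≤ LinearMap.ker (LinearMap.toSpanSingleton R R x) := by
        rw [pow_succ, Ideal.mul_le]
        intro r hr s hs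
        rw [hx, Submodule.mem_colon_singleton] at hs
        have hs' : Ideal.Quotient.mk (J R (N + 1)) (s * x) = 0 := by
          simpa [Algebra.smul_def] using hs
        rw [Ideal.Quotient.eq_zero_iff_mem] at hs'
        have := hs' r hr
        rw [LinearMap.mem_ker, LinearMap.toSpanSingleton_apply, smul_eq_mul, mul_assoc]
        exact this
      have := hle hb
      simpa using this
    rw [hK] at hxJ
    have hx0 : Ideal.Quotient.mk (J R (N + 1)) x = 0 := Ideal.Quotient.eq_zero_iff_mem.mpr hxJ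
    have : (1 : R) ∈ maximalIdeal R := by
      rw [hx, Submodule.mem_colon_singleton, hx0]; simp
    exact (maximalIdeal.isMaximal R).ne_top ((Ideal.eq_top_iff_one _).mpr this)

end Groth.Agent.Lib.Helper9.Kollar4
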