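import Mathlib
import Groth.Prelude.Def_CAlg
import Groth.Agent.Lib.Helper18.CM2
import Groth.Agent.Lib.Helper9.Kollar4a

set_option autoImplicit false
universe u

open IsLocalRing

namespace Groth.Agent.Lib.Helper9.Kollar4

variable {R : Type u} [CommRing R] [IsLocalRing R]

/-- idealizer of `m` in `R_x`. -/
def T (x : R) : Subalgebra R (Localization.Away x) where
  carrier := {z | ∀ t ∈ maximalIdeal R, ∃ s ∈ maximalIdeal R,
    z * algebraMap R (Localization.Away x) t = algebraMap R (Localization.Away x) s}
  mul_mem' := fun {z w} hz hw t ht => by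
    obtain ⟨s, hs, e⟩ := hw t ht
    obtain ⟨s', hs', e'⟩ := hz s hs
    exact ⟨s', hs', by rw [mul_assoc, e, e']⟩
  add_mem' := fun {z w} hz hw t ht => by
    obtain ⟨s, hs, e⟩ := hz t ht
    obtain ⟨s', hs', e'⟩ := hw t ht
    exact ⟨s + s', add_mem hs hs', by rw [add_mul, e, e', map_add]⟩
  algebraMap_mem' := fun r t ht => ⟨r * t, Ideal.mul_mem_left _ _ ht, by rw [map_mul]⟩

theorem mem_T {x : R} {z : Localization.Away x} : z ∈ T x ↔ ∀ t ∈ maximalIdeal R,
    ∃ s ∈ maximalIdeal R,
      z * algebraMap R (Localization.Away x) t = algebraMap R (Localization.Away x) s := Iff.rfl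

variable [IsNoetherianRing R]

theorem concl_of_idealizer (x y : R) (hx : x ∈ maximalIdeal R) (hreg : IsSMulRegular R x)
    (hy : ¬ x ∣ y) (hym : ∀ t ∈ maximalIdeal R, ∃ s ∈ maximalIdeal R, y * t = x * s) :
    Concl R := by
  have hxnzd : x ∈ nonZeroDivisors R := by
    rw [mem_nonZeroDivisors_iff_right]
    intro z hz
    apply hreg
    simpa [mul_comm] using hz
  have inj : Function.Injective (algebraMap R (Localization.Away x)) :=
    IsLocalization.injective (Localization.Away x) (M := Submonoid.powers x)
      (Submonoid.powers_le.mpr hxnzd)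
  have hinv : algebraMap R (Localization.Away x) x * IsLocalization.Away.invSelf x = 1 :=
    IsLocalization.Away.mul_invSelf x
  have : Nontrivial (Localization.Away x) := inj.nontrivial
  refine ⟨T x, inferInstance, inferInstance, inferInstance, ?_, ?_, ⟨1, ?_, ?_⟩, ?_⟩
  · -- finite
    have hle : (T x).toSubmodule ≤ Submodule.span R {IsLocalization.Away.invSelf (S := Localization.Away x) x} := by
      intro z hz
      obtain ⟨s, -, e⟩ := hz x hx
      have : z = s • IsLocalization.Away.invSelf (S := Localization.Away x) x := by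
        rw [Algebra.smul_def, ← e, mul_assoc, hinv, mul_one]
      rw [this]
      exact Submodule.smul_mem _ _ (Submodule.mem_span_singleton_self _)
    have hfg : (T x).toSubmodule.FG := Submodule.FG.of_le (Submodule.fg_span_singleton _) hle
    exact Module.Finite.iff_fg.mpr hfg
  · -- not bijective
    rintro ⟨-, hsurj⟩
    have hmem : algebraMap R (Localization.Away x) y * IsLocalization.Away.invSelf x ∈ T x := by
      intro t ht
      obtain ⟨s, hs, e⟩ := hym t ht
      refine ⟨s, hs, ?_⟩
      calc algebraMap R (Localization.Away x) y * IsLocalization.Away.invSelf x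
            * algebraMap R (Localization.Away x) t
          = algebraMap R (Localization.Away x) (y * t) * IsLocalization.Away.invSelf x := by
            rw [map_mul]; ring
        _ = algebraMap R (Localization.Away x) s *
            (algebraMap R (Localization.Away x) x * IsLocalization.Away.invSelf x) := by
            rw [e, map_mul]; ring
        _ = _ := by rw [hinv, mul_one]
    obtain ⟨r, hr⟩ := hsurj ⟨_, hmem⟩
    have hr' : algebraMap R (Localization.Away x) r =
        algebraMap R (Localization.Away x) y * IsLocalization.Away.invSelf x :=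
      congrArg Subtype.val hr
    apply hy
    refine ⟨r, ?_⟩
    apply inj
    rw [map_mul, hr']
    calc algebraMap R (Localization.Away x) y
        = algebraMap R (Localization.Away x) y *
          (algebraMap R (Localization.Away x) x * IsLocalization.Away.invSelf x) := by
          rw [hinv, mul_one]
      _ = _ := by ring
  · intro r hr a _
    have : algebraMap R (Localization.Away x) r = 0 := congrArg Subtype.val hr
    rw [inj (this.trans (map_zero _).symm), mul_zero]
  · intro z a ha
    rw [pow_one] at ha
    obtain ⟨s, -, e⟩ := z.2 a ha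
    refine ⟨s, Subtype.ext ?_⟩
    change algebraMap R (Localization.Away x) s = _
    rw [← e, Algebra.smul_def, mul_comm]
    rfl
  · intro hass
    obtain ⟨-, z, hz⟩ := isAssociatedPrime_iff.mp hass
    have h0 : x • z = 0 := by
      rw [hz, Submodule.mem_colon_singleton] at hx
      simpa using hx
    have h0' : algebraMap R (Localization.Away x) x * (z : Localization.Away x) = 0 := by
      have := congrArg Subtype.val h0
      simpa [Algebra.smul_def] using this
    have hz0 : (z : Localization.Away x) = 0 := by
      calc (z : Localization.Away x)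
          = IsLocalization.Away.invSelf x * (algebraMap R (Localization.Away x) x * z) := by
            rw [← mul_assoc, mul_comm (IsLocalization.Away.invSelf x), hinv, one_mul]
        _ = 0 := by rw [h0', mul_zero]
    have hz0' : z = 0 := Subtype.ext hz0
    have : (1 : R) ∈ maximalIdeal R := by
      rw [hz, Submodule.mem_colon_singleton, hz0']; simp
    exact (maximalIdeal.isMaximal R).ne_top ((Ideal.eq_top_iff_one _).mpr this)

theorem regular_of_principal (h1 : ¬ IsArtinianRing R) (t : R)
    (ht : maximalIdeal R = Ideal.span {t}) :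
    IsRegularLocalRing R ∧ ringKrullDim R = 1 := by
  have hdim : (1 : WithBot ℕ∞) ≤ ringKrullDim R := by
    rw [isArtinianRing_iff_krullDimLE_zero, Ring.krullDimLE_iff, not_le] at h1
    generalize ringKrullDim R = d at h1 ⊢
    induction d with
    | bot => simp at h1
    | coe d =>
      have h1' : (0 : ℕ∞) < d := by exact_mod_cast h1
      have : (1 : ℕ∞) ≤ d := Order.one_le_iff_pos.mpr h1'
      exact_mod_cast this
  have hspan : (maximalIdeal R).spanFinrank ≤ 1 := by
    rw [ht]
    have := Submodule.spanFinrank_span_le_ncard_of_finite (R := R) (s := ({t} : Set R))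
      (Set.finite_singleton t)
    simpa using this
  have hspan' : ((maximalIdeal R).spanFinrank : WithBot ℕ∞) ≤ 1 := by
    exact_mod_cast hspan
  refine ⟨IsRegularLocalRing.of_spanFinrank_maximalIdeal_le R (hspan'.trans hdim), ?_⟩
  exact le_antisymm ((ringKrullDim_le_spanFinrank_maximalIdeal R).trans hspan') hdim

omit [IsNoetherianRing R] in
theorem principal_of_not (x y : R) (hreg : IsSMulRegular R x)
    (hym : ∀ t ∈ maximalIdeal R, x ∣ y * t)
    (hn : ¬ ∀ t ∈ maximalIdeal R, ∃ s ∈ maximalIdeal R, y * t = x * s) :
    ∃ t, maximalIdeal R = Ideal.span {t} := by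
  push Not at hn
  obtain ⟨t, ht, hts⟩ := hn
  obtain ⟨u, hu⟩ := hym t ht
  have huu : IsUnit u := by
    by_contra hnu
    exact hts u ((mem_maximalIdeal u).mpr hnu) hu
  obtain ⟨v, hv⟩ := huu.exists_left_inv
  -- t' = v * t, y * t' = x
  have hyt' : y * (v * t) = x := by
    calc y * (v * t) = v * (y * t) := by ring
      _ = v * (x * u) := by rw [hu]
      _ = x * (v * u) := by ring
      _ = x := by rw [hv, mul_one]
  have hyreg : ∀ z, y * z = 0 → z = 0 := by
    intro z hz
    apply hreg
    change x * z = x * 0
    rw [mul_zero, ← hyt']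
    calc y * (v * t) * z = (v * t) * (y * z) := by ring
      _ = 0 := by rw [hz, mul_zero]
  refine ⟨v * t, le_antisymm ?_ ?_⟩
  · intro t'' ht''
    obtain ⟨s, hs⟩ := hym t'' ht''
    have : y * (t'' - v * t * s) = 0 := by
      linear_combination hs - s * hyt'
    have := hyreg _ this
    rw [sub_eq_zero] at this
    rw [this]
    exact Ideal.mul_mem_right _ _ (Ideal.mem_span_singleton_self _)
  · rw [Ideal.span_singleton_le_iff_mem]
    exact Ideal.mul_mem_left _ _ ht

open Groth.Agent.Lib.Helper18.CM in
theorem main (h1 : ¬ IsArtinianRing R) (h2 : ¬ (IsRegularLocalRing R ∧ ringKrullDim R = 1))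
    (h3 : LocCoh.depth R R ≤ 1) : Concl R := by
  by_cases hass : maximalIdeal R ∈ associatedPrimes R R
  · exact concl_of_mem_ass h1 hass
  · have hd0 : LocCoh.depth R R ≠ 0 := fun h => hass ((depth_eq_zero_iff R).mp h)
    have hd1 : 1 ≤ LocCoh.depth R R := Order.one_le_iff_pos.mpr (pos_iff_ne_zero.mpr hd0)
    obtain ⟨x, hx, hreg⟩ := (one_le_depth_iff R).mp hd1
    have hq := depth_quotSMulTop R hx hreg
    have hq0 : LocCoh.depth R (QuotSMulTop x R) = 0 := by
      have h1' : LocCoh.depth R R = 1 := le_antisymm h3 hd1
      rw [h1'] at hq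
      have : LocCoh.depth R (QuotSMulTop x R) + 1 = 0 + 1 := by rw [hq, zero_add]
      exact (ENat.add_left_injective_of_ne_top ENat.one_ne_top) this
    have hmem := (depth_eq_zero_iff (QuotSMulTop x R)).mp hq0
    obtain ⟨-, yb, hyb⟩ := isAssociatedPrime_iff.mp hmem
    obtain ⟨y, rfl⟩ := Submodule.Quotient.mk_surjective _ yb
    have hy : ¬ x ∣ y := by
      rintro ⟨c, rfl⟩
      have h0 : (Submodule.Quotient.mk (x * c) : QuotSMulTop x R) = 0 := by
        rw [Submodule.Quotient.mk_eq_zero]
        exact Submodule.smul_mem_pointwise_smul c x ⊤ Submodule.mem_top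
      have : (1 : R) ∈ maximalIdeal R := by
        rw [hyb, Submodule.mem_colon_singleton, h0]; simp
      exact (maximalIdeal.isMaximal R).ne_top ((Ideal.eq_top_iff_one _).mpr this)
    have hym : ∀ t ∈ maximalIdeal R, x ∣ y * t := by
      intro t ht
      rw [hyb, Submodule.mem_colon_singleton, Submodule.mem_bot, ← Submodule.Quotient.mk_smul,
        Submodule.Quotient.mk_eq_zero, Submodule.mem_smul_pointwise_iff_exists] at ht
      obtain ⟨c, -, hc⟩ := ht
      exact ⟨c, by rw [mul_comm y t, ← smul_eq_mul t y, ← hc, smul_eq_mul]⟩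
    by_cases hB : ∀ t ∈ maximalIdeal R, ∃ s ∈ maximalIdeal R, y * t = x * s
    · exact concl_of_idealizer x y hx hreg hy hB
    · obtain ⟨t, ht⟩ := principal_of_not x y hreg hym hB
      exact absurd (regular_of_principal h1 t ht) h2

end Groth.Agent.Lib.Helper9.Kollar4
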