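import Mathlib
import Groth.Prelude

set_option autoImplicit false
universe u

namespace Groth.Agent.Lib.Helper9.Kummer

open MvPolynomial

variable (A : Type u) [CommRing A] {r : ℕ} (f : Fin r → A) (n : Fin r → ℕ)

/-- the defining ideal -/
noncomputable abbrev kI : Ideal (MvPolynomial (Fin r) A) :=
  Ideal.span (Set.range fun i => (X i : MvPolynomial (Fin r) A) ^ n i - C (f i))

/-- the class of `T_i`. -/
noncomputable def t (i : Fin r) : SGA1.kummerAlg A f n := Ideal.Quotient.mk _ (X i)

theorem algebraMap_eq (a : A) :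
    algebraMap A (SGA1.kummerAlg A f n) a = Ideal.Quotient.mk _ (C a) := rfl

theorem t_pow (i : Fin r) : t A f n i ^ n i = algebraMap A (SGA1.kummerAlg A f n) (f i) := by
  unfold t
  rw [algebraMap_eq, ← map_pow, ← sub_eq_zero, ← map_sub, Ideal.Quotient.eq_zero_iff_mem]
  exact Ideal.subset_span ⟨i, rfl⟩

theorem exists_sub_mem (x : SGA1.kummerAlg A f n) :
    ∃ a : A, x - algebraMap A _ a ∈ Ideal.span (Set.range (t A f n)) := by
  obtain ⟨p, rfl⟩ := Ideal.Quotient.mk_surjective x
  induction p using MvPolynomial.induction_on with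
  | C a => exact ⟨a, by rw [algebraMap_eq, sub_self]; exact Ideal.zero_mem _⟩
  | add p q hp hq =>
    obtain ⟨a, ha⟩ := hp
    obtain ⟨b, hb⟩ := hq
    refine ⟨a + b, ?_⟩
    rw [map_add, map_add]
    have := Ideal.add_mem _ ha hb
    convert this using 1
    ring
  | mul_X p i _ =>
    refine ⟨0, ?_⟩
    rw [map_zero, sub_zero, map_mul]
    exact Ideal.mul_mem_left _ _ (Ideal.subset_span ⟨i, rfl⟩)

theorem adjoin_t : Algebra.adjoin A (Set.range (t A f n)) = ⊤ := by
  have h1 : Algebra.adjoin A (Set.range (X : Fin r → MvPolynomial (Fin r) A)) = ⊤ :=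
    MvPolynomial.adjoin_range_X
  have h2 : (Algebra.adjoin A (Set.range (X : Fin r → MvPolynomial (Fin r) A))).map
      (Ideal.Quotient.mkₐ A (kI A f n)) = ⊤ := by
    rw [h1, Algebra.map_top, AlgHom.range_eq_top]
    exact Ideal.Quotient.mkₐ_surjective A _
  rw [AlgHom.map_adjoin, ← Set.range_comp] at h2
  exact h2

theorem isIntegral_t (hn : ∀ i, 1 ≤ n i) (i : Fin r) : IsIntegral A (t A f n i) := by
  refine IsIntegral.of_pow (n := n i) (by have := hn i; omega) ?_
  rw [t_pow]
  exact isIntegral_algebraMap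

theorem finite (hn : ∀ i, 1 ≤ n i) : Module.Finite A (SGA1.kummerAlg A f n) := by
  have h := _root_.fg_adjoin_of_finite (R := A) (Set.finite_range (t A f n))
    (by rintro _ ⟨i, rfl⟩; exact isIntegral_t A f n hn i)
  rw [adjoin_t] at h
  exact ⟨by simpa using h⟩

theorem algebraMap_injective [IsDomain A] (hn : ∀ i, 1 ≤ n i) :
    Function.Injective (algebraMap A (SGA1.kummerAlg A f n)) := by
  let K := FractionRing A
  let Ω := AlgebraicClosure K
  have hroot : ∀ i, ∃ z : Ω, z ^ n i = algebraMap A Ω (f i) := fun i =>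
    IsAlgClosed.exists_pow_nat_eq _ (by have := hn i; omega)
  choose z hz using hroot
  let φ : MvPolynomial (Fin r) A →ₐ[A] Ω := MvPolynomial.aeval z
  have hφ : ∀ p ∈ kI A f n, φ p = 0 := by
    intro p hp
    have : kI A f n ≤ RingHom.ker φ.toRingHom := by
      rw [Ideal.span_le]
      rintro _ ⟨i, rfl⟩
      change φ _ = 0
      simp only [φ, map_sub, map_pow, aeval_X, aeval_C, hz, sub_self]
    exact this hp
  let ψ : SGA1.kummerAlg A f n →ₐ[A] Ω := Ideal.Quotient.liftₐ _ φ hφ
  have hinj : Function.Injective (algebraMap A Ω) := by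
    rw [IsScalarTower.algebraMap_eq A K Ω]
    exact (algebraMap K Ω).injective.comp (IsFractionRing.injective A K)
  intro a b hab
  apply hinj
  rw [← ψ.commutes a, ← ψ.commutes b, hab]

end Groth.Agent.Lib.Helper9.Kummer
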