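import Mathlib
import Groth.Prelude
import Groth.Agent.Lib.Helper9.Kummer1
import Groth.Agent.Lib.Helper12.IntegralDim
import Groth.Agent.Lib.Helper21.RegularLocal

set_option autoImplicit false
universe u

namespace Groth.Agent.Lib.Helper9.Kummer

open MvPolynomial IsLocalRing

variable (A : Type u) [CommRing A] [IsLocalRing A] {r : ℕ} (f : Fin r → A) (n : Fin r → ℕ)

/-- the candidate maximal ideal -/
noncomputable def M : Ideal (SGA1.kummerAlg A f n) :=
  (maximalIdeal A).map (algebraMap A (SGA1.kummerAlg A f n)) ⊔ Ideal.span (Set.range (t A f n))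

variable (hm : ∀ i, f i ∈ maximalIdeal A) (hn : ∀ i, 1 ≤ n i)

include hm hn in
theorem M_le_of_isMaximal (N : Ideal (SGA1.kummerAlg A f n)) [hN : N.IsMaximal] :
    M A f n ≤ N := by
  have := finite A f n hn
  have hint : Algebra.IsIntegral A (SGA1.kummerAlg A f n) := Algebra.IsIntegral.of_finite _ _
  have h1 : (N.comap (algebraMap A (SGA1.kummerAlg A f n))).IsMaximal :=
    Ideal.isMaximal_comap_of_isIntegral_of_isMaximal N
  have h2 : N.comap (algebraMap A (SGA1.kummerAlg A f n)) = maximalIdeal A :=
    IsLocalRing.eq_maximalIdeal h1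
  have h3 : (maximalIdeal A).map (algebraMap A (SGA1.kummerAlg A f n)) ≤ N := by
    rw [Ideal.map_le_iff_le_comap, h2]
  unfold M
  apply sup_le h3
  rw [Ideal.span_le]
  rintro _ ⟨i, rfl⟩
  have h4 : t A f n i ^ n i ∈ N := by
    rw [t_pow]
    exact h3 (Ideal.mem_map_of_mem _ (hm i))
  exact hN.isPrime.mem_of_pow_mem _ h4

include hm hn in
theorem M_isMaximal [Nontrivial (SGA1.kummerAlg A f n)] : (M A f n).IsMaximal := by
  obtain ⟨N, hN⟩ := Ideal.exists_maximal (SGA1.kummerAlg A f n)
  have hle := M_le_of_isMaximal A f n hm hn N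
  rw [Ideal.isMaximal_iff]
  refine ⟨fun h => hN.ne_top ((Ideal.eq_top_iff_one _).mpr (hle h)), ?_⟩
  intro J x hMJ hxM hxJ
  obtain ⟨a, ha⟩ := exists_sub_mem A f n x
  have ha' : x - algebraMap A _ a ∈ M A f n := Ideal.mem_sup_right ha
  have hau : IsUnit a := by
    by_contra hnu
    apply hxM
    have h1 : algebraMap A (SGA1.kummerAlg A f n) a ∈ M A f n :=
      Ideal.mem_sup_left (Ideal.mem_map_of_mem _ ((mem_maximalIdeal a).mpr hnu))
    have : x = (x - algebraMap A _ a) + algebraMap A _ a := by ring
    rw [this]
    exact Ideal.add_mem _ ha' h1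
  have h2 : algebraMap A (SGA1.kummerAlg A f n) a ∈ J := by
    have : algebraMap A (SGA1.kummerAlg A f n) a = x - (x - algebraMap A _ a) := by ring
    rw [this]
    exact Ideal.sub_mem _ hxJ (hMJ ha')
  have h3 : IsUnit (algebraMap A (SGA1.kummerAlg A f n) a) := hau.map _
  exact (Ideal.eq_top_iff_one J).mp (Ideal.eq_top_of_isUnit_mem _ h2 h3)

include hm hn in
theorem isLocalRing [Nontrivial (SGA1.kummerAlg A f n)] :
    IsLocalRing (SGA1.kummerAlg A f n) := by
  have hM := M_isMaximal A f n hm hn
  refine IsLocalRing.of_unique_max_ideal ⟨M A f n, hM, ?_⟩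
  intro N hN
  have : N.IsMaximal := hN
  exact (hM.eq_of_le hN.ne_top (M_le_of_isMaximal A f n hm hn N)).symm

include hm hn in
theorem maximalIdeal_eq [IsLocalRing (SGA1.kummerAlg A f n)] :
    maximalIdeal (SGA1.kummerAlg A f n) = M A f n :=
  (IsLocalRing.eq_maximalIdeal (M_isMaximal A f n hm hn)).symm

section extend

variable {A} {f}
variable [IsNoetherianRing A]

/-- Completing part of a regular system of parameters to a minimal generating system of `𝔪`. -/
theorem exists_extension
    (hf : LinearIndependent (ResidueField A) (fun i => (maximalIdeal A).toCotangent ⟨f i, hm i⟩)) :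
    ∃ s : Set A, s.Finite ∧
      r + s.ncard ≤ Module.finrank (ResidueField A) (CotangentSpace A) ∧
      Ideal.span (Set.range f ∪ s) = maximalIdeal A := by
  classical
  set v : Fin r → CotangentSpace A := fun i => (maximalIdeal A).toCotangent ⟨f i, hm i⟩ with hv
  have hs : LinearIndepOn (ResidueField A) id (Set.range v) := hf.linearIndepOn_id
  set B := hs.extend (Set.subset_univ _) with hB
  let b : Module.Basis B (ResidueField A) (CotangentSpace A) := Module.Basis.extend hs
  have hBfin : Finite B := Module.Finite.finite_basis b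
  have hBfin' : B.Finite := Set.toFinite B
  have hcard : B.ncard = Module.finrank (ResidueField A) (CotangentSpace A) := by
    rw [Module.finrank_eq_nat_card_basis b, Set.ncard_eq_toFinset_card' , Nat.card_eq_fintype_card,
      Set.toFinset_card]
  have hsub : Set.range v ⊆ B := hs.subset_extend _
  have hrange : (Set.range v).ncard = r := by
    rw [Set.ncard_range_of_injective hf.injective]
    simp
  have hdiff : (B \ Set.range v).ncard + (Set.range v).ncard = B.ncard :=
    Set.ncard_sdiff_add_ncard_of_subset hsub hBfin'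
  let σ : CotangentSpace A → maximalIdeal A :=
    Function.surjInv (maximalIdeal A).toCotangent_surjective
  have hσ : ∀ c, (maximalIdeal A).toCotangent (σ c) = c :=
    Function.surjInv_eq (maximalIdeal A).toCotangent_surjective
  set s0 : Set (maximalIdeal A) := σ '' (B \ Set.range v) with hs0
  refine ⟨Subtype.val '' s0, ?_, ?_, ?_⟩
  · exact ((hBfin'.subset Set.sdiff_subset).image σ).image _
  · have h1 : (Subtype.val '' s0).ncard ≤ (B \ Set.range v).ncard :=
      (Set.ncard_image_le ((hBfin'.subset Set.sdiff_subset).image σ)).trans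
        (Set.ncard_image_le (hBfin'.subset Set.sdiff_subset))
    omega
  · set S0 : Set (maximalIdeal A) := Set.range (fun i => (⟨f i, hm i⟩ : maximalIdeal A)) ∪ s0
      with hS0
    have h1 : B ⊆ (maximalIdeal A).toCotangent '' S0 := by
      intro c hc
      by_cases hcv : c ∈ Set.range v
      · obtain ⟨i, rfl⟩ := hcv
        exact ⟨⟨f i, hm i⟩, Or.inl ⟨i, rfl⟩, rfl⟩
      · exact ⟨σ c, Or.inr ⟨c, ⟨hc, hcv⟩, rfl⟩, hσ c⟩
    have h2 : Submodule.span (ResidueField A) ((maximalIdeal A).toCotangent '' S0) = ⊤ := by
      rw [eq_top_iff, ← b.span_eq]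
      apply Submodule.span_mono
      rintro _ ⟨c, rfl⟩
      rw [Module.Basis.extend_apply_self]
      exact h1 c.2
    rw [CotangentSpace.span_image_eq_top_iff] at h2
    have h3 := congrArg (Submodule.map (maximalIdeal A).subtype) h2
    rw [Submodule.map_span, Submodule.map_top, Submodule.range_subtype] at h3
    have h4 : (maximalIdeal A).subtype '' S0 = Set.range f ∪ Subtype.val '' s0 := by
      rw [hS0, Set.image_union, ← Set.range_comp]
      rfl
    rw [h4] at h3
    exact h3

end extend

section regular

variable {A} {f} {n}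

omit [IsLocalRing A] in
theorem map_span_eq (hn : ∀ i, 1 ≤ n i) (s : Set A) :
    (Ideal.span (Set.range f ∪ s)).map (algebraMap A (SGA1.kummerAlg A f n)) ⊔
      Ideal.span (Set.range (t A f n)) =
    Ideal.span (Set.range (t A f n) ∪ algebraMap A (SGA1.kummerAlg A f n) '' s) := by
  rw [Ideal.map_span, Set.image_union, Ideal.span_union, Ideal.span_union,
    ← Set.range_comp]
  apply le_antisymm
  · apply sup_le
    · apply sup_le
      · rw [Ideal.span_le]
        rintro _ ⟨i, rfl⟩
        apply Ideal.mem_sup_left
        change algebraMap A _ (f i) ∈ _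
        rw [← t_pow]
        exact Ideal.pow_mem_of_mem (Ideal.span (Set.range (t A f n)))
          (Ideal.subset_span ⟨i, rfl⟩) _ (hn i)
      · exact le_sup_right
    · exact le_sup_left
  · apply sup_le
    · exact le_sup_right
    · exact le_sup_of_le_left le_sup_right

end regular

end Groth.Agent.Lib.Helper9.Kummer

namespace Groth.Agent.Lib.Helper9.Kummer

open MvPolynomial IsLocalRing

section regular2

variable {A : Type u} [CommRing A] [IsRegularLocalRing A] {r : ℕ} {f : Fin r → A} {n : Fin r → ℕ}
  (hm : ∀ i, f i ∈ maximalIdeal A) (hn : ∀ i, 1 ≤ n i)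

include hn in
theorem M_eq_span (s : Set A) (hs : Ideal.span (Set.range f ∪ s) = maximalIdeal A) :
    M A f n = Ideal.span (Set.range (t A f n) ∪ algebraMap A (SGA1.kummerAlg A f n) '' s) := by
  unfold M
  rw [← hs]
  exact map_span_eq hn s

include hm hn in
theorem isRegularLocalRing
    (hf : LinearIndependent (ResidueField A) (fun i => (maximalIdeal A).toCotangent ⟨f i, hm i⟩)) :
    IsRegularLocalRing (SGA1.kummerAlg A f n) := by
  have hdom : IsDomain A := Groth.Agent.Lib.Helper21.isDomain_of_isRegularLocalRing A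
  have hinj := algebraMap_injective A f n hn
  have hnt : Nontrivial (SGA1.kummerAlg A f n) := hinj.nontrivial
  have hloc : IsLocalRing (SGA1.kummerAlg A f n) := isLocalRing A f n hm hn
  have hfin := finite A f n hn
  have hint : Algebra.IsIntegral A (SGA1.kummerAlg A f n) := Algebra.IsIntegral.of_finite _ _
  have hnoeth : IsNoetherianRing (SGA1.kummerAlg A f n) :=
    Algebra.FiniteType.isNoetherianRing A _
  have hdim := Groth.Agent.Lib.Helper12.ringKrullDim_eq_of_isIntegral_of_injective A
    (SGA1.kummerAlg A f n) hinj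
  obtain ⟨s, hsfin, hscard, hsspan⟩ := exists_extension hm hf
  apply IsRegularLocalRing.of_spanFinrank_maximalIdeal_le
  rw [maximalIdeal_eq A f n hm hn, M_eq_span hn s hsspan, ← hdim,
    ← (IsRegularLocalRing.iff_finrank_cotangentSpace A).mp inferInstance]
  have hfin2 : (Set.range (t A f n) ∪ algebraMap A (SGA1.kummerAlg A f n) '' s).Finite :=
    (Set.finite_range _).union (hsfin.image _)
  have h1 := Submodule.spanFinrank_span_le_ncard_of_finite
    (R := SGA1.kummerAlg A f n) hfin2
  have h2 : (Set.range (t A f n) ∪ algebraMap A (SGA1.kummerAlg A f n) '' s).ncard ≤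
      r + s.ncard := by
    refine (Set.ncard_union_le _ _).trans (add_le_add ?_ (Set.ncard_image_le hsfin))
    have := Set.ncard_image_le (f := t A f n) (Set.finite_univ)
    rw [Set.image_univ] at this
    simpa using this
  have h3 : (Ideal.span (Set.range (t A f n) ∪
      algebraMap A (SGA1.kummerAlg A f n) '' s)).spanFinrank ≤
      Module.finrank (ResidueField A) (CotangentSpace A) := h1.trans (h2.trans hscard)
  exact_mod_cast h3

end regular2

end Groth.Agent.Lib.Helper9.Kummer
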