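import Mathlib
import Groth.Prelude
import Groth.Agent.Lib.Helper9.Kummer1

set_option autoImplicit false
universe u

namespace Groth.Agent.Lib.Helper9.Kummer

open MvPolynomial

variable (A : Type u) [CommRing A] {r : ℕ} (f : Fin r → A) (n : Fin r → ℕ)

/-- the naive presentation of the Kummer algebra. -/
noncomputable def P1 :
    Algebra.PreSubmersivePresentation A (SGA1.kummerAlg A f n) (Fin r) (Fin r) :=
  Algebra.PreSubmersivePresentation.naive
    (v := fun i => (X i : MvPolynomial (Fin r) A) ^ n i - C (f i)) id Function.injective_id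

theorem P1_jacobian :
    (P1 A f n).jacobian = ∏ i, ((n i : ℕ) : SGA1.kummerAlg A f n) * t A f n i ^ (n i - 1) := by
  classical
  rw [Algebra.PreSubmersivePresentation.jacobian_eq_jacobiMatrix_det]
  have hmat : (P1 A f n).jacobiMatrix =
      Matrix.diagonal (fun i => C ((n i : ℕ) : A) * (X i : MvPolynomial (Fin r) A) ^ (n i - 1)) := by
    ext i j
    unfold P1
    rw [Algebra.PreSubmersivePresentation.jacobiMatrix_naive, Matrix.diagonal_apply]
    simp only [id_eq, map_sub, pderiv_C, sub_zero]
    by_cases hij : i = j
    · subst hij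
      rw [if_pos rfl]
      rw [Derivation.leibniz_pow, pderiv_X_self]
      simp
    · rw [if_neg hij]
      rw [Derivation.leibniz_pow, pderiv_X_of_ne (Ne.symm hij)]
      simp
  rw [hmat, Matrix.det_diagonal]
  change Ideal.Quotient.mk _ _ = _
  rw [map_prod]
  apply Finset.prod_congr rfl
  intro i _
  rw [map_mul, map_pow]
  congr 1

section etale

variable (B : Type u) [CommRing B] [Algebra (SGA1.kummerAlg A f n) B] [Algebra A B]
  [IsScalarTower A (SGA1.kummerAlg A f n) B]
  [IsLocalization.Away (algebraMap A (SGA1.kummerAlg A f n) (∏ i, f i)) B]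

omit [Algebra A B] [IsScalarTower A (SGA1.kummerAlg A f n) B] in
theorem isUnit_t (hn : ∀ i, 1 ≤ n i) (i : Fin r) :
    IsUnit (algebraMap (SGA1.kummerAlg A f n) B (t A f n i)) := by
  classical
  have h1 : IsUnit (algebraMap (SGA1.kummerAlg A f n) B
      (algebraMap A (SGA1.kummerAlg A f n) (∏ i, f i))) :=
    IsLocalization.Away.algebraMap_isUnit _
  rw [map_prod, map_prod] at h1
  have h2 : IsUnit (algebraMap (SGA1.kummerAlg A f n) B
      (algebraMap A (SGA1.kummerAlg A f n) (f i))) := by
    rw [← Finset.mul_prod_erase _ _ (Finset.mem_univ i)] at h1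
    exact isUnit_of_mul_isUnit_left h1
  rw [← t_pow, map_pow] at h2
  exact (isUnit_pow_iff (by have := hn i; omega)).mp h2

include f in
theorem etale (hn : ∀ i, 1 ≤ n i) (hu : ∀ i, IsUnit ((n i : ℕ) : A)) : Algebra.Etale A B := by
  classical
  let Q := Algebra.PreSubmersivePresentation.localizationAway B
    (algebraMap A (SGA1.kummerAlg A f n) (∏ i, f i))
  let P := Q.comp (P1 A f n)
  have hjac : IsUnit P.jacobian := by
    rw [Algebra.PreSubmersivePresentation.comp_jacobian_eq_jacobian_smul_jacobian,
      Algebra.smul_def, IsUnit.mul_iff]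
    constructor
    · rw [P1_jacobian, map_prod]
      apply IsUnit.prod_univ_iff.mpr
      intro i
      rw [map_mul, map_pow, IsUnit.mul_iff]
      constructor
      · have := (hu i).map (algebraMap A B)
        rw [map_natCast] at this
        rw [map_natCast]
        exact this
      · exact (isUnit_t A f n B hn i).pow _
    · rw [Algebra.PreSubmersivePresentation.localizationAway_jacobian]
      exact IsLocalization.Away.algebraMap_isUnit _
  let SP : Algebra.SubmersivePresentation A B (Unit ⊕ Fin r) (Unit ⊕ Fin r) :=
    { toPreSubmersivePresentation := P, jacobian_isUnit := hjac }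
  have hdim : SP.dimension = 0 := by
    unfold Algebra.Presentation.dimension
    simp
  have := SP.isStandardSmoothOfRelativeDimension hdim
  infer_instance

end etale

end Groth.Agent.Lib.Helper9.Kummer
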