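import Mathlib
import Groth.Prelude
import Groth.Agent.Lib.Helper9.Kummer2
import Groth.Agent.Lib.Helper9.Kummer3

set_option autoImplicit false
universe u

namespace Groth.Agent.Lib.Helper9.Kummer

open MvPolynomial IsLocalRing

/-- the algebra structure of `A'[1/F]` over `A[1/F]`. -/
noncomputable abbrev awayAlg (A : Type u) [CommRing A] {r : ℕ} (f : Fin r → A) (n : Fin r → ℕ) :
    Algebra (Localization.Away (∏ i, f i))
      (Localization.Away (algebraMap A (SGA1.kummerAlg A f n) (∏ i, f i))) :=
  (Localization.awayMap (algebraMap A (SGA1.kummerAlg A f n)) (∏ i, f i)).toAlgebra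

attribute [local instance] awayAlg

theorem etale_away (A : Type u) [CommRing A] {r : ℕ} (f : Fin r → A) (n : Fin r → ℕ)
    (hn : ∀ i, 1 ≤ n i) (hu : ∀ i, IsUnit ((n i : ℕ) : A)) :
    Algebra.Etale (Localization.Away (∏ i, f i))
      (Localization.Away (algebraMap A (SGA1.kummerAlg A f n) (∏ i, f i))) := by
  have hE : Algebra.Etale A (Localization.Away (algebraMap A (SGA1.kummerAlg A f n) (∏ i, f i))) :=
    etale A f n _ hn hu
  have hST : IsScalarTower A (Localization.Away (∏ i, f i))
      (Localization.Away (algebraMap A (SGA1.kummerAlg A f n) (∏ i, f i))) := by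
    apply IsScalarTower.of_algebraMap_eq
    intro a
    change _ = Localization.awayMap (algebraMap A (SGA1.kummerAlg A f n)) (∏ i, f i)
      (algebraMap A (Localization.Away (∏ i, f i)) a)
    rw [Localization.awayMap, IsLocalization.Away.map, IsLocalization.map_eq,
      ← IsScalarTower.algebraMap_apply]
  have h1 : Algebra.FormallyEtale (Localization.Away (∏ i, f i))
      (Localization.Away (algebraMap A (SGA1.kummerAlg A f n) (∏ i, f i))) :=
    Algebra.FormallyEtale.localization_base (Submonoid.powers (∏ i, f i))
  have hft : Algebra.FiniteType A (Localization.Away (∏ i, f i)) :=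
    IsLocalization.finiteType_of_monoid_fg (Submonoid.powers (∏ i, f i)) _
  have h2 : Algebra.FinitePresentation (Localization.Away (∏ i, f i))
      (Localization.Away (algebraMap A (SGA1.kummerAlg A f n) (∏ i, f i))) :=
    Algebra.FinitePresentation.of_restrict_scalars_finitePresentation A _ _
  exact { formallyEtale := h1, finitePresentation := h2 }

theorem main (A : Type u) [CommRing A] [IsRegularLocalRing A] (r : ℕ) (f : Fin r → A)
    (hm : ∀ i, f i ∈ maximalIdeal A)
    (hf : LinearIndependent (ResidueField A) (fun i => (maximalIdeal A).toCotangent ⟨f i, hm i⟩))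
    (n : Fin r → ℕ) (hn : ∀ i, 1 ≤ n i) :
    IsRegularLocalRing (SGA1.kummerAlg A f n) ∧
    ((∀ i, IsUnit ((n i : ℕ) : ResidueField A)) →
      letI := (Localization.awayMap (algebraMap A (SGA1.kummerAlg A f n)) (∏ i, f i)).toAlgebra
      Algebra.Etale (Localization.Away (∏ i, f i))
        (Localization.Away (algebraMap A (SGA1.kummerAlg A f n) (∏ i, f i)))) := by
  refine ⟨isRegularLocalRing hm hn hf, fun hu => ?_⟩
  apply etale_away A f n hn
  intro i
  have := hu i
  rw [← map_natCast (IsLocalRing.residue A)] at this
  exact (isUnit_map_iff (IsLocalRing.residue A) _).mp this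

end Groth.Agent.Lib.Helper9.Kummer
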