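import Mathlib
import Groth.Agent.Lib.Helper9.LefConn3

set_option autoImplicit false
universe u
open CategoryTheory CategoryTheory.Limits AlgebraicGeometry TopologicalSpace Opposite

namespace Groth.Agent.Lib.Helper9.LefConn

open Groth.Agent.Lib.Helper29.QCoh

variable {V : Scheme.{u}} (J : V.IdealSheafData)

theorem subschemeι_mem_support (n : ℕ) (y : (J ^ (n + 1)).subscheme) :
    (J ^ (n + 1)).subschemeι y ∈ J.support := by
  have h : (J ^ (n + 1)).subschemeι y ∈ Set.range (J ^ (n + 1)).subschemeι := ⟨y, rfl⟩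
  rw [Scheme.IdealSheafData.range_subschemeι] at h
  exact h

theorem exists_of_mem_support (n : ℕ) (x : V) (hx : x ∈ J.support) :
    ∃ y : (J ^ (n + 1)).subscheme, (J ^ (n + 1)).subschemeι y = x := by
  have h : x ∈ Set.range (J ^ (n + 1)).subschemeι := by
    rw [Scheme.IdealSheafData.range_subschemeι]
    exact hx
  exact h

theorem incl_apply (n : ℕ) (y : (J ^ (n + 1)).subscheme) :
    (J ^ (n + 1 + 1)).subschemeι ((Scheme.IdealSheafData.inclusion (pow_succ_le' J n)) y) =
      (J ^ (n + 1)).subschemeι y := by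
  rw [← Scheme.Hom.comp_apply, Scheme.IdealSheafData.inclusion_subschemeι]

/-- core of "Y connected ⟹ U connected" -/
theorem eq_bot_of_support_le (hL : Lef.HomToFormalBijective J (Coh.structureModule V))
    {A B : V.Opens} (hc : A ⊔ B = ⊤) (hd : A ⊓ B = ⊥) (hJ : ∀ x ∈ J.support, x ∈ A) : B = ⊥ := by
  have h1 : idem hc hd = 1 := by
    apply eq_of_forall_ρ_eq J hL
    intro n
    have hA' : (⊤ : (J ^ (n + 1)).subscheme.Opens) ≤ (J ^ (n + 1)).subschemeι ⁻¹ᵁ A :=
      fun y _ => hJ _ (subschemeι_mem_support J n y)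
    have h2 := appLE_rs (J ^ (n + 1)).subschemeι hA' (le_top : A ≤ ⊤) (idem hc hd)
    rw [idem_left, map_one] at h2
    rw [map_one]
    exact h2.symm
  apply eq_bot_of_zero_eq_one
  rw [← idem_right hc hd, h1, map_one]

/-- core of "U connected ⟹ Y connected" -/
theorem support_disjoint_of_preconnected (hL : Lef.HomToFormalBijective J (Coh.structureModule V))
    [PreconnectedSpace V] {W1 W2 : V.Opens} (hc : W1 ⊔ W2 = ⊤)
    (hd : ∀ x ∈ J.support, x ∈ W1 → x ∈ W2 → False) :
    (∀ x ∈ J.support, x ∉ W2) ∨ (∀ x ∈ J.support, x ∉ W1) := by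
  have hcn : ∀ n, (J ^ (n + 1)).subschemeι ⁻¹ᵁ W1 ⊔ (J ^ (n + 1)).subschemeι ⁻¹ᵁ W2 = ⊤ := by
    intro n
    apply le_antisymm le_top
    intro y _
    have : (J ^ (n + 1)).subschemeι y ∈ W1 ⊔ W2 := by rw [hc]; trivial
    rcases this with h | h
    · exact Or.inl h
    · exact Or.inr h
  have hdn : ∀ n, (J ^ (n + 1)).subschemeι ⁻¹ᵁ W1 ⊓ (J ^ (n + 1)).subschemeι ⁻¹ᵁ W2 = ⊥ := by
    intro n
    apply le_antisymm _ bot_le
    rintro y ⟨h1, h2⟩
    exact (hd _ (subschemeι_mem_support J n y) h1 h2).elim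
  let e : ∀ n, Γ((J ^ (n + 1)).subscheme, ⊤) := fun n => idem (hcn n) (hdn n)
  have he : ∀ n, τ J n (e (n + 1)) = e n := by
    intro n
    refine appLE_idem (Scheme.IdealSheafData.inclusion (pow_succ_le' J n)) (hcn (n + 1)) (hdn (n + 1))
      ?_ ?_ (hcn n) (hdn n)
    · intro y hy
      change (J ^ (n + 1 + 1)).subschemeι ((Scheme.IdealSheafData.inclusion (pow_succ_le' J n)) y) ∈ W1
      rw [incl_apply]
      exact hy
    · intro y hy
      change (J ^ (n + 1 + 1)).subschemeι ((Scheme.IdealSheafData.inclusion (pow_succ_le' J n)) y) ∈ W2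
      rw [incl_apply]
      exact hy
  obtain ⟨f, hf⟩ := exists_of_compatible J hL e he
  have hff : f * f = f := by
    apply eq_of_forall_ρ_eq J hL
    intro n
    rw [map_mul, hf n]
    exact idem_mul_self (hcn n) (hdn n)
  rcases eq_zero_or_eq_one_of_idem f hff with h0 | h1
  · right
    have h2 : e 0 = 0 := by rw [← hf 0, h0, map_zero]
    have h3 : (J ^ (0 + 1)).subschemeι ⁻¹ᵁ W1 = ⊥ := by
      apply eq_bot_of_zero_eq_one
      have h4 := idem_left (hcn 0) (hdn 0)
      change rs le_top (e 0) = 1 at h4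
      rw [h2, map_zero] at h4
      exact h4
    intro x hx hx1
    obtain ⟨y, rfl⟩ := exists_of_mem_support J 0 x hx
    have : y ∈ (J ^ (0 + 1)).subschemeι ⁻¹ᵁ W1 := hx1
    rw [h3] at this
    exact this
  · left
    have h2 : e 0 = 1 := by rw [← hf 0, h1, map_one]
    have h3 : (J ^ (0 + 1)).subschemeι ⁻¹ᵁ W2 = ⊥ := by
      apply eq_bot_of_zero_eq_one
      have h4 := idem_right (hcn 0) (hdn 0)
      change rs le_top (e 0) = 0 at h4
      rw [h2, map_one] at h4
      exact h4.symm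
    intro x hx hx1
    obtain ⟨y, rfl⟩ := exists_of_mem_support J 0 x hx
    have : y ∈ (J ^ (0 + 1)).subschemeι ⁻¹ᵁ W2 := hx1
    rw [h3] at this
    exact this

end Groth.Agent.Lib.Helper9.LefConn
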