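import Mathlib
import Groth.Agent.Lib.Helper9.LefConn4

set_option autoImplicit false
universe u
open CategoryTheory CategoryTheory.Limits AlgebraicGeometry TopologicalSpace Opposite

namespace Groth.Agent.Lib.Helper9.LefConn

open Groth.Agent.Lib.Helper29.QCoh

theorem isFinLocFree_unitM' (X : Scheme.{u}) : FlatMod.IsFinLocFree (unitM X) :=
  isFinLocFree_of_iso (freeModOneIso X) (isFinLocFree_freeMod X 1)

variable {X : Scheme.{u}} (𝓘 : X.IdealSheafData) (U : X.Opens)

theorem mem_support_comap_iff (x : (U : Scheme.{u})) :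
    x ∈ (𝓘.comap U.ι).support ↔ U.ι x ∈ 𝓘.support := by
  rw [Scheme.IdealSheafData.support_comap]
  rfl

theorem main (h : Lef.LefCond X 𝓘) (hU : (𝓘.support : Set X) ⊆ (U : Set X)) :
    ConnectedSpace (𝓘.support : Set X) ↔ ConnectedSpace U := by
  have hL : Lef.HomToFormalBijective (𝓘.comap U.ι) (Coh.structureModule (U : Scheme.{u})) :=
    h U hU _ (isFinLocFree_unitM' _)
  constructor
  · intro hY
    have hYc : _root_.IsConnected (𝓘.support : Set X) := isConnected_iff_connectedSpace.2 hY
    have hlift : ∀ z ∈ (𝓘.support : Set X), ∃ a : (U : Scheme.{u}), U.ι a = z := by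
      intro z hz
      have : z ∈ Set.range U.ι := by rw [Scheme.Opens.range_ι]; exact hU hz
      exact this
    have hinj : Function.Injective U.ι := U.ι.isOpenEmbedding.injective
    obtain ⟨y, hy⟩ := hYc.1
    obtain ⟨y', -⟩ := hlift y hy
    have hne : Nonempty (U : Scheme.{u}) := ⟨y'⟩
    have hpre : PreconnectedSpace (U : Scheme.{u}) := by
      rw [preconnectedSpace_iff_univ, isPreconnected_iff_subset_of_disjoint]
      intro u v hu hv huv hdisj
      -- the images in X
      have hu' : IsOpen (U.ι '' u : Set X) := U.ι.isOpenEmbedding.isOpenMap u hu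
      have hv' : IsOpen (U.ι '' v : Set X) := U.ι.isOpenEmbedding.isOpenMap v hv
      have hcov : (𝓘.support : Set X) ⊆ (U.ι '' u : Set X) ∪ (U.ι '' v : Set X) := by
        intro z hz
        obtain ⟨a, rfl⟩ := hlift z hz
        rcases huv (Set.mem_univ a) with h1 | h1
        · exact Or.inl ⟨a, h1, rfl⟩
        · exact Or.inr ⟨a, h1, rfl⟩
      have hdis : (𝓘.support : Set X) ∩ ((U.ι '' u : Set X) ∩ (U.ι '' v : Set X)) = ∅ := by
        apply Set.eq_empty_of_forall_notMem
        rintro z ⟨-, ⟨a, ha, rfl⟩, ⟨b, hb, hab⟩⟩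
        have : b = a := hinj hab
        subst this
        have : b ∈ Set.univ ∩ (u ∩ v) := ⟨Set.mem_univ _, ha, hb⟩
        rw [hdisj] at this
        exact this
      have hc : (⟨u, hu⟩ : (U : Scheme.{u}).Opens) ⊔ ⟨v, hv⟩ = ⊤ := by
        apply le_antisymm le_top
        intro x _
        exact huv (Set.mem_univ x)
      have hd : (⟨u, hu⟩ : (U : Scheme.{u}).Opens) ⊓ ⟨v, hv⟩ = ⊥ := by
        apply le_antisymm _ bot_le
        rintro x ⟨h1, h2⟩
        have : x ∈ Set.univ ∩ (u ∩ v) := ⟨Set.mem_univ _, h1, h2⟩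
        rw [hdisj] at this
        exact this
      rcases (isPreconnected_iff_subset_of_disjoint.1 hYc.2) _ _ hu' hv' hcov hdis with h1 | h1
      · -- support ⊆ u, so v = ∅
        left
        have hJ : ∀ x ∈ (𝓘.comap U.ι).support, x ∈ (⟨u, hu⟩ : (U : Scheme.{u}).Opens) := by
          intro x hx
          obtain ⟨a, ha, hax⟩ := h1 ((mem_support_comap_iff 𝓘 U x).1 hx)
          have : a = x := hinj hax
          subst this
          exact ha
        have hB := eq_bot_of_support_le (𝓘.comap U.ι) hL hc hd hJ
        intro x _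
        rcases huv (Set.mem_univ x) with h2 | h2
        · exact h2
        · have : x ∈ (⟨v, hv⟩ : (U : Scheme.{u}).Opens) := h2
          rw [hB] at this
          exact this.elim
      · right
        have hJ : ∀ x ∈ (𝓘.comap U.ι).support, x ∈ (⟨v, hv⟩ : (U : Scheme.{u}).Opens) := by
          intro x hx
          obtain ⟨a, ha, hax⟩ := h1 ((mem_support_comap_iff 𝓘 U x).1 hx)
          have : a = x := hinj hax
          subst this
          exact ha
        have hc' : (⟨v, hv⟩ : (U : Scheme.{u}).Opens) ⊔ ⟨u, hu⟩ = ⊤ := by rw [sup_comm]; exact hc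
        have hd' : (⟨v, hv⟩ : (U : Scheme.{u}).Opens) ⊓ ⟨u, hu⟩ = ⊥ := by rw [inf_comm]; exact hd
        have hB := eq_bot_of_support_le (𝓘.comap U.ι) hL hc' hd' hJ
        intro x _
        rcases huv (Set.mem_univ x) with h2 | h2
        · have : x ∈ (⟨u, hu⟩ : (U : Scheme.{u}).Opens) := h2
          rw [hB] at this
          exact this.elim
        · exact h2
    exact { toPreconnectedSpace := hpre, toNonempty := hne }
  · intro hUc
    have hpre : PreconnectedSpace (U : Scheme.{u}) := hUc.toPreconnectedSpace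
    have hlift : ∀ z ∈ (𝓘.support : Set X), ∃ a : (U : Scheme.{u}), U.ι a = z := by
      intro z hz
      have : z ∈ Set.range U.ι := by rw [Scheme.Opens.range_ι]; exact hU hz
      exact this
    rw [← isConnected_iff_connectedSpace]
    constructor
    · -- nonempty
      by_contra hemp
      have hJ : ∀ x ∈ (𝓘.comap U.ι).support, x ∈ (⊥ : (U : Scheme.{u}).Opens) := by
        intro x hx
        exact (hemp ⟨_, (mem_support_comap_iff 𝓘 U x).1 hx⟩).elim
      have hB := eq_bot_of_support_le (𝓘.comap U.ι) hL (A := ⊥) (B := ⊤) (by simp) (by simp) hJ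
      obtain ⟨x⟩ := hUc.toNonempty
      have : (x : (U : Scheme.{u})) ∈ (⊤ : (U : Scheme.{u}).Opens) := trivial
      rw [hB] at this
      exact this
    · rw [isPreconnected_iff_subset_of_disjoint]
      intro u v hu hv huv hdisj
      have hYcl : IsClosed (𝓘.support : Set X) := 𝓘.support.isClosed
      let u' : X.Opens := ⟨u ∪ (𝓘.support : Set X)ᶜ, hu.union hYcl.isOpen_compl⟩
      let v' : X.Opens := ⟨v ∪ (𝓘.support : Set X)ᶜ, hv.union hYcl.isOpen_compl⟩
      have hc : U.ι ⁻¹ᵁ u' ⊔ U.ι ⁻¹ᵁ v' = ⊤ := by
        apply le_antisymm le_top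
        intro x _
        by_cases hx : U.ι x ∈ 𝓘.support
        · rcases huv hx with h1 | h1
          · exact Or.inl (Or.inl h1)
          · exact Or.inr (Or.inl h1)
        · exact Or.inl (Or.inr hx)
      have hd : ∀ x ∈ (𝓘.comap U.ι).support, x ∈ U.ι ⁻¹ᵁ u' → x ∈ U.ι ⁻¹ᵁ v' → False := by
        intro x hx h1 h2
        have hx' := (mem_support_comap_iff 𝓘 U x).1 hx
        have h1' : U.ι x ∈ u := by
          rcases h1 with h | h
          · exact h
          · exact (h hx').elim
        have h2' : U.ι x ∈ v := by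
          rcases h2 with h | h
          · exact h
          · exact (h hx').elim
        have : U.ι x ∈ (𝓘.support : Set X) ∩ (u ∩ v) := ⟨hx', h1', h2'⟩
        rw [hdisj] at this
        exact this
      rcases support_disjoint_of_preconnected (𝓘.comap U.ι) hL hc hd with h1 | h1
      · left
        intro z hz
        obtain ⟨a, rfl⟩ := hlift z hz
        have hx : a ∈ (𝓘.comap U.ι).support := (mem_support_comap_iff 𝓘 U _).2 hz
        rcases huv hz with h2 | h2
        · exact h2
        · exact (h1 _ hx (Or.inl h2)).elim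
      · right
        intro z hz
        obtain ⟨a, rfl⟩ := hlift z hz
        have hx : a ∈ (𝓘.comap U.ι).support := (mem_support_comap_iff 𝓘 U _).2 hz
        rcases huv hz with h2 | h2
        · exact (h1 _ hx (Or.inl h2)).elim
        · exact h2

end Groth.Agent.Lib.Helper9.LefConn
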