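import Mathlib
import Groth.Agent.Lib.Helper9.LenExt1
import Groth.Agent.Lib.Helper9.WAExt3

/-!
# Lengths of local rings at minimal primes under arbitrary flat extension (helper9): ring level
-/

set_option autoImplicit false
universe u
open TensorProduct

namespace Groth.Agent.Lib.Helper9.LenExt

section loc

variable {R'' Q : Type u} [CommRing R''] [CommRing Q] (σ : R'' →+* Q) (hσ : Function.Surjective σ)
  (r'' : Ideal Q) [r''.IsPrime] (q'' : Ideal R'') [q''.IsPrime] (hq : q'' = r''.comap σ)
  (B C : Type u) [CommRing B] [CommRing C] [Algebra R'' B] [Algebra Q C]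
  [IsLocalization.AtPrime B q''] [IsLocalization.AtPrime C r'']

omit [r''.IsPrime] [q''.IsPrime] in
include hq in
theorem mem_of_map_mem (x : R'') (hx : σ x ∈ r'') : x ∈ q'' := by rw [hq]; exact hx

include hq in
/-- The induced map between the localizations. -/
noncomputable def locMap : B →+* C :=
  IsLocalization.lift (M := q''.primeCompl) (g := (algebraMap Q C).comp σ) (fun s => by
    have : σ s ∉ r'' := fun h => s.2 (mem_of_map_mem σ r'' q'' hq _ h)
    exact IsLocalization.map_units C (⟨σ s, this⟩ : r''.primeCompl))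

theorem locMap_algebraMap (x : R'') :
    locMap σ r'' q'' hq B C (algebraMap R'' B x) = algebraMap Q C (σ x) :=
  IsLocalization.lift_eq _ x

include hσ in
theorem locMap_surjective : Function.Surjective (locMap σ r'' q'' hq B C) := by
  intro c
  obtain ⟨⟨a, s⟩, hc⟩ := IsLocalization.surj r''.primeCompl c
  obtain ⟨a', rfl⟩ := hσ a
  obtain ⟨s', hs'⟩ := hσ (s : Q)
  have hs'q : s' ∈ q''.primeCompl := fun h => s.2 (by
    have h' : s' ∈ r''.comap σ := hq ▸ h
    have : σ s' ∈ r'' := h'
    rwa [hs'] at this)
  refine ⟨IsLocalization.mk' B a' ⟨s', hs'q⟩, ?_⟩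
  have hu : IsUnit (algebraMap Q C (s : Q)) := IsLocalization.map_units C s
  apply hu.mul_left_injective
  show locMap σ r'' q'' hq B C (IsLocalization.mk' B a' ⟨s', hs'q⟩) * algebraMap Q C (s : Q) =
    c * algebraMap Q C (s : Q)
  have hc' : c * algebraMap Q C (s : Q) = algebraMap Q C (σ a') := hc
  rw [hc', ← hs', ← locMap_algebraMap σ r'' q'' hq B C s', ← locMap_algebraMap σ r'' q'' hq B C a',
    ← map_mul, IsLocalization.mk'_spec]

include hσ in
theorem ker_locMap :
    RingHom.ker (locMap σ r'' q'' hq B C) = (RingHom.ker σ).map (algebraMap R'' B) := by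
  apply le_antisymm
  · intro b hb
    obtain ⟨a, s, rfl⟩ := IsLocalization.exists_mk'_eq q''.primeCompl b
    rw [RingHom.mem_ker] at hb
    have h1 : locMap σ r'' q'' hq B C (algebraMap R'' B a) = 0 := by
      rw [← IsLocalization.mk'_spec B a s, map_mul, hb, zero_mul]
    rw [locMap_algebraMap, IsLocalization.map_eq_zero_iff r''.primeCompl] at h1
    obtain ⟨t, ht⟩ := h1
    obtain ⟨t', ht'⟩ := hσ (t : Q)
    have ht'q : t' ∈ q''.primeCompl := fun h => t.2 (by
      have h' : t' ∈ r''.comap σ := hq ▸ h
      have : σ t' ∈ r'' := h'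
      rwa [ht'] at this)
    have h2 : t' * a ∈ RingHom.ker σ := by
      rw [RingHom.mem_ker, map_mul, ht']; exact ht
    rw [IsLocalization.mk'_mem_map_algebraMap_iff q''.primeCompl]
    exact ⟨t', ht'q, h2⟩
  · rw [Ideal.map_le_iff_le_comap]
    intro x hx
    rw [Ideal.mem_comap, RingHom.mem_ker, locMap_algebraMap]
    rw [RingHom.mem_ker] at hx
    rw [hx, map_zero]

include hσ hq in
/-- The length of the localization of a quotient. -/
theorem length_quot_eq :
    Module.length B (B ⧸ (((RingHom.ker σ).map (algebraMap R'' B)) • ⊤ : Submodule B B)) =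
      Module.length C C := by
  let τ := locMap σ r'' q'' hq B C
  let _ : Algebra B C := τ.toAlgebra
  have hτ : Function.Surjective (algebraMap B C) := locMap_surjective σ hσ r'' q'' hq B C
  rw [← Module.length_eq_of_surjective (S := B) (R := C) (M := C) hτ]
  have h1 : (((RingHom.ker σ).map (algebraMap R'' B)) • ⊤ : Submodule B B) =
      LinearMap.ker (Algebra.linearMap B C) := by
    rw [Ideal.smul_top_eq_map, ← ker_locMap σ hσ r'' q'' hq B C]
    ext b
    simp only [Algebra.algebraMap_self, Ideal.map_id, Submodule.restrictScalars_mem,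
      RingHom.mem_ker, LinearMap.mem_ker, Algebra.linearMap_apply]
    rfl
  rw [h1]
  exact ((Algebra.linearMap B C).quotKerEquivOfSurjective hτ).length_eq

end loc

end Groth.Agent.Lib.Helper9.LenExt
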