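import Mathlib
import Groth.Agent.Lib.Helper9.LenExt4

/-!
# Lengths of local rings at minimal primes under arbitrary flat extension, combined (helper9)
-/

set_option autoImplicit false
universe u
open TensorProduct

namespace Groth.Agent.Lib.Helper9.LenExt

variable {R' R'' : Type u} [CommRing R'] [CommRing R''] [Algebra R' R''] [Module.Flat R' R'']
  (q'' : Ideal R'') [q''.IsPrime] (p' : Ideal R') [p'.IsPrime]
  (hp : p' = q''.comap (algebraMap R' R''))
  (A B : Type u) [CommRing A] [CommRing B] [Algebra R' A] [Algebra R'' B]
  [IsLocalization.AtPrime A p'] [IsLocalization.AtPrime B q'']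
  [Algebra A B] [Algebra R' B] [IsScalarTower R' R'' B] [IsScalarTower R' A B]

omit [q''.IsPrime] in
include hp in
theorem nilradical_map_eq_maximalIdeal [IsLocalRing A] (hq : q'' ∈ minimalPrimes R'') :
    (nilradical R').map (algebraMap R' A) = IsLocalRing.maximalIdeal A := by
  have hpmin : p' ∈ (⊥ : Ideal R').minimalPrimes := by
    rw [hp]
    apply Groth.Agent.Lib.Helper9.WAExt.comap_mem_minimalPrimes_of_flat
    rw [Ideal.map_bot]
    exact hq
  have h1 := IsLocalization.AtPrime.radical_map_of_mem_minimalPrimes (A := A) p' ⊥ hpmin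
  have h2 := IsLocalization.map_radical p'.primeCompl A (⊥ : Ideal R')
  have h3 : nilradical R' = (⊥ : Ideal R').radical := rfl
  rw [h3, h2, h1]
  exact IsLocalization.AtPrime.map_eq_maximalIdeal p' A

include hp in
/-- `length B = length A * length C` where `C` is the local ring of `R'' / nil(R') R''`. -/
theorem length_eq_mul_of_minimal (hq : q'' ∈ minimalPrimes R'')
    {Q : Type u} [CommRing Q] (σ : R'' →+* Q) (hσ : Function.Surjective σ)
    (hker : RingHom.ker σ = (nilradical R').map (algebraMap R' R''))
    (r'' : Ideal Q) [r''.IsPrime] (hqr : q'' = r''.comap σ)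
    (C : Type u) [CommRing C] [Algebra Q C] [IsLocalization.AtPrime C r''] :
    Module.length B B = Module.length A A * Module.length C C := by
  have hA : IsLocalRing A := IsLocalization.AtPrime.isLocalRing A p'
  have hB : IsLocalRing B := IsLocalization.AtPrime.isLocalRing B q''
  rw [length_localization_eq_mul q'' p' hp A B]
  have h1 : (IsLocalRing.maximalIdeal A).map (algebraMap A B) =
      (RingHom.ker σ).map (algebraMap R'' B) := by
    rw [← nilradical_map_eq_maximalIdeal q'' p' hp A hq, Ideal.map_map,
      ← IsScalarTower.algebraMap_eq, IsScalarTower.algebraMap_eq R' R'' B, ← Ideal.map_map, hker]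
  rw [h1, length_quot_eq σ hσ r'' q'' hqr B C]

end Groth.Agent.Lib.Helper9.LenExt
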