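import Mathlib
import Groth.Prelude.Def_FDesc
import Groth.Agent.Lib.Helper9.LenExt3
import Groth.Agent.Lib.Helper9.LenExt5
import Groth.Agent.Lib.Helper1.IdealSheafComap

/-!
# Lengths of local rings at maximal points under arbitrary field extension (helper9)
-/

set_option autoImplicit false
universe u
open CategoryTheory CategoryTheory.Limits AlgebraicGeometry TopologicalSpace Opposite TensorProduct

namespace Groth.Agent.Lib.Helper9.LenExt

open Groth.Agent.Lib.Helper29.QCoh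

section pb

variable {X' S S' : Scheme.{u}} (f' : X' ⟶ S) (s : S' ⟶ S) {Z' : Scheme.{u}} (ι : Z' ⟶ X')

/-- The canonical map `Z' ×_S S' ⟶ X' ×_S S'`. -/
noncomputable abbrev jmap : pullback (ι ≫ f') s ⟶ pullback f' s :=
  pullback.map (ι ≫ f') s f' s ι (𝟙 _) (𝟙 _)
    (Category.comp_id _) ((Category.comp_id _).trans (Category.id_comp _).symm)

theorem isPullback_jmap :
    IsPullback (jmap f' s ι) (pullback.fst (ι ≫ f') s) (pullback.fst f' s) ι := by
  refine IsPullback.of_right (h₁₂ := pullback.snd f' s) (v₁₃ := s) (h₂₂ := f') ?_ ?_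
    (IsPullback.of_hasPullback f' s).flip
  · have h : jmap f' s ι ≫ pullback.snd f' s = pullback.snd (ι ≫ f') s := by
      unfold jmap pullback.map
      rw [pullback.lift_snd, Category.comp_id]
    rw [h]
    exact (IsPullback.of_hasPullback (ι ≫ f') s).flip
  · unfold jmap pullback.map
    rw [pullback.lift_fst]

instance [IsClosedImmersion ι] : IsClosedImmersion (jmap f' s ι) :=
  MorphismProperty.of_isPullback (P := @IsClosedImmersion) (isPullback_jmap f' s ι).flip
    inferInstance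

theorem ker_jmap [IsClosedImmersion ι] :
    (jmap f' s ι).ker = ι.ker.comap (pullback.fst f' s) := by
  have h := isPullback_jmap f' s ι
  have h1 : h.isoPullback.hom ≫ pullback.fst (pullback.fst f' s) ι = jmap f' s ι :=
    h.isoPullback_hom_fst
  rw [← h1, Scheme.Hom.ker_comp_of_isIso, Scheme.IdealSheafData.ker_fst_of_isClosedImmersion]

end pb

section nil

variable {X : Scheme.{u}}

theorem nilradical_ideal (U : X.affineOpens) : X.nilradical.ideal U = nilradical Γ(X, U) := by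
  unfold Scheme.nilradical
  rw [Scheme.IdealSheafData.radical_ideal, Scheme.IdealSheafData.ideal_bot]
  rfl

end nil

section main

variable {k' k'' : Type u} [Field k'] [Field k''] [Algebra k' k''] {X' : Scheme.{u}}
  (f' : X' ⟶ Spec (CommRingCat.of k'))

/-- Auxiliary form of `length_stalk_eq_mul`. -/
theorem length_stalk_eq_mul_aux (sK : Spec (CommRingCat.of k'') ⟶ Spec (CommRingCat.of k'))
    (hsK : sK = Spec.map (CommRingCat.ofHom (algebraMap k' k'')))
    (ι : X'.nilradical.subscheme ⟶ X') (hι : ι = X'.nilradical.subschemeι)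
    (z'' : ↥(pullback (ι ≫ f') sK))
    (hx'' : ∀ z : ↥(pullback f' sK), z ⤳ jmap f' sK ι z'' → z = jmap f' sK ι z'') :
    Module.length ((pullback f' sK).presheaf.stalk (jmap f' sK ι z''))
        ((pullback f' sK).presheaf.stalk (jmap f' sK ι z'')) =
      Module.length (X'.presheaf.stalk (pullback.fst f' sK (jmap f' sK ι z'')))
          (X'.presheaf.stalk (pullback.fst f' sK (jmap f' sK ι z''))) *
        Module.length ((pullback (ι ≫ f') sK).presheaf.stalk z'')
          ((pullback (ι ≫ f') sK).presheaf.stalk z'') := by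
  have hcl : IsClosedImmersion ι := by rw [hι]; infer_instance
  let j := jmap f' sK ι
  change ∀ z, z ⤳ j z'' → z = j z'' at hx''
  change Module.length ((pullback f' sK).presheaf.stalk (j z'')) _ =
    Module.length (X'.presheaf.stalk (pullback.fst f' sK (j z''))) _ * _
  let g := pullback.fst f' sK
  change Module.length _ _ = Module.length (X'.presheaf.stalk (g (j z''))) _ * _
  obtain ⟨U, hU, hxU, -⟩ := exists_isAffineOpen_mem_and_subset (x := g (j z'')) (U := ⊤) trivial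
  obtain ⟨hW, α, β, Hpo⟩ : ∃ (hW : IsAffineOpen (g ⁻¹ᵁ U)) (α : k' →+* Γ(X', U))
      (β : k'' →+* Γ(pullback f' sK, g ⁻¹ᵁ U)),
      IsPushout (CommRingCat.ofHom (algebraMap k' k'')) (CommRingCat.ofHom α)
        (CommRingCat.ofHom β) (g.appLE U (g ⁻¹ᵁ U) le_rfl) := by
    subst hsK
    obtain ⟨h1, a, b, h2⟩ := WAExt.chart_pushout (K := k'') f' U hU
    exact ⟨h1, a, b, h2⟩
  have hyW : j z'' ∈ g ⁻¹ᵁ U := hxU
  have hV : IsAffineOpen (j ⁻¹ᵁ (g ⁻¹ᵁ U)) := hW.preimage j
  have hzV : z'' ∈ j ⁻¹ᵁ (g ⁻¹ᵁ U) := hyW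
  let _ : Algebra Γ(X', U) Γ(pullback f' sK, g ⁻¹ᵁ U) :=
    (g.appLE U (g ⁻¹ᵁ U) le_rfl).hom.toAlgebra
  let _ : Algebra k' Γ(X', U) := α.toAlgebra
  let _ : Algebra k'' Γ(pullback f' sK, g ⁻¹ᵁ U) := β.toAlgebra
  let _ : Algebra k' Γ(pullback f' sK, g ⁻¹ᵁ U) :=
    ((g.appLE U (g ⁻¹ᵁ U) le_rfl).hom.comp α).toAlgebra
  have ht1 : IsScalarTower k' Γ(X', U) Γ(pullback f' sK, g ⁻¹ᵁ U) :=
    IsScalarTower.of_algebraMap_eq fun _ => rfl
  have ht2 : IsScalarTower k' k'' Γ(pullback f' sK, g ⁻¹ᵁ U) :=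
    IsScalarTower.of_algebraMap_eq fun x => by
      have := congrArg (fun φ => φ.hom x) Hpo.w
      exact this.symm
  have hpo : Algebra.IsPushout k' k'' Γ(X', U) Γ(pullback f' sK, g ⁻¹ᵁ U) :=
    CommRingCat.isPushout_iff_isPushout.mp Hpo
  have hflat : Module.Flat Γ(X', U) Γ(pullback f' sK, g ⁻¹ᵁ U) :=
    flat_of_isPushout k' k''
  have hq := primeIdealOf_mem_minimalPrimes hW (j z'') hyW hx''
  have hprime : (hU.primeIdealOf ⟨g (j z''), hxU⟩).asIdeal =
      Ideal.comap (algebraMap Γ(X', U) Γ(pullback f' sK, g ⁻¹ᵁ U))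
        (hW.primeIdealOf ⟨j z'', hyW⟩).asIdeal := by
    rw [primeIdealOf_map g hU hW (j z'') hyW, Scheme.Hom.app_eq_appLE]
    rfl
  let _ : Algebra Γ(X', U) (X'.presheaf.stalk (g (j z''))) :=
    TopCat.Presheaf.algebra_section_stalk X'.presheaf ⟨g (j z''), hxU⟩
  have hlocA := hU.isLocalization_stalk ⟨g (j z''), hxU⟩
  let _ : Algebra Γ(pullback f' sK, g ⁻¹ᵁ U) ((pullback f' sK).presheaf.stalk (j z'')) :=
    TopCat.Presheaf.algebra_section_stalk _ ⟨j z'', hyW⟩
  have hlocB := hW.isLocalization_stalk ⟨j z'', hyW⟩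
  let _ : Algebra (X'.presheaf.stalk (g (j z''))) ((pullback f' sK).presheaf.stalk (j z'')) :=
    (g.stalkMap (j z'')).hom.toAlgebra
  let _ : Algebra Γ(X', U) ((pullback f' sK).presheaf.stalk (j z'')) :=
    ((algebraMap Γ(pullback f' sK, g ⁻¹ᵁ U) ((pullback f' sK).presheaf.stalk (j z''))).comp
      (algebraMap Γ(X', U) Γ(pullback f' sK, g ⁻¹ᵁ U))).toAlgebra
  have ht3 : IsScalarTower Γ(X', U) Γ(pullback f' sK, g ⁻¹ᵁ U)
      ((pullback f' sK).presheaf.stalk (j z'')) :=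
    IsScalarTower.of_algebraMap_eq fun _ => rfl
  have ht4 : IsScalarTower Γ(X', U) (X'.presheaf.stalk (g (j z'')))
      ((pullback f' sK).presheaf.stalk (j z'')) :=
    IsScalarTower.of_algebraMap_eq fun r =>
      Groth.Agent.Lib.Helper8.FlatAffine.germ_appLE g (le_refl (g ⁻¹ᵁ U)) (j z'') hyW r
  -- the quotient chart
  have hσ : Function.Surjective (j.app (g ⁻¹ᵁ U)).hom := j.app_surjective _ hW
  have hker : RingHom.ker (j.app (g ⁻¹ᵁ U)).hom =
      (nilradical Γ(X', U)).map (algebraMap Γ(X', U) Γ(pullback f' sK, g ⁻¹ᵁ U)) := by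
    rw [← Scheme.Hom.ker_apply j ⟨g ⁻¹ᵁ U, hW⟩, ker_jmap f' sK ι, hι,
      Scheme.IdealSheafData.ker_subschemeι,
      Groth.Agent.Lib.Helper1.ideal_comap X'.nilradical g ⟨g ⁻¹ᵁ U, hW⟩ ⟨U, hU⟩ le_rfl,
      nilradical_ideal]
    rfl
  have hqr : (hW.primeIdealOf ⟨j z'', hyW⟩).asIdeal =
      Ideal.comap (j.app (g ⁻¹ᵁ U)).hom (hV.primeIdealOf ⟨z'', hzV⟩).asIdeal :=
    primeIdealOf_map j hW hV z'' hzV
  let _ : Algebra Γ(pullback (ι ≫ f') sK, j ⁻¹ᵁ (g ⁻¹ᵁ U))
      ((pullback (ι ≫ f') sK).presheaf.stalk z'') :=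
    TopCat.Presheaf.algebra_section_stalk _ ⟨z'', hzV⟩
  have hlocC := hV.isLocalization_stalk ⟨z'', hzV⟩
  exact length_eq_mul_of_minimal (hW.primeIdealOf ⟨j z'', hyW⟩).asIdeal
    (hU.primeIdealOf ⟨g (j z''), hxU⟩).asIdeal hprime _ _ hq
    (j.app (g ⁻¹ᵁ U)).hom hσ hker (hV.primeIdealOf ⟨z'', hzV⟩).asIdeal hqr _

/-- `length O_{X'',x''} = length O_{X',x'} * length O_{Z'',z''}` at maximal points, where
`X'' = X' ⊗ k''` and `Z'' = X'_red ⊗ k''`. -/
theorem length_stalk_eq_mul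
    (x'' : ↥(FBase.bc f' k'')) (hx'' : ∀ z : ↥(FBase.bc f' k''), z ⤳ x'' → z = x'')
    (z'' : ↥(FBase.bc (X'.nilradical.subschemeι ≫ f') k''))
    (hz'' : pullback.map (X'.nilradical.subschemeι ≫ f')
        (Spec.map (CommRingCat.ofHom (algebraMap k' k''))) f'
        (Spec.map (CommRingCat.ofHom (algebraMap k' k''))) X'.nilradical.subschemeι (𝟙 _) (𝟙 _)
        (Category.comp_id _) ((Category.comp_id _).trans (Category.id_comp _).symm) z'' = x'') :
    Module.length ((FBase.bc f' k'').presheaf.stalk x'') ((FBase.bc f' k'').presheaf.stalk x'') =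
      Module.length (X'.presheaf.stalk (FBase.bcπ f' k'' x''))
          (X'.presheaf.stalk (FBase.bcπ f' k'' x'')) *
        Module.length ((FBase.bc (X'.nilradical.subschemeι ≫ f') k'').presheaf.stalk z'')
          ((FBase.bc (X'.nilradical.subschemeι ≫ f') k'').presheaf.stalk z'') := by
  unfold FBase.bc FBase.bcπ at *
  subst hz''
  exact length_stalk_eq_mul_aux f' _ rfl _ rfl z'' hx''

end main

end Groth.Agent.Lib.Helper9.LenExt
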