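import Mathlib

/-!
# Linearly topologized vector spaces over a discrete field: continuous functionals
-/

namespace Groth.Agent.Lib.Helper9.LinTop

open Topology

/-- A linear functional to a discrete field that vanishes on a neighbourhood-of-zero submodule is
continuous. -/
theorem continuous_of_le_ker {k : Type*} {M : Type*} [Field k]
    [TopologicalSpace k] [DiscreteTopology k] [AddCommGroup M] [Module k M] [TopologicalSpace M]
    [IsTopologicalAddGroup M] (f : M →ₗ[k] k) (U : Submodule k M) (hU : (U : Set M) ∈ 𝓝 (0 : M))
    (hf : U ≤ LinearMap.ker f) : Continuous f := by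
  apply continuous_of_continuousAt_zero f.toAddMonoidHom
  simp only [ContinuousAt, LinearMap.toAddMonoidHom_coe, map_zero, nhds_discrete]
  rw [Filter.tendsto_pure]
  filter_upwards [hU] with y hy
  exact hf hy

end Groth.Agent.Lib.Helper9.LinTop
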