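import Mathlib
import Groth.Agent.Lib.Helper18.FlF

set_option autoImplicit false
set_option linter.style.haveILetI false
set_option linter.unusedSectionVars false
set_option linter.unusedVariables false
universe u v

namespace Groth.Agent.Lib.Helper9.LocFP
open Function MvPolynomial TensorProduct

section A

variable {S : Type u} [CommRing S] (Sg : Submonoid S) {F M : Type v} [AddCommGroup F] [Module S F]
  [AddCommGroup M] [Module S M] [Module.Finite S F]

/-- if the localization of `M = F/K` is finitely presented, `K` is generated up to denominators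
by finitely many elements. -/
theorem exists_finset_of_localized_fp (f : F →ₗ[S] M) (hf : Surjective f)
    [Module.FinitePresentation (Localization Sg) (LocalizedModule Sg M)] :
    ∃ G : Finset F, (↑G : Set F) ⊆ LinearMap.ker f ∧
      ∀ k ∈ LinearMap.ker f, ∃ σ ∈ Sg, σ • k ∈ Submodule.span S (↑G : Set F) := by
  classical
  set mkF := LocalizedModule.mkLinearMap Sg F with hmkF
  set mkM := LocalizedModule.mkLinearMap Sg M with hmkM
  set fp : LocalizedModule Sg F →ₗ[Localization Sg] LocalizedModule Sg M :=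
    LinearMap.extendScalarsOfIsLocalization Sg (Localization Sg) (IsLocalizedModule.map Sg mkF mkM f)
    with hfp
  have hsurj : Surjective fp := IsLocalizedModule.map_surjective Sg mkF mkM f hf
  have hker : (LinearMap.ker fp).FG := Module.FinitePresentation.fg_ker fp hsurj
  rw [hfp, ← LinearMap.localized'_ker_eq_ker_localizedMap (Localization Sg) Sg mkF mkM f] at hker
  obtain ⟨X, hX⟩ := hker
  have hXmem : ∀ x ∈ X, ∃ m ∈ LinearMap.ker f, ∃ s : Sg, IsLocalizedModule.mk' mkF m s = x := by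
    intro x hx
    have : x ∈ Submodule.localized' (Localization Sg) Sg mkF (LinearMap.ker f) := by
      rw [← hX]; exact Submodule.subset_span hx
    exact (Submodule.mem_localized' _ _ _ _ _).mp this
  choose! kx hkx sx hsx using hXmem
  refine ⟨X.image kx, ?_, ?_⟩
  · intro y hy
    rw [Finset.coe_image] at hy
    obtain ⟨x, hx, rfl⟩ := hy
    exact hkx x hx
  · intro k hk
    have h1 : Submodule.localized' (Localization Sg) Sg mkF (LinearMap.ker f) ≤
        Submodule.localized' (Localization Sg) Sg mkF (Submodule.span S (↑(X.image kx) : Set F)) := by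
      rw [← hX, Submodule.span_le]
      intro x hx
      rw [SetLike.mem_coe, Submodule.mem_localized']
      refine ⟨kx x, Submodule.subset_span ?_, sx x, hsx x hx⟩
      rw [Finset.coe_image]
      exact ⟨x, hx, rfl⟩
    have h2 : mkF k ∈ Submodule.localized' (Localization Sg) Sg mkF (LinearMap.ker f) := by
      rw [Submodule.mem_localized']
      exact ⟨k, hk, 1, IsLocalizedModule.mk'_one Sg mkF k⟩
    obtain ⟨g, hg, s, hgs⟩ := (Submodule.mem_localized' _ _ _ _ _).mp (h1 h2)
    rw [IsLocalizedModule.mk'_eq_iff] at hgs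
    have h3 : mkF (g - (s : S) • k) = 0 := by
      rw [map_sub, map_smul, hgs, Submonoid.smul_def, sub_self]
    obtain ⟨s', hs'⟩ := (IsLocalizedModule.eq_zero_iff Sg mkF).mp h3
    refine ⟨(s' : S) * (s : S), Sg.mul_mem s'.2 s.2, ?_⟩
    rw [Submonoid.smul_def, smul_sub, sub_eq_zero] at hs'
    rw [mul_smul, ← hs']
    exact Submodule.smul_mem _ _ hg

end A

section G

variable {R : Type u} [CommRing R] (s : Finset (PrimeSpectrum R))
  (hs : Function.Injective fun r : R => fun p : s => algebraMap R (Localization.AtPrime p.1.asIdeal) r)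

include hs in
/-- an element of a flat module killed locally at each of the primes is zero. -/
theorem eq_zero_of_flat {X : Type v} [AddCommGroup X] [Module R X] [Module.Flat R X] (x : X)
    (hx : ∀ p ∈ s, ∃ t : R, t ∉ p.asIdeal ∧ t • x = 0) : x = 0 := by
  classical
  let ι : R →ₗ[R] (∀ p : s, Localization.AtPrime p.1.asIdeal) :=
    { toFun := fun r p => algebraMap R (Localization.AtPrime p.1.asIdeal) r
      map_add' := fun a b => by funext p; simp
      map_smul' := fun a b => by funext p; simp [Algebra.smul_def] }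
  have hι : Injective ι := hs
  have hinj := Module.Flat.lTensor_preserves_injective_linearMap (M := X) ι hι
  have h1 : (ι.lTensor X) (x ⊗ₜ[R] (1 : R)) = 0 := by
    rw [LinearMap.lTensor_tmul]
    have h2 : ι 1 = ∑ p : s, Pi.single p (1 : Localization.AtPrime p.1.asIdeal) := by
      funext p
      simp [ι, Finset.sum_apply, Pi.single_apply]
    rw [h2, TensorProduct.tmul_sum]
    apply Finset.sum_eq_zero
    intro p _
    obtain ⟨t, htp, htx⟩ := hx p.1 p.2
    have h3 : (Pi.single p (1 : Localization.AtPrime p.1.asIdeal) :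
        ∀ p : s, Localization.AtPrime p.1.asIdeal) =
        t • Pi.single p (IsLocalization.mk' (Localization.AtPrime p.1.asIdeal) (1 : R)
          (⟨t, htp⟩ : p.1.asIdeal.primeCompl)) := by
      rw [← Pi.single_smul, Algebra.smul_def]
      congr 1
      rw [IsLocalization.mul_mk'_eq_mk'_of_mul, mul_one]
      exact (IsLocalization.mk'_self' (Localization.AtPrime p.1.asIdeal) (x := (⟨t, htp⟩ : p.1.asIdeal.primeCompl))).symm
    rw [h3, ← TensorProduct.smul_tmul, htx, TensorProduct.zero_tmul]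
  have h4 : x ⊗ₜ[R] (1 : R) = 0 := hinj (by rw [h1, map_zero])
  have := congrArg (TensorProduct.rid R X) h4
  simpa using this

end G

section Main

variable {R : Type u} [CommRing R] (n : ℕ)
  {M : Type u} [AddCommGroup M] [Module (MvPolynomial (Fin n) R) M] [Module R M]
  [IsScalarTower R (MvPolynomial (Fin n) R) M] [Module.Flat R M]
  (s : Finset (PrimeSpectrum R))
  (hs : Function.Injective fun r : R => fun p : s => algebraMap R (Localization.AtPrime p.1.asIdeal) r)
  (hloc : ∀ (p : Ideal R) [p.IsPrime],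
    Module.FinitePresentation
      (Localization (Algebra.algebraMapSubmonoid (MvPolynomial (Fin n) R) p.primeCompl))
      (LocalizedModule (Algebra.algebraMapSubmonoid (MvPolynomial (Fin n) R) p.primeCompl) M))

set_option quotPrecheck false in
local notation "SS" => MvPolynomial (Fin n) R

include hloc in
omit [Module.Flat R M] in
theorem exists_loc_gens {r : ℕ} (f : (Fin r → SS) →ₗ[SS] M) (hf : Surjective f)
    (p : Ideal R) [p.IsPrime] :
    ∃ G : Finset (Fin r → SS), (↑G : Set (Fin r → SS)) ⊆ LinearMap.ker f ∧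
      ∀ k ∈ LinearMap.ker f, ∃ t : R, t ∉ p ∧
        (C t : SS) • k ∈ Submodule.span SS (↑G : Set (Fin r → SS)) := by
  haveI := hloc p
  obtain ⟨G, hG1, hG2⟩ := exists_finset_of_localized_fp
    (Algebra.algebraMapSubmonoid (MvPolynomial (Fin n) R) p.primeCompl) f hf
  refine ⟨G, hG1, ?_⟩
  intro k hk
  obtain ⟨σ, hσ, hσk⟩ := hG2 k hk
  obtain ⟨t, ht, rfl⟩ := hσ
  exact ⟨t, ht, hσk⟩

include hs hloc in
theorem local_step {r : ℕ} (f : (Fin r → SS) →ₗ[SS] M) (hf : Surjective f)
    (p : Ideal R) [p.IsPrime] :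
    ∃ t : R, t ∉ p ∧ ∃ G : Finset (Fin r → SS), (↑G : Set (Fin r → SS)) ⊆ LinearMap.ker f ∧
      ∀ k ∈ LinearMap.ker f, ∃ N : ℕ,
        (C t ^ N : SS) • k ∈ Submodule.span SS (↑G : Set (Fin r → SS)) := by
  classical
  obtain ⟨G0, hG0K, hG0⟩ := exists_loc_gens n hloc f hf p
  have hsG : ∀ 𝔭 : s, ∃ G : Finset (Fin r → SS), (↑G : Set (Fin r → SS)) ⊆ LinearMap.ker f ∧
      ∀ k ∈ LinearMap.ker f, ∃ t : R, t ∉ 𝔭.1.asIdeal ∧
        (C t : SS) • k ∈ Submodule.span SS (↑G : Set (Fin r → SS)) := by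
    intro 𝔭
    haveI := 𝔭.1.isPrime
    exact exists_loc_gens n hloc f hf 𝔭.1.asIdeal
  choose Gs hGsK hGs using hsG
  set G : Finset (Fin r → SS) := G0 ∪ Finset.univ.biUnion Gs with hG
  set K'' : Submodule SS (Fin r → SS) := Submodule.span SS (↑G : Set (Fin r → SS)) with hK''
  have hGK : (↑G : Set (Fin r → SS)) ⊆ LinearMap.ker f := by
    intro x hx
    rw [hG, Finset.coe_union, Finset.coe_biUnion] at hx
    rcases hx with hx | hx
    · exact hG0K hx
    · simp only [Finset.coe_univ, Set.mem_univ, Set.iUnion_true, Set.mem_iUnion] at hx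
      obtain ⟨𝔭, hx⟩ := hx
      exact hGsK 𝔭 hx
  have hK''K : K'' ≤ LinearMap.ker f := Submodule.span_le.mpr hGK
  have hB1 : ∀ k ∈ LinearMap.ker f, ∃ t : R, t ∉ p ∧ (C t : SS) • k ∈ K'' := by
    intro k hk
    obtain ⟨t, ht, htk⟩ := hG0 k hk
    refine ⟨t, ht, Submodule.span_mono ?_ htk⟩
    rw [hG, Finset.coe_union]
    exact Set.subset_union_left
  have hB2 : ∀ 𝔭 : s, ∀ k ∈ LinearMap.ker f, ∃ t : R, t ∉ 𝔭.1.asIdeal ∧ (C t : SS) • k ∈ K'' := by
    intro 𝔭 k hk
    obtain ⟨t, ht, htk⟩ := hGs 𝔭 k hk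
    refine ⟨t, ht, Submodule.span_mono ?_ htk⟩
    rw [hG, Finset.coe_union, Finset.coe_biUnion]
    refine Set.subset_union_of_subset_right ?_ _
    intro x hx
    simp only [Finset.coe_univ, Set.mem_univ, Set.iUnion_true, Set.mem_iUnion]
    exact ⟨𝔭, hx⟩
  -- the finitely presented module
  haveI hfpM'' : Module.FinitePresentation SS ((Fin r → SS) ⧸ K'') :=
    Module.finitePresentation_of_surjective K''.mkQ K''.mkQ_surjective (by
      rw [Submodule.ker_mkQ]; exact ⟨G, rfl⟩)
  let π : ((Fin r → SS) ⧸ K'') →ₗ[SS] M := K''.liftQ f hK''K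
  have hπsurj : Surjective π := by
    intro m
    obtain ⟨x, rfl⟩ := hf m
    exact ⟨K''.mkQ x, rfl⟩
  have hU : IsOpen {q : PrimeSpectrum SS |
      Module.Flat R (LocalizedModule q.asIdeal.primeCompl ((Fin r → SS) ⧸ K''))} :=
    Groth.Agent.Lib.Helper18.Fl.isOpen_flatLocus
  -- Step D
  have hD : ∀ q : PrimeSpectrum SS, (∀ t : R, t ∉ p → (C t : SS) ∉ q.asIdeal) →
      Module.Flat R (LocalizedModule q.asIdeal.primeCompl ((Fin r → SS) ⧸ K'')) := by
    intro q hq
    set mk'' := LocalizedModule.mkLinearMap q.asIdeal.primeCompl ((Fin r → SS) ⧸ K'')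
    set mkM := LocalizedModule.mkLinearMap q.asIdeal.primeCompl M
    have hinj : Injective (IsLocalizedModule.map q.asIdeal.primeCompl mk'' mkM π) := by
      rw [Groth.Agent.Lib.Helper18.Fl.map_injective_iff]
      intro x hx
      obtain ⟨k, rfl⟩ := K''.mkQ_surjective x
      have hk : k ∈ LinearMap.ker f := hx
      obtain ⟨t, ht, htk⟩ := hB1 k hk
      refine ⟨⟨C t, hq t ht⟩, ?_⟩
      change (C t : SS) • K''.mkQ k = 0
      rw [← map_smul, Submodule.mkQ_apply, Submodule.Quotient.mk_eq_zero]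
      exact htk
    have hsurj : Surjective (IsLocalizedModule.map q.asIdeal.primeCompl mk'' mkM π) :=
      IsLocalizedModule.map_surjective _ mk'' mkM π hπsurj
    let e : LocalizedModule q.asIdeal.primeCompl ((Fin r → SS) ⧸ K'') ≃ₗ[R]
        LocalizedModule q.asIdeal.primeCompl M :=
      LinearEquiv.ofBijective
        ((IsLocalizedModule.map q.asIdeal.primeCompl mk'' mkM π).restrictScalars R) ⟨hinj, hsurj⟩
    haveI : Module.Flat R (LocalizedModule q.asIdeal.primeCompl M) :=
      Groth.Agent.Lib.Helper18.Fl.flat_localizedModule q.asIdeal.primeCompl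
    exact Module.Flat.of_linearEquiv e
  -- Step E
  have hE : ∃ t : R, t ∉ p ∧ ∀ q : PrimeSpectrum SS, (C t : SS) ∉ q.asIdeal →
      Module.Flat R (LocalizedModule q.asIdeal.primeCompl ((Fin r → SS) ⧸ K'')) := by
    obtain ⟨J, hJ⟩ := (PrimeSpectrum.isClosed_iff_zeroLocus_ideal _).mp hU.isClosed_compl
    by_cases hdisj : Disjoint (J.radical : Set SS)
        (Algebra.algebraMapSubmonoid SS p.primeCompl : Set SS)
    · exfalso
      obtain ⟨q, hqprime, hJq, hqdisj⟩ := Ideal.exists_le_prime_disjoint J.radical _ hdisj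
      have h1 : (⟨q, hqprime⟩ : PrimeSpectrum SS) ∈ PrimeSpectrum.zeroLocus (J : Set SS) := by
        rw [PrimeSpectrum.mem_zeroLocus]
        exact fun x hx => hJq (Ideal.le_radical hx)
      rw [← hJ] at h1
      apply h1
      apply hD
      intro t ht hCt
      exact Set.disjoint_left.mp hqdisj hCt ⟨t, ht, rfl⟩
    · rw [Set.not_disjoint_iff] at hdisj
      obtain ⟨σ, hσJ, hσ⟩ := hdisj
      obtain ⟨t, ht, rfl⟩ := hσ
      obtain ⟨N, hN⟩ := hσJ
      refine ⟨t ^ N, fun h => ht (Ideal.IsPrime.mem_of_pow_mem inferInstance N h), ?_⟩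
      intro q hq
      by_contra hflat
      have h2 : q ∈ PrimeSpectrum.zeroLocus (J : Set SS) := by
        rw [← hJ]; exact hflat
      rw [PrimeSpectrum.mem_zeroLocus] at h2
      apply hq
      rw [map_pow]
      exact h2 hN
  obtain ⟨t, htp, hflat⟩ := hE
  refine ⟨t, htp, G, hGK, ?_⟩
  -- Step F
  intro k hk
  set z := K''.mkQ k with hz
  set 𝔞 : Ideal SS := LinearMap.ker (LinearMap.toSpanSingleton SS ((Fin r → SS) ⧸ K'') z) with h𝔞
  have hmem𝔞 : ∀ a : SS, a ∈ 𝔞 ↔ a • z = 0 := by
    intro a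
    rw [h𝔞, LinearMap.mem_ker, LinearMap.toSpanSingleton_apply]
  have hrad : (C t : SS) ∈ 𝔞.radical := by
    rw [Ideal.radical_eq_sInf, Ideal.mem_sInf]
    rintro q ⟨h𝔞q, hqprime⟩
    by_contra hCt
    haveI := hflat ⟨q, hqprime⟩ hCt
    set mk'' := LocalizedModule.mkLinearMap q.primeCompl ((Fin r → SS) ⧸ K'')
    have hx0 : mk'' z = 0 := by
      apply eq_zero_of_flat s hs
      intro 𝔭 h𝔭
      obtain ⟨t', ht', ht'k⟩ := hB2 ⟨𝔭, h𝔭⟩ k hk
      refine ⟨t', ht', ?_⟩
      rw [← algebraMap_smul SS t' (mk'' z), ← map_smul, MvPolynomial.algebraMap_eq, hz,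
        ← map_smul, Submodule.mkQ_apply, (Submodule.Quotient.mk_eq_zero _).mpr ht'k, map_zero]
    obtain ⟨σ, hσ⟩ := (IsLocalizedModule.eq_zero_iff q.primeCompl mk'').mp hx0
    have : (σ : SS) ∈ 𝔞 := (hmem𝔞 _).mpr hσ
    exact σ.2 (h𝔞q this)
  obtain ⟨N, hN⟩ := hrad
  refine ⟨N, ?_⟩
  rw [hmem𝔞, hz, ← map_smul, Submodule.mkQ_apply, Submodule.Quotient.mk_eq_zero] at hN
  exact hN

end Main

section Final

variable {R : Type u} [CommRing R] (n : ℕ)
  {M : Type u} [AddCommGroup M] [Module (MvPolynomial (Fin n) R) M] [Module R M]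
  [IsScalarTower R (MvPolynomial (Fin n) R) M] [Module.Finite (MvPolynomial (Fin n) R) M]
  [Module.Flat R M]
  (s : Finset (PrimeSpectrum R))
  (hs : Function.Injective fun r : R => fun p : s => algebraMap R (Localization.AtPrime p.1.asIdeal) r)
  (hloc : ∀ (p : Ideal R) [p.IsPrime],
    Module.FinitePresentation
      (Localization (Algebra.algebraMapSubmonoid (MvPolynomial (Fin n) R) p.primeCompl))
      (LocalizedModule (Algebra.algebraMapSubmonoid (MvPolynomial (Fin n) R) p.primeCompl) M))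

set_option quotPrecheck false in
local notation "SS" => MvPolynomial (Fin n) R

include hs hloc in
theorem finitePresentation_of_local : Module.FinitePresentation SS M := by
  classical
  obtain ⟨r, f, hf⟩ := Module.Finite.exists_fin' SS M
  set Fset : Set R := {t : R | ∃ G : Finset (Fin r → SS), (↑G : Set (Fin r → SS)) ⊆ LinearMap.ker f ∧
      ∀ k ∈ LinearMap.ker f, ∃ N : ℕ,
        (C t ^ N : SS) • k ∈ Submodule.span SS (↑G : Set (Fin r → SS))} with hFset
  have hspan : Ideal.span Fset = ⊤ := by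
    by_contra hne
    obtain ⟨𝔪, h𝔪, hle⟩ := Ideal.exists_le_maximal _ hne
    haveI := h𝔪.isPrime
    obtain ⟨t, ht, G, hGK, hG⟩ := local_step n s hs hloc f hf 𝔪
    exact ht (hle (Ideal.subset_span ⟨G, hGK, hG⟩))
  obtain ⟨T, hTF, hT⟩ := (Ideal.span_eq_top_iff_finite Fset).mp hspan
  have hTG : ∀ t ∈ T, ∃ G : Finset (Fin r → SS), (↑G : Set (Fin r → SS)) ⊆ LinearMap.ker f ∧
      ∀ k ∈ LinearMap.ker f, ∃ N : ℕ,
        (C t ^ N : SS) • k ∈ Submodule.span SS (↑G : Set (Fin r → SS)) :=
    fun t ht => hTF (Finset.mem_coe.mpr ht)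
  choose! G hGK hG using hTG
  set Gtot : Finset (Fin r → SS) := T.biUnion G with hGtot
  have hGtotK : (↑Gtot : Set (Fin r → SS)) ⊆ LinearMap.ker f := by
    intro x hx
    rw [hGtot, Finset.coe_biUnion, Set.mem_iUnion₂] at hx
    obtain ⟨t, ht, hx⟩ := hx
    exact hGK t ht hx
  have hker : LinearMap.ker f = Submodule.span SS (↑Gtot : Set (Fin r → SS)) := by
    apply le_antisymm
    · intro k hk
      have hN : ∀ t ∈ T, ∃ N : ℕ,
          (C t ^ N : SS) • k ∈ Submodule.span SS (↑Gtot : Set (Fin r → SS)) := by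
        intro t ht
        obtain ⟨N, hN⟩ := hG t ht k hk
        refine ⟨N, Submodule.span_mono ?_ hN⟩
        rw [hGtot, Finset.coe_biUnion]
        exact Set.subset_biUnion_of_mem (u := fun t => (↑(G t) : Set (Fin r → SS))) ht
      choose! Nn hNn using hN
      set Nmax := T.sup Nn with hNmax
      let 𝔠' : Ideal SS := LinearMap.ker
        ((Submodule.span SS (↑Gtot : Set (Fin r → SS))).mkQ ∘ₗ LinearMap.toSpanSingleton SS _ k)
      have hmem : ∀ a : SS, a ∈ 𝔠' ↔ a • k ∈ Submodule.span SS (↑Gtot : Set (Fin r → SS)) := by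
        intro a
        change (Submodule.span SS (↑Gtot : Set (Fin r → SS))).mkQ
          (LinearMap.toSpanSingleton SS _ k a) = 0 ↔ _
        rw [LinearMap.toSpanSingleton_apply, Submodule.mkQ_apply, Submodule.Quotient.mk_eq_zero]
      have htop : Ideal.span ((fun x => x ^ Nmax) '' (↑T : Set R)) = ⊤ :=
        Ideal.span_pow_eq_top _ hT Nmax
      have hle : Ideal.span ((fun x => x ^ Nmax) '' (↑T : Set R)) ≤ 𝔠'.comap (C : R →+* SS) := by
        rw [Ideal.span_le]
        rintro _ ⟨t, ht, rfl⟩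
        rw [SetLike.mem_coe, Ideal.mem_comap, hmem, map_pow]
        obtain ⟨j, hj⟩ := Nat.exists_eq_add_of_le (Finset.le_sup (f := Nn) (Finset.mem_coe.mp ht))
        rw [← hNmax] at hj
        rw [hj, add_comm, pow_add, mul_smul]
        exact Submodule.smul_mem _ _ (hNn t (Finset.mem_coe.mp ht))
      rw [htop] at hle
      have h1 : (1 : R) ∈ 𝔠'.comap (C : R →+* SS) := hle Submodule.mem_top
      rw [Ideal.mem_comap, hmem, map_one, one_smul] at h1
      exact h1
    · exact Submodule.span_le.mpr hGtotK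
  refine Module.finitePresentation_of_surjective f hf ?_
  rw [hker]
  exact ⟨Gtot, rfl⟩

end Final

end Groth.Agent.Lib.Helper9.LocFP
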