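import Mathlib
import Groth.Agent.Lib.Helper9.LocFP

set_option autoImplicit false
set_option linter.style.haveILetI false
set_option linter.unusedSectionVars false
set_option linter.unusedVariables false
universe u v

namespace Groth.Agent.Lib.Helper9.LocFP2
open Function MvPolynomial TensorProduct Groth.Agent.Lib.Helper9.LocFP

section Main

variable {R : Type u} [CommRing R] (n : ℕ)
  {M : Type u} [AddCommGroup M] [Module (MvPolynomial (Fin n) R) M] [Module R M]
  [IsScalarTower R (MvPolynomial (Fin n) R) M] [Module.Flat R M]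
  (s : Finset (PrimeSpectrum R))
  (hs : Function.Injective fun r : R => fun p : s => algebraMap R (Localization.AtPrime p.1.asIdeal) r)
  {F : Type u} [AddCommGroup F] [Module (MvPolynomial (Fin n) R) F]
  [Module.FinitePresentation (MvPolynomial (Fin n) R) F] [Module R F]
  [IsScalarTower R (MvPolynomial (Fin n) R) F] (f : F →ₗ[MvPolynomial (Fin n) R] M) (hf : Surjective f)
  (hgens : ∀ (p : Ideal R) [p.IsPrime], ∃ G : Finset F,
      (↑G : Set F) ⊆ LinearMap.ker f ∧
      ∀ k ∈ LinearMap.ker f, ∃ t : R, t ∉ p ∧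
        (C t : MvPolynomial (Fin n) R) • k ∈
          Submodule.span (MvPolynomial (Fin n) R) (↑G : Set F))

set_option quotPrecheck false in
local notation "SS" => MvPolynomial (Fin n) R

include hs hf hgens in
theorem local_step
    (p : Ideal R) [p.IsPrime] :
    ∃ t : R, t ∉ p ∧ ∃ G : Finset F, (↑G : Set F) ⊆ LinearMap.ker f ∧
      ∀ k ∈ LinearMap.ker f, ∃ N : ℕ,
        (C t ^ N : SS) • k ∈ Submodule.span SS (↑G : Set F) := by
  classical
  obtain ⟨G0, hG0K, hG0⟩ := hgens p
  have hsG : ∀ 𝔭 : s, ∃ G : Finset F, (↑G : Set F) ⊆ LinearMap.ker f ∧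
      ∀ k ∈ LinearMap.ker f, ∃ t : R, t ∉ 𝔭.1.asIdeal ∧
        (C t : SS) • k ∈ Submodule.span SS (↑G : Set F) := by
    intro 𝔭
    haveI := 𝔭.1.isPrime
    exact hgens 𝔭.1.asIdeal
  choose Gs hGsK hGs using hsG
  set G : Finset F := G0 ∪ Finset.univ.biUnion Gs with hG
  set K'' : Submodule SS F := Submodule.span SS (↑G : Set F) with hK''
  have hGK : (↑G : Set F) ⊆ LinearMap.ker f := by
    intro x hx
    rw [hG, Finset.coe_union, Finset.coe_biUnion] at hx
    rcases hx with hx | hx
    · exact hG0K hx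
    · simp only [Finset.coe_univ, Set.mem_univ, Set.iUnion_true, Set.mem_iUnion] at hx
      obtain ⟨𝔭, hx⟩ := hx
      exact hGsK 𝔭 hx
  have hK''K : K'' ≤ LinearMap.ker f := Submodule.span_le.mpr hGK
  have hB1 : ∀ k ∈ LinearMap.ker f, ∃ t : R, t ∉ p ∧ (C t : SS) • k ∈ K'' := by
    intro k hk
    obtain ⟨t, ht, htk⟩ := hG0 k hk
    refine ⟨t, ht, Submodule.span_mono ?_ htk⟩
    rw [hG, Finset.coe_union]
    exact Set.subset_union_left
  have hB2 : ∀ 𝔭 : s, ∀ k ∈ LinearMap.ker f, ∃ t : R, t ∉ 𝔭.1.asIdeal ∧ (C t : SS) • k ∈ K'' := by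
    intro 𝔭 k hk
    obtain ⟨t, ht, htk⟩ := hGs 𝔭 k hk
    refine ⟨t, ht, Submodule.span_mono ?_ htk⟩
    rw [hG, Finset.coe_union, Finset.coe_biUnion]
    refine Set.subset_union_of_subset_right ?_ _
    intro x hx
    simp only [Finset.coe_univ, Set.mem_univ, Set.iUnion_true, Set.mem_iUnion]
    exact ⟨𝔭, hx⟩
  -- the finitely presented module
  haveI hfpM'' : Module.FinitePresentation SS (F ⧸ K'') :=
    Module.finitePresentation_of_surjective K''.mkQ K''.mkQ_surjective (by
      rw [Submodule.ker_mkQ]; exact ⟨G, rfl⟩)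
  let π : (F ⧸ K'') →ₗ[SS] M := K''.liftQ f hK''K
  have hπsurj : Surjective π := by
    intro m
    obtain ⟨x, rfl⟩ := hf m
    exact ⟨K''.mkQ x, rfl⟩
  have hU : IsOpen {q : PrimeSpectrum SS |
      Module.Flat R (LocalizedModule q.asIdeal.primeCompl (F ⧸ K''))} :=
    Groth.Agent.Lib.Helper18.Fl.isOpen_flatLocus
  -- Step D
  have hD : ∀ q : PrimeSpectrum SS, (∀ t : R, t ∉ p → (C t : SS) ∉ q.asIdeal) →
      Module.Flat R (LocalizedModule q.asIdeal.primeCompl (F ⧸ K'')) := by
    intro q hq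
    set mk'' := LocalizedModule.mkLinearMap q.asIdeal.primeCompl (F ⧸ K'')
    set mkM := LocalizedModule.mkLinearMap q.asIdeal.primeCompl M
    have hinj : Injective (IsLocalizedModule.map q.asIdeal.primeCompl mk'' mkM π) := by
      rw [Groth.Agent.Lib.Helper18.Fl.map_injective_iff]
      intro x hx
      obtain ⟨k, rfl⟩ := K''.mkQ_surjective x
      have hk : k ∈ LinearMap.ker f := hx
      obtain ⟨t, ht, htk⟩ := hB1 k hk
      refine ⟨⟨C t, hq t ht⟩, ?_⟩
      change (C t : SS) • K''.mkQ k = 0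
      rw [← map_smul, Submodule.mkQ_apply, Submodule.Quotient.mk_eq_zero]
      exact htk
    have hsurj : Surjective (IsLocalizedModule.map q.asIdeal.primeCompl mk'' mkM π) :=
      IsLocalizedModule.map_surjective _ mk'' mkM π hπsurj
    let e : LocalizedModule q.asIdeal.primeCompl (F ⧸ K'') ≃ₗ[R]
        LocalizedModule q.asIdeal.primeCompl M :=
      LinearEquiv.ofBijective
        ((IsLocalizedModule.map q.asIdeal.primeCompl mk'' mkM π).restrictScalars R) ⟨hinj, hsurj⟩
    haveI : Module.Flat R (LocalizedModule q.asIdeal.primeCompl M) :=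
      Groth.Agent.Lib.Helper18.Fl.flat_localizedModule q.asIdeal.primeCompl
    exact Module.Flat.of_linearEquiv e
  -- Step E
  have hE : ∃ t : R, t ∉ p ∧ ∀ q : PrimeSpectrum SS, (C t : SS) ∉ q.asIdeal →
      Module.Flat R (LocalizedModule q.asIdeal.primeCompl (F ⧸ K'')) := by
    obtain ⟨J, hJ⟩ := (PrimeSpectrum.isClosed_iff_zeroLocus_ideal _).mp hU.isClosed_compl
    by_cases hdisj : Disjoint (J.radical : Set SS)
        (Algebra.algebraMapSubmonoid SS p.primeCompl : Set SS)
    · exfalso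
      obtain ⟨q, hqprime, hJq, hqdisj⟩ := Ideal.exists_le_prime_disjoint J.radical _ hdisj
      have h1 : (⟨q, hqprime⟩ : PrimeSpectrum SS) ∈ PrimeSpectrum.zeroLocus (J : Set SS) := by
        rw [PrimeSpectrum.mem_zeroLocus]
        exact fun x hx => hJq (Ideal.le_radical hx)
      rw [← hJ] at h1
      apply h1
      apply hD
      intro t ht hCt
      exact Set.disjoint_left.mp hqdisj hCt ⟨t, ht, rfl⟩
    · rw [Set.not_disjoint_iff] at hdisj
      obtain ⟨σ, hσJ, hσ⟩ := hdisj
      obtain ⟨t, ht, rfl⟩ := hσ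
      obtain ⟨N, hN⟩ := hσJ
      refine ⟨t ^ N, fun h => ht (Ideal.IsPrime.mem_of_pow_mem inferInstance N h), ?_⟩
      intro q hq
      by_contra hflat
      have h2 : q ∈ PrimeSpectrum.zeroLocus (J : Set SS) := by
        rw [← hJ]; exact hflat
      rw [PrimeSpectrum.mem_zeroLocus] at h2
      apply hq
      rw [map_pow]
      exact h2 hN
  obtain ⟨t, htp, hflat⟩ := hE
  refine ⟨t, htp, G, hGK, ?_⟩
  -- Step F
  intro k hk
  set z := K''.mkQ k with hz
  set 𝔞 : Ideal SS := LinearMap.ker (LinearMap.toSpanSingleton SS (F ⧸ K'') z) with h𝔞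
  have hmem𝔞 : ∀ a : SS, a ∈ 𝔞 ↔ a • z = 0 := by
    intro a
    rw [h𝔞, LinearMap.mem_ker, LinearMap.toSpanSingleton_apply]
  have hrad : (C t : SS) ∈ 𝔞.radical := by
    rw [Ideal.radical_eq_sInf, Ideal.mem_sInf]
    rintro q ⟨h𝔞q, hqprime⟩
    by_contra hCt
    haveI := hflat ⟨q, hqprime⟩ hCt
    set mk'' := LocalizedModule.mkLinearMap q.primeCompl (F ⧸ K'')
    have hx0 : mk'' z = 0 := by
      apply eq_zero_of_flat s hs
      intro 𝔭 h𝔭
      obtain ⟨t', ht', ht'k⟩ := hB2 ⟨𝔭, h𝔭⟩ k hk
      refine ⟨t', ht', ?_⟩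
      rw [← algebraMap_smul SS t' (mk'' z), ← map_smul, MvPolynomial.algebraMap_eq, hz,
        ← map_smul, Submodule.mkQ_apply, (Submodule.Quotient.mk_eq_zero _).mpr ht'k, map_zero]
    obtain ⟨σ, hσ⟩ := (IsLocalizedModule.eq_zero_iff q.primeCompl mk'').mp hx0
    have : (σ : SS) ∈ 𝔞 := (hmem𝔞 _).mpr hσ
    exact σ.2 (h𝔞q this)
  obtain ⟨N, hN⟩ := hrad
  refine ⟨N, ?_⟩
  rw [hmem𝔞, hz, ← map_smul, Submodule.mkQ_apply, Submodule.Quotient.mk_eq_zero] at hN
  exact hN

end Main

section Final

variable {R : Type u} [CommRing R] (n : ℕ)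
  {M : Type u} [AddCommGroup M] [Module (MvPolynomial (Fin n) R) M] [Module R M]
  [IsScalarTower R (MvPolynomial (Fin n) R) M] [Module.Finite (MvPolynomial (Fin n) R) M]
  [Module.Flat R M]
  (s : Finset (PrimeSpectrum R))
  (hs : Function.Injective fun r : R => fun p : s => algebraMap R (Localization.AtPrime p.1.asIdeal) r)
  {F : Type u} [AddCommGroup F] [Module (MvPolynomial (Fin n) R) F]
  [Module.FinitePresentation (MvPolynomial (Fin n) R) F] [Module R F]
  [IsScalarTower R (MvPolynomial (Fin n) R) F] (f : F →ₗ[MvPolynomial (Fin n) R] M) (hf : Surjective f)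
  (hgens : ∀ (p : Ideal R) [p.IsPrime], ∃ G : Finset F,
      (↑G : Set F) ⊆ LinearMap.ker f ∧
      ∀ k ∈ LinearMap.ker f, ∃ t : R, t ∉ p ∧
        (C t : MvPolynomial (Fin n) R) • k ∈
          Submodule.span (MvPolynomial (Fin n) R) (↑G : Set F))

set_option quotPrecheck false in
local notation "SS" => MvPolynomial (Fin n) R

include hs hf hgens in
theorem finitePresentation_of_local : Module.FinitePresentation SS M := by
  classical
  set Fset : Set R := {t : R | ∃ G : Finset F, (↑G : Set F) ⊆ LinearMap.ker f ∧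
      ∀ k ∈ LinearMap.ker f, ∃ N : ℕ,
        (C t ^ N : SS) • k ∈ Submodule.span SS (↑G : Set F)} with hFset
  have hspan : Ideal.span Fset = ⊤ := by
    by_contra hne
    obtain ⟨𝔪, h𝔪, hle⟩ := Ideal.exists_le_maximal _ hne
    haveI := h𝔪.isPrime
    obtain ⟨t, ht, G, hGK, hG⟩ := local_step n s hs f hf hgens 𝔪
    exact ht (hle (Ideal.subset_span ⟨G, hGK, hG⟩))
  obtain ⟨T, hTF, hT⟩ := (Ideal.span_eq_top_iff_finite Fset).mp hspan
  have hTG : ∀ t ∈ T, ∃ G : Finset F, (↑G : Set F) ⊆ LinearMap.ker f ∧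
      ∀ k ∈ LinearMap.ker f, ∃ N : ℕ,
        (C t ^ N : SS) • k ∈ Submodule.span SS (↑G : Set F) :=
    fun t ht => hTF (Finset.mem_coe.mpr ht)
  choose! G hGK hG using hTG
  set Gtot : Finset F := T.biUnion G with hGtot
  have hGtotK : (↑Gtot : Set F) ⊆ LinearMap.ker f := by
    intro x hx
    rw [hGtot, Finset.coe_biUnion, Set.mem_iUnion₂] at hx
    obtain ⟨t, ht, hx⟩ := hx
    exact hGK t ht hx
  have hker : LinearMap.ker f = Submodule.span SS (↑Gtot : Set F) := by
    apply le_antisymm
    · intro k hk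
      have hN : ∀ t ∈ T, ∃ N : ℕ,
          (C t ^ N : SS) • k ∈ Submodule.span SS (↑Gtot : Set F) := by
        intro t ht
        obtain ⟨N, hN⟩ := hG t ht k hk
        refine ⟨N, Submodule.span_mono ?_ hN⟩
        rw [hGtot, Finset.coe_biUnion]
        exact Set.subset_biUnion_of_mem (u := fun t => (↑(G t) : Set F)) ht
      choose! Nn hNn using hN
      set Nmax := T.sup Nn with hNmax
      let 𝔠' : Ideal SS := LinearMap.ker
        ((Submodule.span SS (↑Gtot : Set F)).mkQ ∘ₗ LinearMap.toSpanSingleton SS _ k)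
      have hmem : ∀ a : SS, a ∈ 𝔠' ↔ a • k ∈ Submodule.span SS (↑Gtot : Set F) := by
        intro a
        change (Submodule.span SS (↑Gtot : Set F)).mkQ
          (LinearMap.toSpanSingleton SS _ k a) = 0 ↔ _
        rw [LinearMap.toSpanSingleton_apply, Submodule.mkQ_apply, Submodule.Quotient.mk_eq_zero]
      have htop : Ideal.span ((fun x => x ^ Nmax) '' (↑T : Set R)) = ⊤ :=
        Ideal.span_pow_eq_top _ hT Nmax
      have hle : Ideal.span ((fun x => x ^ Nmax) '' (↑T : Set R)) ≤ 𝔠'.comap (C : R →+* SS) := by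
        rw [Ideal.span_le]
        rintro _ ⟨t, ht, rfl⟩
        rw [SetLike.mem_coe, Ideal.mem_comap, hmem, map_pow]
        obtain ⟨j, hj⟩ := Nat.exists_eq_add_of_le (Finset.le_sup (f := Nn) (Finset.mem_coe.mp ht))
        rw [← hNmax] at hj
        rw [hj, add_comm, pow_add, mul_smul]
        exact Submodule.smul_mem _ _ (hNn t (Finset.mem_coe.mp ht))
      rw [htop] at hle
      have h1 : (1 : R) ∈ 𝔠'.comap (C : R →+* SS) := hle Submodule.mem_top
      rw [Ideal.mem_comap, hmem, map_one, one_smul] at h1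
      exact h1
    · exact Submodule.span_le.mpr hGtotK
  refine Module.finitePresentation_of_surjective f hf ?_
  rw [hker]
  exact ⟨Gtot, rfl⟩

end Final



section Alg

attribute [local instance] MvPolynomial.algebraMvPolynomial

variable {R S : Type u} [CommRing R] [CommRing S] [Algebra R S]

/-- local generation of the kernel of a presentation from finite presentation of the localization. -/
theorem alg_loc_gens (n : ℕ) (φ : MvPolynomial (Fin n) R →ₐ[R] S) (hφ : Surjective φ)
    (p : Ideal R) [p.IsPrime]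
    [Algebra.FinitePresentation (Localization.AtPrime p)
      (Localization (Algebra.algebraMapSubmonoid S p.primeCompl))] :
    ∃ G : Finset (MvPolynomial (Fin n) R), (↑G : Set (MvPolynomial (Fin n) R)) ⊆ RingHom.ker φ ∧
      ∀ k ∈ RingHom.ker φ, ∃ t : R, t ∉ p ∧
        (C t : MvPolynomial (Fin n) R) * k ∈ Ideal.span (↑G : Set (MvPolynomial (Fin n) R)) := by
  classical
  set Rp := Localization.AtPrime p with hRp
  set Sp := Localization (Algebra.algebraMapSubmonoid S p.primeCompl) with hSp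
  set P := MvPolynomial (Fin n) R with hP
  set Q := MvPolynomial (Fin n) Rp with hQ
  let μ : P →+* Q := MvPolynomial.map (algebraMap R Rp)
  let ψ : Q →ₐ[Rp] Sp := MvPolynomial.aeval (fun i => algebraMap S Sp (φ (X i)))
  have hcomp : ∀ q : P, ψ (μ q) = algebraMap S Sp (φ q) := by
    intro q
    have : (ψ : Q →+* Sp).comp μ = (algebraMap S Sp).comp (φ : P →+* S) := by
      apply MvPolynomial.ringHom_ext
      · intro r
        simp only [RingHom.comp_apply, μ, ψ]
        rw [MvPolynomial.map_C, RingHom.coe_coe, MvPolynomial.aeval_C, RingHom.coe_coe,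
          ← MvPolynomial.algebraMap_eq,
          AlgHom.commutes, ← IsScalarTower.algebraMap_apply, ← IsScalarTower.algebraMap_apply]
      · intro i
        simp only [RingHom.comp_apply, μ, ψ]
        rw [MvPolynomial.map_X, RingHom.coe_coe, MvPolynomial.aeval_X, RingHom.coe_coe]
    exact congrArg (fun g => g q) this
  have hunit : ∀ t : R, t ∉ p → IsUnit (algebraMap R Rp t) := fun t ht =>
    IsLocalization.map_units Rp (⟨t, ht⟩ : p.primeCompl)
  have hψC : ∀ a : Rp, ψ (C a) = algebraMap Rp Sp a := fun a => MvPolynomial.aeval_C _ a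
  have htower : ∀ t : R, algebraMap S Sp (algebraMap R S t) = algebraMap Rp Sp (algebraMap R Rp t) := by
    intro t
    rw [← IsScalarTower.algebraMap_apply, ← IsScalarTower.algebraMap_apply]
  have hψsurj : Surjective ψ := by
    intro y
    obtain ⟨⟨s, σ⟩, hy⟩ := IsLocalization.surj (Algebra.algebraMapSubmonoid S p.primeCompl) y
    obtain ⟨t, ht, hσ⟩ := σ.2
    obtain ⟨q, rfl⟩ := hφ s
    obtain ⟨u, hu⟩ := hunit t ht
    refine ⟨C (↑u⁻¹ : Rp) * μ q, ?_⟩
    rw [map_mul, hcomp, hψC]
    change y * algebraMap S Sp σ.1 = _ at hy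
    rw [← hy, ← hσ, htower, ← hu, mul_comm y, ← mul_assoc, ← map_mul, Units.inv_mul, map_one, one_mul]
  have hker : (RingHom.ker ψ.toRingHom).FG :=
    Algebra.FinitePresentation.ker_fg_of_mvPolynomial ψ hψsurj
  have hkereq : RingHom.ker ψ.toRingHom = Ideal.span (μ '' (RingHom.ker φ : Set P)) := by
    apply le_antisymm
    · intro x hx
      obtain ⟨⟨q, σ⟩, hx'⟩ := IsLocalization.surj (p.primeCompl.map (C (σ := Fin n))) x
      obtain ⟨t, ht, hσ⟩ := σ.2
      change x * μ σ.1 = μ q at hx'
      have h0 : algebraMap S Sp (φ q) = 0 := by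
        rw [← hcomp, ← hx', map_mul]
        have : ψ x = 0 := hx
        rw [this, zero_mul]
      obtain ⟨c, hc⟩ := (IsLocalization.map_eq_zero_iff (Algebra.algebraMapSubmonoid S p.primeCompl)
        Sp (φ q)).mp h0
      obtain ⟨t', ht', hct'⟩ := c.2
      have hmem : C t' * q ∈ RingHom.ker φ := by
        rw [RingHom.mem_ker, map_mul, ← MvPolynomial.algebraMap_eq, AlgHom.commutes, hct']
        exact hc
      have h1 : μ (C t' * q) ∈ Ideal.span (μ '' (RingHom.ker φ : Set P)) :=
        Ideal.subset_span ⟨_, hmem, rfl⟩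
      rw [map_mul, ← hx', ← hσ, ← mul_assoc, mul_comm, ← mul_assoc] at h1
      have hu : IsUnit (μ (C t) * μ (C t')) := by
        have e1 : μ (C t) = C (algebraMap R Rp t) := MvPolynomial.map_C _ _
        have e2 : μ (C t') = C (algebraMap R Rp t') := MvPolynomial.map_C _ _
        rw [e1, e2, ← map_mul]
        exact ((hunit t ht).mul (hunit t' ht')).map C
      exact (Ideal.unit_mul_mem_iff_mem _ hu).mp h1
    · rw [Ideal.span_le]
      rintro _ ⟨k, hk, rfl⟩
      change ψ (μ k) = 0
      rw [hcomp, (RingHom.mem_ker).mp hk, map_zero]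
  rw [hkereq] at hker
  obtain ⟨G', hG'sub, hG'⟩ := (Submodule.fg_span_iff_fg_span_finset_subset _).mp hker
  obtain ⟨G, hGJ, rfl⟩ := Finset.subset_set_image_iff.mp hG'sub
  refine ⟨G, hGJ, ?_⟩
  intro k hk
  have h1 : μ k ∈ Ideal.map μ (Ideal.span (↑G : Set P)) := by
    rw [Ideal.map_span]
    have : μ k ∈ Ideal.span (μ '' (RingHom.ker φ : Set P)) := Ideal.subset_span ⟨k, hk, rfl⟩
    have h2 : Ideal.span (μ '' (RingHom.ker φ : Set P)) = Ideal.span (μ '' (↑G : Set P)) := by
      rw [Finset.coe_image] at hG'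
      exact hG'
    rw [h2] at this
    exact this
  obtain ⟨⟨i, m⟩, him⟩ := (IsLocalization.mem_map_algebraMap_iff
    (p.primeCompl.map (C (σ := Fin n))) Q).mp h1
  obtain ⟨t, ht, hm⟩ := m.2
  obtain ⟨c, hc⟩ := IsLocalization.exists_of_eq (M := p.primeCompl.map (C (σ := Fin n))) (S := Q)
    (x := k * m.1) (y := i.1) (by rw [map_mul]; exact him)
  obtain ⟨t', ht', hct'⟩ := c.2
  refine ⟨t' * t, fun h => (Ideal.IsPrime.mem_or_mem inferInstance h).elim ht' ht, ?_⟩
  rw [map_mul, hct', hm, mul_assoc, mul_comm (m : P), hc]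
  exact Ideal.mul_mem_left _ _ i.2

/-- Stacks 053G, algebra version: a flat finite type `R`-algebra which is finitely presented locally at every
prime of `R`, where `R` embeds in a finite product of its localizations, is finitely presented. -/
theorem algebra_finitePresentation [Algebra.FiniteType R S] [Module.Flat R S]
    (s : Finset (PrimeSpectrum R))
    (hs : Function.Injective fun r : R => fun p : s => algebraMap R (Localization.AtPrime p.1.asIdeal) r)
    (hloc : ∀ (p : Ideal R) [p.IsPrime],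
      Algebra.FinitePresentation (Localization.AtPrime p)
        (Localization (Algebra.algebraMapSubmonoid S p.primeCompl))) :
    Algebra.FinitePresentation R S := by
  classical
  obtain ⟨n, φ, hφ⟩ := Algebra.FiniteType.iff_quotient_mvPolynomial''.mp
    (inferInstance : Algebra.FiniteType R S)
  letI : Algebra (MvPolynomial (Fin n) R) S := φ.toRingHom.toAlgebra
  haveI : IsScalarTower R (MvPolynomial (Fin n) R) S :=
    IsScalarTower.of_algebraMap_eq (fun r => (φ.commutes r).symm)
  have hφ' : Surjective (Algebra.linearMap (MvPolynomial (Fin n) R) S) := hφ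
  haveI : Module.Finite (MvPolynomial (Fin n) R) S :=
    Module.Finite.of_surjective (Algebra.linearMap (MvPolynomial (Fin n) R) S) hφ'
  have hfp : Module.FinitePresentation (MvPolynomial (Fin n) R) S := by
    refine finitePresentation_of_local n s hs (Algebra.linearMap (MvPolynomial (Fin n) R) S) hφ' ?_
    intro p _
    haveI := hloc p
    obtain ⟨G, hG, hG2⟩ := alg_loc_gens n φ hφ p
    refine ⟨G, ?_, ?_⟩
    · intro x hx
      exact hG hx
    · intro k hk
      obtain ⟨t, ht, h⟩ := hG2 k hk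
      exact ⟨t, ht, h⟩
  have hker := Module.FinitePresentation.fg_ker (Algebra.linearMap (MvPolynomial (Fin n) R) S) hφ'
  refine Algebra.FinitePresentation.of_surjective hφ ?_
  exact hker

end Alg

end Groth.Agent.Lib.Helper9.LocFP2
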