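import Mathlib
import Groth.Agent.Lib.Helper9.LenExt2

/-!
# `m_x O_{X_K,y} = m_y` under equality of dimensions and reducedness (helper9): ring level
-/

set_option autoImplicit false
universe u
open TensorProduct

namespace Groth.Agent.Lib.Helper9.MaxExt

section W

variable {k : Type u} [Field k] {R : Type u} [CommRing R] [Algebra k R] {L : Type u} [Field L]
  [Algebra k L]

theorem isRadical_map_includeLeft' (p : Ideal R) [p.IsPrime]
    (F : Type u) [Field F] [Algebra k F] (ι : (R ⧸ p) →ₐ[k] F) (hι : Function.Injective ι)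
    (hF : IsReduced (F ⊗[k] L)) :
    (p.map (Algebra.TensorProduct.includeLeft : R →ₐ[k] R ⊗[k] L)).IsRadical := by
  let α₁ : R ⊗[k] L →ₐ[k] (R ⧸ p) ⊗[k] L :=
    Algebra.TensorProduct.map (Ideal.Quotient.mkₐ k p) (AlgHom.id k L)
  let α₂ : (R ⧸ p) ⊗[k] L →ₐ[k] F ⊗[k] L := Algebra.TensorProduct.map ι (AlgHom.id k L)
  have hker : RingHom.ker α₁ = p.map (Algebra.TensorProduct.includeLeft : R →ₐ[k] R ⊗[k] L) := by
    have := Algebra.TensorProduct.rTensor_ker (R := k) (S := k) (C := L)
      (Ideal.Quotient.mkₐ k p) (Ideal.Quotient.mkₐ_surjective k p)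
    have hk : RingHom.ker (Ideal.Quotient.mkₐ k p) = p := Ideal.Quotient.mkₐ_ker k p
    rw [hk] at this
    exact this
  have hinj : Function.Injective α₂ := by
    have h0 : Function.Injective ι.toLinearMap := hι
    exact Module.Flat.rTensor_preserves_injective_linearMap (M := L) ι.toLinearMap h0
  rw [← hker]
  intro x hx
  obtain ⟨n, hn⟩ := hx
  rw [RingHom.mem_ker] at hn ⊢
  apply hinj
  rw [map_zero]
  have h2 : (α₂ (α₁ x)) ^ n = 0 := by rw [← map_pow, ← map_pow, hn, map_zero]
  exact IsReduced.eq_zero _ ⟨n, h2⟩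

end W

section P

variable {k L : Type u} [Field k] [Field L] [Algebra k L]
  {R' R'' : Type u} [CommRing R'] [CommRing R''] [Algebra k R'] [Algebra L R''] [Algebra R' R'']
  [Algebra k R''] [IsScalarTower k R' R''] [IsScalarTower k L R''] [Algebra.IsPushout k L R' R'']

theorem isRadical_map_of_isPushout' (p : Ideal R') [p.IsPrime]
    (F : Type u) [Field F] [Algebra k F] (ι : (R' ⧸ p) →ₐ[k] F) (hι : Function.Injective ι)
    (hF : IsReduced (F ⊗[k] L)) : (p.map (algebraMap R' R'')).IsRadical := by
  have h : Algebra.IsPushout k R' L R'' := Algebra.IsPushout.symm inferInstance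
  let e : R' ⊗[k] L ≃ₐ[R'] R'' := Algebra.IsPushout.equiv k R' L R''
  have h1 := isRadical_map_includeLeft' (R := R') (L := L) p F ι hι hF
  have h2 : p.map (algebraMap R' R'') =
      (p.map (Algebra.TensorProduct.includeLeft : R' →ₐ[k] R' ⊗[k] L)).comap
        e.toRingEquiv.symm := by
    rw [← Ideal.map_comap_of_equiv]
    have he : ∀ x : R', e (Algebra.TensorProduct.includeLeft (R := k) (S := k) (B := L) x) =
        algebraMap R' R'' x := fun x => by
      show (Algebra.IsPushout.equiv k R' L R'') (x ⊗ₜ[k] 1) = _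
      rw [Algebra.IsPushout.equiv_tmul, map_one, mul_one]
    apply le_antisymm
    · rw [Ideal.map_le_iff_le_comap]
      intro x hx
      rw [Ideal.mem_comap, ← he x]
      exact Ideal.mem_map_of_mem _ (Ideal.mem_map_of_mem _ hx)
    · rw [Ideal.map_le_iff_le_comap, Ideal.map_le_iff_le_comap]
      intro x hx
      rw [Ideal.mem_comap, Ideal.mem_comap]
      have : (e.toRingEquiv : R' ⊗[k] L →+* R'')
          ((Algebra.TensorProduct.includeLeft : R' →ₐ[k] R' ⊗[k] L) x) = algebraMap R' R'' x :=
        he x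
      rw [this]
      exact Ideal.mem_map_of_mem _ hx
  rw [h2]
  exact h1.comap _

end P

section U

variable {R' R'' : Type u} [CommRing R'] [CommRing R''] [Algebra R' R''] [Module.Flat R' R'']
  (q'' : Ideal R'') [q''.IsPrime] (p' : Ideal R') [p'.IsPrime]
  (hp : p' = q''.comap (algebraMap R' R''))
  (A B : Type u) [CommRing A] [CommRing B] [Algebra R' A] [Algebra R'' B]
  [IsLocalization.AtPrime A p'] [IsLocalization.AtPrime B q'']
  [Algebra A B] [Algebra R' B] [IsScalarTower R' R'' B] [IsScalarTower R' A B]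

include hp in
theorem map_maximalIdeal_eq [IsLocalRing A] [IsLocalRing B] [IsNoetherianRing A]
    [IsNoetherianRing B]
    (hrad : (p'.map (algebraMap R' R'')).IsRadical)
    (hdim : ringKrullDim A = ringKrullDim B) :
    (IsLocalRing.maximalIdeal A).map (algebraMap A B) = IsLocalRing.maximalIdeal B := by
  have hflat : Module.Flat A B := LenExt.flat_localization q'' p' hp A B
  have hcomap := LenExt.comap_maximalIdeal_eq q'' p' hp A B
  have hlies : (IsLocalRing.maximalIdeal B).LiesOver (IsLocalRing.maximalIdeal A) :=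
    ⟨hcomap.symm⟩
  have hgd : Algebra.HasGoingDown A B := Algebra.HasGoingDown.of_flat
  set J := (IsLocalRing.maximalIdeal A).map (algebraMap A B) with hJ
  have hJle : J ≤ IsLocalRing.maximalIdeal B := by
    rw [hJ, Ideal.map_le_iff_le_comap, hcomap]
  have hheight := Ideal.height_eq_height_add_of_liesOver_of_hasGoingDown
    (IsLocalRing.maximalIdeal A) (IsLocalRing.maximalIdeal B)
  have hA : (IsLocalRing.maximalIdeal A).height = (IsLocalRing.maximalIdeal B).height := by
    have h1 := IsLocalRing.maximalIdeal_height_eq_ringKrullDim (R := A)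
    have h2 := IsLocalRing.maximalIdeal_height_eq_ringKrullDim (R := B)
    have : ((IsLocalRing.maximalIdeal A).height : WithBot ℕ∞) =
        (IsLocalRing.maximalIdeal B).height := by rw [h1, h2, hdim]
    exact_mod_cast this
  have hfin : (IsLocalRing.maximalIdeal A).height ≠ ⊤ := Ideal.height_ne_top_of_isPrime
  have hzero : ((IsLocalRing.maximalIdeal B).map (Ideal.Quotient.mk J)).height = 0 := by
    rw [← hA] at hheight
    have h3 : (IsLocalRing.maximalIdeal A).height + 0 = (IsLocalRing.maximalIdeal A).height +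
        ((IsLocalRing.maximalIdeal B).map (Ideal.Quotient.mk J)).height := by
      rw [add_zero]; exact hheight
    exact (ENat.add_right_injective_of_ne_top hfin h3).symm
  have hprimeI : ((IsLocalRing.maximalIdeal B).map (Ideal.Quotient.mk J)).IsPrime :=
    Ideal.map_isPrime_of_surjective Ideal.Quotient.mk_surjective
      (by rw [Ideal.mk_ker]; exact hJle)
  have hmin : IsLocalRing.maximalIdeal B ∈ J.minimalPrimes := by
    rw [Ideal.minimalPrimes_eq_comap]
    refine ⟨_, Ideal.height_eq_zero_iff.mp hzero, ?_⟩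
    rw [Ideal.comap_map_of_surjective _ Ideal.Quotient.mk_surjective, ← RingHom.ker_eq_comap_bot,
      Ideal.mk_ker, sup_eq_left.mpr hJle]
  -- `J` is radical
  have hJ2 : J = (p'.map (algebraMap R' R'')).map (algebraMap R'' B) := by
    rw [hJ, ← IsLocalization.AtPrime.map_eq_maximalIdeal p' A, Ideal.map_map,
      ← IsScalarTower.algebraMap_eq, IsScalarTower.algebraMap_eq R' R'' B, ← Ideal.map_map]
  have hJrad : J.radical = J := by
    rw [hJ2, ← IsLocalization.map_radical q''.primeCompl B, hrad.radical]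
  rw [← hJrad]
  apply le_antisymm
  · exact (Ideal.IsPrime.radical_le_iff (IsLocalRing.maximalIdeal.isMaximal B).isPrime).mpr hJle
  · rw [Ideal.radical_eq_sInf]
    refine le_sInf ?_
    rintro r ⟨hJr, hr⟩
    exact hmin.2 ⟨hr, hJr⟩ (IsLocalRing.le_maximalIdeal hr.ne_top)

end U

end Groth.Agent.Lib.Helper9.MaxExt
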