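import Mathlib
import Groth.Prelude.Def_CurvBase
import Groth.Agent.Lib.Helper9.MaxExt1
import Groth.Agent.Lib.Helper9.LenExt3

/-!
# `m_x O_{X_K,y} = m_y` under equality of dimensions and reducedness (helper9): scheme level
-/

set_option autoImplicit false
universe u
open CategoryTheory CategoryTheory.Limits AlgebraicGeometry TopologicalSpace Opposite

attribute [local instance] Curv2.resAlgebra
open scoped TensorProduct

namespace Groth.Agent.Lib.Helper9.MaxExt

open Groth.Agent.Lib.Helper29.QCoh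

section chart

variable {k K : Type u} [Field k] [Field K] [Algebra k K] {X : Scheme.{u}}
  (f : X ⟶ Spec (CommRingCat.of k))

/-- Affine charts of `X ×_k K`: the sections over `g⁻¹ U` are the pushout, with explicit maps. -/
theorem chart_pushout_explicit (U : X.Opens) (hU : IsAffineOpen U) :
    IsPushout (CommRingCat.ofHom (algebraMap k K))
      ((Scheme.ΓSpecIso (CommRingCat.of k)).inv ≫ f.appLE ⊤ U (by simp))
      ((Scheme.ΓSpecIso (CommRingCat.of K)).inv ≫
        (pullback.snd f (Spec.map (CommRingCat.ofHom (algebraMap k K)))).appLE ⊤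
          ((pullback.fst f (Spec.map (CommRingCat.ofHom (algebraMap k K)))) ⁻¹ᵁ U) (by simp))
      ((pullback.fst f (Spec.map (CommRingCat.ofHom (algebraMap k K)))).appLE U
        ((pullback.fst f (Spec.map (CommRingCat.ofHom (algebraMap k K)))) ⁻¹ᵁ U) le_rfl) := by
  set h := Spec.map (CommRingCat.ofHom (algebraMap k K)) with hh
  set g := pullback.fst f h with hg
  set iY := pullback.snd f h with hiY
  have Hpb : IsPullback g iY f h := IsPullback.of_hasPullback f h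
  have : IsAffineHom g := MorphismProperty.pullback_fst _ _ (inferInstance : IsAffineHom h)
  have hW : IsAffineOpen (g ⁻¹ᵁ U) := hU.preimage g
  have hUY : g ⁻¹ᵁ U = g ⁻¹ᵁ U ⊓ iY ⁻¹ᵁ ⊤ := by simp
  have hiso := isIso_pushoutSection_of_isAffineOpen Hpb (US := ⊤) (UT := ⊤) (UX := U)
    (by simp) (by simp) hUY (isAffineOpen_top _) (isAffineOpen_top _) hU
  have Hpo := (isIso_pushoutSection_iff Hpb _ _ hUY).mp hiso
  refine IsPushout.of_iso Hpo.flip (Scheme.ΓSpecIso (CommRingCat.of k))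
    (Scheme.ΓSpecIso (CommRingCat.of K)) (Iso.refl _) (Iso.refl _) ?_ ?_ ?_ ?_
  · have := Scheme.ΓSpecIso_naturality (CommRingCat.ofHom (algebraMap k K))
    rw [← this]
    congr 1
  · simp
  · simp
  · simp

end chart

section main

variable (k : Type u) [Field k] (X : Scheme.{u}) [X.Over (Spec (CommRingCat.of k))]
  (K : Type u) [Field K] [Algebra k K]

theorem primeIdealOf_eq_comap {W : X.Opens} (hW : IsAffineOpen W) (x : X) (hxW : x ∈ W) :
    (hW.primeIdealOf ⟨x, hxW⟩).asIdeal =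
      (IsLocalRing.maximalIdeal (X.presheaf.stalk x)).comap (X.presheaf.germ W x hxW).hom := by
  rw [hW.primeIdealOf_eq_map_closedPoint ⟨x, hxW⟩]
  rfl

/-- the `k`-algebra map `Γ(X,U)/p_x → κ(x)` -/
theorem exists_algHom_residueField {U : X.Opens} (hU : IsAffineOpen U) (x : X) (hx : x ∈ U) :
    let _ : Algebra k Γ(X, U) := ((Scheme.ΓSpecIso (CommRingCat.of k)).inv ≫
      (X ↘ Spec (CommRingCat.of k)).appLE ⊤ U (by simp)).hom.toAlgebra
    ∃ ι : (Γ(X, U) ⧸ (hU.primeIdealOf ⟨x, hx⟩).asIdeal) →ₐ[k] X.residueField x,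
      Function.Injective ι := by
  intro _
  let ψ : Γ(X, U) →+* X.residueField x := (X.residue x).hom.comp (X.presheaf.germ U x hx).hom
  have hcomm : ∀ c : k, ψ (algebraMap k Γ(X, U) c) = algebraMap k (X.residueField x) c := by
    intro c
    change (X.residue x).hom ((X.presheaf.germ U x hx).hom
      (((Scheme.ΓSpecIso (CommRingCat.of k)).inv ≫
        (X ↘ Spec (CommRingCat.of k)).appLE ⊤ U (by simp)).hom c)) =
      (X.residue x).hom ((X.presheaf.germ ⊤ x trivial).hom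
        ((X ↘ Spec (CommRingCat.of k)).appTop.hom
          ((Scheme.ΓSpecIso (CommRingCat.of k)).inv.hom c)))
    congr 1
    rw [CommRingCat.hom_comp, RingHom.comp_apply, Scheme.Hom.appLE, CommRingCat.hom_comp,
      RingHom.comp_apply]
    exact TopCat.Presheaf.germ_res_apply X.presheaf _ x hx _
  let ψa : Γ(X, U) →ₐ[k] X.residueField x := { ψ with commutes' := hcomm }
  have hker : ∀ a : Γ(X, U), ψa a = 0 ↔ a ∈ (hU.primeIdealOf ⟨x, hx⟩).asIdeal := by
    intro a
    rw [primeIdealOf_eq_comap X hU x hx, Ideal.mem_comap]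
    change IsLocalRing.residue _ ((X.presheaf.germ U x hx).hom a) = 0 ↔ _
    rw [IsLocalRing.residue_eq_zero_iff]
  refine ⟨Ideal.Quotient.liftₐ _ ψa (fun a ha => (hker a).mpr ha), ?_⟩
  rw [injective_iff_map_eq_zero]
  intro z hz
  obtain ⟨a, rfl⟩ := Ideal.Quotient.mk_surjective z
  rw [Ideal.Quotient.eq_zero_iff_mem]
  apply (hker a).mp
  exact hz

theorem main7627 [LocallyOfFiniteType (X ↘ (Spec (CommRingCat.of k)))]
    (y : ↥(Curv2.bc k X K))
    (hdim : ringKrullDim ↥(X.presheaf.stalk (Curv2.bcFst k X K y)) =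
      ringKrullDim ↥((Curv2.bc k X K).presheaf.stalk y))
    (hred : _root_.IsReduced (X.residueField (Curv2.bcFst k X K y) ⊗[k] K)) :
    Ideal.map ((Curv2.bcFst k X K).stalkMap y).hom
        (IsLocalRing.maximalIdeal ↥(X.presheaf.stalk (Curv2.bcFst k X K y))) =
      IsLocalRing.maximalIdeal ↥((Curv2.bc k X K).presheaf.stalk y) := by
  let f := X ↘ (Spec (CommRingCat.of k))
  let g := Curv2.bcFst k X K
  have hXn : IsLocallyNoetherian X := LocallyOfFiniteType.isLocallyNoetherian f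
  have hYn : IsLocallyNoetherian (Curv2.bc k X K) :=
    LocallyOfFiniteType.isLocallyNoetherian
      (pullback.snd f (Spec.map (CommRingCat.ofHom (algebraMap k K))))
  obtain ⟨U, hU, hxU, -⟩ := exists_isAffineOpen_mem_and_subset (x := g y) (U := ⊤) trivial
  have hW : IsAffineOpen (g ⁻¹ᵁ U) :=
    (Groth.Agent.Lib.Helper9.WAExt.chart_pushout (K := K) f U hU).1
  have Hpo := chart_pushout_explicit (K := K) f U hU
  have hyW : y ∈ g ⁻¹ᵁ U := hxU
  let _ : Algebra Γ(X, U) Γ(Curv2.bc k X K, g ⁻¹ᵁ U) :=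
    (g.appLE U (g ⁻¹ᵁ U) le_rfl).hom.toAlgebra
  let _ : Algebra k Γ(X, U) := ((Scheme.ΓSpecIso (CommRingCat.of k)).inv ≫
      f.appLE ⊤ U (by simp)).hom.toAlgebra
  let _ : Algebra K Γ(Curv2.bc k X K, g ⁻¹ᵁ U) :=
    ((Scheme.ΓSpecIso (CommRingCat.of K)).inv ≫
        (pullback.snd f (Spec.map (CommRingCat.ofHom (algebraMap k K)))).appLE ⊤
          (g ⁻¹ᵁ U) (by simp)).hom.toAlgebra
  let _ : Algebra k Γ(Curv2.bc k X K, g ⁻¹ᵁ U) :=
    ((g.appLE U (g ⁻¹ᵁ U) le_rfl).hom.comp ((Scheme.ΓSpecIso (CommRingCat.of k)).inv ≫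
      f.appLE ⊤ U (by simp)).hom).toAlgebra
  have ht1 : IsScalarTower k Γ(X, U) Γ(Curv2.bc k X K, g ⁻¹ᵁ U) :=
    IsScalarTower.of_algebraMap_eq fun _ => rfl
  have ht2 : IsScalarTower k K Γ(Curv2.bc k X K, g ⁻¹ᵁ U) :=
    IsScalarTower.of_algebraMap_eq fun x => by
      have := congrArg (fun φ => φ.hom x) Hpo.w
      exact this.symm
  have hpo : Algebra.IsPushout k K Γ(X, U) Γ(Curv2.bc k X K, g ⁻¹ᵁ U) :=
    CommRingCat.isPushout_iff_isPushout.mp Hpo
  have hflat : Module.Flat Γ(X, U) Γ(Curv2.bc k X K, g ⁻¹ᵁ U) :=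
    LenExt.flat_of_isPushout k K
  have hprime : (hU.primeIdealOf ⟨g y, hxU⟩).asIdeal =
      Ideal.comap (algebraMap Γ(X, U) Γ(Curv2.bc k X K, g ⁻¹ᵁ U))
        (hW.primeIdealOf ⟨y, hyW⟩).asIdeal := by
    rw [primeIdealOf_map g hU hW y hyW, Scheme.Hom.app_eq_appLE]
    rfl
  let _ : Algebra Γ(X, U) (X.presheaf.stalk (g y)) :=
    TopCat.Presheaf.algebra_section_stalk X.presheaf ⟨g y, hxU⟩
  have hlocA := hU.isLocalization_stalk ⟨g y, hxU⟩
  let _ : Algebra Γ(Curv2.bc k X K, g ⁻¹ᵁ U) ((Curv2.bc k X K).presheaf.stalk y) :=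
    TopCat.Presheaf.algebra_section_stalk _ ⟨y, hyW⟩
  have hlocB := hW.isLocalization_stalk ⟨y, hyW⟩
  let _ : Algebra (X.presheaf.stalk (g y)) ((Curv2.bc k X K).presheaf.stalk y) :=
    (g.stalkMap y).hom.toAlgebra
  let _ : Algebra Γ(X, U) ((Curv2.bc k X K).presheaf.stalk y) :=
    ((algebraMap Γ(Curv2.bc k X K, g ⁻¹ᵁ U) ((Curv2.bc k X K).presheaf.stalk y)).comp
      (algebraMap Γ(X, U) Γ(Curv2.bc k X K, g ⁻¹ᵁ U))).toAlgebra
  have ht3 : IsScalarTower Γ(X, U) Γ(Curv2.bc k X K, g ⁻¹ᵁ U)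
      ((Curv2.bc k X K).presheaf.stalk y) :=
    IsScalarTower.of_algebraMap_eq fun _ => rfl
  have ht4 : IsScalarTower Γ(X, U) (X.presheaf.stalk (g y))
      ((Curv2.bc k X K).presheaf.stalk y) :=
    IsScalarTower.of_algebraMap_eq fun r =>
      Groth.Agent.Lib.Helper8.FlatAffine.germ_appLE g (le_refl (g ⁻¹ᵁ U)) y hyW r
  obtain ⟨ι, hι⟩ := exists_algHom_residueField k X hU (g y) hxU
  have hrad := isRadical_map_of_isPushout' (k := k) (L := K)
    (R'' := Γ(Curv2.bc k X K, g ⁻¹ᵁ U)) (hU.primeIdealOf ⟨g y, hxU⟩).asIdeal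
    (X.residueField (g y)) ι hι hred
  exact map_maximalIdeal_eq (hW.primeIdealOf ⟨y, hyW⟩).asIdeal
    (hU.primeIdealOf ⟨g y, hxU⟩).asIdeal hprime _ _ hrad hdim

end main

end Groth.Agent.Lib.Helper9.MaxExt
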