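import Mathlib
import Groth.Prelude.Def_EtMil
import Groth.Agent.Lib.Helper12.Mil5
import Groth.Agent.Lib.Lead.Milnor
import Groth.Agent.S6917

set_option autoImplicit false
set_option linter.unusedSectionVars false
universe u
open TensorProduct Function

namespace Groth.Agent.Lib.Helper9.MilAlg

open Groth.Agent.S6917 (exists_pair pair_ext psi_surj sq_comm)

variable {B' B A' A : Type u} [CommRing B'] [CommRing B] [CommRing A'] [CommRing A]
    [Algebra B' B] [Algebra B' A'] [Algebra B A] [Algebra A' A] [Algebra B' A] [IsScalarTower B' B A] [IsScalarTower B' A' A]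
    (hsq : EtMil.IsFibreSquare B' B A' A)
    {D' D C' : Type u} (C : Type u) [CommRing D'] [CommRing D] [CommRing C'] [CommRing C]
    [Algebra D' D] [Algebra D' C'] [Algebra D C] [Algebra C' C] [Algebra D' C] [IsScalarTower D' D C] [IsScalarTower D' C' C]
    (hsq' : EtMil.IsFibreSquare D' D C' C)
    [Algebra B' D'] [Algebra B D] [Algebra A' C'] [Algebra A C]
    [Algebra B' D] [IsScalarTower B' B D] [IsScalarTower B' D' D]
    [Algebra B' C'] [IsScalarTower B' A' C'] [IsScalarTower B' D' C']
    [Algebra B C] [IsScalarTower B A C] [IsScalarTower B D C]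
    [Algebra A' C] [IsScalarTower A' A C] [IsScalarTower A' C' C]
    [Algebra.IsPushout B D A C] [Algebra.IsPushout A' C' A C]

/-- the glueing isomorphism `A ⊗_B D ≅ C ≅ A ⊗_{A'} C'` -/
noncomputable def phi : A ⊗[B] D ≃ₗ[A] A ⊗[A'] C' :=
  haveI : Algebra.IsPushout B A D C := Algebra.IsPushout.symm inferInstance
  haveI : Algebra.IsPushout A' A C' C := Algebra.IsPushout.symm inferInstance
  (Algebra.IsPushout.equiv B A D C).toLinearEquiv ≪≫ₗ
    (Algebra.IsPushout.equiv A' A C' C).symm.toLinearEquiv

theorem mem_glue_iff (x : D × C') :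
    x ∈ EtMil.glue B' (phi (B := B) (A' := A') (A := A) (D := D) (C' := C') C) ↔
      algebraMap D C x.1 = algebraMap C' C x.2 := by
  have : Algebra.IsPushout B A D C := Algebra.IsPushout.symm inferInstance
  have : Algebra.IsPushout A' A C' C := Algebra.IsPushout.symm inferInstance
  change (phi C) ((1 : A) ⊗ₜ[B] x.1) = (1 : A) ⊗ₜ[A'] x.2 ↔ _
  unfold phi
  rw [LinearEquiv.trans_apply]
  simp only [AlgEquiv.toLinearEquiv_apply]
  rw [AlgEquiv.symm_apply_eq, Algebra.IsPushout.equiv_tmul, Algebra.IsPushout.equiv_tmul, map_one,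
    one_mul, one_mul]

/-- `D' → D ×_C C'` as a map to the glued module -/
noncomputable def toGlue :
    D' →ₗ[B'] EtMil.glue B' (phi (B := B) (A' := A') (A := A) (D := D) (C' := C') C) :=
  LinearMap.codRestrict _
    ((IsScalarTower.toAlgHom B' D' D).toLinearMap.prod (IsScalarTower.toAlgHom B' D' C').toLinearMap)
    (by
      intro d'
      rw [mem_glue_iff]
      exact sq_comm D C' C d')

theorem toGlue_apply (d' : D') :
    ((toGlue (B' := B') (B := B) (A' := A') (A := A) C d' : EtMil.glue B' (phi (B := B) (A' := A') (A := A) (D := D) (C' := C') C)) : D × C') =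
      (algebraMap D' D d', algebraMap D' C' d') := rfl

include hsq' in
theorem toGlue_bijective :
    Bijective (toGlue (B' := B') (B := B) (A' := A') (A := A) (D' := D') (D := D) (C' := C') C) := by
  constructor
  · intro x y h
    have h1 := congrArg Subtype.val h
    rw [toGlue_apply, toGlue_apply, Prod.mk.injEq] at h1
    exact pair_ext hsq' x y h1.1 h1.2
  · rintro ⟨⟨d, c'⟩, h⟩
    rw [mem_glue_iff] at h
    obtain ⟨d', h1, h2⟩ := exists_pair hsq' d c' h
    refine ⟨d', Subtype.ext ?_⟩
    rw [toGlue_apply, h1, h2]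

/-- `D' ≃ D ×_C C'` -/
noncomputable def glueEquiv :
    D' ≃ₗ[B'] EtMil.glue B' (phi (B := B) (A' := A') (A := A) (D := D) (C' := C') C) :=
  LinearEquiv.ofBijective _ (toGlue_bijective (B' := B') (B := B) (A' := A') (A := A) C hsq')

theorem glueEquiv_apply (d' : D') :
    ((glueEquiv (B' := B') (B := B) (A' := A') (A := A) C hsq' d' :
      EtMil.glue B' (phi (B := B) (A' := A') (A := A) (D := D) (C' := C') C)) : D × C') =
      (algebraMap D' D d', algebraMap D' C' d') := rfl

theorem baseChange_equiv_bijective {R S M N : Type*} [CommRing R] [CommRing S] [Algebra R S]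
    [AddCommGroup M] [Module R M] [AddCommGroup N] [Module R N] (e : M ≃ₗ[R] N) :
    Bijective (LinearMap.baseChange S e.toLinearMap) := by
  have : ⇑(LinearMap.baseChange S e.toLinearMap) = ⇑(LinearEquiv.lTensor S e) := by
    rw [LinearMap.baseChange_eq_ltensor]; rfl
  rw [this]; exact (LinearEquiv.lTensor S e).bijective

include hsq hsq' in
theorem fst_bijective :
    Bijective (LinearMap.liftBaseChange B (IsScalarTower.toAlgHom B' D' D).toLinearMap) := by
  have h1 := (Groth.Agent.Lib.Helper12.Mil.glue_baseChange_bijective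
    (phi (B := B) (A' := A') (A := A) (D := D) (C' := C') C) hsq).1
  have h2 : LinearMap.liftBaseChange B (IsScalarTower.toAlgHom B' D' D).toLinearMap =
      (LinearMap.liftBaseChange B (EtMil.glueFst B' (phi (B := B) (A' := A') (A := A) (D := D) (C' := C') C))) ∘ₗ
        ((glueEquiv (B' := B') (B := B) (A' := A') (A := A) C hsq').toLinearMap.baseChange B) := by
    apply TensorProduct.AlgebraTensorModule.ext
    intro b d'
    simp [EtMil.glueFst, glueEquiv_apply]
  rw [h2, LinearMap.coe_comp]
  exact h1.comp (baseChange_equiv_bijective _)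

include hsq hsq' in
theorem snd_bijective :
    Bijective (LinearMap.liftBaseChange A' (IsScalarTower.toAlgHom B' D' C').toLinearMap) := by
  have h1 := (Groth.Agent.Lib.Helper12.Mil.glue_baseChange_bijective
    (phi (B := B) (A' := A') (A := A) (D := D) (C' := C') C) hsq).2
  have h2 : LinearMap.liftBaseChange A' (IsScalarTower.toAlgHom B' D' C').toLinearMap =
      (LinearMap.liftBaseChange A' (EtMil.glueSnd B' (phi (B := B) (A' := A') (A := A) (D := D) (C' := C') C))) ∘ₗ
        ((glueEquiv (B' := B') (B := B) (A' := A') (A := A) C hsq').toLinearMap.baseChange A') := by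
    apply TensorProduct.AlgebraTensorModule.ext
    intro b d'
    simp [EtMil.glueSnd, glueEquiv_apply]
  rw [h2, LinearMap.coe_comp]
  exact h1.comp (baseChange_equiv_bijective _)

include hsq hsq' in
theorem isPushout_fst : Algebra.IsPushout B' B D' D := by
  constructor
  exact IsBaseChange.of_equiv (LinearEquiv.ofBijective _ (fst_bijective hsq C hsq'))
    (fun d' => by simp)

include hsq hsq' in
theorem isPushout_snd : Algebra.IsPushout B' A' D' C' := by
  constructor
  exact IsBaseChange.of_equiv (LinearEquiv.ofBijective _ (snd_bijective hsq C hsq'))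
    (fun d' => by simp)

end Groth.Agent.Lib.Helper9.MilAlg
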