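import Mathlib
import Groth.Prelude.Def_EtMil
import Groth.Agent.Lib.Helper12.Mil7
import Groth.Agent.Lib.Helper9.MilAlg1

set_option autoImplicit false
set_option linter.unusedSectionVars false
universe u
open TensorProduct Function
open scoped Pointwise

namespace Groth.Agent.Lib.Helper9.MilAlg

open Groth.Agent.S6917 (exists_pair pair_ext psi_surj sq_comm exists_zero_pair)
open Groth.Agent.Lib.Helper26.FibreSquareKer (mem_smul_top_of_tmul_eq_zero)

section FT

variable {B' B A' A : Type u} [CommRing B'] [CommRing B] [CommRing A'] [CommRing A]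
    [Algebra B' B] [Algebra B' A'] [Algebra B A] [Algebra A' A] [Algebra B' A] [IsScalarTower B' B A] [IsScalarTower B' A' A]
    (hsq : EtMil.IsFibreSquare B' B A' A)
    {D' D C' C : Type u} [CommRing D'] [CommRing D] [CommRing C'] [CommRing C]
    [Algebra D' D] [Algebra D' C'] [Algebra D C] [Algebra C' C] [Algebra D' C] [IsScalarTower D' D C] [IsScalarTower D' C' C]
    (hsq' : EtMil.IsFibreSquare D' D C' C)
    [Algebra B' D'] [Algebra B D] [Algebra A' C']
    [Algebra B' D] [IsScalarTower B' B D] [IsScalarTower B' D' D]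
    [Algebra B' C'] [IsScalarTower B' A' C'] [IsScalarTower B' D' C']
    [Algebra.IsPushout B' B D' D] [Algebra.IsPushout B' A' D' C']

variable (B') in
include B' in
/-- every element of `C'` is an `A'`-combination of images of finitely many elements of `D'` -/
theorem exists_finset_span (c' : C') :
    ∃ T : Finset D', c' ∈ Submodule.span A' ((algebraMap D' C') '' (T : Set D')) := by
  classical
  refine Groth.Agent.Lib.Helper12.Mil7.pushout_induction B' (S := A') (R' := D')
    (P := fun c' => ∃ T : Finset D', c' ∈ Submodule.span A' ((algebraMap D' C') '' (T : Set D')))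
    ⟨∅, Submodule.zero_mem _⟩ ?_ ?_ c'
  · rintro x y ⟨T₁, h₁⟩ ⟨T₂, h₂⟩
    refine ⟨T₁ ∪ T₂, Submodule.add_mem _ ?_ ?_⟩
    · refine Submodule.span_mono (Set.image_mono ?_) h₁
      exact_mod_cast Finset.subset_union_left
    · refine Submodule.span_mono (Set.image_mono ?_) h₂
      exact_mod_cast Finset.subset_union_right
  · intro a' d'
    refine ⟨{d'}, ?_⟩
    rw [← Algebra.smul_def]
    refine Submodule.smul_mem _ _ (Submodule.subset_span ⟨d', ?_, rfl⟩)
    simp

include hsq hsq' in
theorem finiteType_of_sides [Algebra.FiniteType B D] [Algebra.FiniteType A' C'] :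
    Algebra.FiniteType B' D' := by
  classical
  have hsurjB : Surjective (algebraMap B' B) := psi_surj hsq
  have hsurjD : Surjective (algebraMap D' D) := psi_surj hsq'
  have hBD : Algebra.FiniteType B' D :=
    Algebra.FiniteType.trans (Algebra.FiniteType.of_surjective (Algebra.ofId B' B) hsurjB)
      inferInstance
  obtain ⟨sD, hsD⟩ := hBD.out
  obtain ⟨sC, hsC⟩ := (inferInstance : Algebra.FiniteType A' C').out
  choose ℓ hℓ using hsurjD
  choose TC hTC using exists_finset_span B' (A' := A') (D' := D') (C' := C')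
  set T : Finset D' := sD.image ℓ ∪ sC.biUnion TC with hT
  set E' : Subalgebra B' D' := Algebra.adjoin B' (T : Set D') with hE'
  -- (a) E' maps onto D
  have ha : ∀ d : D, ∃ e ∈ E', algebraMap D' D e = d := by
    have h1 : (⊤ : Subalgebra B' D) ≤ E'.map (IsScalarTower.toAlgHom B' D' D) := by
      rw [← hsD, hE', AlgHom.map_adjoin]
      apply Algebra.adjoin_mono
      intro d hd
      refine ⟨ℓ d, ?_, hℓ d⟩
      rw [hT, Finset.coe_union]
      exact Or.inl (by exact_mod_cast Finset.mem_image_of_mem ℓ hd)
    intro d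
    obtain ⟨e, he, hed⟩ := h1 (Algebra.mem_top : d ∈ (⊤ : Subalgebra B' D))
    exact ⟨e, he, hed⟩
  -- (b) the A'-span of the image of E' in C' is everything
  set S : Set C' := (algebraMap D' C') '' (E' : Set D') with hS
  have hSS : S * S ⊆ S := by
    rintro _ ⟨_, ⟨x, hx, rfl⟩, _, ⟨y, hy, rfl⟩, rfl⟩
    exact ⟨x * y, E'.mul_mem hx hy, map_mul _ _ _⟩
  have hb : ∀ c' : C', c' ∈ Submodule.span A' S := by
    intro c'
    have hc' : c' ∈ Algebra.adjoin A' (sC : Set C') := by rw [hsC]; exact Algebra.mem_top
    induction hc' using Algebra.adjoin_induction with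
    | mem x hx =>
      refine Submodule.span_mono (Set.image_mono ?_) (hTC x)
      intro t ht
      apply Algebra.subset_adjoin
      rw [hT, Finset.coe_union]
      refine Or.inr ?_
      have : t ∈ sC.biUnion TC := Finset.mem_biUnion.mpr ⟨x, hx, ht⟩
      exact_mod_cast this
    | algebraMap a' =>
      rw [Algebra.algebraMap_eq_smul_one]
      refine Submodule.smul_mem _ _ (Submodule.subset_span ⟨1, E'.one_mem, map_one _⟩)
    | add x y _ _ hx hy => exact Submodule.add_mem _ hx hy
    | mul x y _ _ hx hy =>
      have := Submodule.mul_mem_mul hx hy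
      rw [Submodule.span_mul_span] at this
      exact Submodule.span_mono hSS this
  -- (c) `j • d' ∈ E'` for `j` in the kernel of `B' → B`
  have hc0 : ∀ c' ∈ Submodule.span A' S, ∀ j : B', algebraMap B' B j = 0 →
      ∃ e ∈ E', algebraMap D' D e = 0 ∧
        algebraMap D' C' e = algebraMap A' C' (algebraMap B' A' j) * c' := by
    intro c' hc'
    induction hc' using Submodule.span_induction with
    | mem x hx =>
      obtain ⟨e₀, he₀, rfl⟩ := hx
      intro j hj
      refine ⟨j • e₀, E'.smul_mem he₀ j, ?_, ?_⟩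
      · rw [Algebra.smul_def, map_mul, ← IsScalarTower.algebraMap_apply,
          IsScalarTower.algebraMap_apply B' B D, hj, map_zero, zero_mul]
      · rw [Algebra.smul_def, map_mul, ← IsScalarTower.algebraMap_apply,
          IsScalarTower.algebraMap_apply B' A' C']
    | zero => intro j _; exact ⟨0, E'.zero_mem, map_zero _, by rw [map_zero, mul_zero]⟩
    | add x y _ _ hx hy =>
      intro j hj
      obtain ⟨e₁, he₁, h1, h1'⟩ := hx j hj
      obtain ⟨e₂, he₂, h2, h2'⟩ := hy j hj
      exact ⟨e₁ + e₂, E'.add_mem he₁ he₂, by rw [map_add, h1, h2, add_zero],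
        by rw [map_add, h1', h2', mul_add]⟩
    | smul a' x _ hx =>
      intro j hj
      obtain ⟨j₂, hj₂, hj₂'⟩ := exists_zero_pair hsq j hj a'
      obtain ⟨e, he, h1, h1'⟩ := hx j₂ hj₂
      refine ⟨e, he, h1, ?_⟩
      rw [h1', hj₂', map_mul, Algebra.smul_def, mul_assoc]
  have hc : ∀ (j : B'), algebraMap B' B j = 0 → ∀ d' : D', j • d' ∈ E' := by
    intro j hj d'
    obtain ⟨e, he, h1, h2⟩ := hc0 (algebraMap D' C' d') (hb _) j hj
    have : j • d' = e := by
      apply pair_ext hsq'
      · rw [h1, Algebra.smul_def, map_mul, ← IsScalarTower.algebraMap_apply,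
          IsScalarTower.algebraMap_apply B' B D, hj, map_zero, zero_mul]
      · rw [h2, Algebra.smul_def, map_mul, ← IsScalarTower.algebraMap_apply,
          IsScalarTower.algebraMap_apply B' A' C']
    rw [this]; exact he
  -- (d) the kernel of `D' → D` lies in `E'`
  have hd : ∀ x : D', algebraMap D' D x = 0 → x ∈ E' := by
    intro x hx
    have h1 : ((1 : B) ⊗ₜ[B'] x : B ⊗[B'] D') = 0 := by
      apply (Algebra.IsPushout.equiv B' B D' D).injective
      rw [Algebra.IsPushout.equiv_tmul, map_one, one_mul, hx, map_zero]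
    have h2 := mem_smul_top_of_tmul_eq_zero hsurjB x h1
    refine Submodule.smul_induction_on (p := fun x => x ∈ E') h2 ?_ ?_
    · intro j hj d' _
      exact hc j (RingHom.mem_ker.mp hj) d'
    · intro x y hx hy
      exact E'.add_mem hx hy
  refine ⟨⟨T, ?_⟩⟩
  rw [← hE', eq_top_iff]
  intro d' _
  obtain ⟨e, he, hed⟩ := ha (algebraMap D' D d')
  have := hd (d' - e) (by rw [map_sub, hed, sub_self])
  have h3 := E'.add_mem this he
  rwa [sub_add_cancel] at h3

end FT

end Groth.Agent.Lib.Helper9.MilAlg
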