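import Mathlib
import Groth.Prelude.Def_EtMil
import Groth.Agent.Lib.Helper26.FibreSquareKer

set_option autoImplicit false
set_option linter.unusedSectionVars false
universe u
open TensorProduct Function

namespace Groth.Agent.Lib.Helper9.MilAlg

open Groth.Agent.Lib.Helper26.FibreSquareKer (subsingleton_of_baseChange)

section FP

theorem exists_finset_ker {R : Type u} [CommRing R] {P D' : Type u} [CommRing P] [CommRing D']
    [Algebra R P] [Algebra R D'] [Algebra.FinitePresentation R P]
    (p : P →ₐ[R] D') (hp : Surjective p)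
    (S : Type u) [CommRing S] [Algebra R S] [Algebra.FinitePresentation S (S ⊗[R] D')] :
    ∃ K₁ : Finset P, (K₁ : Set P) ⊆ RingHom.ker p ∧
      RingHom.ker (Algebra.TensorProduct.map (AlgHom.id S S) p) =
        Ideal.span ((Algebra.TensorProduct.includeRight : P →ₐ[R] S ⊗[R] P) '' (K₁ : Set P)) := by
  classical
  have hsurj : Surjective (Algebra.TensorProduct.map (AlgHom.id S S) p) :=
    Algebra.TensorProduct.map_surjective _ _ (fun x => ⟨x, rfl⟩) hp
  have hfg : (RingHom.ker (Algebra.TensorProduct.map (AlgHom.id S S) p)).FG :=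
    Algebra.FinitePresentation.ker_fG_of_surjective _ hsurj
  have hker : RingHom.ker (Algebra.TensorProduct.map (AlgHom.id S S) p) =
      (RingHom.ker p).map (Algebra.TensorProduct.includeRight : P →ₐ[R] S ⊗[R] P) :=
    Algebra.TensorProduct.lTensor_ker p hp
  rw [hker] at hfg ⊢
  rw [Ideal.map] at hfg ⊢
  obtain ⟨s', hs', hspan⟩ := (Submodule.fg_span_iff_fg_span_finset_subset _).mp hfg
  obtain ⟨K₁, hK₁, rfl⟩ := Finset.subset_set_image_iff.mp hs'
  refine ⟨K₁, hK₁, ?_⟩
  rw [Ideal.span, hspan, Finset.coe_image]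

theorem subsingleton_tensor_ker {R : Type u} [CommRing R] {P D' : Type u} [CommRing P] [CommRing D']
    [Algebra R P] [Algebra R D'] [Algebra.FinitePresentation R P] [Module.Flat R D']
    (p : P →ₐ[R] D') (hp : Surjective p)
    (S : Type u) [CommRing S] [Algebra R S] [Algebra.FinitePresentation S (S ⊗[R] D')] :
    ∃ K₁ : Finset P, (K₁ : Set P) ⊆ RingHom.ker p ∧
      ∀ (K'' : Ideal P) (_ : (K₁ : Set P) ⊆ K'') (h2 : ∀ a ∈ K'', p a = 0),
        Subsingleton (S ⊗[R] (LinearMap.ker (Ideal.Quotient.liftₐ K'' p h2).toLinearMap)) := by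
  obtain ⟨K₁, hK₁, hker⟩ := exists_finset_ker p hp S
  refine ⟨K₁, hK₁, ?_⟩
  intro K'' h1 h2
  set r : (P ⧸ K'') →ₐ[R] D' := Ideal.Quotient.liftₐ K'' p h2 with hr
  set gE : S ⊗[R] P →ₐ[S] S ⊗[R] (P ⧸ K'') :=
    Algebra.TensorProduct.map (AlgHom.id S S) (Ideal.Quotient.mkₐ R K'') with hgE
  set gr : S ⊗[R] (P ⧸ K'') →ₐ[S] S ⊗[R] D' :=
    Algebra.TensorProduct.map (AlgHom.id S S) r with hgr
  have hrmk : ∀ x, r (Ideal.Quotient.mk K'' x) = p x := fun x => rfl
  have hcomp : ∀ y, gr (gE y) = Algebra.TensorProduct.map (AlgHom.id S S) p y := by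
    intro y
    induction y using TensorProduct.induction_on with
    | zero => simp
    | add x y hx hy => rw [map_add, map_add, map_add, hx, hy]
    | tmul s x =>
      rw [hgE, hgr, Algebra.TensorProduct.map_tmul, Algebra.TensorProduct.map_tmul,
        Algebra.TensorProduct.map_tmul, Ideal.Quotient.mkₐ_eq_mk, hrmk]
      rfl
  have hgE_surj : Surjective gE :=
    Algebra.TensorProduct.map_surjective _ _ (fun x => ⟨x, rfl⟩) Ideal.Quotient.mk_surjective
  have hle : RingHom.ker (Algebra.TensorProduct.map (AlgHom.id S S) p) ≤ RingHom.ker gE := by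
    rw [hker, Ideal.span_le]
    rintro _ ⟨k, hk, rfl⟩
    rw [SetLike.mem_coe, RingHom.mem_ker]
    simp only [hgE, Algebra.TensorProduct.includeRight_apply, Algebra.TensorProduct.map_tmul,
      Ideal.Quotient.mkₐ_eq_mk]
    rw [Ideal.Quotient.eq_zero_iff_mem.mpr (h1 hk), TensorProduct.tmul_zero]
  have hgr_inj : Injective gr := by
    rw [injective_iff_map_eq_zero]
    intro x hx
    obtain ⟨y, rfl⟩ := hgE_surj x
    rw [hcomp] at hx
    exact hle hx
  have hlin : Injective (LinearMap.lTensor S r.toLinearMap) := hgr_inj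
  have hflat : Injective ((LinearMap.ker r.toLinearMap).subtype.lTensor S) :=
    LinearMap.lTensor_injective_of_exact_of_flat r.toLinearMap
      (by
        intro d
        obtain ⟨x, rfl⟩ := hp d
        exact ⟨Ideal.Quotient.mk K'' x, hrmk x⟩)
      (LinearMap.ker r.toLinearMap).subtype (Submodule.injective_subtype _)
      (LinearMap.exact_subtype_ker_map _) S
  refine ⟨fun x y => ?_⟩
  apply hflat
  apply hlin
  rw [← LinearMap.comp_apply, ← LinearMap.comp_apply, ← LinearMap.lTensor_comp]
  have : r.toLinearMap ∘ₗ (LinearMap.ker r.toLinearMap).subtype = 0 := by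
    ext x; exact x.2
  rw [this, LinearMap.lTensor_zero, LinearMap.zero_apply, LinearMap.zero_apply]

variable {B' B A' A : Type u} [CommRing B'] [CommRing B] [CommRing A'] [CommRing A]
    [Algebra B' B] [Algebra B' A'] [Algebra B A] [Algebra A' A] [Algebra B' A] [IsScalarTower B' B A] [IsScalarTower B' A' A]
    (hsq : EtMil.IsFibreSquare B' B A' A)

include hsq in
theorem fp_of_baseChange (D' : Type u) [CommRing D'] [Algebra B' D'] [Module.Flat B' D']
    [Algebra.FiniteType B' D'] [Algebra.FinitePresentation B (B ⊗[B'] D')]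
    [Algebra.FinitePresentation A' (A' ⊗[B'] D')] : Algebra.FinitePresentation B' D' := by
  classical
  obtain ⟨n, p, hp⟩ := Algebra.FiniteType.iff_quotient_mvPolynomial''.mp
    (inferInstance : Algebra.FiniteType B' D')
  obtain ⟨K₁, hK₁, H₁⟩ := subsingleton_tensor_ker p hp B
  obtain ⟨K₂, hK₂, H₂⟩ := subsingleton_tensor_ker p hp A'
  set K'' : Ideal (MvPolynomial (Fin n) B') := Ideal.span ((K₁ ∪ K₂ : Finset _) : Set _) with hK''
  have h2 : ∀ a ∈ K'', p a = 0 := by
    intro a ha
    have : K'' ≤ RingHom.ker p := by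
      rw [hK'', Ideal.span_le, Finset.coe_union]
      exact Set.union_subset hK₁ hK₂
    exact this ha
  have h1 : (K₁ : Set _) ⊆ (K'' : Set (MvPolynomial (Fin n) B')) := by
    intro x hx
    apply Ideal.subset_span
    rw [Finset.coe_union]; exact Or.inl hx
  have h1' : (K₂ : Set _) ⊆ (K'' : Set (MvPolynomial (Fin n) B')) := by
    intro x hx
    apply Ideal.subset_span
    rw [Finset.coe_union]; exact Or.inr hx
  have s1 := H₁ K'' h1 h2
  have s2 := H₂ K'' h1' h2
  have s3 := subsingleton_of_baseChange hsq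
    (LinearMap.ker (Ideal.Quotient.liftₐ K'' p h2).toLinearMap)
  have hinj : Injective (Ideal.Quotient.liftₐ K'' p h2) := by
    rw [injective_iff_map_eq_zero]
    intro x hx
    have : (⟨x, hx⟩ : LinearMap.ker (Ideal.Quotient.liftₐ K'' p h2).toLinearMap) = 0 :=
      Subsingleton.elim _ _
    exact congrArg Subtype.val this
  have hsurj : Surjective (Ideal.Quotient.liftₐ K'' p h2) := by
    intro d
    obtain ⟨x, rfl⟩ := hp d
    exact ⟨Ideal.Quotient.mk K'' x, rfl⟩
  have hfp : Algebra.FinitePresentation B' (MvPolynomial (Fin n) B' ⧸ K'') :=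
    Algebra.FinitePresentation.quotient ⟨K₁ ∪ K₂, rfl⟩
  exact Algebra.FinitePresentation.equiv (AlgEquiv.ofBijective _ ⟨hinj, hsurj⟩)

end FP

end Groth.Agent.Lib.Helper9.MilAlg
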