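import Mathlib
import Groth.Prelude.Def_EtMil
import Groth.Agent.S6917

set_option autoImplicit false
set_option linter.unusedSectionVars false
universe u
open TensorProduct Function

namespace Groth.Agent.Lib.Helper9.MilAlg

open Groth.Agent.S6917 (exists_pair pair_ext psi_surj sq_comm exists_zero_pair exists_prime_over)

section Fib

theorem formallySmooth_fiber_of_field {R S : Type u} [CommRing R] [CommRing S] [Algebra R S]
    (p : Ideal R) [p.IsPrime] (R₁ : Type u) [CommRing R₁] [Algebra R R₁]
    [Algebra.Smooth R₁ (R₁ ⊗[R] S)]
    (L : Type u) [Field L] [Algebra R₁ L] [Algebra R L] [IsScalarTower R R₁ L]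
    (hker : RingHom.ker (algebraMap R L) = p) :
    Algebra.FormallySmooth p.ResidueField (p.ResidueField ⊗[R] S) := by
  let g : p.ResidueField →+* L := Ideal.ResidueField.lift p (algebraMap R L) (by rw [hker])
    (by
      intro x hx
      rw [Submonoid.mem_comap, IsUnit.mem_submonoid_iff]
      apply IsUnit.mk0
      intro h0
      apply hx
      rw [← hker]; exact h0)
  let _ : Algebra p.ResidueField L := g.toAlgebra
  have : IsScalarTower R p.ResidueField L := IsScalarTower.of_algebraMap_eq (fun x => by
    change _ = g (algebraMap R p.ResidueField x)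
    exact (Ideal.ResidueField.lift_algebraMap _ _ _ _ x).symm)
  have h1 : Algebra.Smooth L (L ⊗[R₁] (R₁ ⊗[R] S)) := inferInstance
  have h2 : Algebra.Smooth L (L ⊗[R] S) :=
    .of_equiv (Algebra.TensorProduct.cancelBaseChange R R₁ L L S)
  have h3 : Algebra.Smooth L (L ⊗[p.ResidueField] (p.ResidueField ⊗[R] S)) :=
    .of_equiv (Algebra.TensorProduct.cancelBaseChange R p.ResidueField L L S).symm
  have h4 : Algebra.Smooth p.ResidueField (p.ResidueField ⊗[R] S) :=
    Algebra.Smooth.of_smooth_tensorProduct_of_faithfullyFlat L
  exact h4.formallySmooth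

variable {B' B A' A : Type u} [CommRing B'] [CommRing B] [CommRing A'] [CommRing A]
    [Algebra B' B] [Algebra B' A'] [Algebra B A] [Algebra A' A] [Algebra B' A] [IsScalarTower B' B A] [IsScalarTower B' A' A]
    (hsq : EtMil.IsFibreSquare B' B A' A)

include hsq in
theorem smooth_of_baseChange (D' : Type u) [CommRing D'] [Algebra B' D']
    [Algebra.Smooth B (B ⊗[B'] D')] [Algebra.Smooth A' (A' ⊗[B'] D')]
    [Module.Flat B' D'] [Algebra.FinitePresentation B' D'] : Algebra.Smooth B' D' := by
  apply Algebra.Smooth.of_formallySmooth_fiber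
  intro I hI
  by_cases hJ : RingHom.ker (algebraMap B' B) ≤ I
  · -- the prime comes from `B`
    have hle : RingHom.ker (algebraMap B' B) ≤ RingHom.ker (algebraMap B' I.ResidueField) := by
      rw [Ideal.ker_algebraMap_residueField]; exact hJ
    let h : B →+* I.ResidueField :=
      RingHom.liftOfSurjective (algebraMap B' B) (psi_surj hsq) ⟨algebraMap B' I.ResidueField, hle⟩
    let _ : Algebra B I.ResidueField := h.toAlgebra
    have : IsScalarTower B' B I.ResidueField := IsScalarTower.of_algebraMap_eq (fun x => by
      change _ = h (algebraMap B' B x)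
      exact (RingHom.liftOfRightInverse_comp_apply (algebraMap B' B) _ _
        ⟨algebraMap B' I.ResidueField, hle⟩ x).symm)
    exact formallySmooth_fiber_of_field I B I.ResidueField (Ideal.ker_algebraMap_residueField I)
  · -- the prime comes from `A'`
    obtain ⟨e, he, heI⟩ := SetLike.not_le_iff_exists.mp hJ
    obtain ⟨y, hy, hyI, -⟩ := exists_prime_over hsq I e (RingHom.mem_ker.mp he) heI
    let _ : Algebra B' y.ResidueField :=
      ((algebraMap A' y.ResidueField).comp (algebraMap B' A')).toAlgebra
    have : IsScalarTower B' A' y.ResidueField := IsScalarTower.of_algebraMap_eq (fun x => rfl)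
    refine formallySmooth_fiber_of_field I A' y.ResidueField ?_
    change RingHom.ker ((algebraMap A' y.ResidueField).comp (algebraMap B' A')) = I
    rw [← RingHom.comap_ker, Ideal.ker_algebraMap_residueField, hyI]

end Fib

end Groth.Agent.Lib.Helper9.MilAlg
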