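import Mathlib
import Groth.Prelude.Def_EtMil
import Groth.Agent.Lib.Helper9.MilAlg1
import Groth.Agent.Lib.Helper9.MilAlg2
import Groth.Agent.Lib.Helper9.MilAlg3
import Groth.Agent.Lib.Helper9.MilAlg4

set_option autoImplicit false
set_option linter.unusedSectionVars false
universe u
open TensorProduct Function

namespace Groth.Agent.Lib.Helper9.MilAlg

open Groth.Agent.Lib.Helper26.FibreSquareKer (subsingleton_of_baseChange)

theorem main (B' B A' A : Type u) [CommRing B'] [CommRing B] [CommRing A'] [CommRing A]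
    [Algebra B' B] [Algebra B' A'] [Algebra B A] [Algebra A' A] [Algebra B' A] [IsScalarTower B' B A] [IsScalarTower B' A' A]
    (hsq : EtMil.IsFibreSquare B' B A' A)
    (D' D C' C : Type u) [CommRing D'] [CommRing D] [CommRing C'] [CommRing C]
    [Algebra D' D] [Algebra D' C'] [Algebra D C] [Algebra C' C] [Algebra D' C] [IsScalarTower D' D C] [IsScalarTower D' C' C]
    (hsq' : EtMil.IsFibreSquare D' D C' C)
    [Algebra B' D'] [Algebra B D] [Algebra A' C'] [Algebra A C]
    [Algebra B' D] [IsScalarTower B' B D] [IsScalarTower B' D' D]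
    [Algebra B' C'] [IsScalarTower B' A' C'] [IsScalarTower B' D' C']
    [Algebra B C] [IsScalarTower B A C] [IsScalarTower B D C]
    [Algebra A' C] [IsScalarTower A' A C] [IsScalarTower A' C' C]
    [Algebra.IsPushout B D A C] [Algebra.IsPushout A' C' A C] :
    (Algebra.FiniteType B' D' ↔ Algebra.FiniteType B D ∧ Algebra.FiniteType A' C') ∧
    (Module.Flat B' D' ↔ Module.Flat B D ∧ Module.Flat A' C') ∧
    (Module.Flat B' D' ∧ Algebra.FinitePresentation B' D' ↔
      (Module.Flat B D ∧ Algebra.FinitePresentation B D) ∧ (Module.Flat A' C' ∧ Algebra.FinitePresentation A' C')) ∧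
    (Algebra.Smooth B' D' ↔ Algebra.Smooth B D ∧ Algebra.Smooth A' C') ∧
    (Algebra.Etale B' D' ↔ Algebra.Etale B D ∧ Algebra.Etale A' C') := by
  have hP1 : Algebra.IsPushout B' B D' D := isPushout_fst hsq C hsq'
  have hP2 : Algebra.IsPushout B' A' D' C' := isPushout_snd hsq C hsq'
  let e1 : B ⊗[B'] D' ≃ₐ[B] D := Algebra.IsPushout.equiv B' B D' D
  let e2 : A' ⊗[B'] D' ≃ₐ[A'] C' := Algebra.IsPushout.equiv B' A' D' C'
  have FT : Algebra.FiniteType B' D' ↔ Algebra.FiniteType B D ∧ Algebra.FiniteType A' C' := by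
    constructor
    · intro h
      exact ⟨(inferInstance : Algebra.FiniteType B (B ⊗[B'] D')).equiv e1,
        (inferInstance : Algebra.FiniteType A' (A' ⊗[B'] D')).equiv e2⟩
    · rintro ⟨h1, h2⟩
      exact finiteType_of_sides hsq hsq'
  have FL : Module.Flat B' D' ↔ Module.Flat B D ∧ Module.Flat A' C' := by
    constructor
    · intro h
      exact ⟨Module.Flat.of_linearEquiv e1.symm.toLinearEquiv,
        Module.Flat.of_linearEquiv e2.symm.toLinearEquiv⟩
    · rintro ⟨h1, h2⟩
      have : Module.Flat B (B ⊗[B'] D') := Module.Flat.of_linearEquiv e1.toLinearEquiv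
      have : Module.Flat A' (A' ⊗[B'] D') := Module.Flat.of_linearEquiv e2.toLinearEquiv
      exact Groth.Agent.Lib.Helper12.Mil.flat_of_fibreSquare hsq D'
  have FP : Module.Flat B' D' ∧ Algebra.FinitePresentation B' D' ↔
      (Module.Flat B D ∧ Algebra.FinitePresentation B D) ∧
        (Module.Flat A' C' ∧ Algebra.FinitePresentation A' C') := by
    constructor
    · rintro ⟨h1, h2⟩
      obtain ⟨f1, f2⟩ := FL.mp h1
      exact ⟨⟨f1, Algebra.FinitePresentation.equiv e1⟩, ⟨f2, Algebra.FinitePresentation.equiv e2⟩⟩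
    · rintro ⟨⟨f1, p1⟩, ⟨f2, p2⟩⟩
      have hfl : Module.Flat B' D' := FL.mpr ⟨f1, f2⟩
      have hft : Algebra.FiniteType B' D' := FT.mpr ⟨inferInstance, inferInstance⟩
      have : Algebra.FinitePresentation B (B ⊗[B'] D') := Algebra.FinitePresentation.equiv e1.symm
      have : Algebra.FinitePresentation A' (A' ⊗[B'] D') :=
        Algebra.FinitePresentation.equiv e2.symm
      exact ⟨hfl, fp_of_baseChange hsq D'⟩
  have SM : Algebra.Smooth B' D' ↔ Algebra.Smooth B D ∧ Algebra.Smooth A' C' := by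
    constructor
    · intro h
      exact ⟨Algebra.Smooth.of_equiv e1, Algebra.Smooth.of_equiv e2⟩
    · rintro ⟨h1, h2⟩
      obtain ⟨hfl, hfp⟩ := FP.mpr ⟨⟨inferInstance, inferInstance⟩, ⟨inferInstance, inferInstance⟩⟩
      have : Algebra.Smooth B (B ⊗[B'] D') := Algebra.Smooth.of_equiv e1.symm
      have : Algebra.Smooth A' (A' ⊗[B'] D') := Algebra.Smooth.of_equiv e2.symm
      exact smooth_of_baseChange hsq D'
  refine ⟨FT, FL, FP, SM, ?_⟩
  constructor
  · intro h
    exact ⟨Algebra.Etale.of_equiv e1, Algebra.Etale.of_equiv e2⟩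
  · rintro ⟨h1, h2⟩
    rw [Algebra.Etale.iff_formallyUnramified_and_smooth] at h1 h2 ⊢
    refine ⟨⟨?_⟩, SM.mpr ⟨h1.2, h2.2⟩⟩
    have u1 := h1.1
    have u2 := h2.1
    have s1 : Subsingleton (D ⊗[D'] Ω[D'⁄B']) :=
      (KaehlerDifferential.tensorKaehlerEquiv B' B D' D).subsingleton
    have s2 : Subsingleton (C' ⊗[D'] Ω[D'⁄B']) :=
      (KaehlerDifferential.tensorKaehlerEquiv B' A' D' C').subsingleton
    exact subsingleton_of_baseChange hsq' (Ω[D'⁄B'])

end Groth.Agent.Lib.Helper9.MilAlg
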