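import Mathlib
import Groth.Prelude.Def_EtMil
import Groth.Agent.Lib.Lead.Milnor
import Groth.Agent.Lib.Helper26.FibreSquareKer

set_option autoImplicit false
set_option linter.unusedSectionVars false
universe u
open TensorProduct Function

namespace Groth.Agent.Lib.Helper9.MilRel

open Groth.Agent.Lib.Helper26.FibreSquareKer (subsingleton_of_baseChange)
open Groth.Agent.Lib.Lead.Milnor (exists_fg_lTensor_surjective lTensor_surjective_of_le
  subsingleton_lTensor_quotient)

section Y

variable {R S R' S' : Type u} [CommRing R] [CommRing S] [CommRing R'] [CommRing S']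
  [Algebra R S] [Algebra R R'] [Algebra S S'] [Algebra R' S'] [Algebra R S']
  [IsScalarTower R S S'] [IsScalarTower R R' S'] [Algebra.IsPushout R S R' S']
  {P L' : Type u} [AddCommGroup P] [Module R' P] [Module R P] [IsScalarTower R R' P]
  [AddCommGroup L'] [Module R' L'] [Module R L'] [IsScalarTower R R' L']

variable (R S) in
include R S in
theorem lTensor_ker_injective [Module.Flat R L'] (π : P →ₗ[R'] L') (hπ : Surjective π) :
    Injective ((LinearMap.ker π).subtype.lTensor S') := by
  set K' := LinearMap.ker π with hK'
  have hflat : Injective (((K'.subtype).restrictScalars R).lTensor S) :=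
    LinearMap.lTensor_injective_of_exact_of_flat (π.restrictScalars R) hπ
      ((K'.subtype).restrictScalars R) (Submodule.injective_subtype _)
      (fun x => by
        change π x = 0 ↔ x ∈ Set.range (K'.subtype)
        rw [Submodule.coe_subtype, Subtype.range_coe_subtype]
        rfl) S
  have hsq : ∀ x : S ⊗[R] K', (K'.subtype.lTensor S')
      ((Algebra.IsPushout.cancelBaseChange R S R' S' K').symm x) =
      (Algebra.IsPushout.cancelBaseChange R S R' S' P).symm
        ((((K'.subtype).restrictScalars R).lTensor S) x) := by
    intro x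
    induction x using TensorProduct.induction_on with
    | zero => simp
    | add x y hx hy => simp only [map_add, hx, hy]
    | tmul s k =>
      rw [Algebra.IsPushout.cancelBaseChange_symm_tmul, LinearMap.lTensor_tmul,
        LinearMap.lTensor_tmul, Algebra.IsPushout.cancelBaseChange_symm_tmul]
      rfl
  intro y y₂ h
  have e1 := hsq (Algebra.IsPushout.cancelBaseChange R S R' S' K' y)
  have e2 := hsq (Algebra.IsPushout.cancelBaseChange R S R' S' K' y₂)
  rw [LinearEquiv.symm_apply_apply] at e1 e2
  rw [e1, e2] at h
  have := hflat ((Algebra.IsPushout.cancelBaseChange R S R' S' P).symm.injective h)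
  exact (Algebra.IsPushout.cancelBaseChange R S R' S' K').injective this

variable (R S) in
include R S in
theorem finite_tensor_ker [Module.Flat R L'] (π : P →ₗ[R'] L') (hπ : Surjective π)
    [Module.Finite S' (S' ⊗[R'] P)] [Module.FinitePresentation S' (S' ⊗[R'] L')] :
    Module.Finite S' (S' ⊗[R'] LinearMap.ker π) := by
  have hinj := lTensor_ker_injective R S (S' := S') π hπ
  have hex : Function.Exact ((LinearMap.ker π).subtype.lTensor S') (π.lTensor S') :=
    lTensor_exact S' (LinearMap.exact_subtype_ker_map π) hπ
  have hsurj : Surjective (π.baseChange S') := by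
    rw [LinearMap.baseChange_eq_ltensor]
    exact LinearMap.lTensor_surjective S' hπ
  have hfg : (LinearMap.ker (π.baseChange S')).FG :=
    Module.FinitePresentation.fg_ker (π.baseChange S') hsurj
  have hinj' : Injective ((LinearMap.ker π).subtype.baseChange S') := by
    rw [LinearMap.baseChange_eq_ltensor]; exact hinj
  have hrange : LinearMap.range ((LinearMap.ker π).subtype.baseChange S') =
      LinearMap.ker (π.baseChange S') := by
    ext x
    rw [LinearMap.mem_ker, LinearMap.mem_range]
    have := hex x
    rw [LinearMap.baseChange_eq_ltensor, LinearMap.baseChange_eq_ltensor]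
    exact ⟨fun h => this.mpr h, fun h => this.mp h⟩
  have hfin : Module.Finite S' (LinearMap.range ((LinearMap.ker π).subtype.baseChange S')) := by
    rw [hrange]; exact Module.Finite.iff_fg.mpr hfg
  exact Module.Finite.equiv (LinearEquiv.ofInjective _ hinj').symm

end Y

section W

variable {B' B A' A : Type u} [CommRing B'] [CommRing B] [CommRing A'] [CommRing A]
    [Algebra B' B] [Algebra B' A'] [Algebra B A] [Algebra A' A] [Algebra B' A] [IsScalarTower B' B A] [IsScalarTower B' A' A]
    (hsq : EtMil.IsFibreSquare B' B A' A)
    {D' D C' : Type u} [CommRing D'] [CommRing D] [CommRing C']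
    [Algebra B' D'] [Algebra B D] [Algebra A' C']
    [Algebra D' D] [Algebra B' D] [IsScalarTower B' B D] [IsScalarTower B' D' D] [Algebra.IsPushout B' B D' D]
    [Algebra D' C'] [Algebra B' C'] [IsScalarTower B' A' C'] [IsScalarTower B' D' C'] [Algebra.IsPushout B' A' D' C']

include hsq in
/-- vanishing over the relative (weak) square -/
theorem subsingleton_of_baseChange_weak (L' : Type u) [AddCommGroup L'] [Module D' L']
    [Module B' L'] [IsScalarTower B' D' L']
    [Subsingleton (D ⊗[D'] L')] [Subsingleton (C' ⊗[D'] L')] : Subsingleton L' := by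
  have h1 : Subsingleton (B ⊗[B'] L') :=
    (Algebra.IsPushout.cancelBaseChange B' B D' D L').symm.subsingleton
  have h2 : Subsingleton (A' ⊗[B'] L') :=
    (Algebra.IsPushout.cancelBaseChange B' A' D' C' L').symm.subsingleton
  exact subsingleton_of_baseChange hsq L'

include hsq in
/-- finiteness over the relative (weak) square -/
theorem finite_of_baseChange_weak (L' : Type u) [AddCommGroup L'] [Module D' L']
    [Module B' L'] [IsScalarTower B' D' L']
    [Module.Finite D (D ⊗[D'] L')] [Module.Finite C' (C' ⊗[D'] L')] : Module.Finite D' L' := by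
  obtain ⟨N₁, hN₁, hs₁⟩ := exists_fg_lTensor_surjective D' D L'
  obtain ⟨N₂, hN₂, hs₂⟩ := exists_fg_lTensor_surjective D' C' L'
  have h1 := subsingleton_lTensor_quotient D' D L' (N₁ ⊔ N₂)
    (lTensor_surjective_of_le D' D L' le_sup_left hs₁)
  have h2 := subsingleton_lTensor_quotient D' C' L' (N₁ ⊔ N₂)
    (lTensor_surjective_of_le D' C' L' le_sup_right hs₂)
  have h3 := subsingleton_of_baseChange_weak hsq (D' := D') (D := D) (C' := C') (L' ⧸ (N₁ ⊔ N₂))
  rw [Submodule.Quotient.subsingleton_iff] at h3
  exact ⟨h3 ▸ hN₁.sup hN₂⟩

include hsq in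
/-- finite presentation over the relative (weak) square for modules flat over `B'` -/
theorem finitePresentation_of_baseChange_weak (L' : Type u) [AddCommGroup L'] [Module D' L']
    [Module B' L'] [IsScalarTower B' D' L'] [Module.Flat B' L'] [Module.Finite D' L']
    [Module.FinitePresentation D (D ⊗[D'] L')] [Module.FinitePresentation C' (C' ⊗[D'] L')] :
    Module.FinitePresentation D' L' := by
  obtain ⟨n, π, hπ⟩ := Module.Finite.exists_fin' D' L'
  have h1 : Module.Finite D (D ⊗[D'] LinearMap.ker π) := finite_tensor_ker B' B π hπ
  have h2 : Module.Finite C' (C' ⊗[D'] LinearMap.ker π) := finite_tensor_ker B' A' π hπ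
  have h3 : Module.Finite D' (LinearMap.ker π) :=
    finite_of_baseChange_weak hsq (D' := D') (D := D) (C' := C') _
  exact Module.finitePresentation_of_free_of_surjective π hπ (Module.Finite.iff_fg.mp h3)

end W

end Groth.Agent.Lib.Helper9.MilRel
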