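import Mathlib
import Groth.Prelude.Def_EtMil
import Groth.Agent.Lib.Helper12.Mil5
import Groth.Agent.Lib.Helper9.MilRel1
import Groth.Agent.S6921

set_option autoImplicit false
set_option linter.unusedSectionVars false
universe u
open TensorProduct Function

namespace Groth.Agent.Lib.Helper9.MilRel

section G

variable {B' B A' A : Type u} [CommRing B'] [CommRing B] [CommRing A'] [CommRing A]
    [Algebra B' B] [Algebra B' A'] [Algebra B A] [Algebra A' A] [Algebra B' A] [IsScalarTower B' B A] [IsScalarTower B' A' A]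
    (hsq : EtMil.IsFibreSquare B' B A' A)
    {D' D C' C : Type u} [CommRing D'] [CommRing D] [CommRing C'] [CommRing C]
    [Algebra B' D'] [Algebra B D] [Algebra A' C'] [Algebra A C]
    [Algebra D' D] [Algebra B' D] [IsScalarTower B' B D] [IsScalarTower B' D' D] [Algebra.IsPushout B' B D' D]
    [Algebra D' C'] [Algebra B' C'] [IsScalarTower B' A' C'] [IsScalarTower B' D' C'] [Algebra.IsPushout B' A' D' C']
    [Algebra D' C] [Algebra B' C] [IsScalarTower B' A C] [IsScalarTower B' D' C] [Algebra.IsPushout B' A D' C]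
    [Algebra D C] [IsScalarTower D' D C] [Algebra B C] [IsScalarTower B A C] [IsScalarTower B D C]
    [Algebra C' C] [IsScalarTower D' C' C] [Algebra A' C] [IsScalarTower A' A C] [IsScalarTower A' C' C]
    {N M' : Type u} [AddCommGroup N] [Module D N] [Module D' N] [IsScalarTower D' D N]
    [AddCommGroup M'] [Module C' M'] [Module D' M'] [IsScalarTower D' C' M'] (φ : C ⊗[D] N ≃ₗ[C] C ⊗[C'] M')
    [Module B N] [IsScalarTower B D N] [Module A' M'] [IsScalarTower A' C' M']
    [Module B' N] [IsScalarTower B' B N] [IsScalarTower B' D' N]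
    [Module B' M'] [IsScalarTower B' A' M'] [IsScalarTower B' D' M']
    [Algebra.IsPushout B A D C] [Algebra.IsPushout A' A C' C]

/-- the glueing isomorphism over the base square -/
noncomputable def phiB : A ⊗[B] N ≃ₗ[A] A ⊗[A'] M' :=
  (Algebra.IsPushout.cancelBaseChange B A D C N).symm ≪≫ₗ φ.restrictScalars A ≪≫ₗ
    Algebra.IsPushout.cancelBaseChange A' A C' C M'

theorem mem_glue_iff (x : N × M') :
    x ∈ EtMil.glue B' (phiB (B := B) (A' := A') (A := A) φ) ↔ x ∈ EtMil.glue D' φ := by
  change phiB φ ((1 : A) ⊗ₜ[B] x.1) = (1 : A) ⊗ₜ[A'] x.2 ↔ φ ((1 : C) ⊗ₜ[D] x.1) = (1 : C) ⊗ₜ[C'] x.2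
  unfold phiB
  rw [LinearEquiv.trans_apply, LinearEquiv.trans_apply,
    Algebra.IsPushout.cancelBaseChange_symm_tmul, map_one, ← LinearEquiv.eq_symm_apply,
    Algebra.IsPushout.cancelBaseChange_symm_tmul, map_one]
  rfl

/-- the glued module over `D'` is the glued module over `B'` -/
noncomputable def gEquiv :
    ↥(EtMil.glue D' φ) ≃ₗ[B'] ↥(EtMil.glue B' (phiB (B := B) (A' := A') (A := A) φ)) where
  toFun x := ⟨x.1, (mem_glue_iff φ x.1).mpr x.2⟩
  invFun y := ⟨y.1, (mem_glue_iff φ y.1).mp y.2⟩
  map_add' _ _ := rfl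
  map_smul' _ _ := rfl
  left_inv _ := rfl
  right_inv _ := rfl

theorem gEquiv_apply (x : ↥(EtMil.glue D' φ)) :
    ((gEquiv (B' := B') (B := B) (A' := A') (A := A) φ x :
      ↥(EtMil.glue B' (phiB (B := B) (A' := A') (A := A) φ))) : N × M') = x.1 := rfl

include hsq in
theorem flat_glue [Module.Flat B N] [Module.Flat A' M'] : Module.Flat B' ↥(EtMil.glue D' φ) := by
  have := Groth.Agent.Lib.Helper12.Mil.flat_glue (phiB (B := B) (A' := A') (A := A) φ) hsq
  exact Module.Flat.of_linearEquiv (gEquiv (B' := B') (B := B) (A' := A') (A := A) φ)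

include hsq in
theorem fst_bijective :
    Bijective (LinearMap.liftBaseChange D (EtMil.glueFst D' φ)) := by
  have key : ∀ x : B ⊗[B'] ↥(EtMil.glue D' φ),
      LinearMap.liftBaseChange D (EtMil.glueFst D' φ)
        ((Algebra.IsPushout.cancelBaseChange B' B D' D ↥(EtMil.glue D' φ)).symm x) =
      Groth.Agent.Lib.Helper12.Mil.fstEquiv (phiB (B := B) (A' := A') (A := A) φ) hsq
        ((gEquiv (B' := B') (B := B) (A' := A') (A := A) φ).toLinearMap.lTensor B x) := by
    intro x
    induction x using TensorProduct.induction_on with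
    | zero => simp
    | add x y hx hy => simp only [map_add, hx, hy]
    | tmul b l =>
      rw [Algebra.IsPushout.cancelBaseChange_symm_tmul, LinearMap.liftBaseChange_tmul,
        LinearMap.lTensor_tmul, Groth.Agent.Lib.Helper12.Mil.fstEquiv_tmul]
      change algebraMap B D b • (l : N × M').1 = b • (l : N × M').1
      rw [algebraMap_smul]
  have hb : Bijective (fun x : B ⊗[B'] ↥(EtMil.glue D' φ) =>
      Groth.Agent.Lib.Helper12.Mil.fstEquiv (phiB (B := B) (A' := A') (A := A) φ) hsq
        ((gEquiv (B' := B') (B := B) (A' := A') (A := A) φ).toLinearMap.lTensor B x)) :=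
    (Groth.Agent.Lib.Helper12.Mil.fstEquiv (phiB (B := B) (A' := A') (A := A) φ) hsq).bijective.comp
      (LinearEquiv.lTensor B (gEquiv (B' := B') (B := B) (A' := A') (A := A) φ)).bijective
  have h2 : ⇑(LinearMap.liftBaseChange D (EtMil.glueFst D' φ)) =
      (fun x : B ⊗[B'] ↥(EtMil.glue D' φ) =>
      Groth.Agent.Lib.Helper12.Mil.fstEquiv (phiB (B := B) (A' := A') (A := A) φ) hsq
        ((gEquiv (B' := B') (B := B) (A' := A') (A := A) φ).toLinearMap.lTensor B x)) ∘
        (Algebra.IsPushout.cancelBaseChange B' B D' D ↥(EtMil.glue D' φ)) := by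
    funext y
    have := key (Algebra.IsPushout.cancelBaseChange B' B D' D ↥(EtMil.glue D' φ) y)
    rw [LinearEquiv.symm_apply_apply] at this
    exact this
  rw [h2]
  exact hb.comp (Algebra.IsPushout.cancelBaseChange B' B D' D ↥(EtMil.glue D' φ)).bijective

include hsq in
theorem snd_bijective :
    Bijective (LinearMap.liftBaseChange C' (EtMil.glueSnd D' φ)) := by
  have key : ∀ x : A' ⊗[B'] ↥(EtMil.glue D' φ),
      LinearMap.liftBaseChange C' (EtMil.glueSnd D' φ)
        ((Algebra.IsPushout.cancelBaseChange B' A' D' C' ↥(EtMil.glue D' φ)).symm x) =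
      Groth.Agent.Lib.Helper12.Mil.sndEquiv (phiB (B := B) (A' := A') (A := A) φ) hsq
        ((gEquiv (B' := B') (B := B) (A' := A') (A := A) φ).toLinearMap.lTensor A' x) := by
    intro x
    induction x using TensorProduct.induction_on with
    | zero => simp
    | add x y hx hy => simp only [map_add, hx, hy]
    | tmul b l =>
      rw [Algebra.IsPushout.cancelBaseChange_symm_tmul, LinearMap.liftBaseChange_tmul,
        LinearMap.lTensor_tmul]
      change algebraMap A' C' b • (l : N × M').2 = b • (l : N × M').2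
      rw [algebraMap_smul]
  have hb : Bijective (fun x : A' ⊗[B'] ↥(EtMil.glue D' φ) =>
      Groth.Agent.Lib.Helper12.Mil.sndEquiv (phiB (B := B) (A' := A') (A := A) φ) hsq
        ((gEquiv (B' := B') (B := B) (A' := A') (A := A) φ).toLinearMap.lTensor A' x)) :=
    (Groth.Agent.Lib.Helper12.Mil.sndEquiv (phiB (B := B) (A' := A') (A := A) φ) hsq).bijective.comp
      (LinearEquiv.lTensor A' (gEquiv (B' := B') (B := B) (A' := A') (A := A) φ)).bijective
  have h2 : ⇑(LinearMap.liftBaseChange C' (EtMil.glueSnd D' φ)) =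
      (fun x : A' ⊗[B'] ↥(EtMil.glue D' φ) =>
      Groth.Agent.Lib.Helper12.Mil.sndEquiv (phiB (B := B) (A' := A') (A := A) φ) hsq
        ((gEquiv (B' := B') (B := B) (A' := A') (A := A) φ).toLinearMap.lTensor A' x)) ∘
        (Algebra.IsPushout.cancelBaseChange B' A' D' C' ↥(EtMil.glue D' φ)) := by
    funext y
    have := key (Algebra.IsPushout.cancelBaseChange B' A' D' C' ↥(EtMil.glue D' φ) y)
    rw [LinearEquiv.symm_apply_apply] at this
    exact this
  rw [h2]
  exact hb.comp (Algebra.IsPushout.cancelBaseChange B' A' D' C' ↥(EtMil.glue D' φ)).bijective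

include hsq in
theorem fp_glue [Module.FinitePresentation D N] [Module.Flat B N]
    [Module.FinitePresentation C' M'] [Module.Flat A' M'] :
    Module.FinitePresentation D' ↥(EtMil.glue D' φ) := by
  have hflat : Module.Flat B' ↥(EtMil.glue D' φ) := flat_glue hsq φ
  have hfin : Module.Finite D' ↥(EtMil.glue D' φ) :=
    Groth.Agent.S6921.result B' B A' A hsq D' D C' C φ
  have h1 : Module.FinitePresentation D (D ⊗[D'] ↥(EtMil.glue D' φ)) :=
    Module.FinitePresentation.of_equiv
      (LinearEquiv.ofBijective _ (fst_bijective (B' := B') (B := B) (A' := A') (A := A) hsq φ)).symm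
  have h2 : Module.FinitePresentation C' (C' ⊗[D'] ↥(EtMil.glue D' φ)) :=
    Module.FinitePresentation.of_equiv
      (LinearEquiv.ofBijective _ (snd_bijective (B' := B') (B := B) (A' := A') (A := A) hsq φ)).symm
  exact finitePresentation_of_baseChange_weak hsq (D' := D') (D := D) (C' := C') _

end G

end Groth.Agent.Lib.Helper9.MilRel
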