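import Mathlib
import Groth.Prelude.Def_EtMil
import Groth.Agent.Lib.Helper9.MilRel2

set_option autoImplicit false
set_option linter.unusedSectionVars false
universe u
open TensorProduct Function

namespace Groth.Agent.Lib.Helper9.MilRel

theorem main (B' B A' A : Type u) [CommRing B'] [CommRing B] [CommRing A'] [CommRing A]
    [Algebra B' B] [Algebra B' A'] [Algebra B A] [Algebra A' A] [Algebra B' A] [IsScalarTower B' B A] [IsScalarTower B' A' A]
    (hsq : EtMil.IsFibreSquare B' B A' A)
    (D' D C' C : Type u) [CommRing D'] [CommRing D] [CommRing C'] [CommRing C]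
    [Algebra B' D'] [Algebra B D] [Algebra A' C'] [Algebra A C]
    [Algebra D' D] [Algebra B' D] [IsScalarTower B' B D] [IsScalarTower B' D' D] [Algebra.IsPushout B' B D' D]
    [Algebra D' C'] [Algebra B' C'] [IsScalarTower B' A' C'] [IsScalarTower B' D' C'] [Algebra.IsPushout B' A' D' C']
    [Algebra D' C] [Algebra B' C] [IsScalarTower B' A C] [IsScalarTower B' D' C] [Algebra.IsPushout B' A D' C]
    [Algebra D C] [IsScalarTower D' D C] [Algebra B C] [IsScalarTower B A C] [IsScalarTower B D C]
    [Algebra C' C] [IsScalarTower D' C' C] [Algebra A' C] [IsScalarTower A' A C] [IsScalarTower A' C' C]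
    {N M' : Type u} [AddCommGroup N] [Module D N] [Module D' N] [IsScalarTower D' D N]
    [AddCommGroup M'] [Module C' M'] [Module D' M'] [IsScalarTower D' C' M'] (φ : C ⊗[D] N ≃ₗ[C] C ⊗[C'] M')
    [Module B N] [IsScalarTower B D N] [Module A' M'] [IsScalarTower A' C' M']
    [Module.FinitePresentation D N] [Module.Flat B N] [Module.FinitePresentation C' M'] [Module.Flat A' M'] :
    Module.FinitePresentation D' ↥(EtMil.glue D' φ) := by
  have t1 : IsScalarTower B' D C := IsScalarTower.of_algebraMap_eq (fun x => by
    rw [IsScalarTower.algebraMap_apply B' D' C, IsScalarTower.algebraMap_apply D' D C,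
      ← IsScalarTower.algebraMap_apply B' D' D])
  have t2 : IsScalarTower B' C' C := IsScalarTower.of_algebraMap_eq (fun x => by
    rw [IsScalarTower.algebraMap_apply B' D' C, IsScalarTower.algebraMap_apply D' C' C,
      ← IsScalarTower.algebraMap_apply B' D' C'])
  have hP1 : Algebra.IsPushout B A D C :=
    (Algebra.IsPushout.comp_iff B' B D' (S' := D) (T := A) (T' := C)).mp inferInstance
  have hP2 : Algebra.IsPushout A' A C' C :=
    (Algebra.IsPushout.comp_iff B' A' D' (S' := C') (T := A) (T' := C)).mp inferInstance
  let mN : Module B' N := Module.compHom N (algebraMap B' D')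
  have tN : IsScalarTower B' D' N := IsScalarTower.of_algebraMap_smul (fun _ _ => rfl)
  have tN' : IsScalarTower B' B N := IsScalarTower.of_algebraMap_smul (fun b n => by
    change _ = algebraMap B' D' b • n
    rw [← algebraMap_smul D (algebraMap B' B b) n, ← algebraMap_smul D (algebraMap B' D' b) n,
      ← IsScalarTower.algebraMap_apply, ← IsScalarTower.algebraMap_apply])
  let mM : Module B' M' := Module.compHom M' (algebraMap B' D')
  have tM : IsScalarTower B' D' M' := IsScalarTower.of_algebraMap_smul (fun _ _ => rfl)
  have tM' : IsScalarTower B' A' M' := IsScalarTower.of_algebraMap_smul (fun b n => by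
    change _ = algebraMap B' D' b • n
    rw [← algebraMap_smul C' (algebraMap B' A' b) n, ← algebraMap_smul C' (algebraMap B' D' b) n,
      ← IsScalarTower.algebraMap_apply, ← IsScalarTower.algebraMap_apply])
  exact fp_glue (B' := B') (B := B) (A' := A') (A := A) hsq φ

end Groth.Agent.Lib.Helper9.MilRel
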