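import Mathlib
import Groth.Prelude.Def_W4c5qllcourbesmultMultCrv

/-!
# `A = R[X]/(X^n)` is a Frobenius algebra over `R`

`Hom_A(M, A) ≃ Hom_R(M, R)` via the coefficient of `z^(n-1)`; consequences for duals and `Ext`.
-/

set_option autoImplicit false
universe u v

namespace Groth.Agent.Lib.Helper9.MultCrvFrob

open Polynomial MultCrv

section basic

variable (R : Type u) [CommRing R] (n : ℕ)

theorem z_pow_n : z R n ^ n = 0 := by
  change (Ideal.Quotient.mk (Ideal.span {(X : R[X]) ^ n}) X) ^ n = 0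
  rw [← map_pow, Ideal.Quotient.eq_zero_iff_mem]
  exact Ideal.subset_span rfl

theorem z_pow_eq_zero {i : ℕ} (h : n ≤ i) : z R n ^ i = 0 := by
  obtain ⟨k, rfl⟩ := Nat.exists_eq_add_of_le h
  rw [pow_add, z_pow_n, zero_mul]

variable [NeZero n]

/-- the coefficient of `z^(n-1)` -/
noncomputable def lam : Rn R n →ₗ[R] R :=
  (Submodule.liftQ ((Ideal.span {(X : R[X]) ^ n}).restrictScalars R) (Polynomial.lcoeff R (n - 1))
      (fun f (hf : f ∈ (Ideal.span {(X : R[X]) ^ n}).restrictScalars R) => by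
        obtain ⟨q, rfl⟩ := Ideal.mem_span_singleton.mp hf
        have := NeZero.ne n
        rw [LinearMap.mem_ker, lcoeff_apply, coeff_X_pow_mul', if_neg (by omega)])).comp
    (Submodule.Quotient.restrictScalarsEquiv R (Ideal.span {(X : R[X]) ^ n} : Ideal R[X])).symm.toLinearMap

theorem lam_mk (p : R[X]) :
    lam R n (Ideal.Quotient.mk (Ideal.span {(X : R[X]) ^ n}) p) = p.coeff (n - 1) := rfl

omit [NeZero n] in
theorem mk_monomial (j : ℕ) (r : R) :
    (Ideal.Quotient.mk (Ideal.span {(X : R[X]) ^ n}) (monomial j r) : Rn R n) =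
      r • z R n ^ j := by
  have h1 : (monomial j r : R[X]) = r • X ^ j := by
    rw [smul_eq_C_mul, C_mul_X_pow_eq_monomial]
  rw [h1]
  change r • (Ideal.Quotient.mk (Ideal.span {(X : R[X]) ^ n}) (X ^ j) : Rn R n) = _
  rw [map_pow]

theorem lam_z_pow (i : ℕ) : lam R n (z R n ^ i) = if i = n - 1 then 1 else 0 := by
  have h1 : (z R n ^ i : Rn R n) = Ideal.Quotient.mk (Ideal.span {(X : R[X]) ^ n}) (X ^ i) := by
    rw [map_pow]
  rw [h1, lam_mk, coeff_X_pow]
  by_cases h : i = n - 1
  · rw [if_pos h, if_pos h.symm]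
  · rw [if_neg h, if_neg (fun h' => h h'.symm)]

/-- reconstruction of an element from the values of `lam` -/
theorem reconstruct (a : Rn R n) :
    a = ∑ i ∈ Finset.range n, lam R n (z R n ^ i * a) • z R n ^ (n - 1 - i) := by
  obtain ⟨p, rfl⟩ := Ideal.Quotient.mk_surjective a
  induction p using Polynomial.induction_on' with
  | add p q hp hq =>
    rw [map_add]
    conv_lhs => rw [hp, hq]
    rw [← Finset.sum_add_distrib]
    refine Finset.sum_congr rfl fun i _ => ?_
    rw [mul_add, map_add, add_smul]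
  | monomial j r =>
    rw [mk_monomial]
    by_cases hj : j < n
    · rw [Finset.sum_eq_single_of_mem (n - 1 - j) (Finset.mem_range.mpr (by omega))]
      · rw [mul_smul_comm, map_smul, ← pow_add, lam_z_pow R n, if_pos (by omega), smul_eq_mul,
          mul_one]
        congr 2
        omega
      · intro i hi hne
        rw [mul_smul_comm, map_smul, ← pow_add, lam_z_pow R n, if_neg, smul_zero, zero_smul]
        have := Finset.mem_range.mp hi
        omega
    · rw [z_pow_eq_zero R n (by omega), smul_zero]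
      symm
      apply Finset.sum_eq_zero
      intro i _
      rw [mul_zero, map_zero, zero_smul]

end basic


section frob

variable {R : Type u} [CommRing R] {n : ℕ}
variable {M : Type v} [AddCommGroup M] [Module (Rn R n) M] [Module R M]
  [IsScalarTower R (Rn R n) M]

/-- `A`-linearity from `R`-linearity and commutation with `z`. -/
theorem map_smul_of_z {N : Type*} [AddCommGroup N] [Module (Rn R n) N] [Module R N]
    [IsScalarTower R (Rn R n) N] (φ : M →ₗ[R] N) (h : ∀ m, φ (z R n • m) = z R n • φ m)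
    (a : Rn R n) (m : M) : φ (a • m) = a • φ m := by
  have hpow : ∀ (j : ℕ) (m : M), φ (z R n ^ j • m) = z R n ^ j • φ m := by
    intro j
    induction j with
    | zero => intro m; simp
    | succ j ih =>
      intro m
      rw [pow_succ, mul_smul, ih, h, mul_smul]
  obtain ⟨p, rfl⟩ := Ideal.Quotient.mk_surjective a
  induction p using Polynomial.induction_on' with
  | add p q hp hq => rw [map_add, add_smul, add_smul, map_add, hp, hq]
  | monomial j r => rw [mk_monomial, smul_assoc, smul_assoc, map_smul, hpow]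

variable [NeZero n]

/-- `Hom_A(M, A) → Hom_R(M, R)`, `φ ↦ λ ∘ φ` -/
noncomputable def toR (φ : M →ₗ[Rn R n] Rn R n) : M →ₗ[R] R :=
  lam R n ∘ₗ φ.restrictScalars R

theorem toR_apply (φ : M →ₗ[Rn R n] Rn R n) (m : M) : toR φ m = lam R n (φ m) := rfl

/-- the `R`-linear map underlying the inverse -/
noncomputable def ofRₗ (n : ℕ) [NeZero n] [Module (Rn R n) M] [IsScalarTower R (Rn R n) M]
    (ψ : M →ₗ[R] R) : M →ₗ[R] Rn R n :=
  ∑ i ∈ Finset.range n, (LinearMap.toSpanSingleton R (Rn R n) (z R n ^ (n - 1 - i))) ∘ₗ ψ ∘ₗ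
    (DistribSMul.toLinearMap R M (z R n ^ i))

theorem ofRₗ_apply (ψ : M →ₗ[R] R) (m : M) :
    ofRₗ n ψ m = ∑ i ∈ Finset.range n, ψ (z R n ^ i • m) • z R n ^ (n - 1 - i) := by
  unfold ofRₗ
  rw [LinearMap.sum_apply]
  rfl

theorem ofRₗ_z (ψ : M →ₗ[R] R) (m : M) : ofRₗ n ψ (z R n • m) = z R n • ofRₗ n ψ m := by
  obtain ⟨k, rfl⟩ : ∃ k, n = k + 1 := Nat.exists_eq_succ_of_ne_zero (NeZero.ne n)
  rw [ofRₗ_apply, ofRₗ_apply, Finset.smul_sum, Finset.sum_range_succ, Finset.sum_range_succ']
  have e1 : z R (k + 1) ^ k • z R (k + 1) • m = 0 := by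
    rw [smul_smul, ← pow_succ, z_pow_n]
    exact zero_smul (Rn R (k + 1)) m
  have e2 : z R (k + 1) • (ψ (z R (k + 1) ^ 0 • m) • z R (k + 1) ^ (k + 1 - 1 - 0)) = 0 := by
    rw [smul_comm, smul_eq_mul (z R (k + 1)), ← pow_succ']
    have : k + 1 - 1 - 0 + 1 = k + 1 := by omega
    rw [this, z_pow_n, smul_zero]
  rw [e1, map_zero, zero_smul, add_zero, e2, add_zero]
  refine Finset.sum_congr rfl fun i hi => ?_
  have hi' := Finset.mem_range.mp hi
  rw [smul_smul, ← pow_succ, smul_comm, smul_eq_mul (z R (k + 1)), ← pow_succ']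
  congr 2
  omega

/-- `Hom_R(M, R) → Hom_A(M, A)` -/
noncomputable def ofR (n : ℕ) [NeZero n] [Module (Rn R n) M] [IsScalarTower R (Rn R n) M]
    (ψ : M →ₗ[R] R) : M →ₗ[Rn R n] Rn R n where
  toFun := ofRₗ n ψ
  map_add' := map_add _
  map_smul' a m := map_smul_of_z (ofRₗ n ψ) (ofRₗ_z ψ) a m

theorem ofR_apply (ψ : M →ₗ[R] R) (m : M) :
    ofR n ψ m = ∑ i ∈ Finset.range n, ψ (z R n ^ i • m) • z R n ^ (n - 1 - i) := ofRₗ_apply ψ m

theorem toR_ofR (ψ : M →ₗ[R] R) : toR (ofR n ψ) = ψ := by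
  ext m
  rw [toR_apply, ofR_apply, map_sum]
  have hn := NeZero.ne n
  rw [Finset.sum_eq_single_of_mem 0 (Finset.mem_range.mpr (by omega))]
  · rw [map_smul, lam_z_pow, if_pos (by omega), pow_zero, one_smul, smul_eq_mul, mul_one]
  · intro i hi hne
    have := Finset.mem_range.mp hi
    rw [map_smul, lam_z_pow, if_neg (by omega), smul_zero]

theorem ofR_toR (φ : M →ₗ[Rn R n] Rn R n) : ofR n (toR φ) = φ := by
  ext m
  rw [ofR_apply]
  conv_rhs => rw [reconstruct R n (φ m)]
  refine Finset.sum_congr rfl fun i _ => ?_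
  rw [toR_apply, map_smul, smul_eq_mul]

theorem ofR_comp {M' : Type*} [AddCommGroup M'] [Module (Rn R n) M'] [Module R M']
    [IsScalarTower R (Rn R n) M'] (ψ : M →ₗ[R] R) (f : M' →ₗ[Rn R n] M) :
    ofR n (ψ ∘ₗ f.restrictScalars R) = ofR n ψ ∘ₗ f := by
  ext m
  rw [LinearMap.comp_apply, ofR_apply, ofR_apply]
  refine Finset.sum_congr rfl fun i _ => ?_
  rw [LinearMap.comp_apply, LinearMap.restrictScalars_apply, map_smul]

theorem toR_comp {M' : Type*} [AddCommGroup M'] [Module (Rn R n) M'] [Module R M']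
    [IsScalarTower R (Rn R n) M'] (φ : M →ₗ[Rn R n] Rn R n) (f : M' →ₗ[Rn R n] M) :
    toR (φ ∘ₗ f) = toR φ ∘ₗ f.restrictScalars R := rfl

end frob


section dual

variable {R : Type u} [CommRing R] {n : ℕ} [NeZero n]

theorem finite_Rn : Module.Finite R (Rn R n) :=
  (Polynomial.monic_X_pow n).finite_adjoinRoot

/-- extension of `R`-linear forms along an injection with projective cokernel -/
theorem exists_extension {M' M M'' : Type*} [AddCommGroup M'] [Module R M'] [AddCommGroup M]
    [Module R M] [AddCommGroup M''] [Module R M''] [Module.Projective R M'']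
    (f : M' →ₗ[R] M) (g : M →ₗ[R] M'') (hf : Function.Injective f) (hg : Function.Surjective g)
    (hfg : LinearMap.range f = LinearMap.ker g) (ψ' : M' →ₗ[R] R) :
    ∃ ψ : M →ₗ[R] R, ψ ∘ₗ f = ψ' := by
  obtain ⟨s, hs⟩ := Module.projective_lifting_property g LinearMap.id hg
  have hmem : ∀ m : M, ((LinearMap.id - s ∘ₗ g : M →ₗ[R] M)) m ∈ LinearMap.range f := by
    intro m
    rw [hfg, LinearMap.mem_ker, LinearMap.sub_apply, map_sub, LinearMap.id_apply,
      LinearMap.comp_apply]
    have := LinearMap.congr_fun hs (g m)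
    rw [LinearMap.comp_apply, LinearMap.id_apply] at this
    rw [this, sub_self]
  let e := LinearEquiv.ofInjective f hf
  let r : M →ₗ[R] M' := e.symm.toLinearMap ∘ₗ
    LinearMap.codRestrict (LinearMap.range f) (LinearMap.id - s ∘ₗ g : M →ₗ[R] M) hmem
  refine ⟨ψ' ∘ₗ r, ?_⟩
  ext m'
  rw [LinearMap.comp_apply, LinearMap.comp_apply]
  congr 1
  change e.symm _ = m'
  apply e.injective
  rw [LinearEquiv.apply_symm_apply]
  apply Subtype.ext
  change (LinearMap.id - s ∘ₗ g : M →ₗ[R] M) (f m') = f m'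
  have hgf : g (f m') = 0 := by
    have : f m' ∈ LinearMap.ker g := hfg ▸ LinearMap.mem_range_self f m'
    exact this
  rw [LinearMap.sub_apply, LinearMap.comp_apply, hgf, map_zero, LinearMap.id_apply, sub_zero]

/-- the dual sequence is right exact when the cokernel is `R`-projective -/
theorem dualMap_surjective {M' M M'' : Type*} [AddCommGroup M'] [Module (Rn R n) M']
    [Module R M'] [IsScalarTower R (Rn R n) M'] [AddCommGroup M]
    [Module (Rn R n) M] [Module R M] [IsScalarTower R (Rn R n) M] [AddCommGroup M'']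
    [Module (Rn R n) M''] [Module R M''] [IsScalarTower R (Rn R n) M''] [Module.Projective R M'']
    (f : M' →ₗ[Rn R n] M) (g : M →ₗ[Rn R n] M'') (hf : Function.Injective f)
    (hg : Function.Surjective g) (hfg : LinearMap.range f = LinearMap.ker g)
    (φ' : M' →ₗ[Rn R n] Rn R n) : ∃ φ : M →ₗ[Rn R n] Rn R n, φ ∘ₗ f = φ' := by
  obtain ⟨ψ, hψ⟩ := exists_extension (f.restrictScalars R) (g.restrictScalars R) hf hg
    (by
      ext m
      simp only [LinearMap.mem_range, LinearMap.mem_ker, LinearMap.restrictScalars_apply]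
      have := SetLike.ext_iff.mp hfg m
      simpa [LinearMap.mem_range, LinearMap.mem_ker] using this) (toR φ')
  refine ⟨ofR n ψ, ?_⟩
  rw [← ofR_comp, hψ, ofR_toR]

end dual

end Groth.Agent.Lib.Helper9.MultCrvFrob
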