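import Mathlib
import Groth.Agent.Lib.Helper9.MultCrvFrob

/-!
# More on the Frobenius form of `A = R[X]/(X^n)`
-/

set_option autoImplicit false
universe u v

namespace Groth.Agent.Lib.Helper9.MultCrvFrob

open Polynomial MultCrv

theorem eq_zero_of_lam {R : Type u} [CommRing R] {n : ℕ} [NeZero n] (b : Rn R n)
    (h : ∀ a : Rn R n, lam R n (a * b) = 0) : b = 0 := by
  rw [reconstruct R n b]
  apply Finset.sum_eq_zero
  intro i _
  rw [h, zero_smul]

theorem torsionFree_Rn {R : Type u} [CommRing R] {n : ℕ} [NeZero n] :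
    Module.IsTorsionFree R (Rn R n) where
  isSMulRegular r hr a b hab := by
    have hab' : r • a = r • b := hab
    rw [← sub_eq_zero]
    apply eq_zero_of_lam
    intro c
    have h1 : r • (c * (a - b)) = 0 := by
      rw [mul_sub, smul_sub, ← mul_smul_comm, ← mul_smul_comm, hab', sub_self]
    have h2 := congrArg (lam R n) h1
    rw [map_smul, map_zero, smul_eq_mul] at h2
    exact hr.left.mul_left_eq_zero_iff.mp h2

section

variable {R : Type u} [CommRing R] {n : ℕ} [NeZero n]
variable {M : Type u} [AddCommGroup M] [Module (Rn R n) M] [Module R M]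
  [IsScalarTower R (Rn R n) M]

theorem toR_injective : Function.Injective (toR : (M →ₗ[Rn R n] Rn R n) → (M →ₗ[R] R)) := by
  intro a b hab
  rw [← ofR_toR a, hab, ofR_toR]

theorem toR_add (φ₁ φ₂ : M →ₗ[Rn R n] Rn R n) : toR (φ₁ + φ₂) = toR φ₁ + toR φ₂ := by
  ext m
  simp [toR_apply]

theorem toR_smul (r : R) (φ : M →ₗ[Rn R n] Rn R n) : toR (r • φ) = r • toR φ := by
  ext m
  simp [toR_apply]

/-- `ofR` as an `R`-linear map -/
noncomputable def ofRlin (n : ℕ) [NeZero n] (M : Type u) [AddCommGroup M] [Module (Rn R n) M]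
    [Module R M] [IsScalarTower R (Rn R n) M] : (M →ₗ[R] R) →ₗ[R] (M →ₗ[Rn R n] Rn R n) where
  toFun := ofR n
  map_add' ψ₁ ψ₂ := by
    apply toR_injective
    rw [toR_add, toR_ofR, toR_ofR, toR_ofR]
  map_smul' r ψ := by
    apply toR_injective
    rw [RingHom.id_apply, toR_smul, toR_ofR, toR_ofR]

end


end Groth.Agent.Lib.Helper9.MultCrvFrob
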