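import Mathlib
import Groth.Agent.Lib.Helper9.MultCrvFrob2

set_option autoImplicit false
universe u

namespace Groth.Agent.Lib.Helper9.MultCrvExt

open CategoryTheory Abelian MultCrv Groth.Agent.Lib.Helper9.MultCrvFrob

section general
variable {A : Type u} [CommRing A]

theorem smul_eq_mk₀_comp {M N : ModuleCat.{u} A} {i : ℕ} (a : A) (x : Ext M N i) :
    a • x = (Ext.mk₀ (a • 𝟙 M)).comp x (zero_add i) := by
  rw [Ext.mk₀_smul, Ext.smul_comp, Ext.mk₀_id_comp]

theorem smul_ext_eq_zero_of_factor {M N P : ModuleCat.{u} A} [Projective P] (a : A)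
    (α : M ⟶ P) (β : P ⟶ M) (h : α ≫ β = a • 𝟙 M) {i : ℕ} (hi : 1 ≤ i) (x : Ext M N i) :
    a • x = 0 := by
  obtain ⟨j, rfl⟩ : ∃ j, i = j + 1 := ⟨i - 1, by omega⟩
  rw [smul_eq_mk₀_comp, ← h, ← Ext.mk₀_comp_mk₀, Ext.comp_assoc (Ext.mk₀ α) (Ext.mk₀ β) x (zero_add 0) (zero_add (j+1)) (by omega),
    Ext.eq_zero_of_projective ((Ext.mk₀ β).comp x (zero_add (j + 1))), Ext.comp_zero]

/-- dimension shifting along a presentation by a free module -/
theorem ext_shift {M : Type u} [AddCommGroup M] [Module A M] {r : ℕ}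
    (p : (Fin r → A) →ₗ[A] M) (hp : Function.Surjective p) (N : ModuleCat.{u} A) {i : ℕ}
    (x : Ext (ModuleCat.of A M) N (i + 1)) :
    ∃ x₁ : Ext (ModuleCat.of A (LinearMap.ker p)) N i,
      (LinearMap.shortExact_shortComplexKer hp).extClass.comp x₁ (add_comm 1 i) = x := by
  have hS := LinearMap.shortExact_shortComplexKer hp
  have hproj : Projective (ModuleCat.of A (Fin r → A)) := inferInstance
  have h0 : (Ext.mk₀ p.shortComplexKer.g).comp x (zero_add (i + 1)) = 0 :=
    @Ext.eq_zero_of_projective _ _ _ _ _ _ _ hproj _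
  exact Ext.contravariant_sequence_exact₃ hS N x h0 (add_comm 1 i)

end general



open CategoryTheory Abelian MultCrv Groth.Agent.Lib.Helper9.MultCrvFrob TensorProduct

section factor

variable {R : Type u} [CommRing R] [IsDomain R] [IsPrincipalIdealRing R] {n : ℕ} [NeZero n]
variable {M : Type u} [AddCommGroup M] [Module (Rn R n) M] [Module R M]
  [IsScalarTower R (Rn R n) M] [Module.Finite (Rn R n) M] [Module.IsTorsionFree R M]

theorem exists_factor : ∃ (P : Type u) (_ : AddCommGroup P) (_ : Module (Rn R n) P)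
    (_ : Module.Projective (Rn R n) P) (α : M →ₗ[Rn R n] P) (β : P →ₗ[Rn R n] M),
    ∀ m, β (α m) = z R n ^ (n - 1) • m := by
  have hfinA : Module.Finite R (Rn R n) := finite_Rn
  have hfin : Module.Finite R M := Module.Finite.trans (Rn R n) M
  let q : M →ₗ[R] M := DistribSMul.toLinearMap R M (z R n ^ (n - 1))
  let L : Submodule R M := LinearMap.range q
  have hLfree : Module.Free R L := inferInstance
  obtain ⟨s, hs⟩ := Module.projective_lifting_property q.rangeRestrict LinearMap.id
    q.surjective_rangeRestrict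
  have hqz : ∀ m : M, q.rangeRestrict (z R n • m) = 0 := by
    intro m
    apply Subtype.ext
    change z R n ^ (n - 1) • z R n • m = 0
    rw [smul_smul, ← pow_succ, Nat.sub_add_cancel (NeZero.one_le), z_pow_n]
    exact zero_smul (Rn R n) m
  let α₀ : M →ₗ[R] (Rn R n) ⊗[R] L := (TensorProduct.mk R (Rn R n) L (z R n ^ (n - 1))) ∘ₗ q.rangeRestrict
  have hα₀ : ∀ m, α₀ (z R n • m) = z R n • α₀ m := by
    intro m
    change (z R n ^ (n - 1)) ⊗ₜ[R] (q.rangeRestrict (z R n • m)) =
      z R n • ((z R n ^ (n - 1)) ⊗ₜ[R] (q.rangeRestrict m))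
    rw [hqz, tmul_zero, smul_tmul', smul_eq_mul, ← pow_succ', Nat.sub_add_cancel (NeZero.one_le),
      z_pow_n, zero_tmul]
  let α : M →ₗ[Rn R n] (Rn R n) ⊗[R] L :=
    { toFun := α₀
      map_add' := map_add _
      map_smul' := fun a m => map_smul_of_z α₀ hα₀ a m }
  let β : (Rn R n) ⊗[R] L →ₗ[Rn R n] M := LinearMap.liftBaseChange (Rn R n) s
  refine ⟨(Rn R n) ⊗[R] L, inferInstance, inferInstance, inferInstance, α, β, ?_⟩
  intro m
  change LinearMap.liftBaseChange (Rn R n) s ((z R n ^ (n - 1)) ⊗ₜ[R] (q.rangeRestrict m)) = _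
  rw [LinearMap.liftBaseChange_tmul]
  have h1 := LinearMap.congr_fun hs (q.rangeRestrict m)
  have h2 := congrArg Subtype.val h1
  exact h2


/-- `z^(n-1)` kills `Ext^i(M, N)` for `i ≥ 1` and `M` torsion-free -/
theorem smul_ext_eq_zero (N : ModuleCat.{u} (Rn R n)) {i : ℕ} (hi : 1 ≤ i)
    (x : Ext (ModuleCat.of (Rn R n) M) N i) : (z R n ^ (n - 1)) • x = 0 := by
  obtain ⟨P, _, _, _, α, β, h⟩ := exists_factor (R := R) (n := n) (M := M)
  have : Projective (ModuleCat.of (Rn R n) P) := inferInstance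
  refine smul_ext_eq_zero_of_factor (P := ModuleCat.of (Rn R n) P) (z R n ^ (n - 1))
    (ModuleCat.ofHom α) (ModuleCat.ofHom β) ?_ hi x
  ext m
  exact h m

end factor



open CategoryTheory Abelian MultCrv Groth.Agent.Lib.Helper9.MultCrvFrob TensorProduct

section syz

variable {R : Type u} [CommRing R] [IsDomain R] [IsPrincipalIdealRing R] {n : ℕ} [NeZero n]

theorem isNoetherianRing_Rn : IsNoetherianRing (Rn R n) := inferInstance

theorem torsionFree_pi (r : ℕ) : Module.IsTorsionFree R (Fin r → Rn R n) := by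
  have := torsionFree_Rn (R := R) (n := n)
  infer_instance

variable {M : Type u} [AddCommGroup M] [Module (Rn R n) M] {r : ℕ}
  (p : (Fin r → Rn R n) →ₗ[Rn R n] M)

theorem finite_ker : Module.Finite (Rn R n) (LinearMap.ker p) := by
  have := isNoetherianRing_Rn (R := R) (n := n)
  infer_instance

theorem torsionFree_ker : Module.IsTorsionFree R (LinearMap.ker p) := by
  have := torsionFree_pi (R := R) (n := n) r
  exact Function.Injective.moduleIsTorsionFree (LinearMap.ker p).subtype
    (LinearMap.ker p).injective_subtype (fun r m => rfl)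

end syz

section vanish

variable {R : Type u} [CommRing R] [IsDomain R] [IsPrincipalIdealRing R] {n : ℕ} [NeZero n]

theorem ext_self_eq_zero : ∀ (i : ℕ) (M : Type u) [AddCommGroup M] [Module (Rn R n) M]
    [Module R M] [IsScalarTower R (Rn R n) M] [Module.Finite (Rn R n) M]
    [Module.IsTorsionFree R M]
    (x : Ext (ModuleCat.of (Rn R n) M) (ModuleCat.of (Rn R n) (Rn R n)) (i + 1)), x = 0 := by
  intro i
  induction i with
  | zero =>
    intro M _ _ _ _ _ _ x
    obtain ⟨r, p, hp⟩ := Module.Finite.exists_fin' (Rn R n) M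
    obtain ⟨x₁, rfl⟩ := ext_shift p hp _ x
    obtain ⟨φ, rfl⟩ : ∃ φ, Ext.mk₀ φ = x₁ := ⟨Ext.homEquiv₀ x₁, Ext.mk₀_homEquiv₀_apply x₁⟩
    have hfinA : Module.Finite R (Rn R n) := finite_Rn
    have hfin : Module.Finite R M := Module.Finite.trans (Rn R n) M
    have hproj : Module.Projective R M := inferInstance
    obtain ⟨ψ, hψ⟩ := dualMap_surjective (R := R) (n := n) (LinearMap.ker p).subtype p
      (LinearMap.ker p).injective_subtype hp (by rw [Submodule.range_subtype]) φ.hom
    have h1 : φ = p.shortComplexKer.f ≫ ModuleCat.ofHom ψ := by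
      ext m
      exact (LinearMap.congr_fun hψ m).symm
    rw [h1, ← Ext.mk₀_comp_mk₀]
    exact (LinearMap.shortExact_shortComplexKer hp).extClass_comp_assoc _
  | succ i ih =>
    intro M _ _ _ _ _ _ x
    obtain ⟨r, p, hp⟩ := Module.Finite.exists_fin' (Rn R n) M
    obtain ⟨x₁, rfl⟩ := ext_shift p hp _ x
    have h1 := finite_ker (R := R) p
    have h2 := torsionFree_ker (R := R) p
    rw [ih (LinearMap.ker p) x₁, Ext.comp_zero]

/-- `Ext^i(M, A) = 0` for `i ≥ 2` and any finitely generated `M` -/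
theorem ext_self_eq_zero' (i : ℕ) (M : Type u) [AddCommGroup M] [Module (Rn R n) M]
    [Module.Finite (Rn R n) M]
    (x : Ext (ModuleCat.of (Rn R n) M) (ModuleCat.of (Rn R n) (Rn R n)) (i + 2)) : x = 0 := by
  obtain ⟨r, p, hp⟩ := Module.Finite.exists_fin' (Rn R n) M
  obtain ⟨x₁, rfl⟩ := ext_shift p hp _ x
  have h1 := finite_ker (R := R) p
  have h2 := torsionFree_ker (R := R) p
  rw [ext_self_eq_zero (R := R) i (LinearMap.ker p) x₁, Ext.comp_zero]

end vanish

end Groth.Agent.Lib.Helper9.MultCrvExt
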