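import Mathlib
import Groth.Agent.Lib.Helper9.MultiCross2

set_option autoImplicit false
universe u

namespace Groth.Agent.Lib.Helper9.MultiCross

open IsLocalRing PowerSeries

/-- The multicross ring with at least three branches is not Gorenstein. -/
theorem false_of_three_le (k : Type u) [Field k] (B : Type u) [CommRing B]
    [hG : LocCoh.IsGorensteinLocalRing B] (n : ℕ) (hn : 3 ≤ n)
    (φ : B →+* (Fin n → PowerSeries k)) (hinj : Function.Injective φ)
    (hrange : Set.range φ = {f : Fin n → PowerSeries k |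
      ∀ i j : Fin n, constantCoeff (f i) = constantCoeff (f j)}) : False := by
  classical
  have : IsLocalRing B := hG.toIsLocalRing
  let i0 : Fin n := ⟨0, by lia⟩
  let i1 : Fin n := ⟨1, by lia⟩
  let i2 : Fin n := ⟨2, by lia⟩
  have h01 : i0 ≠ i1 := by simp [i0, i1, Fin.ext_iff]
  have h02 : i0 ≠ i2 := by simp [i0, i2, Fin.ext_iff]
  have h12 : i1 ≠ i2 := by simp [i1, i2, Fin.ext_iff]
  have hmem : ∀ f : Fin n → PowerSeries k,
      (∀ i j, constantCoeff (f i) = constantCoeff (f j)) → ∃ b, φ b = f := by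
    intro f hf
    have : f ∈ Set.range φ := by rw [hrange]; exact hf
    exact this
  have hcc : ∀ (b : B) (i j : Fin n), constantCoeff (φ b i) = constantCoeff (φ b j) := by
    intro b
    have : φ b ∈ Set.range φ := ⟨b, rfl⟩
    rw [hrange] at this
    exact this
  have hXne : (X : PowerSeries k) ≠ 0 := X_ne_zero
  -- the parameter `x`
  obtain ⟨x, hx⟩ := hmem (fun _ => X) (fun _ _ => rfl)
  obtain ⟨u1, hu1⟩ := hmem (Pi.single i0 X) (fun i j => by
    by_cases hi : i = i0 <;> by_cases hj : j = i0 <;> simp [hi, hj])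
  obtain ⟨u2, hu2⟩ := hmem (Pi.single i1 X) (fun i j => by
    by_cases hi : i = i1 <;> by_cases hj : j = i1 <;> simp [hi, hj])
  have hφx : ∀ i, φ x i = X := fun i => by rw [hx]
  -- units
  have hunit : ∀ b : B, constantCoeff (φ b i0) ≠ 0 → IsUnit b := by
    intro b hb
    obtain ⟨b', hb'⟩ := hmem (fun i => (φ b i)⁻¹) (fun i j => by
      rw [constantCoeff_inv, constantCoeff_inv, hcc b i j])
    refine IsUnit.of_mul_eq_one b' (hinj ?_)
    rw [map_mul, map_one, hb']
    funext i
    show φ b i * (φ b i)⁻¹ = 1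
    exact PowerSeries.mul_inv_cancel _ (by rw [hcc b i i0]; exact hb)
  have hm : ∀ b ∈ maximalIdeal B, ∀ i, constantCoeff (φ b i) = 0 := by
    intro b hb i
    by_contra h
    rw [hcc b i i0] at h
    exact hb (hunit b h)
  have hdiv : ∀ b ∈ maximalIdeal B, ∀ i, ∃ g : PowerSeries k, φ b i = X * g := by
    intro b hb i
    exact X_dvd_iff.2 (hm b hb i)
  have hxm : x ∈ maximalIdeal B := by
    intro hu
    have h1 : IsUnit (φ x) := hu.map φ
    have h2 : IsUnit (φ x i0) := h1.map (Pi.evalRingHom (fun _ : Fin n => PowerSeries k) i0)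
    rw [hφx, isUnit_iff_constantCoeff, constantCoeff_X] at h2
    exact not_isUnit_zero h2
  have hreg : IsSMulRegular B x := by
    intro b b' h
    apply hinj
    funext i
    have := congrArg (fun c => φ c i) h
    simp only [smul_eq_mul, map_mul, Pi.mul_apply, hφx] at this
    exact mul_left_cancel₀ hXne this
  -- membership in `(x)`
  have hspan : ∀ c : B, (∃ w : B, ∀ i, φ c i = X * φ w i) → c ∈ Ideal.span {x} := by
    rintro c ⟨w, hw⟩
    rw [Ideal.mem_span_singleton']
    refine ⟨w, hinj ?_⟩
    funext i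
    rw [map_mul, Pi.mul_apply, hφx, hw i, mul_comm]
  have hspan' : ∀ c : B, c ∈ Ideal.span {x} → ∃ w : B, ∀ i, φ c i = X * φ w i := by
    intro c hc
    rw [Ideal.mem_span_singleton'] at hc
    obtain ⟨w, rfl⟩ := hc
    exact ⟨w, fun i => by rw [map_mul, Pi.mul_apply, hφx, mul_comm]⟩
  have hsq : ∀ b ∈ maximalIdeal B, ∀ b' ∈ maximalIdeal B, b * b' ∈ Ideal.span {x} := by
    intro b hb b' hb'
    choose g' hg' using hdiv b' hb'
    obtain ⟨w, hw⟩ := hmem (fun i => φ b i * g' i) (fun i j => by
      rw [map_mul, map_mul, hm b hb i, hm b hb j, zero_mul, zero_mul])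
    refine hspan _ ⟨w, fun i => ?_⟩
    rw [hw, map_mul, Pi.mul_apply, hg' i]
    ring
  have hsingle : ∀ (j : Fin n) (u : B), φ u = Pi.single j X →
      ∀ b ∈ maximalIdeal B, b * u ∈ Ideal.span {x} := by
    intro j u hu b hb
    obtain ⟨w, hw⟩ := hmem (Pi.single j (φ b j)) (fun i i' => by
      by_cases hi : i = j <;> by_cases hi' : i' = j <;>
        simp [hi, hi', hm b hb j])
    refine hspan _ ⟨w, fun i => ?_⟩
    rw [hw, map_mul, Pi.mul_apply, hu]
    by_cases hi : i = j
    · subst hi
      simp only [Pi.single_eq_same]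
      ring
    · simp [hi]
  have hu1not : u1 ∉ Ideal.span {x} := by
    intro h
    obtain ⟨w, hw⟩ := hspan' u1 h
    have e0 := hw i0
    have e1 := hw i1
    rw [hu1] at e0 e1
    simp only [Pi.single_eq_same] at e0
    rw [Pi.single_apply, if_neg h01.symm] at e1
    have w0 : φ w i0 = 1 := by
      have : X * (1 : PowerSeries k) = X * φ w i0 := by rw [mul_one]; exact e0
      exact (mul_left_cancel₀ hXne this).symm
    have w1 : φ w i1 = 0 := by
      rcases mul_eq_zero.1 e1.symm with h | h
      · exact absurd h hXne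
      · exact h
    have := hcc w i0 i1
    rw [w0, w1] at this
    simp at this
  obtain ⟨a, ha⟩ := exists_mul_sub_mem B x hxm hreg hsq u1 u2 (hsingle i0 u1 hu1)
    (hsingle i1 u2 hu2) hu1not
  obtain ⟨w, hw⟩ := hspan' _ ha
  have e1 := hw i1
  have e2 := hw i2
  rw [map_sub, map_mul, Pi.sub_apply, Pi.mul_apply, hu1, hu2] at e1 e2
  rw [Pi.single_apply, if_neg h01.symm, Pi.single_eq_same, mul_zero, zero_sub] at e1
  rw [Pi.single_apply, if_neg h02.symm, Pi.single_apply, if_neg h12.symm, mul_zero,
    sub_zero] at e2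
  have w1 : φ w i1 = -1 := by
    have : X * (-1 : PowerSeries k) = X * φ w i1 := by rw [mul_neg, mul_one]; exact e1
    exact (mul_left_cancel₀ hXne this).symm
  have w2 : φ w i2 = 0 := by
    rcases mul_eq_zero.1 e2.symm with h | h
    · exact absurd h hXne
    · exact h
  have := hcc w i1 i2
  rw [w1, w2] at this
  simp at this

/-- S12217: a Gorenstein multicross singularity is a node. -/
theorem main (k : Type u) [Field k]
    (A : Type u) [CommRing A] [LocCoh.IsGorensteinLocalRing A] (n : ℕ) (hn : 2 ≤ n)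
    (φ : AdicCompletion (IsLocalRing.maximalIdeal A) A →+* (Fin n → PowerSeries k))
    (hinj : Function.Injective φ)
    (hrange : Set.range φ = {f : Fin n → PowerSeries k | ∀ i j : Fin n,
      PowerSeries.constantCoeff (f i) = PowerSeries.constantCoeff (f j)}) :
    n = 2 := by
  by_contra hne
  have h3 : 3 ≤ n := by lia
  have := gor_completion A
  exact false_of_three_le k _ n h3 φ hinj hrange

end Groth.Agent.Lib.Helper9.MultiCross
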