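import Mathlib
import Groth.Agent.Lib.Helper9.PrimDec3
import Groth.Agent.Lib.Helper9.RedMod

set_option autoImplicit false
open CategoryTheory CategoryTheory.Limits AlgebraicGeometry
universe u

namespace Groth.Agent.Lib.Helper9.NDense

open Groth.Agent.Lib.Helper29.QCoh

variable {X : Scheme.{u}}

/-- The support of a quasi-coherent module is stable under specialization. -/
theorem nontrivial_stalk_of_specializes (F : X.Modules) [F.IsQuasicoherent] {y v : X}
    (h : y ⤳ v) (hy : Nontrivial (F.presheaf.stalk y)) : Nontrivial (F.presheaf.stalk v) := by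
  rw [← not_subsingleton_iff_nontrivial] at hy ⊢
  intro hv
  apply hy
  obtain ⟨V, hV, hvV, -⟩ := exists_isAffineOpen_mem_and_subset (x := v) (U := (⊤ : X.Opens)) trivial
  have hyV : y ∈ V := h.mem_open V.isOpen hvV
  rw [stalk_subsingleton_iff_germ F hV y hyV]
  intro m
  have h0 : F.presheaf.germ V v hvV m = 0 := Subsingleton.elim _ _
  obtain ⟨W, hWV, hvW, hres⟩ := exists_res_eq_zero_of_germ_eq_zero F v hvV m h0
  have hyW : y ∈ W := h.mem_open W.isOpen hvW
  rw [← germ_res F hWV y hyW m, hres, map_zero]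

/-- The embedded associated points. -/
def Emb (F : X.Modules) : Set X :=
  {y | Curv2.IsWeakAssPoint F y ∧ ∃ y', Curv2.IsWeakAssPoint F y' ∧ y' ⤳ y ∧ y' ≠ y}

/-- The non-embedded associated points. -/
def Ass₀ (F : X.Modules) : Set X :=
  {y | Curv2.IsWeakAssPoint F y ∧ ∀ y', Curv2.IsWeakAssPoint F y' → y' ⤳ y → y' = y}

theorem weakAss_mem_or (F : X.Modules) (y : X) (hy : Curv2.IsWeakAssPoint F y) :
    y ∈ Emb F ∨ y ∈ Ass₀ F := by
  by_cases h : ∀ y', Curv2.IsWeakAssPoint F y' → y' ⤳ y → y' = y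
  · exact Or.inr ⟨hy, h⟩
  · push Not at h
    obtain ⟨y', h1, h2, h3⟩ := h
    exact Or.inl ⟨hy, y', h1, h2, h3⟩

/-- Every point of the support has a generization which is a non-embedded associated point. -/
theorem exists_ass₀_specializes [IsLocallyNoetherian X] (F : X.Modules) [F.IsQuasicoherent]
    [F.IsFiniteType] (w : X) (hw : Nontrivial (F.presheaf.stalk w)) :
    ∃ z ∈ Ass₀ F, z ⤳ w := by
  obtain ⟨V, hV, hwV, -⟩ := exists_isAffineOpen_mem_and_subset (x := w) (U := (⊤ : X.Opens)) trivial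
  have hns : ¬ Subsingleton (F.presheaf.stalk w) := not_subsingleton_iff_nontrivial.mpr hw
  rw [stalk_subsingleton_iff_germ F hV w hwV, not_forall] at hns
  obtain ⟨m, hm⟩ := hns
  obtain ⟨z₀, hz₀V, hz₀w, hz₀, -⟩ := exists_isWeakAssPoint_specializes F hV m w hwV hm
  let S : Set X := {z | (z ∈ V ∧ Curv2.IsWeakAssPoint F z) ∧ z ⤳ w}
  have hSfin : S.Finite :=
    (finite_isWeakAssPoint_of_isAffineOpen F hV).subset fun z hz => hz.1
  have hSne : S.Nonempty := ⟨z₀, ⟨hz₀V, hz₀⟩, hz₀w⟩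
  obtain ⟨z, hzS, hzmax⟩ := hSfin.exists_maximalFor id S hSne
  refine ⟨z, ⟨hzS.1.2, fun y' hy' hy'z => ?_⟩, hzS.2⟩
  have hy'S : y' ∈ S := ⟨⟨hy'z.mem_open V.isOpen hzS.1.1, hy'⟩, hy'z.trans hzS.2⟩
  have h1 : z ⤳ y' := hzmax hy'S hy'z
  exact (hy'z.antisymm h1).eq

/-- A point of the closure of the embedded points is a specialization of an embedded point. -/
theorem exists_emb_specializes [IsLocallyNoetherian X] (F : X.Modules) [F.IsQuasicoherent]
    [F.IsFiniteType] (z : X) (hz : z ∈ closure (Emb F)) : ∃ y ∈ Emb F, y ⤳ z := by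
  obtain ⟨V, hV, hzV, -⟩ := exists_isAffineOpen_mem_and_subset (x := z) (U := (⊤ : X.Opens)) trivial
  have hfin : (Emb F ∩ (V : Set X)).Finite :=
    (finite_isWeakAssPoint_of_isAffineOpen F hV).subset fun y hy => ⟨hy.2, hy.1.1⟩
  have hz' : z ∈ closure (Emb F ∩ (V : Set X)) := by
    rw [mem_closure_iff]
    intro O hO hzO
    obtain ⟨y, hyO, hyE⟩ := mem_closure_iff.mp hz (O ∩ V) (hO.inter V.isOpen) ⟨hzO, hzV⟩
    exact ⟨y, hyO.1, hyE, hyO.2⟩
  rw [← Set.biUnion_of_singleton (Emb F ∩ (V : Set X)), hfin.closure_biUnion] at hz'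
  obtain ⟨y, hy, hzy⟩ := Set.mem_iUnion₂.mp hz'
  exact ⟨y, hy.1, specializes_iff_mem_closure.mpr hzy⟩

/-- A weakly associated point in the closure of the embedded points is embedded. -/
theorem mem_emb_of_mem_closure [IsLocallyNoetherian X] (F : X.Modules) [F.IsQuasicoherent]
    [F.IsFiniteType] (z : X) (hzA : Curv2.IsWeakAssPoint F z) (hz : z ∈ closure (Emb F)) :
    z ∈ Emb F := by
  obtain ⟨y, hy, hyz⟩ := exists_emb_specializes F z hz
  by_cases h : y = z
  · rwa [← h]
  · exact ⟨hzA, y, hy.1, hyz, h⟩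

theorem ass₀_notMem_closure [IsLocallyNoetherian X] (F : X.Modules) [F.IsQuasicoherent]
    [F.IsFiniteType] (z : X) (hz : z ∈ Ass₀ F) : z ∉ closure (Emb F) := by
  intro hcl
  obtain ⟨-, y', h1, h2, h3⟩ := mem_emb_of_mem_closure F z hz.1 hcl
  exact h3 (hz.2 y' h1 h2)

/-- A non-embedded associated point is a maximal point of the support. -/
theorem ass₀_maximal [IsLocallyNoetherian X] (F : X.Modules) [F.IsQuasicoherent]
    [F.IsFiniteType] (z : X) (hz : z ∈ Ass₀ F) (y : X) (hy : Nontrivial (F.presheaf.stalk y))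
    (hyz : y ⤳ z) : y = z := by
  obtain ⟨z', hz', hz'y⟩ := exists_ass₀_specializes F y hy
  have h1 : z' = z := hz.2 z' hz'.1 (hz'y.trans hyz)
  rw [h1] at hz'y
  exact (hyz.antisymm hz'y).eq

end Groth.Agent.Lib.Helper9.NDense
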