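import Mathlib
import Groth.Agent.Lib.Helper9.NDense1

set_option autoImplicit false
open CategoryTheory CategoryTheory.Limits AlgebraicGeometry
universe u

namespace Groth.Agent.Lib.Helper9.NDense

open Groth.Agent.Lib.Helper29.QCoh

variable {X : Scheme.{u}}

/-- A maximal point of the support of a coherent module has an open neighbourhood in which the
support is contained in the closure of the point. -/
theorem exists_open_support_subset_closure [IsLocallyNoetherian X] (F : X.Modules)
    [F.IsQuasicoherent] [F.IsFiniteType] (x : X) (hnt : Nontrivial (F.presheaf.stalk x))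
    (hmax : ∀ y : X, Nontrivial (F.presheaf.stalk y) → y ⤳ x → y = x) :
    ∃ W : X.Opens, x ∈ W ∧ ∀ u ∈ W, Nontrivial (F.presheaf.stalk u) → x ⤳ u := by
  obtain ⟨V, hV, hxV, -⟩ := exists_isAffineOpen_mem_and_subset (x := x) (U := (⊤ : X.Opens)) trivial
  have hN : IsNoetherianRing Γ(X, V) :=
    IsLocallyNoetherian.component_noetherian (X := X) ⟨V, hV⟩
  have hfin : Module.Finite Γ(X, V) Γ(F, V) := module_finite_of_isFiniteType F hV
  have hxsupp : hV.primeIdealOf ⟨x, hxV⟩ ∈ Module.support Γ(X, V) Γ(F, V) := by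
    by_contra hns
    exact (not_subsingleton_iff_nontrivial.mpr hnt)
      ((Groth.Agent.S4637.stalk_subsingleton_iff_notMem_support F hV x hxV).mpr hns)
  have hmin : (hV.primeIdealOf ⟨x, hxV⟩).asIdeal ∈
      (Module.annihilator Γ(X, V) Γ(F, V)).minimalPrimes := by
    refine ⟨⟨(hV.primeIdealOf ⟨x, hxV⟩).isPrime, Module.mem_support_iff_of_finite.mp hxsupp⟩,
      fun q hq hqp => ?_⟩
    obtain ⟨hqq, hIq⟩ := hq
    obtain ⟨y, hy, hyq⟩ := exists_point_of_prime' hV ⟨q, hqq⟩
    have hynt : Nontrivial (F.presheaf.stalk y) := by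
      rw [← not_subsingleton_iff_nontrivial,
        Groth.Agent.S4637.stalk_subsingleton_iff_notMem_support F hV y hy,
        not_not, hyq, Module.mem_support_iff_of_finite]
      exact hIq
    have hyx : y ⤳ x := specializes_of_primeIdealOf_le hV x y hxV hy
      (by rw [hyq]; exact hqp)
    have hyeq := hmax y hynt hyx
    have e : hV.primeIdealOf ⟨y, hy⟩ = hV.primeIdealOf ⟨x, hxV⟩ := by subst hyeq; rfl
    rw [← e, hyq]
  obtain ⟨a, hap, ha⟩ :=
    Groth.Agent.Lib.Helper9.RedMod.exists_notMem_forall_le_of_mem_minimalPrimes _ _ hmin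
  have hxa : x ∈ X.basicOpen a := (mem_basicOpen_iff_notMem_primeIdealOf hV x hxV a).mpr hap
  refine ⟨X.basicOpen a, hxa, fun u hua hunt => ?_⟩
  have huV : u ∈ V := X.basicOpen_le a hua
  have hau := (mem_basicOpen_iff_notMem_primeIdealOf hV u huV a).mp hua
  have husupp : hV.primeIdealOf ⟨u, huV⟩ ∈ Module.support Γ(X, V) Γ(F, V) := by
    by_contra hns
    exact (not_subsingleton_iff_nontrivial.mpr hunt)
      ((Groth.Agent.S4637.stalk_subsingleton_iff_notMem_support F hV u huV).mpr hns)
  have hle := ha _ (hV.primeIdealOf ⟨u, huV⟩).isPrime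
    (Module.mem_support_iff_of_finite.mp husupp) hau
  exact specializes_of_primeIdealOf_le hV u x huV hxV hle

/-- The cokernel of (an isomorphic copy of) the kernel of `ψ` embeds in the target of `ψ`. -/
theorem mono_cokernel_desc {A B N : X.Modules} (k : A ⟶ B) (ψ : B ⟶ N) (e : A ≅ kernel ψ)
    (hk : k = e.hom ≫ kernel.ι ψ) (w : k ≫ ψ = 0) : Mono (cokernel.desc k ψ w) := by
  let iso : cokernel k ≅ cokernel (kernel.ι ψ) :=
    cokernel.mapIso _ _ e (Iso.refl _) (by rw [hk]; simp)
  have hcomp : cokernel.desc k ψ w = iso.hom ≫ Abelian.factorThruCoimage ψ := by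
    rw [← cancel_epi (cokernel.π _)]
    simp [iso, Abelian.factorThruCoimage]
  rw [hcomp]
  infer_instance

end Groth.Agent.Lib.Helper9.NDense
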