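import Mathlib
import Groth.Statements.S8908
import Groth.Agent.Lib.Helper9.NDense2

set_option autoImplicit false
open CategoryTheory CategoryTheory.Limits AlgebraicGeometry
universe u

namespace Groth.Agent.Lib.Helper9.NDense

open Groth.Agent.Lib.Helper29.QCoh

variable {X : Scheme.{u}}

theorem nontrivial_of_isWeakAssPoint (F : X.Modules) (z : X) (hz : Curv2.IsWeakAssPoint F z) :
    Nontrivial (F.presheaf.stalk z) := by
  rw [← not_subsingleton_iff_nontrivial]
  intro hs
  exact not_isWeakAssPoint_of_subsingleton F z hz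

/-- A point with nonzero stalk in a quasi-coherent module is a specialization of a weakly
associated point. -/
theorem exists_isWeakAssPoint_specializes' (F : X.Modules) [F.IsQuasicoherent] (w : X)
    (hw : Nontrivial (F.presheaf.stalk w)) : ∃ y, Curv2.IsWeakAssPoint F y ∧ y ⤳ w := by
  obtain ⟨V, hV, hwV, -⟩ := exists_isAffineOpen_mem_and_subset (x := w) (U := (⊤ : X.Opens)) trivial
  have hns : ¬ Subsingleton (F.presheaf.stalk w) := not_subsingleton_iff_nontrivial.mpr hw
  rw [stalk_subsingleton_iff_germ F hV w hwV, not_forall] at hns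
  obtain ⟨m, hm⟩ := hns
  obtain ⟨y, -, hyw, hy, -⟩ := exists_isWeakAssPoint_specializes F hV m w hwV hm
  exact ⟨y, hy, hyw⟩

theorem main (X : Scheme.{u}) [IsLocallyNoetherian X] (F : X.Modules) (hF : Coh.IsCoh F) :
    ∃ K : Subobject F, Coh.IsCoh (K : X.Modules) ∧
      (∀ U : X.Opens, (U : Set ↥X) ∩ CohB1.support F ⊆ CohB1.support (K : X.Modules) →
        (U : Set ↥X) ∩ CohB1.support F = ∅) ∧
      (∀ K' : Subobject F, Coh.IsCoh (K' : X.Modules) →
        (∀ U : X.Opens, (U : Set ↥X) ∩ CohB1.support F ⊆ CohB1.support (K' : X.Modules) →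
          (U : Set ↥X) ∩ CohB1.support F = ∅) →
        K' ≤ K) ∧
      CohB1.support (cokernel K.arrow) = CohB1.support F ∧
      (∀ x : ↥X, Curv2.IsAssPoint (cokernel K.arrow) x →
        ∀ y : ↥X, Curv2.IsAssPoint (cokernel K.arrow) y → y ⤳ x → y = x) ∧
      ∃ U : X.Opens, Dense (U : Set ↥X) ∧
        CohB1.support F ⊆ closure ((U : Set ↥X) ∩ CohB1.support F) ∧
        IsIso ((Scheme.Modules.restrictFunctor U.ι).map (cokernel.π K.arrow)) := by
  have hFq : F.IsQuasicoherent := hF.1
  have hFf : F.IsFiniteType := hF.2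
  let U₀ : X.Opens := ⟨(closure (Emb F))ᶜ, isClosed_closure.isOpen_compl⟩
  have hU₀ : ∀ w : X, w ∈ U₀ ↔ w ∉ closure (Emb F) := fun w => Iff.rfl
  let j := U₀.ι
  have hjqc : QuasiCompact j := inferInstance
  let R := Scheme.Modules.restrictFunctor j
  let P := Scheme.Modules.pushforward j
  let adj := Scheme.Modules.restrictAdjunction j
  let η : F ⟶ P.obj (R.obj F) := adj.unit.app F
  have hRq : (R.obj F).IsQuasicoherent := inferInstanceAs (F.restrict j).IsQuasicoherent
  have hPq : (P.obj (R.obj F)).IsQuasicoherent := isQuasicoherent_pushforward_of_qcqs j (R.obj F)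
  let K : Subobject F := kernelSubobject η
  let eK : (K : X.Modules) ≅ kernel η := kernelSubobjectIso η
  have hKarrow : K.arrow = eK.hom ≫ kernel.ι η := (kernelSubobject_arrow η).symm
  have hKη : K.arrow ≫ η = 0 := by rw [hKarrow, Category.assoc, kernel.condition, comp_zero]
  have hKq : (K : X.Modules).IsQuasicoherent := isQuasicoherent_of_iso eK.symm
  have hKf : (K : X.Modules).IsFiniteType := isFiniteType_of_mono K.arrow
  -- sections over opens inside `U₀` are detected by `η`
  have hS1 : ∀ (W : X.Opens), W ≤ U₀ → ∀ s : Γ(F, W), η.app W s = 0 → s = 0 := by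
    intro W hW s hs
    apply eq_zero_of_germ_eq_zero
    intro w hw
    have hw' : w ∈ j ''ᵁ (j ⁻¹ᵁ W) := ⟨⟨w, hW hw⟩, hw, rfl⟩
    have h1 : η.app W s = res F (j.image_preimage_le W) s := rfl
    have h2 : res F (j.image_preimage_le W) s = 0 := h1.symm.trans hs
    rw [← germ_res F (j.image_preimage_le W) w hw' s, h2, map_zero]
  -- stalks of `K` vanish on `U₀`
  have hS2 : ∀ w ∈ U₀, Subsingleton ((K : X.Modules).presheaf.stalk w) := by
    intro w hw
    refine ⟨fun a b => ?_⟩
    suffices h' : ∀ t : (K : X.Modules).presheaf.stalk w, t = 0 by rw [h' a, h' b]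
    intro t
    obtain ⟨W, hwW, s, rfl⟩ := (K : X.Modules).presheaf.exists_germ_eq t
    have hle : W ⊓ U₀ ≤ W := inf_le_left
    have hwW' : w ∈ W ⊓ U₀ := ⟨hwW, hw⟩
    rw [← germ_res (K : X.Modules) hle w hwW' s]
    have h0 : res (K : X.Modules) hle s = 0 := by
      apply (mono_iff_app_injective K.arrow).mp inferInstance (W ⊓ U₀)
      rw [map_zero]
      apply hS1 (W ⊓ U₀) inf_le_right
      exact app_zero_of_comp_eq_zero K.arrow η hKη _ _
    rw [h0, map_zero]
  have hass₀U : ∀ z ∈ Ass₀ F, z ∈ U₀ := fun z hz => ass₀_notMem_closure F z hz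
  refine ⟨K, ⟨hKq, hKf⟩, ?_, ?_, ?_, ?_, ?_⟩
  · -- nowhere dense support
    intro U hU
    rw [Set.eq_empty_iff_forall_notMem]
    rintro w ⟨hwU, hwF⟩
    obtain ⟨z, hz, hzw⟩ := exists_ass₀_specializes F w (not_subsingleton_iff_nontrivial.mp hwF)
    have hzU : z ∈ U := hzw.mem_open U.isOpen hwU
    have hzF : z ∈ CohB1.support F :=
      not_subsingleton_iff_nontrivial.mpr (nontrivial_of_isWeakAssPoint F z hz.1)
    exact hU ⟨hzU, hzF⟩ (hS2 z (hass₀U z hz))
  · -- maximality
    intro K' hK' hnd
    have hK'q : (K' : X.Modules).IsQuasicoherent := hK'.1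
    have hS3 : ∀ w ∈ U₀, Subsingleton ((K' : X.Modules).presheaf.stalk w) := by
      intro w hw
      by_contra hns
      obtain ⟨y, hy, hyw⟩ := exists_isWeakAssPoint_specializes' (K' : X.Modules) w
        (not_subsingleton_iff_nontrivial.mp hns)
      have hyF : Curv2.IsWeakAssPoint F y :=
        (isAssPoint_iff_isWeakAssPoint F y).mp
          (isAssPoint_of_mono K'.arrow y ((isAssPoint_iff_isWeakAssPoint _ y).mpr hy))
      rcases weakAss_mem_or F y hyF with hE | hA
      · apply (hU₀ w).mp hw
        exact closure_mono (Set.singleton_subset_iff.mpr hE) (specializes_iff_mem_closure.mp hyw)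
      · have hyK' : Nontrivial ((K' : X.Modules).presheaf.stalk y) :=
          nontrivial_of_isWeakAssPoint _ y hy
        have hyFn : Nontrivial (F.presheaf.stalk y) := nontrivial_of_isWeakAssPoint F y hyF
        obtain ⟨W, hyW, hW⟩ := exists_open_support_subset_closure F y hyFn
          (fun y' hy' hy'y => ass₀_maximal F y hA y' hy' hy'y)
        have h1 := hnd W (by
          rintro u ⟨huW, huF⟩
          have hyu := hW u huW (not_subsingleton_iff_nontrivial.mp huF)
          exact not_subsingleton_iff_nontrivial.mpr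
            (nontrivial_stalk_of_specializes (K' : X.Modules) hyu hyK'))
        have h2 : y ∈ (W : Set X) ∩ CohB1.support F :=
          ⟨hyW, not_subsingleton_iff_nontrivial.mpr hyFn⟩
        rw [h1] at h2
        exact h2
    apply le_kernelSubobject
    apply Scheme.Modules.hom_ext
    intro W
    ext s
    change η.app W (K'.arrow.app W s) = 0
    have h1 : η.app W (K'.arrow.app W s) = res F (j.image_preimage_le W) (K'.arrow.app W s) := rfl
    rw [h1, ← app_res]
    have h0 : res (K' : X.Modules) (j.image_preimage_le W) s = 0 := by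
      apply eq_zero_of_germ_eq_zero
      rintro w ⟨w', -, rfl⟩
      exact @Subsingleton.elim _ (hS3 _ w'.2) _ _
    rw [h0]
    exact map_zero _
  · -- support of the quotient
    have hex : (ShortComplex.mk K.arrow (cokernel.π K.arrow) (cokernel.condition K.arrow)).Exact :=
      ShortComplex.exact_cokernel K.arrow
    apply Set.Subset.antisymm
    · intro w hw hFw
      apply hw
      refine ⟨fun a b => ?_⟩
      obtain ⟨a', rfl⟩ := (epi_iff_stalkMap_surjective (cokernel.π K.arrow)).mp inferInstance w a
      obtain ⟨b', rfl⟩ := (epi_iff_stalkMap_surjective (cokernel.π K.arrow)).mp inferInstance w b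
      rw [Subsingleton.elim a' b']
    · intro w hw
      obtain ⟨z, hz, hzw⟩ := exists_ass₀_specializes F w (not_subsingleton_iff_nontrivial.mp hw)
      have hzK := hS2 z (hass₀U z hz)
      have hinj : Function.Injective (stalkMap (cokernel.π K.arrow) z) := by
        rw [injective_iff_map_eq_zero]
        intro t ht
        obtain ⟨t', rfl⟩ := ((exact_iff_stalk_function_exact _).mp hex z t).mp ht
        rw [Subsingleton.elim t' 0, map_zero]
      have hzF : Nontrivial (F.presheaf.stalk z) := nontrivial_of_isWeakAssPoint F z hz.1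
      have hzF' : Nontrivial ((cokernel K.arrow).presheaf.stalk z) := hinj.nontrivial
      exact not_subsingleton_iff_nontrivial.mpr
        (nontrivial_stalk_of_specializes (cokernel K.arrow) hzw hzF')
  · -- no embedded points
    have hmono : Mono (cokernel.desc K.arrow η hKη) := mono_cokernel_desc K.arrow η eK hKarrow hKη
    have key : ∀ x : X, Curv2.IsAssPoint (cokernel K.arrow) x → x ∈ Ass₀ F := by
      intro x hx
      have h1 : Curv2.IsAssPoint (P.obj (R.obj F)) x :=
        isAssPoint_of_mono (cokernel.desc K.arrow η hKη) x hx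
      obtain ⟨y', hy', hy'R⟩ := exists_isWeakAssPoint_of_pushforward_of_qcqs j (R.obj F) x
        ((isAssPoint_iff_isWeakAssPoint _ x).mp h1)
      have h2 : Curv2.IsWeakAssPoint F (j y') := (isWeakAssPoint_restrict_iff j F y').mp hy'R
      rw [hy'] at h2
      rcases weakAss_mem_or F x h2 with hE | hA
      · exfalso
        have hxU : x ∈ U₀ := by rw [← hy']; exact y'.2
        exact (hU₀ x).mp hxU (subset_closure hE)
      · exact hA
    intro x hx y hy hyx
    exact (key x hx).2 y (key y hy).1 hyx
  · -- the dense open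
    refine ⟨U₀, ?_, ?_, ?_⟩
    · rw [dense_iff_inter_open]
      rintro O hO ⟨w, hwO⟩
      by_cases hwF : Subsingleton (F.presheaf.stalk w)
      · refine ⟨w, hwO, ?_⟩
        intro hcl
        obtain ⟨y, hy, hyw⟩ := exists_emb_specializes F w hcl
        have := nontrivial_stalk_of_specializes F hyw (nontrivial_of_isWeakAssPoint F y hy.1)
        exact not_subsingleton_iff_nontrivial.mpr this hwF
      · obtain ⟨z, hz, hzw⟩ := exists_ass₀_specializes F w (not_subsingleton_iff_nontrivial.mp hwF)
        exact ⟨z, hzw.mem_open hO hwO, hass₀U z hz⟩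
    · intro w hw
      rw [mem_closure_iff]
      intro O hO hwO
      obtain ⟨z, hz, hzw⟩ := exists_ass₀_specializes F w (not_subsingleton_iff_nontrivial.mp hw)
      exact ⟨z, hzw.mem_open hO hwO, hass₀U z hz,
        not_subsingleton_iff_nontrivial.mpr (nontrivial_of_isWeakAssPoint F z hz.1)⟩
    · have hfac : cokernel.π K.arrow ≫ cokernel.desc K.arrow η hKη = η := cokernel.π_desc _ _ _
      have hunit : IsIso (R.map η) := by
        have h := adj.left_triangle_components F
        have h3 : IsIso (R.map (adj.unit.app F) ≫ adj.counit.app (R.obj F)) := by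
          rw [h]; infer_instance
        exact IsIso.of_isIso_comp_right _ (adj.counit.app (R.obj F))
      have hcomp : R.map (cokernel.π K.arrow) ≫ R.map (cokernel.desc K.arrow η hKη) = R.map η := by
        rw [← R.map_comp, hfac]
      have hmono : Mono (R.map (cokernel.π K.arrow)) := by
        have : Mono (R.map (cokernel.π K.arrow) ≫ R.map (cokernel.desc K.arrow η hKη)) := by
          rw [hcomp]; infer_instance
        exact mono_of_mono _ (R.map (cokernel.desc K.arrow η hKη))
      have hepi : Epi (R.map (cokernel.π K.arrow)) := by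
        have : R.IsLeftAdjoint := adj.isLeftAdjoint
        infer_instance
      exact isIso_of_mono_of_epi _

end Groth.Agent.Lib.Helper9.NDense
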