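/-
Nilpotent flatness criterion with associated primes (EGA IV 11.4-style): `A` Noetherian, `J` nilpotent,
`M/JM` flat over `A/J` and `M_p` flat over `A_p` for `p ∈ Ass(A)` imply `M` flat.
Also: transport of flatness mod an ideal along base change, `LocTorZero`.
-/
import Mathlib
import Groth.Agent.Lib.Helper9.IdeallySep

set_option autoImplicit false

universe u v

namespace Groth.Agent.Lib.Helper9

open TensorProduct Function

section Square

variable {R : Type*} [CommRing R] (M : Type*) [AddCommGroup M] [Module R M]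

/-- Naturality of `cancelBaseChange` in the first variable. -/
theorem cancelBaseChange_rTensor (S : Type*) [CommRing S] [Algebra R S]
    {A B : Type*} [AddCommGroup A] [Module R A] [Module S A] [IsScalarTower R S A]
    [AddCommGroup B] [Module R B] [Module S B] [IsScalarTower R S B]
    (j : A →ₗ[S] B) (x : A ⊗[S] (S ⊗[R] M)) :
    (j.restrictScalars R).rTensor M (AlgebraTensorModule.cancelBaseChange R S S A M x) =
      AlgebraTensorModule.cancelBaseChange R S S B M (j.rTensor (S ⊗[R] M) x) := by
  induction x using TensorProduct.induction_on with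
  | zero => simp
  | add x y hx hy => simp only [map_add, hx, hy]
  | tmul a y =>
    induction y using TensorProduct.induction_on with
    | zero => simp
    | add x y hx hy => simp only [TensorProduct.tmul_add, map_add, hx, hy]
    | tmul s m => simp

/-- Converse of `rTensor_injective_of_flat_baseChange`: flatness of `S ⊗[R] M` over `S` can be
checked on ideals of `S` after tensoring over `R`. -/
theorem flat_baseChange_of_rTensor_injective (S : Type*) [CommRing S] [Algebra R S]
    (h : ∀ 𝔞 : Ideal S, Injective ((𝔞.subtype.restrictScalars R).rTensor M)) :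
    Module.Flat S (S ⊗[R] M) := by
  rw [Module.Flat.iff_rTensor_injective']
  intro 𝔞 a b hab
  have h1 := cancelBaseChange_rTensor M S 𝔞.subtype a
  have h2 := cancelBaseChange_rTensor M S 𝔞.subtype b
  rw [hab, ← h2] at h1
  exact (AlgebraTensorModule.cancelBaseChange R S S 𝔞 M).injective (h 𝔞 h1)

end Square

end Groth.Agent.Lib.Helper9

namespace Groth.Agent.Lib.Helper9

open TensorProduct Function

section Transport

variable {A : Type*} [CommRing A] (M : Type*) [AddCommGroup M] [Module A M]

theorem flat_quotient_baseChange (B : Type*) [CommRing B] [Algebra A B]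
    (J : Ideal A) (J' : Ideal B) (hJ : J.map (algebraMap A B) ≤ J')
    [Module.Flat (A ⧸ J) ((A ⧸ J) ⊗[A] M)] :
    Module.Flat (B ⧸ J') ((B ⧸ J') ⊗[B] (B ⊗[A] M)) := by
  apply flat_baseChange_of_rTensor_injective
  intro 𝔞
  have hker : ∀ a ∈ J, algebraMap A (B ⧸ J') a = 0 := by
    intro a ha
    rw [IsScalarTower.algebraMap_apply A B (B ⧸ J'), Ideal.Quotient.algebraMap_eq,
      Ideal.Quotient.eq_zero_iff_mem]
    exact hJ (Ideal.mem_map_of_mem _ ha)
  have hB : Module.IsTorsionBySet A (B ⧸ J') J := by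
    rintro y ⟨a, ha⟩
    change a • y = 0
    rw [Algebra.smul_def, hker a ha, zero_mul]
  have hA : Module.IsTorsionBySet A 𝔞 J := by
    rintro y ⟨a, ha⟩
    apply Subtype.ext
    change a • (y : B ⧸ J') = 0
    rw [Algebra.smul_def, hker a ha, zero_mul]
  let j : 𝔞 →ₗ[B] (B ⧸ J') := 𝔞.subtype.restrictScalars B
  have hj : Injective (j.restrictScalars A) := 𝔞.injective_subtype
  have hinj := rTensor_injective_of_isTorsionBySet M J hA hB (j.restrictScalars A) hj
  intro a b hab
  have h1 := cancelBaseChange_rTensor M B j a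
  have h2 := cancelBaseChange_rTensor M B j b
  have hab' : j.rTensor (B ⊗[A] M) a = j.rTensor (B ⊗[A] M) b := hab
  rw [hab', ← h2] at h1
  exact (AlgebraTensorModule.cancelBaseChange A B B 𝔞 M).injective (hinj h1)

/-- "`Tor_1^A(A/F, M)` vanishes locally at `p` for every ideal `F`". Implied by flatness of
`M_p` over `A_p`. -/
def LocTorZero (p : Ideal A) : Prop :=
  ∀ (F : Ideal A) (x : ↥F ⊗[A] M), F.subtype.rTensor M x = 0 → ∃ s, s ∉ p ∧ s • x = 0

theorem locTorZero_of_flat_localizedModule (p : Ideal A) [p.IsPrime]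
    [Module.Flat (Localization.AtPrime p) (LocalizedModule p.primeCompl M)] : LocTorZero M p :=
  fun F x hx => exists_smul_eq_zero_of_flat_localizedModule p F x hx

/-- `LocTorZero` passes to quotients of the ring. -/
theorem LocTorZero.quotient (I : Ideal A) (p' : Ideal (A ⧸ I))
    (h : LocTorZero M (p'.comap (Ideal.Quotient.mk I))) :
    LocTorZero ((A ⧸ I) ⊗[A] M) p' := by
  intro F' x' hx'
  let B := A ⧸ I
  let F : Ideal A := F'.comap (Ideal.Quotient.mk I)
  let π : F →ₗ[A] F' :=
    { toFun := fun a => ⟨Ideal.Quotient.mk I a.1, a.2⟩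
      map_add' := fun a b => rfl
      map_smul' := fun r a => rfl }
  have hπ : Surjective π := by
    rintro ⟨b, hb⟩
    obtain ⟨a, rfl⟩ := Ideal.Quotient.mk_surjective b
    exact ⟨⟨a, hb⟩, rfl⟩
  let e := AlgebraTensorModule.cancelBaseChange A B B F' M
  let eB := AlgebraTensorModule.cancelBaseChange A B B B M
  set y' := e x' with hy'
  have h1 : (F'.subtype.restrictScalars A).rTensor M y' = 0 := by
    have := cancelBaseChange_rTensor M B F'.subtype x'
    rw [this, hx', map_zero]
  obtain ⟨y, hy⟩ := LinearMap.rTensor_surjective M hπ y'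
  have hsq : (F'.subtype.restrictScalars A) ∘ₗ π = I.mkQ ∘ₗ F.subtype := rfl
  have h2 : I.mkQ.rTensor M (F.subtype.rTensor M y) = 0 := by
    rw [← LinearMap.rTensor_comp_apply, ← hsq, LinearMap.rTensor_comp_apply, hy, h1]
  obtain ⟨z, hz⟩ := (rTensor_exact M (LinearMap.exact_subtype_mkQ I) I.mkQ_surjective _).mp h2
  have hIF : I ≤ F := by
    intro a ha
    change Ideal.Quotient.mk I a ∈ F'
    rw [Ideal.Quotient.eq_zero_iff_mem.mpr ha]
    exact F'.zero_mem
  set y₂ := y - (Submodule.inclusion hIF).rTensor M z with hy₂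
  have h3 : F.subtype.rTensor M y₂ = 0 := by
    rw [hy₂, map_sub, ← LinearMap.rTensor_comp_apply]
    have : F.subtype ∘ₗ Submodule.inclusion hIF = I.subtype := rfl
    rw [this, hz, sub_self]
  have h4 : π.rTensor M y₂ = y' := by
    rw [hy₂, map_sub, ← LinearMap.rTensor_comp_apply, hy]
    have : π ∘ₗ Submodule.inclusion hIF = 0 := by
      ext a
      change Ideal.Quotient.mk I a.1 = 0
      exact Ideal.Quotient.eq_zero_iff_mem.mpr a.2
    rw [this, LinearMap.rTensor_zero, LinearMap.zero_apply, sub_zero]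
  obtain ⟨s, hs, hsy⟩ := h F y₂ h3
  refine ⟨Ideal.Quotient.mk I s, hs, ?_⟩
  apply e.injective
  rw [map_smul, map_zero, ← hy', ← h4]
  change (algebraMap A B s) • π.rTensor M y₂ = 0
  rw [algebraMap_smul, ← map_smul, hsy, map_zero]

end Transport

end Groth.Agent.Lib.Helper9

namespace Groth.Agent.Lib.Helper9

open TensorProduct Function

section Nilpotent

/-- Associated primes of `A ⧸ Ann(J)` pull back to associated primes of `A`. -/
theorem isAssociatedPrime_comap_of_annihilator {A : Type*} [CommRing A] [IsNoetherianRing A]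
    (J : Ideal A) (I : Ideal A) (hI : I = Submodule.annihilator J) (p' : Ideal (A ⧸ I))
    (hp' : IsAssociatedPrime p' (A ⧸ I)) :
    IsAssociatedPrime (p'.comap (Ideal.Quotient.mk I)) A := by
  rw [isAssociatedPrime_iff] at hp'
  obtain ⟨hprime, xbar, hx⟩ := hp'
  obtain ⟨x, rfl⟩ := Ideal.Quotient.mk_surjective xbar
  obtain ⟨s, hs⟩ := (IsNoetherian.noetherian J : J.FG)
  set p := p'.comap (Ideal.Quotient.mk I) with hp
  have hpprime : p.IsPrime := Ideal.comap_isPrime _ _
  have hmem : ∀ b, b ∈ p ↔ ∀ g ∈ s, b * (x * g) = 0 := by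
    intro b
    rw [hp, Ideal.mem_comap, hx, Submodule.mem_colon_singleton, Submodule.mem_bot, smul_eq_mul,
      ← map_mul, Ideal.Quotient.eq_zero_iff_mem, hI, ← hs, Submodule.mem_annihilator_span]
    constructor
    · intro h g hg
      have := h ⟨g, hg⟩
      rw [smul_eq_mul] at this
      rw [← mul_assoc]
      exact this
    · rintro h ⟨g, hg⟩
      rw [smul_eq_mul, mul_assoc]
      exact h g hg
  have hle : s.inf (fun g => (⊥ : Submodule A A).colon {x * g}) ≤ p := by
    intro b hb
    rw [hmem]
    intro g hg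
    have := (Finset.inf_le hg : s.inf (fun g => (⊥ : Submodule A A).colon {x * g}) ≤ _) hb
    rw [Submodule.mem_colon_singleton, Submodule.mem_bot, smul_eq_mul] at this
    exact this
  obtain ⟨g, hg, hgp⟩ := (Ideal.IsPrime.inf_le' hpprime).mp hle
  rw [isAssociatedPrime_iff]
  refine ⟨hpprime, x * g, le_antisymm ?_ hgp⟩
  intro b hb
  rw [Submodule.mem_colon_singleton, Submodule.mem_bot, smul_eq_mul]
  exact (hmem b).mp hb g hg

variable {A : Type u} [CommRing A] [IsNoetherianRing A] (M : Type v) [AddCommGroup M] [Module A M]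

/-- If `M / J M` is flat over `A / J`, `Tor_1^A(A/N, M)` is locally zero at all associated primes
of `A`, and `J N = 0`, then `N ⊗ M → M` is injective. -/
theorem rTensor_subtype_injective_of_mul_eq_zero (J : Ideal A)
    [Module.Flat (A ⧸ J) ((A ⧸ J) ⊗[A] M)]
    (hloc : ∀ p ∈ associatedPrimes A A, LocTorZero M p) (N : Ideal A)
    (hJN : ∀ a ∈ J, ∀ b ∈ N, a * b = 0) : Injective (N.subtype.rTensor M) := by
  rw [injective_iff_map_eq_zero]
  intro x hx
  have hfin := associatedPrimes.finite A A
  obtain ⟨s, hsx, hs⟩ := exists_smul_eq_zero_forall_notMem hfin.toFinset id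
    (fun q hq => IsAssociatedPrime.isPrime (hfin.mem_toFinset.mp hq)) x (by
      intro q hq
      exact hloc q (hfin.mem_toFinset.mp hq) N x hx)
  have hreg : ∀ z : A, s * z = 0 → z = 0 := by
    intro z hz
    by_contra hne
    have hmem : s ∈ ⋃ p ∈ associatedPrimes A A, (p : Set A) := by
      rw [biUnion_associatedPrimes_eq_zero_divisors]
      exact ⟨z, hne, hz⟩
    obtain ⟨q, hq, hsq⟩ := Set.mem_iUnion₂.mp hmem
    exact hs q (hfin.mem_toFinset.mpr hq) hsq
  have hN : Module.IsTorsionBySet A N J := by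
    rintro y ⟨a, ha⟩
    apply Subtype.ext
    exact hJN a ha y.1 y.2
  let j : N →ₗ[A] N := LinearMap.lsmul A N s
  have hj : Injective j := by
    rw [injective_iff_map_eq_zero]
    intro y hy
    apply Subtype.ext
    apply hreg
    exact congrArg Subtype.val hy
  have hjM : Injective (j.rTensor M) := rTensor_injective_of_isTorsionBySet M J hN hN j hj
  apply hjM
  rw [map_zero]
  have : j.rTensor M = s • LinearMap.id := by
    ext q m
    simp [j, TensorProduct.smul_tmul']
  rw [this, LinearMap.smul_apply, LinearMap.id_apply, hsx]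

/-- If `M / I M` is flat over `A / I` where `I = Ann(J)`, `M / J M` is flat over `A / J`, and the
local Tor-vanishing holds at the associated primes of `A`, then `J ⊗ M → M` is injective. -/
theorem rTensor_subtype_injective_of_flat_quotient_annihilator (J : Ideal A)
    [Module.Flat (A ⧸ J) ((A ⧸ J) ⊗[A] M)]
    (hloc : ∀ p ∈ associatedPrimes A A, LocTorZero M p)
    [Module.Flat (A ⧸ Submodule.annihilator J) ((A ⧸ Submodule.annihilator J) ⊗[A] M)] :
    Injective (J.subtype.rTensor M) := by
  set I : Ideal A := Submodule.annihilator J with hI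
  rw [injective_iff_map_eq_zero]
  intro x hx
  have hle : J ⊓ I ≤ J := inf_le_left
  let L : Submodule A J := Submodule.comap J.subtype (J ⊓ I)
  let j : (J ⧸ L) →ₗ[A] (A ⧸ I) := L.liftQ (I.mkQ ∘ₗ J.subtype) (by
    intro y hy
    rw [LinearMap.mem_ker, LinearMap.comp_apply, Submodule.mkQ_apply,
      Submodule.Quotient.mk_eq_zero]
    exact hy.2)
  have hj : Injective j := by
    rw [injective_iff_map_eq_zero]
    intro q hq
    obtain ⟨y, rfl⟩ := Submodule.Quotient.mk_surjective L q
    have h1 : (Submodule.Quotient.mk (y : A) : A ⧸ I) = 0 := hq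
    rw [Submodule.Quotient.mk_eq_zero] at h1
    rw [Submodule.Quotient.mk_eq_zero]
    exact ⟨y.2, h1⟩
  have hQ : Module.IsTorsionBySet A (J ⧸ L) I := by
    rw [Module.isTorsionBySet_quotient_iff]
    intro y a ha
    exact ⟨Ideal.mul_mem_left _ _ y.2, Ideal.mul_mem_right _ _ ha⟩
  have hB : Module.IsTorsionBySet A (A ⧸ I) I := by
    rintro y ⟨a, ha⟩
    obtain ⟨r, rfl⟩ := Ideal.Quotient.mk_surjective y
    change Ideal.Quotient.mk I (a • r) = 0
    rw [Ideal.Quotient.eq_zero_iff_mem]
    exact Ideal.mul_mem_right _ _ ha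
  have hjM : Injective (j.rTensor M) := rTensor_injective_of_isTorsionBySet M I hQ hB j hj
  have hsq : j ∘ₗ L.mkQ = I.mkQ ∘ₗ J.subtype := rfl
  have h1 : L.mkQ.rTensor M x = 0 := by
    apply hjM
    rw [← LinearMap.rTensor_comp_apply, hsq, LinearMap.rTensor_comp_apply, hx, map_zero, map_zero]
  obtain ⟨y, rfl⟩ := (rTensor_exact M (LinearMap.exact_subtype_mkQ L) L.mkQ_surjective _).mp h1
  let e : L ≃ₗ[A] ↥(J ⊓ I) := Submodule.comapSubtypeEquivOfLe hle
  have h2 : (J ⊓ I).subtype ∘ₗ e.toLinearMap = J.subtype ∘ₗ L.subtype := rfl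
  have h3 : (J ⊓ I).subtype.rTensor M (e.toLinearMap.rTensor M y) = 0 := by
    rw [← LinearMap.rTensor_comp_apply, h2, LinearMap.rTensor_comp_apply, hx]
  have hinj := rTensor_subtype_injective_of_mul_eq_zero M J hloc (J ⊓ I) (by
    intro a ha b hb
    have := (Submodule.mem_annihilator.mp hb.2) a ha
    rw [smul_eq_mul, mul_comm] at this
    exact this)
  have h4 : e.toLinearMap.rTensor M y = 0 := hinj (by rw [h3, map_zero])
  have h5 : y = 0 := (e.rTensor M).injective (by rw [map_zero]; exact h4)
  rw [h5, map_zero]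

end Nilpotent

end Groth.Agent.Lib.Helper9

namespace Groth.Agent.Lib.Helper9

open TensorProduct Function

/-- EGA IV 11.?: `A` Noetherian, `J` nilpotent, `M / J M` flat over `A / J` and the local
Tor-vanishing at all associated primes of `A` imply `M` flat. -/
theorem flat_of_pow_eq_bot_of_locTorZero : ∀ (n : ℕ) (A : Type u) [CommRing A]
    [IsNoetherianRing A] (J : Ideal A) (_ : J ^ n = ⊥) (M : Type u) [AddCommGroup M] [Module A M]
    [Module.Flat (A ⧸ J) ((A ⧸ J) ⊗[A] M)]
    (_ : ∀ p ∈ associatedPrimes A A, LocTorZero M p), Module.Flat A M := by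
  intro n
  induction n with
  | zero =>
    intro A _ _ J hJ M _ _ _ _
    rw [pow_zero, Ideal.one_eq_top] at hJ
    have : Subsingleton A := by
      rw [← Submodule.subsingleton_iff A]
      exact subsingleton_of_bot_eq_top hJ.symm
    have : Subsingleton M := Module.subsingleton A M
    infer_instance
  | succ n ih =>
    intro A _ _ J hJ M _ _ _ hloc
    let I : Ideal A := Submodule.annihilator J
    have hJI : J ^ n ≤ I := by
      intro a ha
      rw [Submodule.mem_annihilator]
      intro b hb
      have : a * b ∈ J ^ (n + 1) := by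
        rw [pow_succ]
        exact Ideal.mul_mem_mul ha hb
      rw [hJ] at this
      exact this
    let J' : Ideal (A ⧸ I) := J.map (Ideal.Quotient.mk I)
    have hJ' : J' ^ n = ⊥ := by
      rw [← Ideal.map_pow, Ideal.map_eq_bot_iff_le_ker, Ideal.mk_ker]
      exact hJI
    have inst1 : Module.Flat ((A ⧸ I) ⧸ J') (((A ⧸ I) ⧸ J') ⊗[A ⧸ I] ((A ⧸ I) ⊗[A] M)) :=
      flat_quotient_baseChange M (A ⧸ I) J J' le_rfl
    have hloc' : ∀ p' ∈ associatedPrimes (A ⧸ I) (A ⧸ I), LocTorZero ((A ⧸ I) ⊗[A] M) p' :=
      fun p' hp' => LocTorZero.quotient M I p'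
        (hloc _ (isAssociatedPrime_comap_of_annihilator J I rfl p' hp'))
    have hflat' : Module.Flat (A ⧸ I) ((A ⧸ I) ⊗[A] M) := ih (A ⧸ I) J' hJ' _ hloc'
    have hinj : Injective (J.subtype.rTensor M) :=
      rTensor_subtype_injective_of_flat_quotient_annihilator M J hloc
    exact flat_of_isNilpotent_of_rTensor_injective J ⟨n + 1, hJ⟩ hinj

end Groth.Agent.Lib.Helper9
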