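import Mathlib
import Groth.Agent.Lib.Helper16.TightClosureCM
import Groth.Agent.Lib.Helper16.RegularDim

set_option autoImplicit false
universe u v

namespace Groth.Agent.Lib.Helper9.NormLen

open IsLocalRing LocCoh

section span

variable {R : Type u} [CommRing R]

theorem span_update {m : ℕ} (y : Fin (m + 1) → R) (j : Fin (m + 1)) (c : R) :
    Ideal.span (Set.range (Function.update y j c)) =
      Ideal.span (Set.range (y ∘ j.succAbove)) ⊔ Ideal.span {c} := by
  apply le_antisymm
  · rw [Ideal.span_le]
    rintro _ ⟨i, rfl⟩
    by_cases hij : i = j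
    · subst hij
      rw [Function.update_self]
      exact Ideal.mem_sup_right (Ideal.subset_span rfl)
    · rw [Function.update_of_ne hij]
      obtain ⟨k, rfl⟩ := Fin.exists_succAbove_eq hij
      exact Ideal.mem_sup_left (Ideal.subset_span ⟨k, rfl⟩)
  · apply sup_le
    · rw [Ideal.span_le]
      rintro _ ⟨k, rfl⟩
      apply Ideal.subset_span
      refine ⟨j.succAbove k, ?_⟩
      rw [Function.update_of_ne (Fin.succAbove_ne j k)]
      rfl
    · rw [Ideal.span_singleton_le_iff_mem]
      exact Ideal.subset_span ⟨j, Function.update_self _ _ _⟩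

end span

section exact

variable {R : Type u} [CommRing R]

/-- If `a` is regular modulo `I`, then
`length R/(I + ab) = length R/(I + a) + length R/(I + b)`. -/
theorem length_mul (I : Ideal R) (a b : R)
    (hreg : ∀ z, a * z ∈ I → z ∈ I) :
    Module.length R (R ⧸ (I ⊔ Ideal.span {a * b})) =
      Module.length R (R ⧸ (I ⊔ Ideal.span {b})) + Module.length R (R ⧸ (I ⊔ Ideal.span {a})) := by
  have hle : I ⊔ Ideal.span {a * b} ≤ I ⊔ Ideal.span {a} := by
    apply sup_le le_sup_left
    rw [Ideal.span_singleton_le_iff_mem]
    exact Ideal.mem_sup_right (Ideal.mul_mem_right _ _ (Ideal.mem_span_singleton_self a))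
  have hmap : I ⊔ Ideal.span {b} ≤
      Submodule.comap (LinearMap.lsmul R R a) (I ⊔ Ideal.span {a * b}) := by
    intro z hz
    rw [Submodule.mem_comap]
    change a • z ∈ _
    rw [smul_eq_mul]
    obtain ⟨i, hi, w, hw, rfl⟩ := Submodule.mem_sup.mp hz
    obtain ⟨c, rfl⟩ := Ideal.mem_span_singleton'.mp hw
    rw [mul_add]
    refine Ideal.add_mem _ (Ideal.mem_sup_left (Ideal.mul_mem_left _ _ hi)) (Ideal.mem_sup_right ?_)
    rw [Ideal.mem_span_singleton']
    exact ⟨c, by ring⟩
  let f : (R ⧸ (I ⊔ Ideal.span {b})) →ₗ[R] (R ⧸ (I ⊔ Ideal.span {a * b})) :=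
    Submodule.mapQ _ _ (LinearMap.lsmul R R a) hmap
  let g : (R ⧸ (I ⊔ Ideal.span {a * b})) →ₗ[R] (R ⧸ (I ⊔ Ideal.span {a})) :=
    Submodule.mapQ _ _ LinearMap.id (by simpa using hle)
  have hf : Function.Injective f := by
    rw [← LinearMap.ker_eq_bot, Submodule.eq_bot_iff]
    intro x hx
    obtain ⟨z, rfl⟩ := Submodule.Quotient.mk_surjective _ x
    rw [LinearMap.mem_ker, Submodule.mapQ_apply, Submodule.Quotient.mk_eq_zero] at hx
    change a • z ∈ _ at hx
    rw [smul_eq_mul] at hx
    rw [Submodule.Quotient.mk_eq_zero]
    obtain ⟨i, hi, w, hw, hiw⟩ := Submodule.mem_sup.mp hx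
    obtain ⟨c, rfl⟩ := Ideal.mem_span_singleton'.mp hw
    have h1 : a * (z - c * b) ∈ I := by
      have : a * (z - c * b) = i := by linear_combination -hiw
      rw [this]; exact hi
    have h2 := hreg _ h1
    have : z = (z - c * b) + c * b := by ring
    rw [this]
    exact Ideal.add_mem _ (Ideal.mem_sup_left h2)
      (Ideal.mem_sup_right (Ideal.mul_mem_left _ _ (Ideal.mem_span_singleton_self b)))
  have hg : Function.Surjective g := by
    intro x
    obtain ⟨z, rfl⟩ := Submodule.Quotient.mk_surjective _ x
    exact ⟨Submodule.Quotient.mk z, by simp [g]⟩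
  have hfg : Function.Exact f g := by
    intro x
    constructor
    · intro hx
      obtain ⟨z, rfl⟩ := Submodule.Quotient.mk_surjective _ x
      rw [Submodule.mapQ_apply, Submodule.Quotient.mk_eq_zero, LinearMap.id_apply] at hx
      obtain ⟨i, hi, w, hw, rfl⟩ := Submodule.mem_sup.mp hx
      obtain ⟨c, rfl⟩ := Ideal.mem_span_singleton'.mp hw
      refine ⟨Submodule.Quotient.mk c, ?_⟩
      rw [Submodule.mapQ_apply]
      change Submodule.Quotient.mk (a • c) = _
      rw [eq_comm, ← sub_eq_zero, ← Submodule.Quotient.mk_sub, Submodule.Quotient.mk_eq_zero,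
        smul_eq_mul]
      have : i + c * a - a * c = i := by ring
      rw [this]
      exact Ideal.mem_sup_left hi
    · rintro ⟨y, rfl⟩
      obtain ⟨z, rfl⟩ := Submodule.Quotient.mk_surjective _ y
      rw [Submodule.mapQ_apply, Submodule.mapQ_apply, Submodule.Quotient.mk_eq_zero,
        LinearMap.id_apply]
      change a • z ∈ _
      rw [smul_eq_mul]
      exact Ideal.mem_sup_right (Ideal.mul_mem_right _ _ (Ideal.mem_span_singleton_self a))
  exact Module.length_eq_add_of_exact f g hf hg hfg

end exact

section cm

variable {R : Type u} [CommRing R] [IsCohenMacaulayLocalRing R]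

/-- Additivity of the colength along a product in one slot of a system of parameters of a
Cohen–Macaulay local ring. -/
theorem length_update_mul (m : ℕ) (hdim : ringKrullDim R = ((m + 1 : ℕ) : WithBot ℕ∞))
    (y : Fin (m + 1) → R) (j : Fin (m + 1)) (a b : R) (ha : a ∈ maximalIdeal R)
    (hy : ∀ i, i ≠ j → y i ∈ maximalIdeal R)
    (hrad : maximalIdeal R ≤ (Ideal.span (Set.range (Function.update y j (a * b)))).radical) :
    Module.length R (R ⧸ Ideal.span (Set.range (Function.update y j (a * b)))) =
      Module.length R (R ⧸ Ideal.span (Set.range (Function.update y j b))) +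
        Module.length R (R ⧸ Ideal.span (Set.range (Function.update y j a))) := by
  rw [span_update, span_update, span_update]
  apply length_mul
  intro z hz
  refine Groth.Agent.Lib.Helper16.TC.reg_of_sop m hdim (y ∘ j.succAbove) a ?_ z hz
  apply le_antisymm
  · have hle : Ideal.span (Set.range (y ∘ j.succAbove)) ⊔ Ideal.span {a} ≤ maximalIdeal R := by
      apply sup_le
      · rw [Ideal.span_le]
        rintro _ ⟨k, rfl⟩
        exact hy _ (Fin.succAbove_ne j k)
      · rw [Ideal.span_singleton_le_iff_mem]
        exact ha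
    calc _ ≤ (maximalIdeal R).radical := Ideal.radical_mono hle
      _ = maximalIdeal R := (maximalIdeal.isMaximal R).isPrime.radical
  · refine hrad.trans (Ideal.radical_mono ?_)
    rw [span_update]
    apply sup_le le_sup_left
    rw [Ideal.span_singleton_le_iff_mem]
    exact Ideal.mem_sup_right (Ideal.mul_mem_right _ _ (Ideal.mem_span_singleton_self a))

end cm

section group

variable {A : Type u} [CommRing A] [IsLocalRing A]
  {G : Type v} [Group G] [MulSemiringAction G A]

theorem smul_mem_maximalIdeal (σ : G) {x : A} (hx : x ∈ maximalIdeal A) :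
    σ • x ∈ maximalIdeal A := by
  rw [mem_maximalIdeal, mem_nonunits_iff] at hx ⊢
  intro h
  apply hx
  have := h.map (MulSemiringAction.toRingHom G A σ⁻¹)
  simpa using this

variable {n : ℕ} (u : Fin n → A)

/-- the product over a finite set of group elements in each slot. -/
noncomputable def yS (S : Fin n → Finset G) : Fin n → A := fun i => ∏ σ ∈ S i, σ • u i

omit [IsLocalRing A] in
theorem yS_update [DecidableEq G] (S : Fin n → Finset G) (j : Fin n) (T : Finset G) :
    yS u (Function.update S j T) = Function.update (yS u S) j (∏ σ ∈ T, σ • u j) := by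
  funext i
  by_cases hij : i = j
  · subst hij
    simp [yS]
  · simp [yS, Function.update_of_ne hij]

theorem yS_mem (hu : ∀ i, u i ∈ maximalIdeal A) (S : Fin n → Finset G)
    (i : Fin n) (hS : (S i).Nonempty) : yS u S i ∈ maximalIdeal A := by
  classical
  obtain ⟨σ, hσ⟩ := hS
  unfold yS
  rw [← Finset.mul_prod_erase _ _ hσ]
  exact Ideal.mul_mem_right _ _ (smul_mem_maximalIdeal σ (hu i))

theorem le_radical_yS
    (hwa : ∀ τ : Fin n → G,
      maximalIdeal A ≤ (Ideal.span (Set.range fun i => τ i • u i)).radical)
    (S : Fin n → Finset G) :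
    maximalIdeal A ≤ (Ideal.span (Set.range (yS u S))).radical := by
  rw [Ideal.radical_eq_sInf]
  apply le_sInf
  rintro p ⟨hp, hpp⟩
  have : ∀ i, ∃ σ : G, σ • u i ∈ p := by
    intro i
    have h1 : yS u S i ∈ p := hp (Ideal.subset_span ⟨i, rfl⟩)
    unfold yS at h1
    obtain ⟨σ, -, hσ⟩ := (hpp.prod_mem_iff).mp h1
    exact ⟨σ, hσ⟩
  choose τ hτ using this
  refine (hwa τ).trans ?_
  rw [hpp.radical_le_iff, Ideal.span_le]
  rintro _ ⟨i, rfl⟩
  exact hτ i

end group

section main

variable {A : Type u} [CommRing A] [IsCohenMacaulayLocalRing A]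
  {G : Type v} [Group G] [MulSemiringAction G A]

theorem main_aux (n : ℕ) (hn : ringKrullDim A = n) (u : Fin n → A)
    (hu : ∀ i, u i ∈ maximalIdeal A)
    (hwa : ∀ τ : Fin n → G,
      maximalIdeal A ≤ (Ideal.span (Set.range fun i => τ i • u i)).radical) :
    ∀ (N : ℕ) (S : Fin n → Finset G), (∑ i, (S i).card = N) → (∀ i, (S i).Nonempty) →
      ((∏ i, (S i).card : ℕ) : ℕ∞) ≤ Module.length A (A ⧸ Ideal.span (Set.range (yS u S))) := by
  classical
  intro N
  induction N using Nat.strong_induction_on with
  | _ N ih =>
    intro S hN hne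
    by_cases hall : ∀ i, (S i).card ≤ 1
    · have h1 : ∀ i, (S i).card = 1 := fun i =>
        le_antisymm (hall i) (Finset.card_pos.mpr (hne i))
      have h2 : (∏ i, (S i).card) = 1 := Finset.prod_eq_one (fun i _ => h1 i)
      rw [h2, Nat.cast_one, Order.one_le_iff_pos, Module.length_pos_iff]
      apply Ideal.Quotient.nontrivial_iff.mpr
      intro htop
      have hle : Ideal.span (Set.range (yS u S)) ≤ maximalIdeal A := by
        rw [Ideal.span_le]
        rintro _ ⟨i, rfl⟩
        exact yS_mem u hu S i (hne i)
      rw [htop] at hle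
      exact (maximalIdeal.isMaximal A).ne_top (top_le_iff.mp hle)
    · push Not at hall
      obtain ⟨j, hj⟩ := hall
      obtain ⟨m, rfl⟩ : ∃ m, n = m + 1 := ⟨n - 1, by have := j.pos; omega⟩
      obtain ⟨σ, hσ⟩ := hne j
      set T := (S j).erase σ with hT
      have hTcard : T.card + 1 = (S j).card := Finset.card_erase_add_one hσ
      have hTne : T.Nonempty := Finset.card_pos.mp (by omega)
      set a : A := σ • u j with ha
      set b : A := ∏ τ ∈ T, τ • u j with hb
      have hab : yS u S j = a * b := by
        unfold yS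
        rw [← Finset.mul_prod_erase _ _ hσ]
      have hyS : yS u S = Function.update (yS u S) j (a * b) := by
        rw [← hab, Function.update_eq_self]
      have hlen := length_update_mul m (by exact_mod_cast hn) (yS u S) j a b
        (smul_mem_maximalIdeal σ (hu j)) (fun i _ => yS_mem u hu S i (hne i))
        (by rw [← hyS]; exact le_radical_yS u hwa S)
      rw [← hyS] at hlen
      have e1 : Function.update (yS u S) j b = yS u (Function.update S j T) := by
        rw [yS_update]
      have e2 : Function.update (yS u S) j a = yS u (Function.update S j {σ}) := by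
        rw [yS_update, Finset.prod_singleton]
      rw [e1, e2] at hlen
      -- cardinalities
      set c : Fin (m + 1) → ℕ := fun i => (S i).card with hc
      have hcard : ∀ T' : Finset G, (fun i => ((Function.update S j T') i).card) =
          Function.update c j T'.card := by
        intro T'
        funext i
        by_cases hij : i = j
        · subst hij; simp
        · simp [Function.update_of_ne hij, hc]
      set P := ∏ x ∈ Finset.univ \ {j}, c x with hP
      set Q := ∑ x ∈ Finset.univ \ {j}, c x with hQ
      have hprodS : ∏ i, (S i).card = c j * P := by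
        exact Finset.prod_eq_mul_prod_sdiff_singleton_of_mem (Finset.mem_univ j) c
      have hsumS : ∑ i, (S i).card = c j + Q := by
        exact Finset.sum_eq_add_sum_sdiff_singleton_of_mem (Finset.mem_univ j) c
      have hprod : ∀ T' : Finset G, ∏ i, ((Function.update S j T') i).card = T'.card * P := by
        intro T'
        rw [hcard, Finset.prod_update_of_mem (Finset.mem_univ j)]
      have hsum : ∀ T' : Finset G, ∑ i, ((Function.update S j T') i).card = T'.card + Q := by
        intro T'
        rw [hcard, Finset.sum_update_of_mem (Finset.mem_univ j)]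
      have hne' : ∀ T' : Finset G, T'.Nonempty → ∀ i, ((Function.update S j T') i).Nonempty := by
        intro T' hT' i
        by_cases hij : i = j
        · subst hij; simpa using hT'
        · rw [Function.update_of_ne hij]; exact hne i
      have hcj : c j = T.card + 1 := hTcard.symm
      have ih1 := ih (T.card + Q) (by rw [← hN, hsumS, hcj]; omega) (Function.update S j T)
        (hsum T) (hne' T hTne)
      have ih2 := ih (({σ} : Finset G).card + Q)
        (by rw [← hN, hsumS, hcj, Finset.card_singleton]; omega) (Function.update S j {σ})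
        (hsum {σ}) (hne' {σ} (Finset.singleton_nonempty σ))
      rw [hprod] at ih1 ih2
      rw [Finset.card_singleton, one_mul] at ih2
      rw [hlen, hprodS, hcj, add_mul, one_mul, Nat.cast_add]
      exact add_le_add ih1 ih2

end main

theorem main (A : Type u) [CommRing A] [IsRegularLocalRing A]
    (G : Type v) [Group G] [Fintype G] [MulSemiringAction G A]
    (n : ℕ) (hn : ringKrullDim A = n) (u : Fin n → A)
    (hu : Ideal.span (Set.range u) = IsLocalRing.maximalIdeal A)
    (hwa : ∀ τ : Fin n → G,
      IsLocalRing.maximalIdeal A ≤ (Ideal.span (Set.range fun i => τ i • u i)).radical) :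
    ((Fintype.card G ^ n : ℕ) : ℕ∞) ≤
      Module.length A (A ⧸ Ideal.span (Set.range fun i => ∏ σ : G, σ • u i)) := by
  haveI : IsCohenMacaulayLocalRing A :=
    { supportDim_eq_depth :=
        Groth.Agent.Lib.Helper16.PDR.isCohenMacaulayModule_self_of_isRegularLocalRing A }
  have h := main_aux (G := G) n hn u (fun i => hu ▸ Ideal.subset_span ⟨i, rfl⟩) hwa _
    (fun _ => Finset.univ) rfl (fun _ => Finset.univ_nonempty)
  have h2 : (∏ _i : Fin n, (Finset.univ : Finset G).card) = Fintype.card G ^ n := by
    rw [Finset.prod_const, Finset.card_univ, Finset.card_univ, Fintype.card_fin]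
  rw [h2] at h
  exact h

end Groth.Agent.Lib.Helper9.NormLen
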