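import Mathlib
import Groth.Prelude.Def_EGA4b
import Groth.Agent.Lib.Helper6.GeomReduced
import Groth.Agent.Lib.Helper18.J2j
import Groth.Agent.Lib.Helper18.FormFib
import Groth.Agent.Lib.Helper12.Normal
import Groth.Agent.Lib.Helper9.RegularDescent
import Groth.Agent.S9412
import Groth.Agent.S2772
import Groth.Agent.Lib.Helper9.NormalFF3
import Groth.Agent.Lib.Helper18.OnePlus

set_option autoImplicit false
set_option linter.style.haveILetI false
set_option linter.unusedSectionVars false
universe u

namespace Groth.Agent.Lib.Helper9.NormalDescent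
open TensorProduct IsLocalRing

/-- **Lemma A**: a quotient of a normal ring by an ideal which is "locally zero" (every element
`x` of it is killed by some `1 + j` with `j` in the ideal) is a localization, hence normal. -/
theorem isNormalRing_of_surjective {R' Rb : Type u} [CommRing R'] [CommRing Rb] (Ψ : R' →+* Rb)
    (hΨ : Function.Surjective Ψ)
    (hker : ∀ x ∈ RingHom.ker Ψ, ∃ j ∈ RingHom.ker Ψ, (1 + j) * x = 0)
    (hR' : EGA4.IsNormalRing R') : EGA4.IsNormalRing Rb := by
  letI : Algebra R' Rb := Ψ.toAlgebra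
  let M : Submonoid R' :=
    { carrier := {s | Ψ s = 1}
      one_mem' := map_one Ψ
      mul_mem' := by
        intro a b ha hb
        change Ψ (a * b) = 1
        rw [map_mul, ha, hb, one_mul] }
  haveI : IsLocalization M Rb := by
    refine ⟨?_, ?_, ?_⟩
    · rintro ⟨s, hs⟩
      change IsUnit (Ψ s)
      rw [hs]
      exact isUnit_one
    · intro z
      obtain ⟨x, rfl⟩ := hΨ z
      exact ⟨(x, 1), by simp [RingHom.algebraMap_toAlgebra]⟩
    · intro a b hab
      have h1 : a - b ∈ RingHom.ker Ψ := by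
        rw [RingHom.mem_ker, map_sub, sub_eq_zero]
        exact hab
      obtain ⟨j, hj, hjx⟩ := hker _ h1
      refine ⟨⟨1 + j, ?_⟩, ?_⟩
      · change Ψ (1 + j) = 1
        rw [map_add, map_one, (RingHom.mem_ker).mp hj, add_zero]
      · change (1 + j) * a = (1 + j) * b
        rw [← sub_eq_zero, ← mul_sub]
        exact hjx
  have h2 : EGA4.IsNormalRing (Localization M) :=
    Groth.Agent.Lib.Helper18.J2.isNormalRing_localization M hR'
  exact Groth.Agent.Lib.Helper18.FormFib.isNormalRing_of_ringEquiv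
    (IsLocalization.algEquiv M (Localization M) Rb).toRingEquiv h2

/-- **Lemma B**: in a reduced ring all of whose primes are maximal, every element of a prime ideal
`n` is killed by an element of `1 + n`. -/
theorem exists_one_add_mul_eq_zero {W : Type u} [CommRing W] [IsReduced W]
    (hdim : ∀ I : Ideal W, I.IsPrime → I.IsMaximal) (n : Ideal W) [hn : n.IsPrime]
    (w : W) (hw : w ∈ n) : ∃ v ∈ n, (1 + v) * w = 0 := by
  haveI : Ring.KrullDimLE 0 W := Ring.KrullDimLE.mk₀ hdim
  have hmin : n ∈ minimalPrimes W := Ideal.mem_minimalPrimes_of_krullDimLE_zero n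
  haveI : Ring.KrullDimLE 0 (Localization.AtPrime n) :=
    Ring.KrullDimLE.of_isLocalization n hmin (Localization.AtPrime n)
  haveI : IsReduced (Localization.AtPrime n) := inferInstance
  have hfield : IsField (Localization.AtPrime n) := Ring.KrullDimLE.isField_of_isReduced
  have h0 : algebraMap W (Localization.AtPrime n) w = 0 := by
    by_contra hne
    obtain ⟨y, hy⟩ := hfield.mul_inv_cancel hne
    have hu : IsUnit (algebraMap W (Localization.AtPrime n) w) :=
      isUnit_iff_exists_inv.mpr ⟨y, hy⟩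
    have hmem : algebraMap W (Localization.AtPrime n) w ∈ maximalIdeal (Localization.AtPrime n) := by
      rw [← Localization.AtPrime.map_eq_maximalIdeal]
      exact Ideal.mem_map_of_mem _ hw
    exact (IsLocalRing.mem_maximalIdeal _).mp hmem hu
  obtain ⟨s, hs⟩ := (IsLocalization.map_eq_zero_iff n.primeCompl (Localization.AtPrime n) w).mp h0
  haveI hmax : n.IsMaximal := hdim n hn
  obtain ⟨y, i, hi, hyi⟩ := hmax.exists_inv s.2
  refine ⟨-i, n.neg_mem hi, ?_⟩
  have : 1 + -i = y * s := by rw [← hyi]; ring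
  rw [this, mul_assoc, hs, mul_zero]

/-- `1 + j` trick propagates from generators to the extended ideal. -/
theorem exists_one_add_mul_eq_zero_map {W R : Type u} [CommRing W] [CommRing R] (g : W →+* R)
    (n : Ideal W) (hn : ∀ w ∈ n, ∃ v ∈ n, (1 + v) * w = 0) :
    ∀ x ∈ n.map g, ∃ j ∈ n.map g, (1 + j) * x = 0 := by
  intro x hx
  refine Submodule.span_induction (p := fun x _ => ∃ j ∈ n.map g, (1 + j) * x = 0) ?_ ?_ ?_ ?_ hx
  · rintro _ ⟨w, hw, rfl⟩
    obtain ⟨v, hv, hvw⟩ := hn w hw
    refine ⟨g v, Ideal.mem_map_of_mem _ hv, ?_⟩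
    rw [← map_one g, ← map_add, ← map_mul, hvw, map_zero]
  · exact ⟨0, Ideal.zero_mem _, by simp⟩
  · rintro x y _ _ ⟨j₁, hj₁, h₁⟩ ⟨j₂, hj₂, h₂⟩
    refine ⟨j₁ + j₂ + j₁ * j₂, Ideal.add_mem _ (Ideal.add_mem _ hj₁ hj₂) (Ideal.mul_mem_left _ _ hj₂), ?_⟩
    have : (1 + (j₁ + j₂ + j₁ * j₂)) * (x + y) =
        (1 + j₂) * ((1 + j₁) * x) + (1 + j₁) * ((1 + j₂) * y) := by ring
    rw [this, h₁, h₂, mul_zero, mul_zero, add_zero]
  · rintro a x _ ⟨j, hj, h⟩
    refine ⟨j, hj, ?_⟩
    rw [smul_eq_mul, mul_left_comm, h, mul_zero]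

/-- Core of Lemma C. -/
theorem isNormalRing_tensor_of_isSeparable_core (k L : Type u) [Field k] [Field L] [Algebra k L]
    [Algebra.IsSeparable k L]
    (B : Type u) [CommRing B] [Algebra k B] [Algebra L B] [IsScalarTower k L B]
    (L' : Type u) [Field L'] [Algebra L L'] [Algebra k L'] [IsScalarTower k L L']
    (E : Type u) [Field E] [Algebra k E] [Module.Finite k E] (ι : E →ₐ[k] L')
    (hφ : Function.Surjective
      (Algebra.TensorProduct.lift (Algebra.ofId L L') ι (fun _ _ => Commute.all _ _) :
        L ⊗[k] E →ₐ[L] L'))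
    (hnormal : EGA4.IsNormalRing (E ⊗[k] B)) : EGA4.IsNormalRing (L' ⊗[L] B) := by
  let φ : L ⊗[k] E →ₐ[L] L' :=
    Algebra.TensorProduct.lift (Algebra.ofId L L') ι (fun _ _ => Commute.all _ _)
  -- the kernel condition for `W = L ⊗ E`
  haveI : IsReduced (L ⊗[k] E) := Groth.Agent.Lib.Helper6.isReduced_tensor_of_isSeparable E
  have hdim : ∀ I : Ideal (L ⊗[k] E), I.IsPrime → I.IsMaximal := by
    intro I hI
    haveI : Algebra.IsIntegral k E := Algebra.IsIntegral.of_finite k E
    haveI : Algebra.IsIntegral L (L ⊗[k] E) := inferInstance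
    refine Ideal.isMaximal_of_isIntegral_of_isMaximal_comap (R := L) (S := L ⊗[k] E) I ?_
    have : I.comap (algebraMap L (L ⊗[k] E)) = ⊥ := by
      haveI : (I.comap (algebraMap L (L ⊗[k] E))).IsPrime := Ideal.comap_isPrime _ _
      exact (Ideal.eq_bot_or_top _).resolve_right (Ideal.IsPrime.ne_top inferInstance)
    rw [this]
    exact Ideal.bot_isMaximal
  haveI hkerprime : (RingHom.ker φ.toRingHom).IsPrime := RingHom.ker_isPrime _
  have hB : ∀ w ∈ RingHom.ker φ.toRingHom, ∃ v ∈ RingHom.ker φ.toRingHom, (1 + v) * w = 0 :=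
    fun w hw => exists_one_add_mul_eq_zero hdim _ w hw
  -- the big map
  let Ψ : B ⊗[L] (L ⊗[k] E) →ₐ[L] B ⊗[L] L' := Algebra.TensorProduct.map (AlgHom.id L B) φ
  have hΨ : Function.Surjective Ψ :=
    Algebra.TensorProduct.map_surjective (AlgHom.id L B) φ Function.surjective_id hφ
  have hkerΨ : RingHom.ker Ψ =
      (RingHom.ker φ).map (Algebra.TensorProduct.includeRight : L ⊗[k] E →ₐ[L] B ⊗[L] (L ⊗[k] E)) :=
    Algebra.TensorProduct.lTensor_ker φ hφ
  have hker : ∀ x ∈ RingHom.ker Ψ.toRingHom, ∃ j ∈ RingHom.ker Ψ.toRingHom, (1 + j) * x = 0 := by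
    intro x hx
    have hx' : x ∈ (RingHom.ker φ.toRingHom).map
        (Algebra.TensorProduct.includeRight :
          L ⊗[k] E →ₐ[L] B ⊗[L] (L ⊗[k] E)).toRingHom := by
      have : x ∈ RingHom.ker Ψ := hx
      rw [hkerΨ] at this
      exact this
    obtain ⟨j, hj, hjx⟩ := exists_one_add_mul_eq_zero_map _ _ hB x hx'
    refine ⟨j, ?_, hjx⟩
    have : j ∈ RingHom.ker Ψ := by rw [hkerΨ]; exact hj
    exact this
  -- normality of the source
  have e1 : B ⊗[L] (L ⊗[k] E) ≃+* B ⊗[k] E :=
    (Algebra.TensorProduct.cancelBaseChange k L L B E).toRingEquiv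
  have e2 : B ⊗[k] E ≃+* E ⊗[k] B := (Algebra.TensorProduct.comm k B E).toRingEquiv
  have hsrc : EGA4.IsNormalRing (B ⊗[L] (L ⊗[k] E)) :=
    Groth.Agent.Lib.Helper18.FormFib.isNormalRing_of_ringEquiv (e1.trans e2).symm hnormal
  have htgt : EGA4.IsNormalRing (B ⊗[L] L') :=
    isNormalRing_of_surjective Ψ.toRingHom hΨ hker hsrc
  exact Groth.Agent.Lib.Helper18.FormFib.isNormalRing_of_ringEquiv
    (Algebra.TensorProduct.comm L B L').toRingEquiv htgt

/-- **Lemma C**: geometric normality descends along separable algebraic extensions of the base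
field: if `B` is an `L`-algebra, geometrically normal over `k`, and `L/k` is separable algebraic,
then `B` is geometrically normal over `L`. -/
theorem isGeomNormal_of_isSeparable (k L : Type u) [Field k] [Field L] [Algebra k L]
    [Algebra.IsSeparable k L]
    (B : Type u) [CommRing B] [Algebra k B] [Algebra L B] [IsScalarTower k L B]
    (h : EGA4.IsGeomNormal k B) : EGA4.IsGeomNormal L B := by
  intro L' _ _ hfin
  letI : Algebra k L' := ((algebraMap L L').comp (algebraMap k L)).toAlgebra
  haveI : IsScalarTower k L L' := IsScalarTower.of_algebraMap_eq (fun _ => rfl)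
  haveI : Algebra.IsAlgebraic k L := Algebra.IsSeparable.isAlgebraic k L
  haveI : Algebra.IsAlgebraic L L' := Algebra.IsAlgebraic.of_finite L L'
  haveI : Algebra.IsAlgebraic k L' := Algebra.IsAlgebraic.trans k L L'
  obtain ⟨s, hs⟩ := (Module.Finite.fg_top : (⊤ : Submodule L L').FG)
  let E₀ : IntermediateField k L' := IntermediateField.adjoin k (s : Set L')
  haveI : FiniteDimensional k E₀ :=
    IntermediateField.finiteDimensional_adjoin (fun x _ => Algebra.IsIntegral.isIntegral x)
  have hnormal : EGA4.IsNormalRing (E₀ ⊗[k] B) := h E₀ inferInstance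
  refine isNormalRing_tensor_of_isSeparable_core k L B L' E₀ E₀.val ?_ hnormal
  intro y
  have hy : y ∈ Submodule.span L (s : Set L') := by rw [hs]; trivial
  have hle : Submodule.span L (s : Set L') ≤ Subalgebra.toSubmodule
      (Algebra.TensorProduct.lift (Algebra.ofId L L') E₀.val (fun _ _ => Commute.all _ _) :
        L ⊗[k] E₀ →ₐ[L] L').range := by
    rw [Submodule.span_le]
    intro x hx
    have hxE : x ∈ E₀ := IntermediateField.subset_adjoin k _ hx
    exact ⟨(1 : L) ⊗ₜ[k] (⟨x, hxE⟩ : E₀), by simp⟩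
  exact hle hy

/-- geometric normality is invariant under algebra isomorphisms -/
theorem isGeomNormal_of_algEquiv {k S S' : Type u} [Field k] [CommRing S] [CommRing S']
    [Algebra k S] [Algebra k S'] (e : S ≃ₐ[k] S') (h : EGA4.IsGeomNormal k S) :
    EGA4.IsGeomNormal k S' := by
  intro k' _ _ hfin
  exact Groth.Agent.Lib.Helper18.FormFib.isNormalRing_of_ringEquiv
    (Algebra.TensorProduct.congr (AlgEquiv.refl : k' ≃ₐ[k] k') e).toRingEquiv (h k' hfin)

/-- geometric normality can be checked on the local rings -/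
theorem isGeomNormal_of_forall_atPrime (k S : Type u) [Field k] [CommRing S] [Algebra k S]
    (h : ∀ (𝔓 : Ideal S) [𝔓.IsPrime], EGA4.IsGeomNormal k (Localization.AtPrime 𝔓)) :
    EGA4.IsGeomNormal k S := by
  intro k' _ _ hfin
  suffices h2 : EGA4.IsNormalRing (S ⊗[k] k') from
    Groth.Agent.Lib.Helper18.FormFib.isNormalRing_of_ringEquiv
      (Algebra.TensorProduct.comm k S k').toRingEquiv h2
  apply Groth.Agent.Lib.Helper12.Normal.isNormalRing_of_cover
  intro P hP
  let 𝔓 : Ideal S := P.comap (algebraMap S (S ⊗[k] k'))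
  haveI : 𝔓.IsPrime := Ideal.comap_isPrime _ _
  let B := Localization.AtPrime 𝔓
  letI : Algebra (S ⊗[k] k') (B ⊗[k] k') :=
    (Algebra.TensorProduct.map (IsScalarTower.toAlgHom k S B) (AlgHom.id k k')).toRingHom.toAlgebra
  haveI : IsScalarTower S (S ⊗[k] k') (B ⊗[k] k') := by
    refine IsScalarTower.of_algebraMap_eq fun a => ?_
    show algebraMap S B a ⊗ₜ[k] (1 : k') =
      Algebra.TensorProduct.map (IsScalarTower.toAlgHom k S B) (AlgHom.id k k') (a ⊗ₜ 1)
    simp
  have hpo : Algebra.IsPushout S B (S ⊗[k] k') (B ⊗[k] k') := by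
    refine Algebra.IsPushout.tensorProduct_tensorProduct k k' S B ?_
    ext x
    simp [RingHom.algebraMap_toAlgebra]
  haveI : IsLocalization (Algebra.algebraMapSubmonoid (S ⊗[k] k') 𝔓.primeCompl) (B ⊗[k] k') :=
    (Algebra.isLocalization_iff_isPushout 𝔓.primeCompl B).mpr hpo.symm
  have h3 : EGA4.IsNormalRing (B ⊗[k] k') :=
    Groth.Agent.Lib.Helper18.FormFib.isNormalRing_of_ringEquiv
      (Algebra.TensorProduct.comm k k' B).toRingEquiv (h 𝔓 k' hfin)
  refine ⟨B ⊗[k] k', inferInstance, inferInstance,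
    Algebra.algebraMapSubmonoid (S ⊗[k] k') 𝔓.primeCompl, inferInstance, h3, ?_⟩
  rw [Set.disjoint_left]
  rintro _ ⟨s, hs, rfl⟩ hmem
  exact hs hmem

section descent

open Groth.Agent.Lib.Helper9.RegularDescent

variable (R S T : Type u) [CommRing R] [CommRing S] [CommRing T] [Algebra R S] [Algebra S T]
  [Algebra R T] [IsScalarTower R S T]

theorem isGeomNormal_fibre_of_isSeparable (q : Ideal S) [q.IsPrime]
    (hq : ∀ x ∈ q, ∃ s ∉ q, s * x ∈ (q.under R).map (algebraMap R S))
    (hsep : letI := (resMapQ R S q).toAlgebra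
      Algebra.IsSeparable (q.under R).ResidueField q.ResidueField)
    (h : EGA4.IsGeomNormal (q.under R).ResidueField ((q.under R).Fiber T)) :
    EGA4.IsGeomNormal q.ResidueField (q.Fiber T) := by
  letI := (resMapQ R S q).toAlgebra
  apply isGeomNormal_of_forall_atPrime
  intro 𝔓 _
  obtain ⟨𝔓', h𝔓', ⟨e⟩⟩ := exists_algEquiv_fibre_loc R S T q hq 𝔓
  have hE' : EGA4.IsGeomNormal (q.under R).ResidueField (Localization.AtPrime 𝔓') :=
    Groth.Agent.S9412.result (q.under R).ResidueField ((q.under R).Fiber T) 𝔓'.primeCompl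
      (Localization.AtPrime 𝔓') h
  haveI : IsScalarTower (q.under R).ResidueField q.ResidueField (Localization.AtPrime 𝔓) :=
    inferInstance
  -- upgrade `e` to a `κ(p)`-linear isomorphism
  let f : (q.under R).ResidueField →+* Localization.AtPrime 𝔓 :=
    (e.symm.toRingEquiv : Localization.AtPrime 𝔓' →+* Localization.AtPrime 𝔓).comp
      (algebraMap (q.under R).ResidueField (Localization.AtPrime 𝔓'))
  let g : (q.under R).ResidueField →+* Localization.AtPrime 𝔓 :=
    algebraMap (q.under R).ResidueField (Localization.AtPrime 𝔓)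
  have hfg : f = g := by
    refine @Ideal.ResidueField.ringHom_ext R (Localization.AtPrime 𝔓) _ _ (q.under R) _ f g ?_
    ext r
    simp only [RingHom.comp_apply, f, g]
    rw [← IsScalarTower.algebraMap_apply R (q.under R).ResidueField (Localization.AtPrime 𝔓')]
    change e.symm (algebraMap R _ r) = _
    rw [e.symm.commutes,
      IsScalarTower.algebraMap_apply (q.under R).ResidueField q.ResidueField
        (Localization.AtPrime 𝔓)]
    change _ = algebraMap q.ResidueField _ (resMapQ R S q _)
    rw [resMapQ_algebraMap,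
      ← IsScalarTower.algebraMap_apply R q.ResidueField (Localization.AtPrime 𝔓)]
  have hcomm : ∀ a : (q.under R).ResidueField,
      e.symm.toRingEquiv (algebraMap (q.under R).ResidueField (Localization.AtPrime 𝔓') a) =
        algebraMap (q.under R).ResidueField (Localization.AtPrime 𝔓) a :=
    fun a => congrArg (fun φ => φ a) hfg
  have hE : EGA4.IsGeomNormal (q.under R).ResidueField (Localization.AtPrime 𝔓) :=
    isGeomNormal_of_algEquiv (AlgEquiv.ofRingEquiv (f := e.symm.toRingEquiv) hcomm) hE'
  exact isGeomNormal_of_isSeparable (q.under R).ResidueField q.ResidueField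
    (Localization.AtPrime 𝔓) hE

/-- **Descent of normality along a residually separable, fibrewise unramified map.** -/
theorem isNormalHom_of_isNormalHom_base [Module.Flat S T]
    (hq : ∀ (q : Ideal S) [q.IsPrime], ∀ x ∈ q, ∃ s ∉ q,
      s * x ∈ (q.under R).map (algebraMap R S))
    (hsep : ∀ (q : Ideal S) [q.IsPrime], letI := (resMapQ R S q).toAlgebra
      Algebra.IsSeparable (q.under R).ResidueField q.ResidueField)
    (h : EGA4.IsNormalHom R T) : EGA4.IsNormalHom S T := by
  refine ⟨inferInstance, fun q _ => ?_⟩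
  exact isGeomNormal_fibre_of_isSeparable R S T q (hq q) (hsep q) (h.2 (q.under R))

end descent

section hz

variable (R S : Type u) [CommRing R] [IsLocalRing R] [IsNoetherianRing R]
    [CommRing S] [IsLocalRing S] [Algebra R S] [IsLocalHom (algebraMap R S)]
    [Hensel.IsHenselization R S]

/-- The formal fibres of the henselization of a Noetherian local ring with geometrically normal
formal fibres are geometrically normal. -/
theorem hasGeomNormalFormalFibres_of_isHenselization (hR : EGA4.HasGeomNormalFormalFibres R) :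
    EGA4.HasGeomNormalFormalFibres S := by
  haveI : IsNoetherianRing S :=
    (Groth.Agent.Lib.Helper4.Hzn.isNoetherianRing_iff_of_isHenselization R S).mp inferInstance
  haveI := Groth.Agent.Lib.Helper4.Hzn.faithfullyFlat_of_isHenselization R S
  have hind := Groth.Agent.Lib.Helper4.IndEt.isIndEtale_of_isHenselization R S
  obtain ⟨e⟩ := Groth.Agent.S2772.nonempty_algEquiv_cpl R S
  have hN : EGA4.IsNormalHom R (EGA4.Cpl R) := ⟨inferInstance, hR⟩
  have h1 : EGA4.IsNormalHom R (EGA4.Cpl S) :=
    Groth.Agent.Lib.Helper18.OnePlus.isNormalHom_of_algEquiv e hN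
  have h2 : EGA4.IsNormalHom S (EGA4.Cpl S) :=
    isNormalHom_of_isNormalHom_base R S (EGA4.Cpl S)
      (fun q _ x hx => Groth.Agent.Lib.Helper9.IndEtaleRegular.exists_mul_mem_map R S hind q x hx)
      (fun q _ => Groth.Agent.Lib.Helper9.IndEtaleRegular.isSeparable_residueField R S hind q) h1
  exact h2.2

/-- **S9230**: the henselization of a Noetherian local ring with geometrically normal formal
fibres is universally catenary. -/
theorem isUniversallyCatenary_of_isHenselization (hR : EGA4.HasGeomNormalFormalFibres R) :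
    CAlg.IsUniversallyCatenary S := by
  haveI : IsNoetherianRing S :=
    (Groth.Agent.Lib.Helper4.Hzn.isNoetherianRing_iff_of_isHenselization R S).mp inferInstance
  haveI hhens : HenselianLocalRing S := Hensel.IsHenselization.henselian R
  have hS := hasGeomNormalFormalFibres_of_isHenselization R S hR
  apply Groth.Agent.Lib.Helper18.FormEquid.isUniversallyCatenary_of_isFormallyCatenary
  intro q hq
  have hloc : IsLocalRing (integralClosure (S ⧸ q) (FractionRing (S ⧸ q))) := by
    haveI : Algebra.IsIntegral S (S ⧸ q) := inferInstance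
    haveI : Algebra.IsIntegral S (integralClosure (S ⧸ q) (FractionRing (S ⧸ q))) :=
      Algebra.IsIntegral.trans (S ⧸ q)
    exact Groth.Agent.Lib.Helper4.Unibr.isLocalRing_of_isDomain_of_isIntegral S _
  haveI : IsDomain (EGA4.Cpl (S ⧸ q)) :=
    Groth.Agent.Lib.Helper9.NormalFF.isDomain_cpl_quotient S hS q hloc
  exact Groth.Agent.Lib.Helper18.CatHt.isEquidim_of_isDomain _

end hz

end Groth.Agent.Lib.Helper9.NormalDescent
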