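import Mathlib
import Groth.Agent.Lib.Helper9.NormalFF3

set_option autoImplicit false
set_option linter.style.haveILetI false
set_option linter.unusedSectionVars false
universe u

namespace Groth.Agent.Lib.Helper9.NormalFF
open TensorProduct IsLocalRing CAlg

/-- Core: if the field `K''` is the fraction field of a domain `B` finite over the henselian local
ring `A` (with geometrically normal formal fibres), then `Â ⊗_A K''` is a domain. -/
theorem isDomain_cpl_tensor_field (A : Type u) [CommRing A] [IsNoetherianRing A]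
    [HenselianLocalRing A] (hA : EGA4.HasGeomNormalFormalFibres A)
    (K'' : Type u) [Field K''] [Algebra A K''] (B : Type u) [CommRing B] [IsDomain B] [Algebra A B]
    [Module.Finite A B] [Algebra B K''] [IsScalarTower A B K'']
    [IsFractionRing B K''] : IsDomain (EGA4.Cpl A ⊗[A] K'') := by
  haveI := isNoetherianRing_cpl A
  haveI hD : IsDomain (EGA4.Cpl A ⊗[A] B) := isDomain_cpl_tensor A hA B
  haveI hD₂ : IsDomain (B ⊗[A] EGA4.Cpl A) :=
    (Algebra.TensorProduct.comm A B (EGA4.Cpl A)).toMulEquiv.isDomain _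
  haveI hloc : IsLocalization (Algebra.algebraMapSubmonoid (B ⊗[A] EGA4.Cpl A) (nonZeroDivisors B))
      ((B ⊗[A] EGA4.Cpl A) ⊗[B] K'') := IsLocalization.tensor K'' (nonZeroDivisors B)
  have hM : Algebra.algebraMapSubmonoid (B ⊗[A] EGA4.Cpl A) (nonZeroDivisors B) ≤
      nonZeroDivisors (B ⊗[A] EGA4.Cpl A) := by
    rintro _ ⟨b, hb, rfl⟩
    have hb0 : b ≠ 0 := nonZeroDivisors.ne_zero hb
    have hreg : IsSMulRegular B b := (IsRegular.of_ne_zero hb0).left.isSMulRegular
    have hregC : IsSMulRegular (B ⊗[A] EGA4.Cpl A) (algebraMap B (B ⊗[A] EGA4.Cpl A) b) :=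
      hreg.of_flat
    rw [mem_nonZeroDivisors_iff_right]
    intro c hc
    rw [mul_comm] at hc
    exact hregC (by simpa using hc)
  have h1 : IsDomain ((B ⊗[A] EGA4.Cpl A) ⊗[B] K'') :=
    IsLocalization.isDomain_of_le_nonZeroDivisors ((B ⊗[A] EGA4.Cpl A) ⊗[B] K'') hM
  have e1 : (B ⊗[A] EGA4.Cpl A) ⊗[B] K'' ≃+* K'' ⊗[B] (B ⊗[A] EGA4.Cpl A) :=
    (Algebra.TensorProduct.comm B (B ⊗[A] EGA4.Cpl A) K'').toRingEquiv
  have e2 : K'' ⊗[B] (B ⊗[A] EGA4.Cpl A) ≃+* K'' ⊗[A] EGA4.Cpl A :=
    (Algebra.TensorProduct.cancelBaseChange A B K'' K'' (EGA4.Cpl A)).toRingEquiv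
  have e3 : EGA4.Cpl A ⊗[A] K'' ≃+* K'' ⊗[A] EGA4.Cpl A :=
    (Algebra.TensorProduct.comm A (EGA4.Cpl A) K'').toRingEquiv
  exact Function.Injective.isDomain (e3.trans (e2.symm.trans e1.symm))
    (e3.trans (e2.symm.trans e1.symm)).injective

variable (A : Type u) [CommRing A] [IsNoetherianRing A]
    [HenselianLocalRing A] [IsDomain A] (h : EGA4.HasGeomNormalFormalFibres A) [IsDomain (EGA4.Cpl A)]
    (K L : Type u) [Field K] [Field L] [Algebra A K] [IsFractionRing A K]
    [Algebra (EGA4.Cpl A) L] [IsFractionRing (EGA4.Cpl A) L] [Algebra K L] [Algebra A L]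
    [IsScalarTower A K L] [IsScalarTower A (EGA4.Cpl A) L]

include h in
/-- `F ⊗_K L` is a domain for every finite extension `F` of `K`. -/
theorem isDomain_finite_tensor (F : Type u) [Field F] [Algebra K F] [Module.Finite K F] :
    IsDomain (F ⊗[K] L) := by
  letI : Algebra A F := ((algebraMap K F).comp (algebraMap A K)).toAlgebra
  haveI : IsScalarTower A K F := IsScalarTower.of_algebraMap_eq (fun _ => rfl)
  obtain ⟨B, hfin, hfrac⟩ :=
    Groth.Agent.Lib.Helper18.J2.exists_finite_subalgebra_isFractionRing' A K F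
  haveI := hfin
  haveI := hfrac
  haveI : IsScalarTower A B F := IsScalarTower.of_algebraMap_eq (fun _ => rfl)
  haveI hD : IsDomain (EGA4.Cpl A ⊗[A] F) := isDomain_cpl_tensor_field A h F B
  haveI : Module.Flat A K := IsLocalization.flat K (nonZeroDivisors A)
  haveI : Module.Flat A F := Module.Flat.trans A K F
  -- localize at the nonzero elements of `Â`
  haveI hloc : IsLocalization
      (Algebra.algebraMapSubmonoid (EGA4.Cpl A ⊗[A] F) (nonZeroDivisors (EGA4.Cpl A)))
      ((EGA4.Cpl A ⊗[A] F) ⊗[EGA4.Cpl A] L) := IsLocalization.tensor L (nonZeroDivisors (EGA4.Cpl A))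
  have hM : Algebra.algebraMapSubmonoid (EGA4.Cpl A ⊗[A] F) (nonZeroDivisors (EGA4.Cpl A)) ≤
      nonZeroDivisors (EGA4.Cpl A ⊗[A] F) := by
    rintro _ ⟨b, hb, rfl⟩
    have hb0 : b ≠ 0 := nonZeroDivisors.ne_zero hb
    have hreg : IsSMulRegular (EGA4.Cpl A) b := (IsRegular.of_ne_zero hb0).left.isSMulRegular
    have hregC : IsSMulRegular (EGA4.Cpl A ⊗[A] F)
        (algebraMap (EGA4.Cpl A) (EGA4.Cpl A ⊗[A] F) b) := hreg.of_flat
    rw [mem_nonZeroDivisors_iff_right]
    intro c hc
    rw [mul_comm] at hc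
    exact hregC (by simpa using hc)
  have h1 : IsDomain ((EGA4.Cpl A ⊗[A] F) ⊗[EGA4.Cpl A] L) :=
    IsLocalization.isDomain_of_le_nonZeroDivisors ((EGA4.Cpl A ⊗[A] F) ⊗[EGA4.Cpl A] L) hM
  have e1 : (EGA4.Cpl A ⊗[A] F) ⊗[EGA4.Cpl A] L ≃+* L ⊗[EGA4.Cpl A] (EGA4.Cpl A ⊗[A] F) :=
    (Algebra.TensorProduct.comm (EGA4.Cpl A) (EGA4.Cpl A ⊗[A] F) L).toRingEquiv
  have e2 : L ⊗[EGA4.Cpl A] (EGA4.Cpl A ⊗[A] F) ≃+* L ⊗[A] F :=
    (Algebra.TensorProduct.cancelBaseChange A (EGA4.Cpl A) L L F).toRingEquiv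
  haveI : TensorProduct.CompatibleSMul A K L F :=
    IsLocalization.tensorProduct_compatibleSMul (nonZeroDivisors A) K L F
  have e3 : L ⊗[K] F ≃+* L ⊗[A] F :=
    (Algebra.TensorProduct.equivOfCompatibleSMul A K L L F).toRingEquiv
  have e4 : F ⊗[K] L ≃+* L ⊗[K] F := (Algebra.TensorProduct.comm K F L).toRingEquiv
  exact Function.Injective.isDomain (e4.trans (e3.trans (e2.symm.trans e1.symm)))
    (e4.trans (e3.trans (e2.symm.trans e1.symm))).injective

include h in
open Groth.Agent.Lib.Helper6 in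
theorem isGeometricallyReduced_and_algClosed_fractionField :
    Algebra.IsGeometricallyReduced K L ∧ ∀ x : L, IsAlgebraic K x → x ∈ Set.range (algebraMap K L) := by
  constructor
  · rw [Algebra.isGeometricallyReduced_field_iff]
    haveI : IsDomain (AlgebraicClosure K ⊗[K] L) :=
      isDomain_of_forall_finite (fun E hE => isDomain_finite_tensor A h K L E)
    infer_instance
  · intro x hx
    let F : IntermediateField K L := IntermediateField.adjoin K {x}
    haveI hFfin : FiniteDimensional K F :=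
      IntermediateField.adjoin.finiteDimensional hx.isIntegral
    haveI hD : IsDomain (F ⊗[K] L) := isDomain_finite_tensor A h K L F
    -- `F ⊗ F` is a domain
    let j : F ⊗[K] F →ₐ[K] F ⊗[K] L := Algebra.TensorProduct.map (AlgHom.id K F) F.val
    have hj : Function.Injective j :=
      Module.Flat.lTensor_preserves_injective_linearMap (M := F) F.val.toLinearMap
        Subtype.val_injective
    haveI hFF : IsDomain (F ⊗[K] F) := hj.isDomain j.toRingHom
    haveI : IsArtinianRing (F ⊗[K] F) := IsArtinianRing.of_finite K (F ⊗[K] F)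
    have hfield : IsField (F ⊗[K] F) := IsArtinianRing.isField_of_isDomain (F ⊗[K] F)
    -- multiplication map is injective
    let μ : F ⊗[K] F →ₐ[K] F := Algebra.TensorProduct.lmul' K
    have hμ : Function.Injective μ := by
      rw [injective_iff_map_eq_zero]
      intro z hz
      by_contra hne
      obtain ⟨w, hw⟩ := hfield.mul_inv_cancel hne
      have hw' : z * w = 1 := hw
      have h2 : μ (z * w) = μ 1 := congrArg μ hw'
      rw [map_mul, hz, zero_mul] at h2
      have h3 : μ 1 = 1 := μ.toRingHom.map_one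
      rw [h3] at h2
      exact zero_ne_one h2
    have h1 : Module.finrank K (F ⊗[K] F) ≤ Module.finrank K F :=
      LinearMap.finrank_le_finrank_of_injective (f := μ.toLinearMap) hμ
    rw [Module.finrank_tensorProduct] at h1
    have hpos : 0 < Module.finrank K F := Module.finrank_pos
    have hone : Module.finrank K F = 1 := by nlinarith
    have hbot : F = ⊥ := IntermediateField.finrank_eq_one_iff.mp hone
    have hxF : x ∈ F := IntermediateField.mem_adjoin_simple_self K x
    rw [hbot, IntermediateField.mem_bot] at hxF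
    exact hxF

end Groth.Agent.Lib.Helper9.NormalFF
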