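import Mathlib

/-! # Pencil argument: linear algebra and polynomial substitution lemmas -/

set_option autoImplicit false

namespace Groth.Agent.Lib.Helper9.Pencil

open MvPolynomial

/-- Two linear maps all of whose nontrivial combinations are injective (over an algebraically
closed field) force a strict dimension inequality. -/
theorem finrank_succ_le_of_pencil {k V U : Type*} [Field k] [IsAlgClosed k]
    [AddCommGroup V] [Module k V] [AddCommGroup U] [Module k U]
    [Module.Finite k V] [Module.Finite k U]
    (φ₁ φ₂ : V →ₗ[k] U)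
    (h : ∀ a b : k, (a ≠ 0 ∨ b ≠ 0) → Function.Injective (a • φ₁ + b • φ₂))
    (hU : 1 ≤ Module.finrank k U) :
    Module.finrank k V + 1 ≤ Module.finrank k U := by
  have h1 : Function.Injective φ₁ := by
    have := h 1 0 (Or.inl one_ne_zero)
    simpa using this
  have h2 : Function.Injective φ₂ := by
    have := h 0 1 (Or.inr one_ne_zero)
    simpa using this
  have hle : Module.finrank k V ≤ Module.finrank k U :=
    LinearMap.finrank_le_finrank_of_injective h1
  by_contra hcon
  have heq : Module.finrank k V = Module.finrank k U := by omega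
  have hs2 : Function.Surjective φ₂ :=
    (LinearMap.injective_iff_surjective_of_finrank_eq_finrank heq).mp h2
  let e₂ : V ≃ₗ[k] U := LinearEquiv.ofBijective φ₂ ⟨h2, hs2⟩
  let T : Module.End k V := e₂.symm.toLinearMap ∘ₗ φ₁
  haveI : Nontrivial V := Module.nontrivial_of_finrank_pos (R := k) (by omega)
  obtain ⟨c, hc⟩ := Module.End.exists_eigenvalue T
  obtain ⟨v, hv⟩ := hc.exists_hasEigenvector
  have hTv : T v = c • v := hv.apply_eq_smul
  have hv0 : v ≠ 0 := hv.2
  have h3 : φ₁ v = c • φ₂ v := by
    have h4 := congrArg e₂ hTv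
    have h5 : e₂ (T v) = φ₁ v := by
      change e₂ (e₂.symm (φ₁ v)) = φ₁ v
      exact e₂.apply_symm_apply _
    rw [h5, map_smul] at h4
    exact h4
  have h4 := h 1 (-c) (Or.inl one_ne_zero)
  have h5 : ((1 : k) • φ₁ + (-c) • φ₂) v = 0 := by
    simp [h3]
  exact hv0 (h4 (h5.trans (map_zero _).symm))

section Subst

variable {k : Type*} [Field k] {σ : Type*}

/-- Substituting `X_j ↦ c_j L`. -/
noncomputable def subst (c : σ → k) (L : MvPolynomial σ k) : MvPolynomial σ k →ₐ[k] MvPolynomial σ k :=
  aeval (fun j => C (c j) * L)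

theorem sub_subst_mem (c : σ → k) (L : MvPolynomial σ k) (I : Ideal (MvPolynomial σ k))
    (h : ∀ j, X j - C (c j) * L ∈ I) (f : MvPolynomial σ k) : f - subst c L f ∈ I := by
  induction f using MvPolynomial.induction_on with
  | C a =>
    have : subst c L (C a) = C a := by
      unfold subst; rw [aeval_C]; rfl
    rw [this, sub_self]; exact I.zero_mem
  | add p q hp hq =>
    have : p + q - subst c L (p + q) = (p - subst c L p) + (q - subst c L q) := by
      rw [map_add]; ring
    rw [this]; exact I.add_mem hp hq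
  | mul_X p j hp =>
    have hX : subst c L (X j) = C (c j) * L := by
      unfold subst; rw [aeval_X]
    have : p * X j - subst c L (p * X j) =
        (p - subst c L p) * X j + subst c L p * (X j - C (c j) * L) := by
      rw [map_mul, hX]; ring
    rw [this]
    exact I.add_mem (I.mul_mem_right _ hp) (I.mul_mem_left _ (h j))

theorem subst_monomial (c : σ → k) (L : MvPolynomial σ k) (m : σ →₀ ℕ) (a : k) :
    ∃ κ : k, subst c L (monomial m a) = C κ * L ^ (m.degree) := by
  refine ⟨a * m.prod (fun j e => c j ^ e), ?_⟩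
  unfold subst
  rw [aeval_monomial]
  have h1 : (m.prod fun j e => (C (c j) * L) ^ e) =
      C (m.prod fun j e => c j ^ e) * L ^ m.degree := by
    rw [Finsupp.degree]
    simp only [Finsupp.prod, mul_pow, Finset.prod_mul_distrib, map_prod, map_pow,
      Finset.prod_pow_eq_pow_sum]
    rfl
  rw [h1, map_mul, ← mul_assoc]
  rfl

theorem subst_homogeneous (c : σ → k) (L : MvPolynomial σ k) (d : ℕ) (f : MvPolynomial σ k)
    (hf : f.IsHomogeneous d) : ∃ κ : k, subst c L f = C κ * L ^ d := by
  rw [f.as_sum, map_sum]
  refine Finset.sum_induction _ (fun g => ∃ κ : k, g = C κ * L ^ d) ?_ ?_ ?_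
  · rintro a b ⟨κ, rfl⟩ ⟨κ', rfl⟩
    exact ⟨κ + κ', by rw [map_add]; ring⟩
  · exact ⟨0, by simp⟩
  · intro m hm
    obtain ⟨κ, hκ⟩ := subst_monomial c L m (coeff m f)
    have hd : m.degree = d := by
      have := hf (mem_support_iff.mp hm)
      rwa [Finsupp.degree_eq_weight_one] 
    exact ⟨κ, by rw [hκ, hd]⟩

end Subst

end Groth.Agent.Lib.Helper9.Pencil
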