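import Groth.Agent.Lib.Helper9.Pencil1
import Groth.Agent.Lib.Helper29.TwistPn

/-! # Linear forms vanishing at a non-closed point of `P^N_k` have codimension `≥ 2` -/

set_option autoImplicit false

universe u

open AlgebraicGeometry MvPolynomial

namespace Groth.Agent.Lib.Helper9.Pencil

open Groth.Agent.Lib.Helper29.QCoh

variable (N : ℕ) (k : Type u) [Field k]

/-- The linear forms vanishing at `x`. -/
def Vx (x : Proj (CohB1.polyGrading N k)) : Submodule k (CohB1.polyGrading N k 1) where
  carrier := {l | l.1 ∈ x.asHomogeneousIdeal.toIdeal}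
  add_mem' := fun {a b} ha hb => Ideal.add_mem _ ha hb
  zero_mem' := Ideal.zero_mem _
  smul_mem' := fun r l hl => by
    change (r • l).1 ∈ x.asHomogeneousIdeal.toIdeal
    have : (r • l).1 = C r * l.1 := by
      rw [← MvPolynomial.smul_eq_C_mul]; rfl
    rw [this]
    exact Ideal.mul_mem_left _ _ hl

theorem mem_Vx (x : Proj (CohB1.polyGrading N k)) (l : CohB1.polyGrading N k 1) :
    l ∈ Vx N k x ↔ l.1 ∈ x.asHomogeneousIdeal.toIdeal := Iff.rfl

theorem Vx_ne_top (x : Proj (CohB1.polyGrading N k)) : Vx N k x ≠ ⊤ := by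
  intro h
  obtain ⟨i, hi⟩ := exists_mem_basicOpen_X N k x
  apply hi
  have : Xi N k i ∈ Vx N k x := by rw [h]; trivial
  exact this

theorem isClosed_of_sup_eq_top (x : Proj (CohB1.polyGrading N k)) (l₁ : CohB1.polyGrading N k 1)
    (h : Vx N k x ⊔ Submodule.span k {l₁} = ⊤) :
    IsClosed ({x} : Set (Proj (CohB1.polyGrading N k))) := by
  classical
  have hc : ∀ j : Fin (N + 1), ∃ cj : k,
      (X j : MvPolynomial (Fin (N + 1)) k) - C cj * l₁.1 ∈ x.asHomogeneousIdeal.toIdeal := by
    intro j
    have hj : Xi N k j ∈ Vx N k x ⊔ Submodule.span k {l₁} := by rw [h]; trivial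
    obtain ⟨v, hv, w, hw, hvw⟩ := Submodule.mem_sup.mp hj
    obtain ⟨cj, rfl⟩ := Submodule.mem_span_singleton.mp hw
    refine ⟨cj, ?_⟩
    have h1 : (X j : MvPolynomial (Fin (N + 1)) k) - C cj * l₁.1 = v.1 := by
      have h2 := congrArg Subtype.val hvw
      have h3 : (v + cj • l₁).1 = v.1 + C cj * l₁.1 := by
        rw [← MvPolynomial.smul_eq_C_mul]; rfl
      rw [h3] at h2
      change _ = (X j : MvPolynomial (Fin (N + 1)) k) at h2
      rw [← h2]; ring
    rw [h1]; exact hv
  choose c hc using hc
  have hzl : ({(show ProjectiveSpectrum (CohB1.polyGrading N k) from x)} :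
      Set (ProjectiveSpectrum (CohB1.polyGrading N k))) =
      ProjectiveSpectrum.zeroLocus (CohB1.polyGrading N k)
        (x.asHomogeneousIdeal.toIdeal : Set (MvPolynomial (Fin (N + 1)) k)) := by
    ext y
    constructor
    · rintro rfl
      exact fun f hf => hf
    · intro hy
      have hyle : x.asHomogeneousIdeal.toIdeal ≤ y.asHomogeneousIdeal.toIdeal := hy
      change y = x
      apply ProjectiveSpectrum.ext
      apply HomogeneousIdeal.toIdeal_injective
      refine le_antisymm ?_ hyle
      intro f hf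
      rw [← DirectSum.sum_support_decompose (CohB1.polyGrading N k) f]
      refine Ideal.sum_mem _ fun d _ => ?_
      have hfd : (DirectSum.decompose (CohB1.polyGrading N k) f d : MvPolynomial (Fin (N + 1)) k) ∈
          y.asHomogeneousIdeal.toIdeal := y.asHomogeneousIdeal.isHomogeneous d hf
      have hgh : (DirectSum.decompose (CohB1.polyGrading N k) f d :
          MvPolynomial (Fin (N + 1)) k).IsHomogeneous d :=
        (DirectSum.decompose (CohB1.polyGrading N k) f d).2
      generalize (DirectSum.decompose (CohB1.polyGrading N k) f d :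
          MvPolynomial (Fin (N + 1)) k) = g at hfd hgh
      obtain ⟨κ, hκ⟩ := subst_homogeneous c l₁.1 d g hgh
      have h1 := sub_subst_mem c l₁.1 x.asHomogeneousIdeal.toIdeal hc g
      have h2 : subst c l₁.1 g ∈ y.asHomogeneousIdeal.toIdeal := by
        have h3 := Ideal.sub_mem _ hfd (hyle h1)
        rwa [sub_sub_cancel] at h3
      by_cases hκ0 : κ = 0
      · rw [hκ, hκ0, map_zero, zero_mul, sub_zero] at h1
        exact h1
      · exfalso
        rw [hκ] at h2
        have hL : l₁.1 ∈ y.asHomogeneousIdeal.toIdeal := by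
          have hu : IsUnit (C κ : MvPolynomial (Fin (N + 1)) k) :=
            (isUnit_iff_ne_zero.mpr hκ0).map C
          have h4 := (Ideal.unit_mul_mem_iff_mem _ hu).mp h2
          exact y.isPrime.mem_of_pow_mem _ h4
        obtain ⟨i, hi⟩ := exists_mem_basicOpen_X N k y
        apply hi
        have h5 : (X i : MvPolynomial (Fin (N + 1)) k) =
            (X i - C (c i) * l₁.1) + C (c i) * l₁.1 := by ring
        change (X i : MvPolynomial (Fin (N + 1)) k) ∈ y.asHomogeneousIdeal.toIdeal
        rw [h5]
        exact Ideal.add_mem _ (hyle (hc i)) (Ideal.mul_mem_left _ _ hL)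
  change IsClosed ({(show ProjectiveSpectrum (CohB1.polyGrading N k) from x)} :
      Set (ProjectiveSpectrum (CohB1.polyGrading N k)))
  rw [hzl]
  exact ProjectiveSpectrum.isClosed_zeroLocus _ _

end Groth.Agent.Lib.Helper9.Pencil
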