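import Groth.Agent.Lib.Helper9.Pencil2
import Groth.Agent.Lib.Lead.SD.MulSec
import Groth.Agent.Lib.Lead.Pn.TwistSeq
import Groth.Agent.Lib.Helper29.TwistPn2
import Groth.Agent.Lib.Helper29.QCohAss2
import Groth.Agent.Lib.Helper29.Dual3

/-! # Regular linear forms on `P^N_k` act injectively on global sections -/

set_option autoImplicit false

universe u

open CategoryTheory AlgebraicGeometry Opposite TopologicalSpace MvPolynomial

namespace Groth.Agent.Lib.Helper9.Pencil

open Groth.Agent.Lib.Helper29.QCoh Groth.Agent.Lib.Helper29.QCoh.Dual Groth.Agent.Lib.Lead.Pn Groth.Agent.Lib.Lead.SD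
  Groth.Agent.Lib.Lead.TwistExact

variable (N : ℕ) (k : Type u) [Field k]

/-- A linear form not vanishing at any (weakly) associated point of `G` is `G`-regular on global
sections. -/
theorem eq_zero_of_tmulSec_polySec (G : (CohB1.ProjSpace N k).Modules) [G.IsQuasicoherent]
    (l : CohB1.polyGrading N k 1)
    (hl : ∀ x : Proj (CohB1.polyGrading N k), Curv2.IsWeakAssPoint G x → l ∉ Vx N k x)
    (g : Γ(G, ⊤))
    (h : tmulSec G (Twist.twistProjSpace N k ((1 : ℕ) : ℤ)) g (polySec N k 1 l) = 0) : g = 0 := by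
  haveI : (Twist.twistProjSpace N k ((1 : ℕ) : ℤ)).IsQuasicoherent :=
    Groth.Agent.Lib.Lead.Pn.twist_isQuasicoherent N k _
  let U : (Proj (CohB1.polyGrading N k)).Opens := Proj.basicOpen (CohB1.polyGrading N k) l.1
  have hT : IsTriv (Twist.twist (CohB1.polyGrading N k) ((1 : ℕ) : ℤ)) U
      (res (Twist.twist (CohB1.polyGrading N k) ((1 : ℕ) : ℤ)) (le_top : U ≤ ⊤)
        (polySec N k 1 l)) :=
    isTriv_mkSec (CohB1.polyGrading N k) ((1 : ℕ) : ℤ) U l
      (⟨1, SetLike.GradedOne.one_mem⟩ : CohB1.polyGrading N k 0) (fun x => x.2)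
      (fun x => one_not_mem x.1) (by simp)
  have h1 : tmulSec G (Twist.twistProjSpace N k ((1 : ℕ) : ℤ)) (res G (le_top : U ≤ ⊤) g)
      (res (Twist.twist (CohB1.polyGrading N k) ((1 : ℕ) : ℤ)) (le_top : U ≤ ⊤)
        (polySec N k 1 l)) = 0 := by
    have h2 := res_tmulSec G (Twist.twistProjSpace N k ((1 : ℕ) : ℤ)) (le_top : U ≤ ⊤) g
      (polySec N k 1 l)
    exact h2.symm.trans ((congrArg _ h).trans (map_zero _))
  have h2 : res G (le_top : U ≤ ⊤) g = 0 :=
    tmulSec_injective_of_isTriv (L := Twist.twistProjSpace N k ((1 : ℕ) : ℤ)) G hT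
      (h1.trans (tmulSec_zero_left _ _ _).symm)
  exact eq_zero_of_res_eq_zero_of_weakAss_subset G le_top (fun x _ hx => hl x hx) g h2

section Mul

variable {G M : (CohB1.ProjSpace N k).Modules} (e : ℕ)
  (ε : CohB1.tensorMod G (Twist.twistProjSpace N k (e : ℤ)) ⟶ M)

/-- The multiplication `H^0(O(e)) × H^0(G) → H^0(M)` as a bilinear map (as in lead `LowVanish`). -/
noncomputable def mulB' : CohB1.polyGrading N k e →ₗ[k]
      Coh.HH (CohB1.ProjSpace N k) G 0 →ₗ[k] Coh.HH (CohB1.ProjSpace N k) M 0 :=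
  LinearMap.mk₂ k (fun w v => mulFun ε (polySec N k e w) v)
    (by
      intro w w' v
      rw [polySec_add]
      exact mulFun_add_left ε (polySec N k e w) (polySec N k e w') v)
    (by
      intro r w v
      rw [polySec_smul]
      exact mulFun_smul_left ε (Coh.toGlobal (CohB1.ProjSpace.toSpec N k) r) _ v)
    (by
      intro w v v'
      exact mulFun_add_right ε (polySec N k e w) v v')
    (by
      intro r w v
      exact mulFun_smul_right ε (Coh.toGlobal (CohB1.ProjSpace.toSpec N k) r) _ v)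

lemma mulB'_apply (w : CohB1.polyGrading N k e) (v : Coh.HH (CohB1.ProjSpace N k) G 0) :
    mulB' N k e ε w v = mulFun ε (polySec N k e w) v := rfl

end Mul

/-- Multiplication by a regular linear form is injective on `H^0`. -/
theorem mulB'_injective {G M : (CohB1.ProjSpace N k).Modules} [G.IsQuasicoherent]
    (ε : CohB1.tensorMod G (Twist.twistProjSpace N k ((1 : ℕ) : ℤ)) ⟶ M) [IsIso ε]
    (l : CohB1.polyGrading N k 1)
    (hl : ∀ x : Proj (CohB1.polyGrading N k), Curv2.IsWeakAssPoint G x → l ∉ Vx N k x) :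
    Function.Injective (mulB' N k 1 ε l) := by
  rw [injective_iff_map_eq_zero]
  intro v hv
  rw [mulB'_apply, mulFun_eq_zero_iff] at hv
  have h3 := eq_zero_of_tmulSec_polySec N k G l hl _ hv
  exact (hh0 G).injective (h3.trans (map_zero _).symm)

end Groth.Agent.Lib.Helper9.Pencil
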