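import Groth.Agent.Lib.Helper9.Pencil3
import Groth.Agent.Lib.Lead.Pn.Finite
import Groth.Agent.Lib.Helper10.PullbackStalk
import Groth.Agent.Lib.Helper18.InvStalk
import Groth.Prelude.Def_SecTwist

/-! # `h^0(F(-1)) < h^0(F)` on `P^N_k` when `F` has no closed associated points -/

set_option autoImplicit false

universe u

open CategoryTheory AlgebraicGeometry Opposite TopologicalSpace MvPolynomial
open scoped TensorProduct

namespace Groth.Agent.Lib.Helper9.Pencil

open Groth.Agent.Lib.Helper29.QCoh Groth.Agent.Lib.Lead.Pn Groth.Agent.Lib.Lead.SD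
  Groth.Agent.Lib.Lead.TwistExact

section General

variable {X : Scheme.{u}}

/-- Tensoring with an invertible module does not change the associated points. -/
theorem isAssPoint_tensor_invertible_iff (F L : X.Modules) [F.IsQuasicoherent]
    [L.IsQuasicoherent] (hL : PicF.IsInvertible L) (x : X) :
    Curv2.IsAssPoint (CohB1.tensorMod F L) x ↔ Curv2.IsAssPoint F x := by
  obtain ⟨e1⟩ := Groth.Agent.Lib.Helper10.PullbackStalk.nonempty_stalk_tensorMod_equiv F L x
  obtain ⟨t, ht⟩ := Groth.Agent.Lib.Helper18.InvStalk.exists_generator hL x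
  have hfree := Groth.Agent.Lib.Helper18.InvStalk.free_of_generator hL x t ht
  let e2 : X.presheaf.stalk x ≃ₗ[X.presheaf.stalk x] L.presheaf.stalk x :=
    LinearEquiv.ofBijective (LinearMap.toSpanSingleton _ _ t) ⟨by
      rw [← LinearMap.ker_eq_bot, eq_bot_iff]
      intro r hr
      rw [LinearMap.mem_ker, LinearMap.toSpanSingleton_apply] at hr
      exact (Submodule.mem_bot _).mpr (hfree r hr), by
      rw [← LinearMap.range_eq_top, LinearMap.range_toSpanSingleton]
      exact ht⟩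
  let e3 := e1 ≪≫ₗ TensorProduct.congr (LinearEquiv.refl _ _) e2.symm ≪≫ₗ TensorProduct.rid _ _
  exact LinearEquiv.isAssociatedPrime_iff e3

end General

variable (N : ℕ) (k : Type u) [Field k]

lemma nonempty_tw_zero_iso' (Q : (CohB1.ProjSpace N k).Modules) : Nonempty (tw N k Q 0 ≅ Q) := by
  obtain ⟨e0⟩ := nonempty_unit_iso_twist_zero (CohB1.polyGrading N k)
  exact ⟨tensorCongr (Iso.refl Q) e0.symm ≪≫ SecTwist.unitorR Q⟩

theorem isCoh_tw (F : (CohB1.ProjSpace N k).Modules) (hF : Coh.IsCoh F) (d : ℤ) :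
    Coh.IsCoh (tw N k F d) := by
  have := hF.1
  have := hF.2
  have hL := isInvertible_twistProjSpace N k d
  have := isQuasicoherent_of_isInvertible hL
  have := isFiniteType_of_isInvertible hL
  exact ⟨inferInstance, inferInstance⟩

theorem not_isClosed_of_isAssPoint_tw (F : (CohB1.ProjSpace N k).Modules) (hF : Coh.IsCoh F)
    (hass : ∀ x : ↥(CohB1.ProjSpace N k), Curv2.IsAssPoint F x →
      ¬ IsClosed ({x} : Set ↥(CohB1.ProjSpace N k))) (d : ℤ)
    (x : ↥(CohB1.ProjSpace N k)) (hx : Curv2.IsAssPoint (tw N k F d) x) :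
    ¬ IsClosed ({x} : Set ↥(CohB1.ProjSpace N k)) := by
  have := hF.1
  have hL := isInvertible_twistProjSpace N k d
  have := isQuasicoherent_of_isInvertible hL
  exact hass x ((isAssPoint_tensor_invertible_iff F _ hL x).mp hx)

/-- The pencil of two linear forms. -/
theorem exists_pencil [IsAlgClosed k] (F : (CohB1.ProjSpace N k).Modules) (hF : Coh.IsCoh F)
    (hass : ∀ x : ↥(CohB1.ProjSpace N k), Curv2.IsAssPoint F x →
      ¬ IsClosed ({x} : Set ↥(CohB1.ProjSpace N k))) :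
    ∃ φ₁ φ₂ : Coh.HH (CohB1.ProjSpace N k) (tw N k F (-1)) 0 →ₗ[k]
        Coh.HH (CohB1.ProjSpace N k) F 0,
      ∀ a b : k, (a ≠ 0 ∨ b ≠ 0) → Function.Injective (a • φ₁ + b • φ₂) := by
  have hGcoh : Coh.IsCoh (tw N k F (-1)) := isCoh_tw N k F hF (-1)
  haveI := hGcoh.1
  haveI := hGcoh.2
  obtain ⟨e0⟩ := nonempty_tw_zero_iso' N k F
  obtain ⟨e1⟩ := nonempty_tw_tw_iso N k F (-1) ((1 : ℕ) : ℤ)
  let ε : tw N k (tw N k F (-1)) ((1 : ℕ) : ℤ) ≅ F :=
    e1 ≪≫ eqToIso (by norm_num) ≪≫ e0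
  let S : Set (Proj (CohB1.polyGrading N k)) := {x | Curv2.IsWeakAssPoint (tw N k F (-1)) x}
  haveI : CompactSpace ↥(CohB1.ProjSpace N k) := compactSpace_projSpace N k
  have hS : S.Finite := by
    have h1 := finite_isWeakAssPoint_of_isCompact (X := CohB1.ProjSpace N k) (tw N k F (-1)) ⊤
      isCompact_univ
    exact h1.subset (fun x hx => ⟨trivial, hx⟩)
  haveI : Finite S := hS.to_subtype
  have hnc : ∀ x ∈ S, ¬ IsClosed ({x} : Set (Proj (CohB1.polyGrading N k))) := fun x hx =>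
    not_isClosed_of_isAssPoint_tw N k F hF hass (-1) x
      ((isAssPoint_iff_isWeakAssPoint _ x).mpr hx)
  obtain ⟨l₁, hl₁⟩ := Submodule.exists_forall_notMem_of_forall_ne_top
    (fun x : S => Vx N k x.1) (fun x => Vx_ne_top N k x.1)
  obtain ⟨l₂, hl₂⟩ := Submodule.exists_forall_notMem_of_forall_ne_top
    (fun x : S => Vx N k x.1 ⊔ Submodule.span k {l₁})
    (fun x h => hnc x.1 x.2 (isClosed_of_sup_eq_top N k x.1 l₁ h))
  have key : ∀ a b : k, (a ≠ 0 ∨ b ≠ 0) → ∀ x ∈ S, a • l₁ + b • l₂ ∉ Vx N k x := by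
    intro a b hab x hx hmem
    by_cases hb : b = 0
    · subst hb
      have ha : a ≠ 0 := by tauto
      rw [zero_smul, add_zero] at hmem
      exact hl₁ ⟨x, hx⟩ ((Submodule.smul_mem_iff _ ha).mp hmem)
    · apply hl₂ ⟨x, hx⟩
      have h2 : l₂ = b⁻¹ • (a • l₁ + b • l₂) + (-(b⁻¹ * a)) • l₁ := by
        rw [smul_add, smul_smul, smul_smul, inv_mul_cancel₀ hb, one_smul]
        module
      rw [h2]
      exact Submodule.add_mem _ (Submodule.mem_sup_left (Submodule.smul_mem _ _ hmem))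
        (Submodule.mem_sup_right (Submodule.smul_mem _ _ (Submodule.mem_span_singleton_self _)))
  refine ⟨mulB' N k 1 ε.hom l₁, mulB' N k 1 ε.hom l₂, ?_⟩
  intro a b hab
  have h3 : a • mulB' N k 1 ε.hom l₁ + b • mulB' N k 1 ε.hom l₂ =
      mulB' N k 1 ε.hom (a • l₁ + b • l₂) := by
    rw [map_add, map_smul, map_smul]
  rw [h3]
  exact mulB'_injective N k ε.hom _ (fun x hx => key a b hab x hx)

theorem finrank_tw_neg_one_le [IsAlgClosed k] (F : (CohB1.ProjSpace N k).Modules)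
    (hF : Coh.IsCoh F)
    (hass : ∀ x : ↥(CohB1.ProjSpace N k), Curv2.IsAssPoint F x →
      ¬ IsClosed ({x} : Set ↥(CohB1.ProjSpace N k))) :
    Module.finrank k (Coh.HH (CohB1.ProjSpace N k) (tw N k F (-1)) 0) ≤
      Module.finrank k (Coh.HH (CohB1.ProjSpace N k) F 0) := by
  haveI : Module.Finite k (Coh.HH (CohB1.ProjSpace N k) F 0) :=
    module_finite_HH_of_isCoh N k F hF 0
  obtain ⟨φ₁, φ₂, h⟩ := exists_pencil N k F hF hass
  have h1 : Function.Injective φ₁ := by
    have := h 1 0 (Or.inl one_ne_zero)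
    simpa using this
  exact LinearMap.finrank_le_finrank_of_injective h1

theorem finrank_tw_neg_one_succ_le [IsAlgClosed k] (F : (CohB1.ProjSpace N k).Modules)
    (hF : Coh.IsCoh F)
    (hass : ∀ x : ↥(CohB1.ProjSpace N k), Curv2.IsAssPoint F x →
      ¬ IsClosed ({x} : Set ↥(CohB1.ProjSpace N k)))
    (h0 : 1 ≤ Module.finrank k (Coh.HH (CohB1.ProjSpace N k) F 0)) :
    Module.finrank k (Coh.HH (CohB1.ProjSpace N k) (tw N k F (-1)) 0) + 1 ≤
      Module.finrank k (Coh.HH (CohB1.ProjSpace N k) F 0) := by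
  haveI : Module.Finite k (Coh.HH (CohB1.ProjSpace N k) F 0) :=
    module_finite_HH_of_isCoh N k F hF 0
  haveI : Module.Finite k (Coh.HH (CohB1.ProjSpace N k) (tw N k F (-1)) 0) :=
    module_finite_HH_of_isCoh N k _ (isCoh_tw N k F hF (-1)) 0
  obtain ⟨φ₁, φ₂, h⟩ := exists_pencil N k F hF hass
  exact finrank_succ_le_of_pencil φ₁ φ₂ h h0

end Groth.Agent.Lib.Helper9.Pencil
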