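import Groth.Agent.Lib.Helper9.Pencil4

/-! # `H^0(F(-n)) = 0` for `n ≥ h^0(F)` on `P^N_k` when `F` has no closed associated points -/

set_option autoImplicit false

universe u

open CategoryTheory AlgebraicGeometry Opposite TopologicalSpace

namespace Groth.Agent.Lib.Helper9.Pencil

open Groth.Agent.Lib.Helper29.QCoh Groth.Agent.Lib.Lead.Pn Groth.Agent.Lib.Lead.SD
  Groth.Agent.Lib.Lead.TwistExact

variable (N : ℕ) (k : Type u) [Field k]

theorem subsingleton_tw_neg [IsAlgClosed k] : ∀ (n : ℕ) (F : (CohB1.ProjSpace N k).Modules)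
    (_ : Coh.IsCoh F)
    (_ : ∀ x : ↥(CohB1.ProjSpace N k), Curv2.IsAssPoint F x →
      ¬ IsClosed ({x} : Set ↥(CohB1.ProjSpace N k)))
    (_ : Module.finrank k (Coh.HH (CohB1.ProjSpace N k) F 0) ≤ n),
    Subsingleton (Coh.HH (CohB1.ProjSpace N k) (tw N k F (-(n : ℤ))) 0) := by
  intro n
  induction n with
  | zero =>
    intro F hF hass hn
    haveI : Module.Finite k (Coh.HH (CohB1.ProjSpace N k) F 0) :=
      module_finite_HH_of_isCoh N k F hF 0
    have h0 : Module.finrank k (Coh.HH (CohB1.ProjSpace N k) F 0) = 0 := by omega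
    have hs : Subsingleton (Coh.HH (CohB1.ProjSpace N k) F 0) := Module.finrank_zero_iff.mp h0
    obtain ⟨e0⟩ := nonempty_tw_zero_iso' N k F
    have e : tw N k F 0 ≅ tw N k F (-((0 : ℕ) : ℤ)) := eqToIso (by simp)
    exact subsingleton_HH_of_iso (e0.symm ≪≫ e) 0 hs
  | succ n ih =>
    intro F hF hass hn
    have hF' := isCoh_tw N k F hF (-1)
    have hass' : ∀ x : ↥(CohB1.ProjSpace N k), Curv2.IsAssPoint (tw N k F (-1)) x →
        ¬ IsClosed ({x} : Set ↥(CohB1.ProjSpace N k)) :=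
      fun x hx => not_isClosed_of_isAssPoint_tw N k F hF hass (-1) x hx
    have hle : Module.finrank k (Coh.HH (CohB1.ProjSpace N k) (tw N k F (-1)) 0) ≤ n := by
      by_cases h0 : 1 ≤ Module.finrank k (Coh.HH (CohB1.ProjSpace N k) F 0)
      · have := finrank_tw_neg_one_succ_le N k F hF hass h0
        omega
      · have := finrank_tw_neg_one_le N k F hF hass
        omega
    have hs := ih (tw N k F (-1)) hF' hass' hle
    obtain ⟨e1⟩ := nonempty_tw_tw_iso N k F (-1) (-(n : ℤ))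
    have e : tw N k F (-1 + -(n : ℤ)) ≅ tw N k F (-((n + 1 : ℕ) : ℤ)) :=
      eqToIso (by congr 1; push_cast; ring)
    exact subsingleton_HH_of_iso (e1 ≪≫ e) 0 hs

end Groth.Agent.Lib.Helper9.Pencil
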