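import Mathlib

set_option autoImplicit false
universe u
open TensorProduct Function

namespace Groth.Agent.Lib.Helper9.PicProd

/-- `IsGCDMonoid` transfers along multiplicative equivalences. -/
theorem isGCDMonoid_of_mulEquiv {α β : Type*} [CommMonoidWithZero α] [CommMonoidWithZero β]
    [IsCancelMulZero α] (e : α ≃* β) [h : IsGCDMonoid β] : IsGCDMonoid α := by
  rw [isGCDMonoid_iff_exists_gcd] at h ⊢
  refine ⟨inferInstance, fun a b => ?_⟩
  obtain ⟨c', hc'⟩ := h.2 (e a) (e b)
  refine ⟨e.symm c', fun d => ?_⟩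
  have h1 : ∀ x y : α, x ∣ y ↔ e x ∣ e y := fun x y => (map_dvd_iff e).symm
  rw [h1 d a, h1 d b, h1 d (e.symm c'), MulEquiv.apply_symm_apply]
  exact hc' (e d)

theorem isGCDMonoid_mvPolynomial (R : Type u) [CommRing R] [IsDomain R] [IsGCDMonoid R] (n : ℕ) :
    IsGCDMonoid (MvPolynomial (Fin n) R) := by
  induction n with
  | zero =>
    exact isGCDMonoid_of_mulEquiv (MvPolynomial.isEmptyAlgEquiv R (Fin 0)).toMulEquiv
  | succ n ih =>
    exact isGCDMonoid_of_mulEquiv (MvPolynomial.finSuccEquiv R n).toMulEquiv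

end Groth.Agent.Lib.Helper9.PicProd
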