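import Mathlib
import Groth.Agent.Lib.Helper9.PicProd1

set_option autoImplicit false
universe u
open TensorProduct Function

namespace Groth.Agent.Lib.Helper9.PicProd

section

variable {ι : Type u} (R : ι → Type u) [∀ i, CommRing (R i)] (n : ℕ)

/-- the projection `(∏ R_i)[x] → R_i[x]` -/
noncomputable def rho (i : ι) : MvPolynomial (Fin n) (∀ i, R i) →+* MvPolynomial (Fin n) (R i) :=
  MvPolynomial.map (Pi.evalRingHom R i)

variable {R n}

theorem coeff_rho (i : ι) (p : MvPolynomial (Fin n) (∀ i, R i)) (μ : Fin n →₀ ℕ) :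
    MvPolynomial.coeff μ (rho R n i p) = MvPolynomial.coeff μ p i := by
  rw [rho, MvPolynomial.coeff_map]; rfl

theorem ext_rho {p q : MvPolynomial (Fin n) (∀ i, R i)} (h : ∀ i, rho R n i p = rho R n i q) :
    p = q := by
  ext μ i
  have := congrArg (MvPolynomial.coeff μ) (h i)
  rwa [coeff_rho, coeff_rho] at this

/-- the box of exponents bounded by `d` -/
noncomputable def box (n d : ℕ) : Finset (Fin n →₀ ℕ) :=
  (Fintype.piFinset (fun _ : Fin n => Finset.range (d + 1))).map
    Finsupp.equivFunOnFinite.symm.toEmbedding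

theorem mem_box {d : ℕ} (μ : Fin n →₀ ℕ) : μ ∈ box n d ↔ ∀ j, μ j ≤ d := by
  rw [box, Finset.mem_map_equiv, Fintype.mem_piFinset]
  simp

theorem mem_box_of_mem_support {T : Type*} [CommSemiring T] {d : ℕ} (p : MvPolynomial (Fin n) T)
    (hp : p.totalDegree ≤ d) {μ : Fin n →₀ ℕ} (hμ : μ ∈ p.support) : μ ∈ box n d := by
  rw [mem_box]
  intro j
  have h1 := MvPolynomial.le_totalDegree hμ
  have h2 : μ j ≤ μ.sum fun _ e => e := by
    rw [Finsupp.sum_fintype _ _ (fun _ => rfl)]
    exact Finset.single_le_sum (f := fun j => μ j) (fun _ _ => Nat.zero_le _) (Finset.mem_univ j)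
  omega

theorem exists_assemble (d : ℕ) (p : ∀ i, MvPolynomial (Fin n) (R i))
    (hp : ∀ i, (p i).totalDegree ≤ d) :
    ∃ P : MvPolynomial (Fin n) (∀ i, R i), ∀ i, rho R n i P = p i := by
  classical
  refine ⟨∑ μ ∈ box n d, MvPolynomial.monomial μ (fun i => MvPolynomial.coeff μ (p i)), ?_⟩
  intro i
  ext ν
  rw [coeff_rho, MvPolynomial.coeff_sum]
  simp only [MvPolynomial.coeff_monomial]
  rw [Finset.sum_apply]
  by_cases hν : ν ∈ box n d
  · rw [Finset.sum_eq_single ν]
    · simp
    · intro μ _ hμν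
      simp [hμν]
    · intro h; exact absurd hν h
  · have h0 : MvPolynomial.coeff ν (p i) = 0 := by
      by_contra hne
      exact hν (mem_box_of_mem_support (p i) (hp i) (MvPolynomial.mem_support_iff.mpr hne))
    rw [h0]
    apply Finset.sum_eq_zero
    intro μ hμ
    have : μ ≠ ν := fun h => hν (h ▸ hμ)
    simp [this]

end

end Groth.Agent.Lib.Helper9.PicProd
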