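import Mathlib
import Groth.Agent.Lib.Helper9.PicProd2

set_option autoImplicit false
universe u
open TensorProduct Function

namespace Groth.Agent.Lib.Helper9.PicProd

theorem totalDegree_map_le' {σ T T' : Type*} [CommSemiring T] [CommSemiring T'] (f : T →+* T')
    (p : MvPolynomial σ T) : (MvPolynomial.map f p).totalDegree ≤ p.totalDegree := by
  unfold MvPolynomial.totalDegree
  exact Finset.sup_mono (MvPolynomial.support_map_subset f p)

section

variable {ι : Type u} (R : ι → Type u) [∀ i, CommRing (R i)] [∀ i, IsDomain (R i)] (n : ℕ)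

theorem free_of_invertible
    (hPic : ∀ i, Subsingleton (CommRing.Pic (MvPolynomial (Fin n) (R i))))
    (M : Type u) [AddCommGroup M] [Module (MvPolynomial (Fin n) (∀ i, R i)) M]
    [Module.Invertible (MvPolynomial (Fin n) (∀ i, R i)) M] :
    Module.Free (MvPolynomial (Fin n) (∀ i, R i)) M := by
  classical
  obtain ⟨m, π, s, hπ, hs, hπs⟩ :=
    Module.Finite.exists_comp_eq_id_of_projective (MvPolynomial (Fin n) (∀ i, R i)) M
  let algi : ∀ i, Algebra (MvPolynomial (Fin n) (∀ i, R i)) (MvPolynomial (Fin n) (R i)) :=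
    fun i => (rho R n i).toAlgebra
  have halg : ∀ i (p : MvPolynomial (Fin n) (∀ i, R i)),
      algebraMap (MvPolynomial (Fin n) (∀ i, R i)) (MvPolynomial (Fin n) (R i)) p = rho R n i p :=
    fun i p => rfl
  -- basis vectors and coordinate functionals
  let E : Fin m → (Fin m → MvPolynomial (Fin n) (∀ i, R i)) := fun j j' => if j = j' then 1 else 0
  let σ : Fin m → M →ₗ[MvPolynomial (Fin n) (∀ i, R i)] MvPolynomial (Fin n) (∀ i, R i) :=
    fun j => (LinearMap.proj j) ∘ₗ s
  have hrec : ∀ y : M, y = ∑ k, σ k y • π (E k) := by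
    intro y
    have h1 : π (s y) = y := by
      have := congrArg (fun l => l y) hπs
      simpa using this
    conv_lhs => rw [← h1, LinearMap.pi_apply_eq_sum_univ π (s y)]
    rfl
  -- base changes
  have hfree : ∀ i, Nonempty ((MvPolynomial (Fin n) (R i) ⊗[MvPolynomial (Fin n) (∀ i, R i)] M)
      ≃ₗ[MvPolynomial (Fin n) (R i)] MvPolynomial (Fin n) (R i)) := by
    intro i
    have := hPic i
    exact Module.Invertible.free_iff_linearEquiv.mp inferInstance
  let θ : ∀ i, (MvPolynomial (Fin n) (R i) ⊗[MvPolynomial (Fin n) (∀ i, R i)] M)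
      ≃ₗ[MvPolynomial (Fin n) (R i)] MvPolynomial (Fin n) (R i) := fun i => Classical.choice (hfree i)
  let σi : ∀ i, Fin m → (MvPolynomial (Fin n) (R i) ⊗[MvPolynomial (Fin n) (∀ i, R i)] M)
      →ₗ[MvPolynomial (Fin n) (R i)] MvPolynomial (Fin n) (R i) :=
    fun i j => LinearMap.liftBaseChange (MvPolynomial (Fin n) (R i))
      ((Algebra.linearMap (MvPolynomial (Fin n) (∀ i, R i)) (MvPolynomial (Fin n) (R i))) ∘ₗ σ j)
  let v : ∀ i, Fin m → MvPolynomial (Fin n) (R i) := fun i j => σi i j ((θ i).symm 1)
  let w : ∀ i, Fin m → MvPolynomial (Fin n) (R i) := fun i k => θ i (1 ⊗ₜ π (E k))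
  have hσi : ∀ i j z, σi i j z = θ i z * v i j := by
    intro i j z
    have : z = (θ i z) • (θ i).symm 1 := by
      rw [← map_smul, smul_eq_mul, mul_one, LinearEquiv.symm_apply_apply]
    conv_lhs => rw [this, map_smul, smul_eq_mul]
  have hσi_tmul : ∀ i j (y : M), σi i j (1 ⊗ₜ y) = rho R n i (σ j y) := by
    intro i j y
    simp only [σi]
    rw [LinearMap.liftBaseChange_tmul, one_smul]
    rfl
  have hb : ∀ i j k, rho R n i (σ j (π (E k))) = w i k * v i j := by
    intro i j k
    rw [← hσi_tmul, hσi]
  have hreci : ∀ i (z : MvPolynomial (Fin n) (R i) ⊗[MvPolynomial (Fin n) (∀ i, R i)] M),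
      z = ∑ k, σi i k z • ((1 : MvPolynomial (Fin n) (R i)) ⊗ₜ[MvPolynomial (Fin n) (∀ i, R i)] π (E k)) := by
    intro i z
    induction z using TensorProduct.induction_on with
    | zero => simp
    | add x y hx hy =>
      conv_lhs => rw [hx, hy]
      rw [← Finset.sum_add_distrib]
      refine Finset.sum_congr rfl (fun k _ => ?_)
      rw [map_add, add_smul]
    | tmul c y =>
      have h1 : ∀ k, σi i k (c ⊗ₜ y) • ((1 : MvPolynomial (Fin n) (R i)) ⊗ₜ[MvPolynomial (Fin n) (∀ i, R i)] π (E k))
          = c ⊗ₜ (σ k y • π (E k)) := by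
        intro k
        simp only [σi]
        rw [LinearMap.liftBaseChange_tmul, TensorProduct.smul_tmul', smul_eq_mul, mul_one,
          LinearMap.comp_apply, Algebra.linearMap_apply, Algebra.smul_def, mul_comm,
          ← Algebra.smul_def, TensorProduct.smul_tmul]
        rfl
      simp_rw [h1]
      rw [← TensorProduct.tmul_sum, ← hrec y]
  have ha : ∀ i, ∑ k, w i k * v i k = 1 := by
    intro i
    have h1 := hreci i ((θ i).symm 1)
    have h2 := congrArg (θ i) h1
    rw [LinearEquiv.apply_symm_apply, map_sum] at h2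
    rw [h2]
    refine Finset.sum_congr rfl (fun k _ => ?_)
    rw [map_smul, smul_eq_mul, mul_comm]
  -- degree bounds
  let d : ℕ := Finset.univ.sup (fun jk : Fin m × Fin m => (σ jk.1 (π (E jk.2))).totalDegree)
  have hd : ∀ i j k, (w i k * v i j).totalDegree ≤ d := by
    intro i j k
    rw [← hb]
    refine le_trans (totalDegree_map_le' _ _) ?_
    exact Finset.le_sup (f := fun jk : Fin m × Fin m => (σ jk.1 (π (E jk.2))).totalDegree)
      (Finset.mem_univ (j, k))
  have hne : ∀ i, (∃ k, w i k ≠ 0) ∧ (∃ j, v i j ≠ 0) := by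
    intro i
    constructor
    · by_contra hcon
      push Not at hcon
      have := ha i
      simp [hcon] at this
    · by_contra hcon
      push Not at hcon
      have := ha i
      simp [hcon] at this
  have hdv : ∀ i j, (v i j).totalDegree ≤ d := by
    intro i j
    by_cases hv : v i j = 0
    · rw [hv]; simp
    · obtain ⟨k, hk⟩ := (hne i).1
      have := hd i j k
      rw [MvPolynomial.totalDegree_mul_of_isDomain hk hv] at this
      omega
  have hdw : ∀ i k, (w i k).totalDegree ≤ d := by
    intro i k
    by_cases hw : w i k = 0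
    · rw [hw]; simp
    · obtain ⟨j, hj⟩ := (hne i).2
      have := hd i j k
      rw [MvPolynomial.totalDegree_mul_of_isDomain hw hj] at this
      omega
  -- assemble
  choose V hV using fun j => exists_assemble d (fun i => v i j) (fun i => hdv i j)
  choose W hW using fun k => exists_assemble d (fun i => w i k) (fun i => hdw i k)
  have hA : ∑ k, W k * V k = 1 := by
    apply ext_rho
    intro i
    rw [map_sum, map_one, ← ha i]
    refine Finset.sum_congr rfl (fun k _ => ?_)
    rw [map_mul, hW, hV]
  have hB : ∀ j k, σ j (π (E k)) = V j * W k := by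
    intro j k
    apply ext_rho
    intro i
    rw [hb, map_mul, hV, hW, mul_comm]
  -- the functional and the generator
  let f : M →ₗ[MvPolynomial (Fin n) (∀ i, R i)] MvPolynomial (Fin n) (∀ i, R i) := ∑ k, W k • σ k
  let x : M := π V
  have hσx : ∀ k, σ k x = V k := by
    intro k
    have h1 : σ k x = ∑ j, V j • σ k (π (E j)) := by
      have := LinearMap.pi_apply_eq_sum_univ (σ k ∘ₗ π) V
      simpa using this
    rw [h1]
    simp_rw [hB, smul_eq_mul]
    calc ∑ j, V j * (V k * W j) = V k * ∑ j, W j * V j := by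
          rw [Finset.mul_sum]; refine Finset.sum_congr rfl (fun j _ => by ring)
      _ = V k := by rw [hA, mul_one]
  have hfx : f x = 1 := by
    simp only [f, LinearMap.sum_apply, LinearMap.smul_apply, smul_eq_mul]
    simp_rw [hσx]
    exact hA
  have hsurj : Surjective f := by
    intro c
    exact ⟨c • x, by rw [map_smul, hfx, smul_eq_mul, mul_one]⟩
  exact Module.Free.of_equiv
    (LinearEquiv.ofBijective f (Module.Invertible.bijective_of_surjective hsurj)).symm

end

end Groth.Agent.Lib.Helper9.PicProd

namespace Groth.Agent.Lib.Helper9.PicProd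

theorem main {ι : Type u} (R : ι → Type u)
    [∀ i, CommRing (R i)] [∀ i, IsDomain (R i)] [∀ i, ValuationRing (R i)]
    (n : ℕ) : Subsingleton (CommRing.Pic (MvPolynomial (Fin n) (∀ i, R i))) := by
  rw [CommRing.Pic.subsingleton_iff]
  intro M _ _ hM
  refine free_of_invertible R n (fun i => ?_) M
  have : IsGCDMonoid (MvPolynomial (Fin n) (R i)) := isGCDMonoid_mvPolynomial (R i) n
  infer_instance

end Groth.Agent.Lib.Helper9.PicProd
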