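import Mathlib
import Groth.Agent.Lib.Helper9.FrobLift
import Groth.Agent.S13137

/-!
# Frobenius lifts of polynomial rings over `W₂(k)` and a Taylor formula
-/

set_option autoImplicit false
universe u v

namespace Groth.Agent.Lib.Helper9.PolyFrob

open FrobAlg MvPolynomial Groth.Agent.Lib.Helper9.FrobLift

section taylor

variable {S : Type*} [CommRing S] {σ : Type*} [Fintype σ] {T : Type*} [CommRing T]

/-- first-order Taylor formula for two ring homs out of a polynomial ring that agree on
coefficients and differ on the variables by elements with pairwise products zero -/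
theorem taylor (φ ψ : MvPolynomial σ S →+* T) (ε : σ → T) (hC : ∀ a, φ (C a) = ψ (C a))
    (hX : ∀ j, φ (X j) = ψ (X j) + ε j) (hε : ∀ i j, ε i * ε j = 0) (f : MvPolynomial σ S) :
    φ f = ψ f + ∑ j, ψ (pderiv j f) * ε j := by
  classical
  induction f using MvPolynomial.induction_on with
  | C a =>
    rw [hC]
    simp
  | add f g hf hg =>
    rw [map_add, hf, hg, map_add]
    simp only [map_add, add_mul, Finset.sum_add_distrib]
    ring
  | mul_X f i hf =>
    rw [map_mul, hf, hX, map_mul]
    have h1 : ∀ j, ψ (pderiv j (f * X i)) * ε j =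
        ψ (pderiv j f) * ψ (X i) * ε j + ψ f * (if j = i then ε j else 0) := by
      intro j
      rw [pderiv_mul, pderiv_X, map_add, map_mul, map_mul, add_mul]
      congr 1
      by_cases hji : j = i
      · subst hji
        rw [Pi.single_eq_same, map_one, mul_one, if_pos rfl]
      · rw [Pi.single_eq_of_ne (Ne.symm hji), map_zero, mul_zero, zero_mul, if_neg hji, mul_zero]
    simp only [h1, Finset.sum_add_distrib, ← Finset.mul_sum, Finset.sum_ite_eq', Finset.mem_univ,
      if_true]
    have h2 : (∑ j, ψ (pderiv j f) * ε j) * ε i = 0 := by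
      rw [Finset.sum_mul]
      apply Finset.sum_eq_zero
      intro j _
      rw [mul_assoc, hε, mul_zero]
    have h3 : ∑ j, ψ (pderiv j f) * ψ (X i) * ε j = (∑ j, ψ (pderiv j f) * ε j) * ψ (X i) := by
      rw [Finset.sum_mul]
      refine Finset.sum_congr rfl fun j _ => ?_
      ring
    rw [h3]
    linear_combination h2

end taylor

section w2

variable (p : ℕ) [hp : Fact p.Prime] (k : Type u) [Field k] [CharP k p] [PerfectRing k p] {n : ℕ}

/-- reduction of polynomials mod `p` -/
noncomputable abbrev rho (n : ℕ) : MvPolynomial (Fin n) (W2 p k) →+* MvPolynomial (Fin n) k :=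
  MvPolynomial.map (res p k)

theorem ker_rho : RingHom.ker (rho p k n) = Ideal.span {(p : MvPolynomial (Fin n) (W2 p k))} := by
  rw [MvPolynomial.ker_map, ker_res, Ideal.map_span, Set.image_singleton, map_natCast]

theorem pp' : (p : MvPolynomial (Fin n) (W2 p k)) * (p : MvPolynomial (Fin n) (W2 p k)) = 0 := by
  have h2 := congrArg (C (σ := Fin n)) (p_mul_p p k)
  rw [map_mul, map_natCast, map_zero] at h2
  exact h2

theorem rho_surjective : Function.Surjective (rho p k n) :=
  MvPolynomial.map_surjective _ (fun a => ⟨Groth.Agent.Lib.Helper9.W2Arith.tt p a, by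
    rw [res_apply, Groth.Agent.Lib.Helper9.W2Arith.coeff_zero_tt]⟩)

/-- the Frobenius lift `x_j ↦ x_j^p + p h_j` -/
noncomputable def Ft (h : Fin n → MvPolynomial (Fin n) (W2 p k)) :
    MvPolynomial (Fin n) (W2 p k) →+* MvPolynomial (Fin n) (W2 p k) :=
  eval₂Hom (C.comp (sigma p k)) (fun j => X j ^ p + (p : MvPolynomial (Fin n) (W2 p k)) * h j)

theorem Ft_C (h : Fin n → MvPolynomial (Fin n) (W2 p k)) (w : W2 p k) :
    Ft p k h (C w) = C (sigma p k w) := by
  unfold Ft
  rw [coe_eval₂Hom, eval₂_C]
  rfl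

theorem Ft_X (h : Fin n → MvPolynomial (Fin n) (W2 p k)) (j : Fin n) :
    Ft p k h (X j) = X j ^ p + (p : MvPolynomial (Fin n) (W2 p k)) * h j := by
  unfold Ft
  rw [coe_eval₂Hom, eval₂_X]

theorem polyFrob_C (w : W2 p k) : polyFrob p k (Fin n) (C w) = C (sigma p k w) := by
  unfold polyFrob
  rw [coe_eval₂Hom, eval₂_C]
  rfl

theorem polyFrob_X (j : Fin n) : polyFrob p k (Fin n) (X j) = X j ^ p := by
  unfold polyFrob
  rw [coe_eval₂Hom, eval₂_X]

theorem rho_Ft (h : Fin n → MvPolynomial (Fin n) (W2 p k)) (f : MvPolynomial (Fin n) (W2 p k)) :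
    rho p k n (Ft p k h f) = rho p k n f ^ p := by
  have hchar : CharP (MvPolynomial (Fin n) k) p := inferInstance
  have key : (rho p k n).comp (Ft p k h) = (frobenius (MvPolynomial (Fin n) k) p).comp (rho p k n) := by
    apply MvPolynomial.ringHom_ext
    · intro w
      rw [RingHom.comp_apply, RingHom.comp_apply, Ft_C, map_C, map_C, frobenius_def, ← map_pow,
        res_apply, res_apply, WittGrp.coeff_frob]
    · intro j
      rw [RingHom.comp_apply, RingHom.comp_apply, Ft_X, map_add, map_mul, map_pow, map_natCast,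
        map_X, frobenius_def, CharP.cast_eq_zero, zero_mul, add_zero]
  have := RingHom.congr_fun key f
  rw [RingHom.comp_apply, RingHom.comp_apply, frobenius_def] at this
  exact this

theorem Ft_zero : Ft p k (fun _ => (0 : MvPolynomial (Fin n) (W2 p k))) = polyFrob p k (Fin n) := by
  apply MvPolynomial.ringHom_ext
  · intro w
    rw [Ft_C, polyFrob_C]
  · intro j
    rw [Ft_X, polyFrob_X, mul_zero, add_zero]

theorem rho_polyFrob (f : MvPolynomial (Fin n) (W2 p k)) :
    rho p k n (polyFrob p k (Fin n) f) = rho p k n f ^ p := by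
  rw [← Ft_zero, rho_Ft]

theorem exists_of_rho_eq_zero (f : MvPolynomial (Fin n) (W2 p k)) (hf : rho p k n f = 0) :
    ∃ g, f = (p : MvPolynomial (Fin n) (W2 p k)) * g := by
  have : f ∈ RingHom.ker (rho p k n) := hf
  rw [ker_rho, Ideal.mem_span_singleton'] at this
  obtain ⟨g, hg⟩ := this
  exact ⟨g, by rw [← hg, mul_comm]⟩

theorem p_mul_polyFrob (f : MvPolynomial (Fin n) (W2 p k)) :
    (p : MvPolynomial (Fin n) (W2 p k)) * polyFrob p k (Fin n) f =
      (p : MvPolynomial (Fin n) (W2 p k)) * f ^ p := by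
  have h : rho p k n (polyFrob p k (Fin n) f - f ^ p) = 0 := by
    rw [map_sub, rho_polyFrob, map_pow, sub_self]
  obtain ⟨g, hg⟩ := exists_of_rho_eq_zero p k _ h
  rw [← sub_eq_zero, ← mul_sub, hg, ← mul_assoc, pp', zero_mul]

theorem Ft_eq (h : Fin n → MvPolynomial (Fin n) (W2 p k)) (f : MvPolynomial (Fin n) (W2 p k)) :
    Ft p k h f = polyFrob p k (Fin n) f +
      (p : MvPolynomial (Fin n) (W2 p k)) * ∑ j, pderiv j f ^ p * h j := by
  rw [taylor (Ft p k h) (polyFrob p k (Fin n))
    (fun j => (p : MvPolynomial (Fin n) (W2 p k)) * h j)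
    (fun w => by rw [Ft_C, polyFrob_C]) (fun j => by rw [Ft_X, polyFrob_X])
    (fun i j => by rw [mul_mul_mul_comm, pp', zero_mul]) f]
  congr 1
  rw [Finset.mul_sum]
  refine Finset.sum_congr rfl fun j _ => ?_
  rw [← mul_assoc, mul_comm _ (p : MvPolynomial (Fin n) (W2 p k)), p_mul_polyFrob, mul_assoc]

end w2

end Groth.Agent.Lib.Helper9.PolyFrob
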