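import Mathlib
import Groth.Prelude.Def_W4c5spincurvestfNode

/-!
# Normal form for `R[x, y]/(xy - π)`

`SpinCurv.PolyNodeRing R π` is a free `R`-module with basis `x ^ m` (`m ≥ 0`), `y ^ (-m)` (`m < 0`),
indexed by `m : ℤ`.
-/

universe u

namespace Groth.Agent.Lib.Helper9.PolyNode

open MvPolynomial SpinCurv

variable (R : Type u) [CommRing R] (π : R)

/-- The generator `xy - π`. -/
noncomputable abbrev gen : MvPolynomial (Fin 2) R := X 0 * X 1 - C π

/-- Normal form on polynomials: `x^a y^b ↦ π^min(a,b) e_{a-b}`. -/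
noncomputable def nfPoly : MvPolynomial (Fin 2) R →ₗ[R] (ℤ →₀ R) :=
  (basisMonomials (Fin 2) R).constr R fun v =>
    Finsupp.single ((v 0 : ℤ) - v 1) (π ^ min (v 0) (v 1))

theorem nfPoly_monomial (v : Fin 2 →₀ ℕ) (r : R) :
    nfPoly R π (monomial v r) = Finsupp.single ((v 0 : ℤ) - v 1) (r * π ^ min (v 0) (v 1)) := by
  have h : monomial v r = r • basisMonomials (Fin 2) R v := by
    simp [smul_monomial]
  rw [h, map_smul, nfPoly, Module.Basis.constr_basis, Finsupp.smul_single, smul_eq_mul]

theorem nfPoly_mul_gen (c : MvPolynomial (Fin 2) R) : nfPoly R π (c * gen R π) = 0 := by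
  have h : (nfPoly R π).comp (LinearMap.mulRight R (gen R π)) = 0 := by
    apply (basisMonomials (Fin 2) R).ext
    intro v
    simp only [coe_basisMonomials, LinearMap.comp_apply, LinearMap.mulRight_apply,
      LinearMap.zero_apply]
    have h1 : monomial v (1 : R) * gen R π =
        monomial (v + (Finsupp.single 0 1 + Finsupp.single 1 1)) 1 - monomial v π := by
      rw [gen, mul_sub, X, X, monomial_mul, monomial_mul, C_apply, monomial_mul]
      simp
    rw [h1, map_sub, nfPoly_monomial, nfPoly_monomial]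
    simp only [Finsupp.coe_add, Pi.add_apply, Finsupp.single_eq_same, one_mul]
    have e0 : (Finsupp.single (1 : Fin 2) 1 : Fin 2 →₀ ℕ) 0 = 0 := by
      simp
    have e1 : (Finsupp.single (0 : Fin 2) 1 : Fin 2 →₀ ℕ) 1 = 0 := by
      simp
    rw [e0, e1, add_zero, zero_add, Nat.add_min_add_right, pow_succ']
    have : ((v 0 + 1 : ℕ) : ℤ) - ((v 1 + 1 : ℕ) : ℤ) = (v 0 : ℤ) - v 1 := by push_cast; ring
    rw [this, sub_self]
  exact LinearMap.congr_fun h c

/-- Normal form on the quotient. -/
noncomputable def nf : PolyNodeRing R π →ₗ[R] (ℤ →₀ R) :=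
  (Submodule.liftQ ((Ideal.span {gen R π}).restrictScalars R) (nfPoly R π) (by
    intro G hG
    change G ∈ Ideal.span {gen R π} at hG
    rw [Ideal.mem_span_singleton'] at hG
    obtain ⟨c, rfl⟩ := hG
    exact nfPoly_mul_gen R π c)) ∘ₗ
  (Submodule.Quotient.restrictScalarsEquiv R (Ideal.span {gen R π})).symm.toLinearMap

theorem nf_mk (G : MvPolynomial (Fin 2) R) :
    nf R π (Ideal.Quotient.mk _ G) = nfPoly R π G := by
  rfl

/-- The standard basis elements. -/
noncomputable def std (m : ℤ) : PolyNodeRing R π :=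
  if 0 ≤ m then PolyNodeRing.x R π ^ m.toNat else PolyNodeRing.y R π ^ (-m).toNat

theorem std_of_nonneg {m : ℤ} (h : 0 ≤ m) : std R π m = PolyNodeRing.x R π ^ m.toNat := if_pos h

theorem std_of_neg {m : ℤ} (h : m < 0) : std R π m = PolyNodeRing.y R π ^ (-m).toNat :=
  if_neg (not_le.mpr h)

theorem std_natCast (a : ℕ) : std R π (a : ℤ) = PolyNodeRing.x R π ^ a := by
  rw [std_of_nonneg R π (by positivity), Int.toNat_natCast]

theorem std_neg_natCast (b : ℕ) : std R π (-(b : ℤ)) = PolyNodeRing.y R π ^ b := by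
  rcases Nat.eq_zero_or_pos b with rfl | hb
  · simp [std]
  · rw [std_of_neg R π (by omega), neg_neg, Int.toNat_natCast]

theorem x_mul_y : PolyNodeRing.x R π * PolyNodeRing.y R π = algebraMap R (PolyNodeRing R π) π := by
  have : (Ideal.Quotient.mk (Ideal.span {gen R π})) (gen R π) = 0 :=
    Ideal.Quotient.eq_zero_iff_mem.mpr (Ideal.subset_span rfl)
  rw [gen, map_sub, map_mul, sub_eq_zero] at this
  exact this

theorem x_pow_mul_y_pow (a b : ℕ) :
    PolyNodeRing.x R π ^ a * PolyNodeRing.y R π ^ b = π ^ min a b • std R π ((a : ℤ) - b) := by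
  rcases le_total b a with h | h
  · obtain ⟨c, rfl⟩ := Nat.exists_eq_add_of_le h
    rw [min_eq_right h, Nat.cast_add, add_sub_cancel_left, std_natCast, pow_add, mul_right_comm,
      ← mul_pow, x_mul_y, ← map_pow]
    exact (Algebra.smul_def _ _).symm
  · obtain ⟨c, rfl⟩ := Nat.exists_eq_add_of_le h
    rw [min_eq_left h, Nat.cast_add, sub_add_cancel_left, std_neg_natCast, pow_add, ← mul_assoc,
      ← mul_pow, x_mul_y, ← map_pow]
    exact (Algebra.smul_def _ _).symm

theorem mk_monomial (v : Fin 2 →₀ ℕ) (r : R) :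
    (Ideal.Quotient.mk (Ideal.span {gen R π})) (monomial v r) =
      r • (PolyNodeRing.x R π ^ v 0 * PolyNodeRing.y R π ^ v 1) := by
  rw [monomial_eq, map_mul, Finsupp.prod_fintype _ _ (fun i => by simp), Fin.prod_univ_two,
    map_mul, map_pow, map_pow]
  exact (Algebra.smul_def r (PolyNodeRing.x R π ^ v 0 * PolyNodeRing.y R π ^ v 1)).symm

/-- The inverse of the normal form. -/
noncomputable def unf : (ℤ →₀ R) →ₗ[R] PolyNodeRing R π := Finsupp.linearCombination R (std R π)

theorem unf_single (m : ℤ) (r : R) : unf R π (Finsupp.single m r) = r • std R π m := by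
  rw [unf, Finsupp.linearCombination_single]

theorem unf_nf (g : PolyNodeRing R π) : unf R π (nf R π g) = g := by
  obtain ⟨G, rfl⟩ := Ideal.Quotient.mk_surjective g
  induction G using MvPolynomial.induction_on' with
  | monomial v r =>
    rw [nf_mk, nfPoly_monomial, unf_single, mk_monomial, x_pow_mul_y_pow, smul_smul]
  | add p q hp hq => rw [map_add, map_add, map_add, hp, hq]

theorem nf_std (m : ℤ) : nf R π (std R π m) = Finsupp.single m 1 := by
  rcases le_or_gt 0 m with h | h
  · obtain ⟨a, rfl⟩ := Int.eq_ofNat_of_zero_le h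
    rw [std_natCast]
    have : PolyNodeRing.x R π ^ a =
        (Ideal.Quotient.mk (Ideal.span {gen R π})) (monomial (Finsupp.single 0 a) 1) := by
      rw [← X_pow_eq_monomial, map_pow]
    rw [this, nf_mk, nfPoly_monomial]
    simp
  · obtain ⟨b, rfl⟩ : ∃ b : ℕ, m = -(b : ℤ) := ⟨(-m).toNat, by omega⟩
    rw [std_neg_natCast]
    have : PolyNodeRing.y R π ^ b =
        (Ideal.Quotient.mk (Ideal.span {gen R π})) (monomial (Finsupp.single 1 b) 1) := by
      rw [← X_pow_eq_monomial, map_pow]
    rw [this, nf_mk, nfPoly_monomial]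
    simp

theorem nf_unf (z : ℤ →₀ R) : nf R π (unf R π z) = z := by
  induction z using Finsupp.induction_linear with
  | zero => simp
  | add f g hf hg => rw [map_add, map_add, hf, hg]
  | single m r => rw [unf_single, map_smul, nf_std, Finsupp.smul_single, smul_eq_mul, mul_one]

/-- `R[x,y]/(xy - π)` is free over `R` on the `std m`, `m : ℤ`. -/
noncomputable def nfEquiv : PolyNodeRing R π ≃ₗ[R] (ℤ →₀ R) :=
  LinearEquiv.ofLinearMap (nf R π) (unf R π)
    (LinearMap.ext fun z => nf_unf R π z) (LinearMap.ext fun g => unf_nf R π g)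

@[simp] theorem nfEquiv_apply (g : PolyNodeRing R π) : nfEquiv R π g = nf R π g := rfl
@[simp] theorem nfEquiv_symm_apply (z : ℤ →₀ R) : (nfEquiv R π).symm z = unf R π z := rfl

/-- The basis `std m`. -/
noncomputable def basis : Module.Basis ℤ R (PolyNodeRing R π) := ⟨nfEquiv R π⟩

theorem basis_apply (m : ℤ) : basis R π m = std R π m := by
  change (nfEquiv R π).symm (Finsupp.single m 1) = _
  rw [nfEquiv_symm_apply, unf_single, one_smul]

theorem basis_repr (g : PolyNodeRing R π) : (basis R π).repr g = nf R π g := rfl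

/-- Linear maps out of the node ring are determined on `std m`. -/
theorem lhom_ext {M : Type*} [AddCommMonoid M] [Module R M] {φ ψ : PolyNodeRing R π →ₗ[R] M}
    (h : ∀ m : ℤ, φ (std R π m) = ψ (std R π m)) : φ = ψ :=
  (basis R π).ext fun m => by rw [basis_apply]; exact h m

theorem algHom_std {B : Type*} [CommRing B] [Algebra R B] (φ : PolyNodeRing R π →ₐ[R] B) (m : ℤ) :
    φ (std R π m) = if 0 ≤ m then φ (PolyNodeRing.x R π) ^ m.toNat
      else φ (PolyNodeRing.y R π) ^ (-m).toNat := by
  unfold std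
  split_ifs <;> rw [map_pow]

section Laurent
open LaurentPolynomial

theorem coeff_C_mul_T (a : R) (n m : ℤ) : (LaurentPolynomial.C a * T n : R[T;T⁻¹]).coeff m = if n = m then a else 0 := by
  rw [← single_eq_C_mul_T, AddMonoidAlgebra.coeff_single, Finsupp.single_apply]

theorem algHom_std' (φ : PolyNodeRing R π →ₐ[R] LaurentPolynomial R) (ρ : R)
    (hx : φ (PolyNodeRing.x R π) = T 1) (hy : φ (PolyNodeRing.y R π) = LaurentPolynomial.C ρ * T (-1)) (m : ℤ) :
    φ (std R π m) = LaurentPolynomial.C (ρ ^ (-m).toNat) * T m := by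
  rw [algHom_std, hx, hy]
  split_ifs with h
  · rw [T_pow, mul_one, Int.toNat_of_nonneg h, Int.toNat_eq_zero.mpr (by omega), pow_zero, map_one,
      one_mul]
  · rw [mul_pow, T_pow, ← map_pow, Int.toNat_of_nonneg (by omega)]
    congr 2
    ring

theorem coeff_algHom (φ : PolyNodeRing R π →ₐ[R] LaurentPolynomial R) (ρ : R)
    (hx : φ (PolyNodeRing.x R π) = T 1) (hy : φ (PolyNodeRing.y R π) = LaurentPolynomial.C ρ * T (-1))
    (g : PolyNodeRing R π) (m : ℤ) :
    (φ g).coeff m = ρ ^ (-m).toNat * nf R π g m := by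
  have key : ∀ z : ℤ →₀ R, (φ (unf R π z)).coeff m = ρ ^ (-m).toNat * z m := by
    intro z
    induction z using Finsupp.induction_linear with
    | zero => simp
    | add f g hf hg => simp only [map_add, AddMonoidAlgebra.coeff_add, Finsupp.add_apply, hf, hg, mul_add]
    | single m' r =>
      rw [unf_single, map_smul, algHom_std' R π φ ρ hx hy, Finsupp.single_apply]
      rw [AddMonoidAlgebra.coeff_smul, Finsupp.smul_apply, coeff_C_mul_T]
      split_ifs with h
      · subst h; simp [mul_comm]
      · simp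
  have := key (nf R π g)
  rwa [unf_nf] at this

theorem coeff_algHom' (φ : PolyNodeRing R π →ₐ[R] LaurentPolynomial R) (ρ : R)
    (hx : φ (PolyNodeRing.x R π) = T (-1)) (hy : φ (PolyNodeRing.y R π) = LaurentPolynomial.C ρ * T 1)
    (g : PolyNodeRing R π) (m : ℤ) :
    (φ g).coeff m = ρ ^ m.toNat * nf R π g (-m) := by
  have := coeff_algHom R π ((invert (R := R)).toAlgHom.comp φ) ρ
    (by simp [hx]) (by simp [hy]) g (-m)
  rw [neg_neg] at this
  rw [← this]
  simp

/-- Diagonal scaling on finitely supported functions. -/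
noncomputable def diag (c : ℤ → R) : (ℤ →₀ R) →ₗ[R] (ℤ →₀ R) where
  toFun z := Finsupp.onFinset z.support (fun m => c m * z m) (fun m hm => by
    rw [Finsupp.mem_support_iff]; exact right_ne_zero_of_mul hm)
  map_add' z w := by ext m; simp [mul_add]
  map_smul' r z := by ext m; simp [mul_left_comm]

@[simp] theorem diag_apply (c : ℤ → R) (z : ℤ →₀ R) (m : ℤ) : diag R c z m = c m * z m := rfl

/-- Reflection `m ↦ n - m` on finitely supported functions. -/
noncomputable def refl (n : ℤ) : (ℤ →₀ R) ≃ₗ[R] (ℤ →₀ R) := Finsupp.domLCongr (Equiv.subLeft n)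

@[simp] theorem refl_apply (n : ℤ) (z : ℤ →₀ R) (m : ℤ) : refl R n z m = z (n - m) := by
  simp [refl, Finsupp.domLCongr_apply, Finsupp.equivMapDomain_apply, sub_eq_neg_add]

end Laurent


section Param
open LaurentPolynomial

variable (p q : R) (n : ℤ)

/-- Coefficients of the `U`-component of the parametrisation. -/
noncomputable def coefA : ℤ → R := fun m => if m < 0 then 1 else p ^ (m - n).toNat

/-- Coefficients of the `V`-component of the parametrisation. -/
noncomputable def coefB : ℤ → R := fun m => if m < 0 then q ^ (-m).toNat else 1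

/-- The parametrisation of the sections of `O(n)` on the two-chart curve. -/
noncomputable def paramJ : (ℤ →₀ R) →ₗ[R] (PolyNodeRing R q × PolyNodeRing R p) :=
  LinearMap.prod ((unf R q).comp (diag R (coefA R p n)))
    ((unf R p).comp ((refl R n).toLinearMap.comp (diag R (coefB R q))))

theorem nf_paramJ_fst (z : ℤ →₀ R) (m : ℤ) :
    nf R q (paramJ R p q n z).1 m = coefA R p n m * z m := by
  change nf R q (unf R q (diag R (coefA R p n) z)) m = _
  rw [nf_unf, diag_apply]

theorem nf_paramJ_snd (z : ℤ →₀ R) (m : ℤ) :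
    nf R p (paramJ R p q n z).2 (n - m) = coefB R q m * z m := by
  change nf R p (unf R p (refl R n (diag R (coefB R q) z))) (n - m) = _
  rw [nf_unf, refl_apply, diag_apply, sub_sub_cancel]

theorem paramJ_single (m : ℤ) (r : R) :
    paramJ R p q n (Finsupp.single m r) =
      ((coefA R p n m * r) • std R q m, (coefB R q m * r) • std R p (n - m)) := by
  apply Prod.ext
  · apply (nfEquiv R q).injective
    ext m'
    change nf R q (paramJ R p q n (Finsupp.single m r)).1 m' = nf R q (_ • std R q m) m'
    rw [nf_paramJ_fst, map_smul, nf_std, Finsupp.smul_single, smul_eq_mul, mul_one,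
      Finsupp.single_apply, Finsupp.single_apply]
    split_ifs with h
    · rw [h]
    · rw [mul_zero]
  · apply (nfEquiv R p).injective
    ext m''
    obtain ⟨m', rfl⟩ : ∃ m', m'' = n - m' := ⟨n - m'', by ring⟩
    change nf R p (paramJ R p q n (Finsupp.single m r)).2 (n - m') = nf R p (_ • std R p (n - m)) (n - m')
    rw [nf_paramJ_snd, map_smul, nf_std, Finsupp.smul_single, smul_eq_mul, mul_one,
      Finsupp.single_apply, Finsupp.single_apply]
    by_cases h : m = m'
    · rw [if_pos h, if_pos (by rw [h]), h]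
    · rw [if_neg h, if_neg (by omega), mul_zero]

theorem paramJ_injective : Function.Injective (paramJ R p q n) := by
  rw [← LinearMap.ker_eq_bot, LinearMap.ker_eq_bot']
  intro z hz
  ext m
  rcases lt_or_ge m 0 with hm | hm
  · have := nf_paramJ_fst R p q n z m
    rw [hz] at this
    simpa [coefA, hm] using this.symm
  · have := nf_paramJ_snd R p q n z m
    rw [hz] at this
    simpa [coefB, not_lt.mpr hm] using this.symm

variable {R p q n}

theorem glue_iff {gU : PolyNodeRing R q →ₐ[R] LaurentPolynomial R}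
    (hgUs : gU (PolyNodeRing.x R q) = T 1)
    (hgUy : gU (PolyNodeRing.y R q) = LaurentPolynomial.C q * T (-1))
    {gV : PolyNodeRing R p →ₐ[R] LaurentPolynomial R}
    (hgVt : gV (PolyNodeRing.x R p) = T (-1))
    (hgVx : gV (PolyNodeRing.y R p) = LaurentPolynomial.C p * T 1)
    (g : PolyNodeRing R q) (f : PolyNodeRing R p) :
    gU g = T n * gV f ↔
      ∀ m : ℤ, q ^ (-m).toNat * nf R q g m = p ^ (m - n).toNat * nf R p f (n - m) := by
  constructor
  · intro h m
    have h' : (gU g).coeff m = (T n * gV f).coeff m := by rw [h]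
    rw [coeff_algHom R q gU q hgUs hgUy, LaurentPolynomial.T, AddMonoidAlgebra.coeff_single_mul_apply,
      one_mul, coeff_algHom' R p gV p hgVt hgVx] at h'
    rw [h']
    congr 2 <;> ring_nf
  · intro h
    ext m
    rw [coeff_algHom R q gU q hgUs hgUy, LaurentPolynomial.T, AddMonoidAlgebra.coeff_single_mul_apply,
      one_mul, coeff_algHom' R p gV p hgVt hgVx, h m]
    congr 2 <;> ring_nf

theorem mem_range_paramJ_iff (hn : -1 ≤ n) {gU : PolyNodeRing R q →ₐ[R] LaurentPolynomial R}
    (hgUs : gU (PolyNodeRing.x R q) = T 1)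
    (hgUy : gU (PolyNodeRing.y R q) = LaurentPolynomial.C q * T (-1))
    {gV : PolyNodeRing R p →ₐ[R] LaurentPolynomial R}
    (hgVt : gV (PolyNodeRing.x R p) = T (-1))
    (hgVx : gV (PolyNodeRing.y R p) = LaurentPolynomial.C p * T 1)
    (gf : PolyNodeRing R q × PolyNodeRing R p) :
    gf ∈ LinearMap.range (paramJ R p q n) ↔ gU gf.1 = T n * gV gf.2 := by
  classical
  rw [glue_iff hgUs hgUy hgVt hgVx]
  constructor
  · rintro ⟨z, rfl⟩ m
    rw [nf_paramJ_fst, nf_paramJ_snd]
    rcases lt_or_ge m 0 with hm | hm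
    · have : (m - n).toNat = 0 := Int.toNat_eq_zero.mpr (by omega)
      simp only [coefA, coefB, hm, if_true, this, pow_zero, one_mul]
    · have : (-m).toNat = 0 := Int.toNat_eq_zero.mpr (by omega)
      simp only [coefA, coefB, not_lt.mpr hm, if_false, this, pow_zero, one_mul]
  · obtain ⟨g, f⟩ := gf
    intro hgf
    let z : ℤ →₀ R := Finsupp.filter (fun m => m < 0) (nf R q g) +
      Finsupp.filter (fun m => 0 ≤ m) (refl R n (nf R p f))
    have hz : ∀ m, z m = if m < 0 then nf R q g m else nf R p f (n - m) := by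
      intro m
      simp only [z, Finsupp.add_apply, Finsupp.filter_apply, refl_apply]
      rcases lt_or_ge m 0 with hm | hm
      · simp [hm, not_le.mpr hm]
      · simp [hm, not_lt.mpr hm]
    refine ⟨z, ?_⟩
    apply Prod.ext
    · apply (nfEquiv R q).injective
      ext m
      change nf R q (paramJ R p q n z).1 m = nf R q g m
      rw [nf_paramJ_fst, hz]
      rcases lt_or_ge m 0 with hm | hm
      · simp [coefA, hm]
      · have h0 : (-m).toNat = 0 := Int.toNat_eq_zero.mpr (by omega)
        have := hgf m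
        rw [h0, pow_zero, one_mul] at this
        simp [coefA, not_lt.mpr hm, this]
    · apply (nfEquiv R p).injective
      ext m'
      obtain ⟨m, rfl⟩ : ∃ m, m' = n - m := ⟨n - m', by ring⟩
      change nf R p (paramJ R p q n z).2 (n - m) = nf R p f (n - m)
      rw [nf_paramJ_snd, hz]
      rcases lt_or_ge m 0 with hm | hm
      · have h0 : (m - n).toNat = 0 := Int.toNat_eq_zero.mpr (by omega)
        have := hgf m
        rw [h0, pow_zero, one_mul] at this
        simp [coefB, hm, this]
      · simp [coefB, not_lt.mpr hm]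

end Param

end Groth.Agent.Lib.Helper9.PolyNode
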