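import Mathlib
import Groth.Agent.Lib.Helper9.ValSat
import Groth.Agent.Lib.Helper9.LocFP

set_option autoImplicit false
set_option linter.style.haveILetI false
set_option linter.unusedSectionVars false
set_option linter.unusedVariables false
universe u v

namespace Groth.Agent.Lib.Helper9.PruferCoh
open Function MvPolynomial

section

variable (R : Type u) [CommRing R] [IsDomain R]
  (hR : ∀ (p : Ideal R) [p.IsPrime], ValuationRing (Localization.AtPrime p))

include hR in
/-- over a Prüfer domain, a finite torsion-free module over a polynomial ring is finitely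
presented. -/
theorem fp_of_torsionFree (n : ℕ) (M : Type u) [AddCommGroup M]
    [Module (MvPolynomial (Fin n) R) M] [Module R M] [IsScalarTower R (MvPolynomial (Fin n) R) M]
    [Module.Finite (MvPolynomial (Fin n) R) M] (htf : Submodule.torsion R M = ⊥) :
    Module.FinitePresentation (MvPolynomial (Fin n) R) M := by
  classical
  haveI hflat : Module.Flat R M :=
    (Module.Flat.flat_iff_torsion_eq_bot_of_valuationRing_localization_isMaximal
      (fun P hP => hR P)).mpr htf
  let s : Finset (PrimeSpectrum R) := {⟨⊥, Ideal.isPrime_bot⟩}
  have hs : Function.Injective fun r : R => fun p : s =>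
      algebraMap R (Localization.AtPrime p.1.asIdeal) r := by
    intro a b hab
    have h1 := congrFun hab ⟨⟨⊥, Ideal.isPrime_bot⟩, Finset.mem_singleton_self _⟩
    refine IsLocalization.injective (Localization.AtPrime (⊥ : Ideal R))
      (M := (⊥ : Ideal R).primeCompl) ?_ h1
    intro x hx
    rw [mem_nonZeroDivisors_iff_ne_zero]
    intro h0
    exact hx (by rw [h0]; exact Ideal.zero_mem _)
  refine LocFP.finitePresentation_of_local n s hs ?_
  intro p hp
  haveI := hR p
  set B := Localization (Algebra.algebraMapSubmonoid (MvPolynomial (Fin n) R) p.primeCompl) with hB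
  set Mp := LocalizedModule (Algebra.algebraMapSubmonoid (MvPolynomial (Fin n) R) p.primeCompl) M
    with hMp
  haveI : Algebra.EssFiniteType (Localization.AtPrime p) B :=
    Algebra.EssFiniteType.of_comp R (Localization.AtPrime p) B
  letI : Module (Localization.AtPrime p) Mp :=
    Module.compHom Mp (algebraMap (Localization.AtPrime p) B)
  haveI : IsScalarTower (Localization.AtPrime p) B Mp :=
    IsScalarTower.of_algebraMap_smul fun _ _ => rfl
  haveI : IsScalarTower R (Localization.AtPrime p) Mp :=
    IsScalarTower.of_algebraMap_smul (fun r x => by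
      change algebraMap (Localization.AtPrime p) B (algebraMap R (Localization.AtPrime p) r) • x = r • x
      rw [← IsScalarTower.algebraMap_apply R (Localization.AtPrime p) B,
        IsScalarTower.algebraMap_apply R (MvPolynomial (Fin n) R) B, algebraMap_smul,
        algebraMap_smul])
  haveI : Module.Flat R Mp := Groth.Agent.Lib.Helper18.Fl.flat_localizedModule _
  haveI : Module.Flat (Localization.AtPrime p) Mp :=
    (Module.flat_iff_of_isLocalization (Localization.AtPrime p) p.primeCompl Mp).mpr inferInstance
  exact ValSat.finitePresentation_of_flat (Localization.AtPrime p) B Mp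

end

section Coh

variable (R : Type u) [CommRing R] [IsDomain R]
  (hR : ∀ (p : Ideal R) [p.IsPrime], ValuationRing (Localization.AtPrime p))
  (A : Type u) [CommRing A] [Algebra R A] [Algebra.FinitePresentation R A]

include hR in
/-- a finitely presented algebra over a Prüfer domain is a coherent ring. -/
theorem coherent (I : Ideal A) (hI : I.FG) : Module.FinitePresentation A I := by
  classical
  obtain ⟨n, φ, hφ, hker⟩ := Algebra.FinitePresentation.out (R := R) (A := A)
  letI : Algebra (MvPolynomial (Fin n) R) A := φ.toRingHom.toAlgebra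
  haveI : IsScalarTower R (MvPolynomial (Fin n) R) A :=
    IsScalarTower.of_algebraMap_eq (fun x => (φ.commutes x).symm)
  have hφa : ∀ x, algebraMap (MvPolynomial (Fin n) R) A x = φ x := fun _ => rfl
  -- the preimage ideal
  set 𝔞 : Ideal (MvPolynomial (Fin n) R) := I.comap φ with h𝔞
  have hmap : 𝔞.map φ = I := Ideal.map_comap_of_surjective φ hφ I
  have h𝔞fg : 𝔞.FG := by
    let φl : MvPolynomial (Fin n) R →ₗ[MvPolynomial (Fin n) R] A :=
      Algebra.linearMap (MvPolynomial (Fin n) R) A
    apply Submodule.fg_of_fg_map_of_fg_inf_ker φl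
    · have h1 : Submodule.map φl 𝔞 = I.restrictScalars (MvPolynomial (Fin n) R) := by
        ext y
        simp only [Submodule.mem_map, Submodule.restrictScalars_mem]
        constructor
        · rintro ⟨x, hx, rfl⟩
          exact hx
        · intro hy
          obtain ⟨x, rfl⟩ := hφ y
          exact ⟨x, hy, rfl⟩
      rw [h1]
      obtain ⟨G, hG⟩ := hI
      refine ⟨G, ?_⟩
      apply le_antisymm
      · rw [Submodule.span_le]
        intro x hx
        rw [SetLike.mem_coe, Submodule.restrictScalars_mem, ← hG]
        exact Submodule.subset_span hx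
      · intro y hy
        rw [Submodule.restrictScalars_mem, ← hG] at hy
        induction hy using Submodule.span_induction with
        | mem x hx => exact Submodule.subset_span hx
        | zero => exact Submodule.zero_mem _
        | add x y _ _ hx hy => exact Submodule.add_mem _ hx hy
        | smul a x _ hx =>
          obtain ⟨b, rfl⟩ := hφ a
          have : φ b • x = b • x := by rw [smul_eq_mul, Algebra.smul_def, hφa]
          rw [this]
          exact Submodule.smul_mem _ _ hx
    · have h2 : 𝔞 ⊓ LinearMap.ker φl = RingHom.ker φ.toRingHom := by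
        ext x
        simp only [Submodule.mem_inf, LinearMap.mem_ker]
        constructor
        · rintro ⟨-, hx⟩
          exact hx
        · intro hx
          have hx' : φ x = 0 := hx
          refine ⟨?_, hx⟩
          rw [h𝔞, Ideal.mem_comap, hx']
          exact Ideal.zero_mem _
      rw [h2]
      exact hker
  haveI : Module.Finite (MvPolynomial (Fin n) R) 𝔞 := Module.Finite.iff_fg.mpr h𝔞fg
  have htf : Submodule.torsion R 𝔞 = ⊥ := by
    rw [Submodule.eq_bot_iff]
    intro y hy
    rw [Submodule.mem_torsion_iff] at hy
    obtain ⟨⟨a, ha⟩, hay⟩ := hy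
    have ha0 : a ≠ 0 := nonZeroDivisors.ne_zero ha
    change a • y = 0 at hay
    apply Subtype.ext
    have h3 : a • (y : MvPolynomial (Fin n) R) = 0 := by
      have := congrArg Subtype.val hay
      simpa using this
    ext m
    have := congrArg (coeff m) h3
    rw [coeff_smul, coeff_zero, smul_eq_mul] at this
    rw [Submodule.coe_zero, coeff_zero]
    exact (mul_eq_zero.mp this).resolve_left ha0
  haveI hfp𝔞 : Module.FinitePresentation (MvPolynomial (Fin n) R) 𝔞 :=
    fp_of_torsionFree R hR n 𝔞 htf
  -- `I` is finitely presented over the polynomial ring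
  let g : 𝔞 →ₗ[MvPolynomial (Fin n) R] I :=
    { toFun := fun x => ⟨φ x, x.2⟩
      map_add' := fun x y => Subtype.ext (map_add φ _ _)
      map_smul' := fun a x => Subtype.ext (by
        change φ (a * x) = a • φ x
        rw [map_mul, Algebra.smul_def, hφa]) }
  have hg : Surjective g := by
    rintro ⟨y, hy⟩
    obtain ⟨x, rfl⟩ := hφ y
    exact ⟨⟨x, hy⟩, rfl⟩
  have hgker : (LinearMap.ker g).FG := by
    have h4 : LinearMap.ker g = Submodule.comap 𝔞.subtype (RingHom.ker φ.toRingHom) := by
      ext x
      simp only [LinearMap.mem_ker, Submodule.mem_comap, Submodule.subtype_apply]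
      constructor
      · intro hx
        exact congrArg Subtype.val hx
      · intro hx
        exact Subtype.ext hx
    rw [h4]
    have hle : RingHom.ker φ.toRingHom ≤ 𝔞 := by
      intro x hx
      have hx' : φ x = 0 := hx
      rw [h𝔞, Ideal.mem_comap, hx']
      exact Ideal.zero_mem _
    apply Submodule.fg_of_fg_map_injective 𝔞.subtype 𝔞.injective_subtype
    rw [Submodule.map_comap_subtype, inf_eq_right.mpr hle]
    exact hker
  haveI hfpI : Module.FinitePresentation (MvPolynomial (Fin n) R) I :=
    Module.finitePresentation_of_surjective g hg hgker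
  haveI : Module.Finite A I := Module.Finite.iff_fg.mpr hI
  obtain ⟨r, fA, hfA⟩ := Module.Finite.exists_fin' A I
  let ψ : (Fin r → MvPolynomial (Fin n) R) →ₗ[MvPolynomial (Fin n) R] (Fin r → A) :=
    LinearMap.pi (fun i => (Algebra.linearMap (MvPolynomial (Fin n) R) A) ∘ₗ LinearMap.proj i)
  have hψ : Surjective ψ := fun w =>
    ⟨fun i => (hφ (w i)).choose, funext fun i => (hφ (w i)).choose_spec⟩
  let fP : (Fin r → MvPolynomial (Fin n) R) →ₗ[MvPolynomial (Fin n) R] I :=
    (fA.restrictScalars (MvPolynomial (Fin n) R)) ∘ₗ ψ
  have hfP : Surjective fP := hfA.comp hψ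
  have hkP : (LinearMap.ker fP).FG := Module.FinitePresentation.fg_ker fP hfP
  have hkA : (LinearMap.ker fA).restrictScalars (MvPolynomial (Fin n) R) =
      (LinearMap.ker fP).map ψ := by
    ext w
    constructor
    · intro hw
      obtain ⟨v, rfl⟩ := hψ w
      exact ⟨v, hw, rfl⟩
    · rintro ⟨v, hv, rfl⟩
      exact hv
  have hkfg : (LinearMap.ker fA).FG :=
    Submodule.FG.of_restrictScalars (MvPolynomial (Fin n) R) (by rw [hkA]; exact hkP.map ψ)
  exact Module.finitePresentation_of_surjective fA hfA hkfg

end Coh

end Groth.Agent.Lib.Helper9.PruferCoh
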