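import Mathlib
import Groth.Prelude.Def_FEt
import Groth.Prelude.Def_SGA2

set_option autoImplicit false
universe u
open CategoryTheory CategoryTheory.Limits AlgebraicGeometry TopologicalSpace Opposite

namespace Groth.Agent.Lib.Helper9.PureConn

variable {U' V' : Scheme.{u}} (j : U' ⟶ V')

theorem preconnected_of_essSurj [PreconnectedSpace V']
    (hes : (FEt.restrict j).EssSurj) : PreconnectedSpace U' := by
  rw [preconnectedSpace_iff_clopen]
  intro s hs
  let W : U'.Opens := ⟨s, hs.2⟩
  have hcl : IsClosedImmersion W.ι :=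
    IsClosedImmersion.of_isPreimmersion _ (by rw [Scheme.Opens.range_ι]; exact hs.1)
  let T : FEt.Cat U' := MorphismProperty.Over.mk ⊤ W.ι ⟨inferInstance, inferInstance⟩
  obtain ⟨Z, ⟨e⟩⟩ := hes.mem_essImage T
  have hfin : IsFinite Z.hom := Z.prop.1
  have het : Etale Z.hom := Z.prop.2
  have hZ : IsClopen (Set.range Z.hom) :=
    ⟨Z.hom.isClosedMap.isClosed_range, Z.hom.isOpenMap.isOpen_range⟩
  have hw : e.hom.left ≫ W.ι = pullback.snd Z.hom j := Over.w e.hom.hom
  have hw' : e.inv.left ≫ pullback.snd Z.hom j = W.ι := Over.w e.inv.hom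
  rcases (isClopen_iff (α := V')).1 hZ with h0 | h1
  · left
    apply Set.eq_empty_of_forall_notMem
    intro x hx
    have hx' : x ∈ W := hx
    let p : ↥(pullback Z.hom j) := e.inv.left ⟨x, hx'⟩
    have : Z.hom (pullback.fst Z.hom j p) ∈ Set.range Z.hom := ⟨_, rfl⟩
    rw [h0] at this
    exact this
  · right
    have hsurj : Surjective Z.hom := ⟨fun y => by
      have : y ∈ Set.range Z.hom := by rw [h1]; trivial
      exact this⟩
    have hs2 : Surjective (pullback.snd Z.hom j) := inferInstance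
    apply Set.eq_univ_of_forall
    intro x
    obtain ⟨p, hp⟩ := hs2.surj x
    let p' : ((FEt.restrict j).obj Z).left := p
    have h2 : W.ι (e.hom.left p') = x := by
      have h4 : (e.hom.left ≫ W.ι) p' = x := by rw [hw]; exact hp
      exact h4
    have h3 : W.ι (e.hom.left p') ∈ Set.range W.ι := ⟨_, rfl⟩
    rw [Scheme.Opens.range_ι, h2] at h3
    exact h3

theorem nonempty_of_isEquivalence [Nonempty V'] [(FEt.restrict j).IsEquivalence] :
    Nonempty U' := by
  by_contra hne
  have hemp : IsEmpty U' := not_nonempty_iff.1 hne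
  let E : Scheme.{u} := ∅
  let Z1 : FEt.Cat V' := MorphismProperty.Over.mk ⊤ (𝟙 V') ⟨inferInstance, inferInstance⟩
  let Z0 : FEt.Cat V' := MorphismProperty.Over.mk ⊤ (Scheme.emptyTo V')
    ⟨inferInstance, inferInstance⟩
  have h1 : IsEmpty ((FEt.restrict j).obj Z1).left :=
    ⟨fun p => hemp.false ((pullback.snd Z1.hom j) p)⟩
  have h0 : IsEmpty ((FEt.restrict j).obj Z0).left :=
    ⟨fun p => hemp.false ((pullback.snd Z0.hom j) p)⟩
  let i : ((FEt.restrict j).obj Z0).left ≅ ((FEt.restrict j).obj Z1).left :=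
    (isInitialOfIsEmpty).uniqueUpToIso (isInitialOfIsEmpty)
  let e : (FEt.restrict j).obj Z0 ≅ (FEt.restrict j).obj Z1 :=
    MorphismProperty.Over.isoMk i ((isInitialOfIsEmpty).hom_ext _ _)
  let e' : Z0 ≅ Z1 := (FEt.restrict j).preimageIso e
  obtain ⟨v⟩ := ‹Nonempty V'›
  have : IsEmpty Z0.left := inferInstanceAs (IsEmpty (∅ : Scheme.{u}))
  exact this.false (e'.inv.left v)

end Groth.Agent.Lib.Helper9.PureConn
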