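import Mathlib
import Groth.Agent.Lib.Helper9.PureConn1
import Groth.Agent.Lib.Helper9.LefConn5
import Groth.Prelude.Def_LefX

set_option autoImplicit false
universe u
open CategoryTheory CategoryTheory.Limits AlgebraicGeometry TopologicalSpace Opposite

namespace Groth.Agent.Lib.Helper9.PureConn

theorem connectedSpace_opens_iff {X : Scheme.{u}} (W : X.Opens) :
    ConnectedSpace (W : Scheme.{u}) ↔ _root_.IsConnected (W : Set X) :=
  (isConnected_iff_connectedSpace (s := (W : Set X))).symm

theorem connectedSpace_top {X : Scheme.{u}} [ConnectedSpace X] :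
    ConnectedSpace ((⊤ : X.Opens) : Scheme.{u}) := by
  rw [connectedSpace_opens_iff]
  exact isConnected_univ

theorem main2 {X : Scheme.{u}} [ConnectedSpace X] (U : X.Opens) (K : X.IdealSheafData)
    (hpure : SGA2.IsPurePair X U) (hlef : Lef.LefCond (↑U : Scheme.{u}) (K.comap U.ι)) :
    _root_.IsConnected ((K.support : Set X) ∩ (U : Set X)) := by
  have hp := hpure ⊤
  have h1 : ConnectedSpace ((⊤ : X.Opens) : Scheme.{u}) := connectedSpace_top
  have h2 : PreconnectedSpace ((⊤ ⊓ U : X.Opens) : Scheme.{u}) :=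
    preconnected_of_essSurj (X.homOfLE (inf_le_left : ⊤ ⊓ U ≤ ⊤)) inferInstance
  have h3 : Nonempty ((⊤ ⊓ U : X.Opens) : Scheme.{u}) :=
    nonempty_of_isEquivalence (X.homOfLE (inf_le_left : ⊤ ⊓ U ≤ ⊤))
  have h4 : ConnectedSpace ((⊤ ⊓ U : X.Opens) : Scheme.{u}) :=
    { toPreconnectedSpace := h2, toNonempty := h3 }
  have h5 : ConnectedSpace (U : Scheme.{u}) := by
    rw [connectedSpace_opens_iff] at h4 ⊢
    rwa [top_inf_eq] at h4
  have h6 : ConnectedSpace ((⊤ : (U : Scheme.{u}).Opens) : Scheme.{u}) := connectedSpace_top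
  have h7 : ConnectedSpace ((K.comap U.ι).support : Set (U : Scheme.{u})) :=
    (LefConn.main (K.comap U.ι) ⊤ hlef (fun _ _ => trivial)).2 h6
  have h8 : _root_.IsConnected ((K.comap U.ι).support : Set (U : Scheme.{u})) :=
    isConnected_iff_connectedSpace.2 h7
  have h9 := h8.image U.ι U.ι.continuous.continuousOn
  have h10 : U.ι '' ((K.comap U.ι).support : Set (U : Scheme.{u})) =
      (K.support : Set X) ∩ (U : Set X) := by
    rw [Scheme.IdealSheafData.support_comap]
    change U.ι '' (U.ι ⁻¹' (K.support : Set X)) = _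
    rw [Set.image_preimage_eq_inter_range, Scheme.Opens.range_ι]
  rw [h10] at h9
  exact h9

theorem connectedSpace_spec_of_isLocalRing (A : Type u) [CommRing A] [IsLocalRing A] :
    ConnectedSpace (Spec (CommRingCat.of A)) := by
  have hne : Nonempty (Spec (CommRingCat.of A)) := ⟨IsLocalRing.closedPoint A⟩
  have hpre : PreconnectedSpace (Spec (CommRingCat.of A)) := by
    rw [preconnectedSpace_iff_clopen]
    intro s hs
    by_cases hc : IsLocalRing.closedPoint A ∈ s
    · right
      have := (IsLocalRing.closedPoint_mem_iff (R := A) ⟨s, hs.2⟩).1 hc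
      exact congrArg (fun W : Opens (PrimeSpectrum A) => (W : Set (PrimeSpectrum A))) this
    · left
      have := (IsLocalRing.closedPoint_mem_iff (R := A) ⟨sᶜ, hs.1.isOpen_compl⟩).1 hc
      have h2 := congrArg (fun W : Opens (PrimeSpectrum A) => (W : Set (PrimeSpectrum A))) this
      exact Set.compl_univ_iff.1 h2
  exact { toPreconnectedSpace := hpre, toNonempty := hne }

end Groth.Agent.Lib.Helper9.PureConn
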