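import Mathlib
import Groth.Agent.Lib.Helper4.ExcFin1
import Groth.Agent.Lib.Helper18.Exc

/-!
# Regularity of the completion map ascends along quasi-finite maps (via Zariski's main theorem)
-/

set_option autoImplicit false
set_option linter.unusedSectionVars false
set_option linter.style.haveILetI false
universe u

namespace Groth.Agent.Lib.Helper9.QFCpl

open IsLocalRing

variable (R R' : Type u) [CommRing R] [CommRing R'] [IsNoetherianRing R] [IsNoetherianRing R']
  [Algebra R R'] [Algebra.FiniteType R R'] (p' : Ideal R') [p'.IsPrime]
  [Algebra.QuasiFiniteAt R p']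

set_option maxHeartbeats 1000000 in
theorem main
    (h : CAlg.IsRegularHom (Localization.AtPrime (Ideal.comap (algebraMap R R') p'))
      (EGA4.Cpl (Localization.AtPrime (Ideal.comap (algebraMap R R') p')))) :
    CAlg.IsRegularHom (Localization.AtPrime p') (EGA4.Cpl (Localization.AtPrime p')) := by
  classical
  obtain ⟨S', hS'fg, r, hrp, hbij⟩ :=
    Algebra.QuasiFiniteAt.exists_fg_and_exists_notMem_and_awayMap_bijective (R := R) p'
  haveI hfin : Module.Finite R S' := ⟨(Submodule.fg_top _).mpr hS'fg⟩
  set p : Ideal R := Ideal.comap (algebraMap R R') p' with hp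
  -- the prime of `S'` under `p'`
  set q : Ideal S' := p'.under S' with hq
  haveI hqprime : q.IsPrime := Ideal.comap_isPrime _ _
  haveI : p'.LiesOver q := ⟨rfl⟩
  -- saturation
  have hsat : S'.saturation (p'.primeCompl ⊓ S'.toSubmonoid) inf_le_right = ⊤ := by
    rw [eq_top_iff]
    intro x _
    obtain ⟨b, m, hb⟩ := Localization.awayMap_surjective_iff.mp hbij.2 x
    refine ⟨(r : R') ^ m, ⟨?_, ?_⟩, ?_⟩
    · exact p'.primeCompl.pow_mem hrp m
    · exact pow_mem r.2 m
    · have : (S'.val.toRingHom r) ^ m * x = b := hb.symm
      change (r : R') ^ m * x = b at this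
      rw [this]
      exact b.2
  have hloc := Localization.localRingHom_bijective_of_saturated_inf_eq_top R' hsat q
  let e2 : Localization.AtPrime q ≃+* Localization.AtPrime p' := RingEquiv.ofBijective _ hloc
  -- the local base and the finite algebra over it
  haveI hSN : IsNoetherianRing S' := IsNoetherianRing.of_finite R S'
  let M : Submonoid S' := Algebra.algebraMapSubmonoid S' p.primeCompl
  haveI hBfin : Module.Finite (Localization.AtPrime p) (Localization M) :=
    Module.Finite.of_isLocalization R S' p.primeCompl
  have hqR : q.comap (algebraMap R S') = p := by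
    rw [hq, hp, Ideal.under_def, Ideal.comap_comap, ← IsScalarTower.algebraMap_eq]
  have hdisj : Disjoint (M : Set S') (q : Set S') := by
    rw [Set.disjoint_left]
    rintro _ ⟨s, hs, rfl⟩ hsq
    apply hs
    change s ∈ p
    rw [← hqR]
    exact hsq
  set n : Ideal (Localization M) := q.map (algebraMap S' (Localization M)) with hn
  haveI hnprime : n.IsPrime := IsLocalization.isPrime_of_isPrime_disjoint M _ q hqprime hdisj
  have hncomap : n.comap (algebraMap S' (Localization M)) = q :=
    IsLocalization.under_map_of_isPrime_disjoint M _ hqprime hdisj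
  have hmax_le : maximalIdeal (Localization.AtPrime p) ≤
      n.comap (algebraMap (Localization.AtPrime p) (Localization M)) := by
    rw [← Localization.AtPrime.map_eq_maximalIdeal, Ideal.map_le_iff_le_comap, Ideal.comap_comap,
      ← IsScalarTower.algebraMap_eq, IsScalarTower.algebraMap_eq R S' (Localization M),
      ← Ideal.comap_comap, hncomap, hqR]
  haveI hnmax : n.IsMaximal := by
    haveI : Algebra.IsIntegral (Localization.AtPrime p) (Localization M) :=
      Algebra.IsIntegral.of_finite _ _
    apply Ideal.isMaximal_of_isIntegral_of_isMaximal_comap (R := Localization.AtPrime p)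
    have hne : n.comap (algebraMap (Localization.AtPrime p) (Localization M)) ≠ ⊤ :=
      Ideal.comap_ne_top _ hnprime.ne_top
    rw [← (maximalIdeal.isMaximal _).eq_of_le hne hmax_le]
    infer_instance
  have h1 : CAlg.IsRegularHom (Localization.AtPrime n) (EGA4.Cpl (Localization.AtPrime n)) :=
    Groth.Agent.Lib.Helper4.ExcFin.isRegularHom_cpl_of_finite_local (A := Localization.AtPrime p)
      (B := Localization M) (C := Localization.AtPrime n) n hmax_le h
  -- identify `Localization.AtPrime n` with `Localization.AtPrime q`
  haveI hloc' : IsLocalization.AtPrime (Localization.AtPrime n) q := by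
    have h2 : IsLocalization (n.comap (algebraMap S' (Localization M))).primeCompl
        (Localization.AtPrime n) :=
      IsLocalization.isLocalization_isLocalization_atPrime_isLocalization M
        (Localization.AtPrime n) n
    have h3 : (n.comap (algebraMap S' (Localization M))).primeCompl = q.primeCompl := by
      ext x
      change x ∉ n.comap (algebraMap S' (Localization M)) ↔ x ∉ q
      rw [hncomap]
    change IsLocalization q.primeCompl (Localization.AtPrime n)
    rw [← h3]
    exact h2
  let e1 : Localization.AtPrime n ≃+* Localization.AtPrime q :=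
    (IsLocalization.algEquiv q.primeCompl (Localization.AtPrime n)
      (Localization.AtPrime q)).toRingEquiv
  haveI : IsNoetherianRing (Localization M) := IsLocalization.isNoetherianRing M _ inferInstance
  haveI : IsNoetherianRing (Localization.AtPrime n) :=
    IsLocalization.isNoetherianRing n.primeCompl _ inferInstance
  haveI : IsNoetherianRing (Localization.AtPrime p') :=
    IsLocalization.isNoetherianRing p'.primeCompl _ inferInstance
  exact Groth.Agent.Lib.Helper18.Exc.isRegularHom_cpl_of_ringEquiv (e1.trans e2) h1

end Groth.Agent.Lib.Helper9.QFCpl
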