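import Mathlib
import Groth.Prelude.Def_CAlgX
import Groth.Agent.Lib.Helper9.QRBC2

set_option autoImplicit false
set_option linter.unusedSectionVars false
universe u
open TensorProduct Function MvPolynomial

namespace Groth.Agent.Lib.Helper9.QRLoc

open Groth.Agent.Lib.Helper16.KzGr (Mon polyOf polyOf_apply polyOf_isHomogeneous coeff_polyOf
  coeff_polyOf_mem eq_polyOf mem_of_degree)
open Groth.Agent.Lib.Helper9.QRBC (polyOf_map)

/-- Quasi-regularity is preserved by localization. -/
theorem isQuasiRegular_of_isLocalization {R T : Type u} [CommRing R] [CommRing T] [Algebra R T]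
    (M : Submonoid R) [IsLocalization M T] {r : ℕ} (f : Fin r → R)
    (hq : CAlgX.IsQuasiRegular f) :
    CAlgX.IsQuasiRegular (fun i => algebraMap R T (f i)) := by
  classical
  intro n P' hP' hev d
  set φ := algebraMap R T with hφ
  set J : Ideal R := Ideal.span (Set.range f) with hJ
  have hJ' : Ideal.span (Set.range (fun i => φ (f i))) = J.map φ := by
    rw [hJ, Ideal.map_span, ← Set.range_comp]
    rfl
  by_cases hd : d ∈ (Finset.univ : Finset (Fin r)).finsuppAntidiag n
  swap
  · rw [hP'.coeff_eq_zero (fun h => hd (mem_of_degree n h))]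
    exact zero_mem _
  let a' : Mon r n → T := fun d => coeff d.1 P'
  have hP'eq : P' = polyOf n a' := eq_polyOf n P' hP'
  obtain ⟨b, hb⟩ := IsLocalization.exist_integer_multiples_of_finite M a'
  choose c hc using hb
  -- hc : ∀ i, φ (c i) = b • a' i
  have hmap : MvPolynomial.map φ (polyOf n c) = φ b • P' := by
    rw [← polyOf_map, hP'eq, ← map_smul]
    congr 1
    ext i
    rw [hc i, Pi.smul_apply, Algebra.smul_def, smul_eq_mul]
  have hev2 : φ (eval f (polyOf n c)) ∈ (J ^ (n + 1)).map φ := by
    have h1 : φ (eval f (polyOf n c)) = eval (fun i => φ (f i)) (MvPolynomial.map φ (polyOf n c)) := by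
      rw [MvPolynomial.eval_map]
      have := MvPolynomial.eval₂_comp_left φ (RingHom.id R) f (polyOf n c)
      rw [RingHom.comp_id] at this
      exact this
    rw [h1, hmap, smul_eval, Ideal.map_pow, ← hJ']
    exact Ideal.mul_mem_left _ _ hev
  rw [IsLocalization.mem_map_algebraMap_iff M] at hev2
  obtain ⟨⟨⟨a, ha⟩, s⟩, has⟩ := hev2
  simp only at has
  rw [← map_mul] at has
  obtain ⟨t, ht⟩ := (IsLocalization.eq_iff_exists M T).mp has
  have hmem : eval f (polyOf n (((t : R) * (s : R)) • c)) ∈ J ^ (n + 1) := by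
    rw [map_smul, smul_eval]
    have : (t : R) * (s : R) * eval f (polyOf n c) = t * a := by
      rw [mul_assoc, mul_comm (s : R), ht]
    rw [this]
    exact Ideal.mul_mem_left _ _ ha
  have hcoef := hq n _ (polyOf_isHomogeneous n _) hmem d
  rw [map_smul, coeff_smul, smul_eq_mul] at hcoef
  have hcd := coeff_polyOf n c ⟨d, hd⟩
  simp only at hcd
  rw [hcd] at hcoef
  have hu : IsUnit (φ ((t : R) * (s : R) * (b : R))) :=
    IsLocalization.map_units T (t * s * b)
  have h2 : φ ((t : R) * (s : R) * (b : R)) * coeff d P' ∈ J.map φ := by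
    have h3 : φ ((t : R) * (s : R) * (b : R)) * coeff d P' = φ ((t : R) * (s : R) * c ⟨d, hd⟩) := by
      rw [map_mul _ ((t : R) * (s : R)) (c ⟨d, hd⟩), hc ⟨d, hd⟩, map_mul _ ((t : R) * (s : R)),
        Algebra.smul_def, mul_assoc]
    rw [h3]
    exact Ideal.mem_map_of_mem _ hcoef
  rw [hJ']
  obtain ⟨u, hu'⟩ := hu
  have : coeff d P' = (↑u⁻¹ : T) * (φ ((t : R) * (s : R) * (b : R)) * coeff d P') := by
    rw [← mul_assoc, ← hu', Units.inv_mul, one_mul]
  rw [this]
  exact Ideal.mul_mem_left _ _ h2

/-- Quasi-regularity is preserved by ring isomorphisms. -/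
theorem isQuasiRegular_ringEquiv {R T : Type u} [CommRing R] [CommRing T] (e : R ≃+* T)
    {r : ℕ} (f : Fin r → R) (hq : CAlgX.IsQuasiRegular f) :
    CAlgX.IsQuasiRegular (fun i => e (f i)) := by
  let _ : Algebra R T := e.toRingHom.toAlgebra
  have h0 : IsLocalization (⊥ : Submonoid R) R := IsLocalization.self (by simp)
  have : IsLocalization (⊥ : Submonoid R) T :=
    IsLocalization.isLocalization_of_algEquiv (⊥ : Submonoid R)
      ({ e with commutes' := fun _ => rfl } : R ≃ₐ[R] T)
  exact isQuasiRegular_of_isLocalization (⊥ : Submonoid R) f hq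

end Groth.Agent.Lib.Helper9.QRLoc
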