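import Mathlib
import Groth.Prelude.Def_CAlgX

set_option autoImplicit false
set_option linter.unusedSectionVars false
universe u
open TensorProduct Function IsLocalRing

namespace Groth.Agent.Lib.Helper9.QRLoc

section Fib

variable {A B : Type u} [CommRing A] [CommRing B] [Algebra A B] (q : Ideal B) [q.IsPrime]

/-- the fibre ring `B ⊗ κ(p)`, `p = q ∩ A` -/
abbrev Fb : Type u := B ⊗[A] (q.comap (algebraMap A B)).ResidueField

/-- image of `B ∖ q` in the fibre ring -/
noncomputable abbrev Sb : Submonoid (Fb (A := A) q) := Algebra.algebraMapSubmonoid (Fb (A := A) q) q.primeCompl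

/-- the fibre ring localized at `q` -/
abbrev Rl : Type u := Localization (Sb (A := A) q)

/-- the map from the fibre ring to `κ(q)` -/
noncomputable def chi0 : Fb (A := A) q →ₐ[A] q.ResidueField :=
  Algebra.TensorProduct.productMap (IsScalarTower.toAlgHom A B q.ResidueField)
    (Ideal.ResidueField.mapₐ (q.comap (algebraMap A B)) q (Algebra.ofId A B) rfl)

theorem chi0_algebraMap (b : B) :
    chi0 (A := A) q (algebraMap B (Fb (A := A) q) b) = algebraMap B q.ResidueField b := by
  rw [Algebra.TensorProduct.algebraMap_apply, chi0, Algebra.TensorProduct.productMap_apply_tmul]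
  simp

theorem isUnit_chi0 (y : Sb (A := A) q) : IsUnit ((chi0 (A := A) q).toRingHom y) := by
  obtain ⟨_, ⟨s, hs, rfl⟩⟩ := y
  show IsUnit (chi0 (A := A) q (algebraMap B (Fb (A := A) q) s))
  rw [chi0_algebraMap, isUnit_iff_ne_zero, ne_eq, Ideal.algebraMap_residueField_eq_zero]
  exact hs

/-- the map from the localized fibre ring to `κ(q)` -/
noncomputable def chi : Rl (A := A) q →+* q.ResidueField :=
  IsLocalization.lift (M := Sb (A := A) q) (g := (chi0 (A := A) q).toRingHom) (isUnit_chi0 q)

theorem chi_algebraMap (b : B) :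
    chi (A := A) q (algebraMap B (Rl (A := A) q) b) = algebraMap B q.ResidueField b := by
  rw [IsScalarTower.algebraMap_apply B (Fb (A := A) q) (Rl (A := A) q), chi, IsLocalization.lift_eq]
  exact chi0_algebraMap q b

instance : Nontrivial (Rl (A := A) q) := (chi (A := A) q).domain_nontrivial

theorem isUnit_algebraMap_Rl (s : q.primeCompl) : IsUnit (algebraMap B (Rl (A := A) q) s) := by
  rw [IsScalarTower.algebraMap_apply B (Fb (A := A) q) (Rl (A := A) q)]
  exact IsLocalization.map_units (Rl (A := A) q)
    (⟨algebraMap B (Fb (A := A) q) s, ⟨s, s.2, rfl⟩⟩ : Sb (A := A) q)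

/-- the map from `B_q` to the localized fibre ring -/
noncomputable def psiq : Localization.AtPrime q →+* Rl (A := A) q :=
  IsLocalization.lift (M := q.primeCompl) (g := algebraMap B (Rl (A := A) q))
    (isUnit_algebraMap_Rl q)

theorem psiq_surjective : Surjective (psiq (A := A) q) := by
  intro y
  obtain ⟨x, ⟨_, s, hs, rfl⟩, rfl⟩ := IsLocalization.exists_mk'_eq (Sb (A := A) q) y
  obtain ⟨r, hr, b, hb⟩ := Ideal.ResidueField.exists_smul_eq_tmul_one
    (q.comap (algebraMap A B)) x
  have hr' : algebraMap A B r ∈ q.primeCompl := hr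
  refine ⟨IsLocalization.mk' _ b (⟨algebraMap A B r, hr'⟩ : q.primeCompl) *
    IsLocalization.mk' _ 1 (⟨s, hs⟩ : q.primeCompl), ?_⟩
  rw [map_mul, IsLocalization.mk'_eq_mul_mk'_one (M := Sb (A := A) q) x]
  congr 1
  · rw [psiq, IsLocalization.lift_mk'_spec]
    simp only
    rw [IsScalarTower.algebraMap_apply B (Fb (A := A) q) (Rl (A := A) q),
      IsScalarTower.algebraMap_apply B (Fb (A := A) q) (Rl (A := A) q) (algebraMap A B r),
      ← map_mul]
    congr 1
    rw [Algebra.TensorProduct.algebraMap_apply, Algebra.algebraMap_self_apply, ← hb,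
      Algebra.smul_def, IsScalarTower.algebraMap_apply A B (Fb (A := A) q)]
  · rw [psiq, IsLocalization.lift_mk'_spec]
    simp only
    rw [map_one, IsScalarTower.algebraMap_apply B (Fb (A := A) q) (Rl (A := A) q)]
    have := IsLocalization.mk'_spec' (Rl (A := A) q) (1 : Fb (A := A) q)
      (⟨algebraMap B (Fb (A := A) q) s, ⟨s, hs, rfl⟩⟩ : Sb (A := A) q)
    rw [map_one] at this
    exact this.symm

instance : IsLocalRing (Rl (A := A) q) :=
  IsLocalRing.of_surjective' (psiq (A := A) q) (psiq_surjective q)

theorem algebraMap_mem_maximalIdeal (b : B) (hb : b ∈ q) :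
    algebraMap B (Rl (A := A) q) b ∈ maximalIdeal (Rl (A := A) q) := by
  rw [mem_maximalIdeal, mem_nonunits_iff]
  intro hu
  have := hu.map (chi (A := A) q)
  rw [chi_algebraMap, isUnit_iff_ne_zero, ne_eq, Ideal.algebraMap_residueField_eq_zero] at this
  exact this hb

instance [Algebra.FiniteType A B] : IsNoetherianRing (Fb (A := A) q) := by
  have h1 : Algebra.FiniteType (q.comap (algebraMap A B)).ResidueField
      ((q.comap (algebraMap A B)).ResidueField ⊗[A] B) := inferInstance
  have h2 : IsNoetherianRing ((q.comap (algebraMap A B)).ResidueField ⊗[A] B) :=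
    Algebra.FiniteType.isNoetherianRing (q.comap (algebraMap A B)).ResidueField _
  exact isNoetherianRing_of_ringEquiv _
    (Algebra.TensorProduct.comm A (q.comap (algebraMap A B)).ResidueField B).toRingEquiv

instance [Algebra.FiniteType A B] : IsNoetherianRing (Rl (A := A) q) :=
  IsLocalization.isNoetherianRing (Sb (A := A) q) _ inferInstance

/-- the localized fibre module is the localized fibre ring -/
noncomputable def locEquiv :
    LocalizedModule q.primeCompl (Fb (A := A) q) ≃ₗ[B] Rl (A := A) q :=
  IsLocalizedModule.iso q.primeCompl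
    (IsScalarTower.toAlgHom B (Fb (A := A) q) (Rl (A := A) q)).toLinearMap

end Fib

end Groth.Agent.Lib.Helper9.QRLoc
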