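import Mathlib
import Groth.Prelude.Def_CAlgX
import Groth.Agent.Lib.Helper9.QRLoc1
import Groth.Agent.Lib.Helper9.QRLoc2
import Groth.Agent.Lib.Helper23.QuasiRegReg
import Groth.Agent.Lib27.FibInj.RegSeq3

set_option autoImplicit false
set_option linter.unusedSectionVars false
universe u
open TensorProduct Function IsLocalRing

namespace Groth.Agent.Lib.Helper9.QRLoc

section Main

variable {A B : Type u} [CommRing A] [CommRing B] [Algebra A B]

/-- quasi-regularity in the fibre ring -/
theorem qr_fibre (I : Ideal A) {r : ℕ} (f : Fin r → B) (q : Ideal B) [q.IsPrime]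
    (hIq : I ≤ q.comap (algebraMap A B))
    (hq : CAlgX.IsQuasiRegular (fun i => Ideal.Quotient.mk (Ideal.map (algebraMap A B) I) (f i)))
    (hflat : Module.Flat (A ⧸ I)
      ((B ⧸ Ideal.map (algebraMap A B) I) ⧸
        Ideal.span (Set.range (fun i => Ideal.Quotient.mk (Ideal.map (algebraMap A B) I) (f i))))) :
    CAlgX.IsQuasiRegular (fun i => algebraMap B (Fb (A := A) q) (f i)) := by
  set κ := (q.comap (algebraMap A B)).ResidueField with hκ
  let φ : A ⧸ I →+* κ := Ideal.Quotient.lift I (algebraMap A κ)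
    (fun a ha => Ideal.algebraMap_residueField_eq_zero.mpr (hIq ha))
  let _ : Algebra (A ⧸ I) κ := φ.toAlgebra
  have : IsScalarTower A (A ⧸ I) κ := IsScalarTower.of_algebraMap_eq' rfl
  have h1 := Groth.Agent.Lib.Helper9.QRBC.main (A ⧸ I) (B ⧸ Ideal.map (algebraMap A B) I) κ r
    (fun i => Ideal.Quotient.mk (Ideal.map (algebraMap A B) I) (f i)) hflat hq
  let e1 : κ ⊗[A ⧸ I] (B ⧸ Ideal.map (algebraMap A B) I) ≃ₐ[A ⧸ I] κ ⊗[A ⧸ I] ((A ⧸ I) ⊗[A] B) :=
    Algebra.TensorProduct.congr AlgEquiv.refl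
      (Algebra.TensorProduct.quotIdealMapEquivQuotTensor B I)
  let e2 : κ ⊗[A ⧸ I] ((A ⧸ I) ⊗[A] B) ≃ₐ[A ⧸ I] κ ⊗[A] B :=
    Algebra.TensorProduct.cancelBaseChange A (A ⧸ I) (A ⧸ I) κ B
  let e3 : κ ⊗[A] B ≃ₐ[A] B ⊗[A] κ := Algebra.TensorProduct.comm A κ B
  let θ : κ ⊗[A ⧸ I] (B ⧸ Ideal.map (algebraMap A B) I) ≃+* B ⊗[A] κ :=
    (e1.toRingEquiv.trans e2.toRingEquiv).trans e3.toRingEquiv
  have h2 := isQuasiRegular_ringEquiv θ _ h1
  convert h2 using 2 with i
  have hθ : θ (1 ⊗ₜ[A ⧸ I] (Ideal.Quotient.mk (Ideal.map (algebraMap A B) I)) (f i)) =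
      e3 (e2 (e1 (1 ⊗ₜ[A ⧸ I] (Ideal.Quotient.mk (Ideal.map (algebraMap A B) I)) (f i)))) := rfl
  rw [hθ]
  simp [e1, e2, e3, Algebra.TensorProduct.algebraMap_apply]

/-- weak regularity on the localized fibre -/
theorem wr_fibre [Algebra.FiniteType A B] (I : Ideal A) {r : ℕ} (f : Fin r → B) (q : Ideal B)
    [q.IsPrime] (hIq : I ≤ q.comap (algebraMap A B)) (hfq : ∀ i, f i ∈ q)
    (hq : CAlgX.IsQuasiRegular (fun i => Ideal.Quotient.mk (Ideal.map (algebraMap A B) I) (f i)))
    (hflat : Module.Flat (A ⧸ I)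
      ((B ⧸ Ideal.map (algebraMap A B) I) ⧸
        Ideal.span (Set.range (fun i => Ideal.Quotient.mk (Ideal.map (algebraMap A B) I) (f i))))) :
    RingTheory.Sequence.IsWeaklyRegular
      (LocalizedModule q.primeCompl (B ⊗[A] (q.comap (algebraMap A B)).ResidueField))
      (List.ofFn f) := by
  have h1 := qr_fibre I f q hIq hq hflat
  have h2 := isQuasiRegular_of_isLocalization (T := Rl (A := A) q) (Sb (A := A) q) _ h1
  have h3 : CAlgX.IsQuasiRegular (fun i => algebraMap B (Rl (A := A) q) (f i)) := by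
    convert h2 using 2 with i
    exact IsScalarTower.algebraMap_apply B (Fb (A := A) q) (Rl (A := A) q) (f i)
  have h4 := Groth.Agent.Lib.Helper23.QRR.isWeaklyRegular_of_isQuasiRegular r (Rl (A := A) q)
    (fun i => algebraMap B (Rl (A := A) q) (f i))
    (fun i => algebraMap_mem_maximalIdeal q (f i) (hfq i)) h3
  have h5 : List.ofFn (fun i => algebraMap B (Rl (A := A) q) (f i)) =
      (List.ofFn f).map (algebraMap B (Rl (A := A) q)) := List.map_ofFn.symm
  rw [h5, RingTheory.Sequence.isWeaklyRegular_map_algebraMap_iff] at h4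
  exact (LinearEquiv.isWeaklyRegular_congr (locEquiv (A := A) q) _).mpr h4

theorem flat_loc [Module.Flat A B] (q : Ideal B) [q.IsPrime] :
    Module.Flat A (LocalizedModule q.primeCompl B) := by
  have h0 : Module.Flat (Localization q.primeCompl) (LocalizedModule q.primeCompl B) :=
    inferInstance
  have h1 : Module.Flat B (LocalizedModule q.primeCompl B) :=
    Module.Flat.trans B (Localization q.primeCompl) _
  exact Module.Flat.trans A B _

theorem main [Module.Flat A B] [Algebra.FinitePresentation A B]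
    (I : Ideal A) (hI : ∀ x ∈ I, IsNilpotent x) (r : ℕ) (f : Fin r → B)
    (hq : CAlgX.IsQuasiRegular
      (fun i => Ideal.Quotient.mk (Ideal.map (algebraMap A B) I) (f i)))
    (hflat : Module.Flat (A ⧸ I)
      ((B ⧸ Ideal.map (algebraMap A B) I) ⧸
        Ideal.span (Set.range (fun i => Ideal.Quotient.mk (Ideal.map (algebraMap A B) I) (f i))))) :
    Module.Flat A (B ⧸ Ideal.span (Set.range f)) := by
  set J : Ideal B := Ideal.span (Set.range f) with hJ
  apply Module.flat_of_isLocalized_maximal B (B ⧸ J)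
    (fun P _ => LocalizedModule P.primeCompl (B ⧸ J))
    (fun P _ => LocalizedModule.mkLinearMap P.primeCompl (B ⧸ J))
  intro q hqmax
  by_cases hJq : ∀ i, f i ∈ q
  · have hIq : I ≤ q.comap (algebraMap A B) := by
      intro x hx
      obtain ⟨n, hn⟩ := hI x hx
      have : (q.comap (algebraMap A B)).IsPrime := inferInstance
      exact this.mem_of_pow_mem n (hn ▸ zero_mem _)
    have hwr := wr_fibre I f q hIq hJq hq hflat
    obtain ⟨-, h2⟩ := Groth.Agent.Lib27.FibInj.weaklyRegular_and_flat q (List.ofFn f) B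
      (flat_loc q) hwr
    have h3 := h2 (List.ofFn f).length le_rfl
    rw [List.take_length] at h3
    have heq : (Ideal.ofList (List.ofFn f) • (⊤ : Submodule B B)) = J := by
      rw [Groth.Agent.Lib.Helper12.QR.ofList_ofFn, smul_eq_mul, Ideal.mul_top]
    exact Groth.Agent.Lib27.FibInj.flat_loc_of_equiv q (Submodule.quotEquivOfEq _ _ heq.symm) h3
  · push Not at hJq
    obtain ⟨i, hi⟩ := hJq
    have : Subsingleton (LocalizedModule q.primeCompl (B ⧸ J)) := by
      refine ⟨fun x y => ?_⟩
      have h0 : ∀ z : LocalizedModule q.primeCompl (B ⧸ J), z = 0 := by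
        intro z
        induction z using LocalizedModule.induction_on with
        | _ m s =>
          rw [← LocalizedModule.mk_cancel_common_left (⟨f i, hi⟩ : q.primeCompl) s m]
          have : (⟨f i, hi⟩ : q.primeCompl) • m = 0 := by
            obtain ⟨b, rfl⟩ := Ideal.Quotient.mk_surjective m
            show (f i) • (Ideal.Quotient.mk J b) = 0
            have h00 : (f i) • (Ideal.Quotient.mk J b) = Ideal.Quotient.mk J (f i * b) := rfl
            rw [h00, Ideal.Quotient.eq_zero_iff_mem]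
            exact Ideal.mul_mem_right _ _ (Ideal.subset_span ⟨i, rfl⟩)
          rw [this, LocalizedModule.zero_mk]
      rw [h0 x, h0 y]
    infer_instance

end Main

end Groth.Agent.Lib.Helper9.QRLoc
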