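import Mathlib
import Groth.Prelude.Def_CAlgX
import Groth.Agent.Lib.Helper9.QRLoc3

set_option autoImplicit false
set_option linter.unusedSectionVars false
universe u
open TensorProduct Function IsLocalRing

namespace Groth.Agent.Lib.Helper9.QRLoc

section Smooth

variable {A B : Type u} [CommRing A] [CommRing B] [Algebra A B]

/-- the double quotient `(B/IB)/(f̄)` is the base change of `B/(f)` to `A/I` -/
noncomputable def dqEquiv (I : Ideal A) {r : ℕ} (f : Fin r → B) :
    ((B ⧸ Ideal.map (algebraMap A B) I) ⧸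
        Ideal.span (Set.range (fun i => Ideal.Quotient.mk (Ideal.map (algebraMap A B) I) (f i))))
      ≃ₐ[A ⧸ I] (A ⧸ I) ⊗[A] (B ⧸ Ideal.span (Set.range f)) := by
  set IB := Ideal.map (algebraMap A B) I with hIB
  set J : Ideal B := Ideal.span (Set.range f) with hJ
  have h1 : Ideal.span (Set.range (fun i => Ideal.Quotient.mk IB (f i))) =
      J.map (Ideal.Quotient.mkₐ A IB) := by
    rw [hJ, Ideal.map_span, ← Set.range_comp]
    rfl
  have h2 : IB.map (Ideal.Quotient.mkₐ A J) = I.map (algebraMap A (B ⧸ J)) := by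
    show Ideal.map (Ideal.Quotient.mk J) (Ideal.map (algebraMap A B) I) = _
    rw [Ideal.map_map]
    rfl
  let e1 : ((B ⧸ IB) ⧸ Ideal.span (Set.range (fun i => Ideal.Quotient.mk IB (f i)))) ≃ₐ[A]
      ((B ⧸ J) ⧸ I.map (algebraMap A (B ⧸ J))) :=
    ((Ideal.quotientEquivAlgOfEq A h1).trans (DoubleQuot.quotQuotEquivCommₐ A IB J)).trans
      (Ideal.quotientEquivAlgOfEq A h2)
  exact (AlgEquiv.extendScalarsOfSurjective Ideal.Quotient.mk_surjective e1).trans
    (Algebra.TensorProduct.quotIdealMapEquivQuotTensor (B ⧸ J) I)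

theorem main_smooth [Module.Flat A B] [Algebra.FinitePresentation A B]
    (I : Ideal A) (hI : ∀ x ∈ I, IsNilpotent x) (r : ℕ) (f : Fin r → B)
    (hq : CAlgX.IsQuasiRegular
      (fun i => Ideal.Quotient.mk (Ideal.map (algebraMap A B) I) (f i)))
    (hsm : Algebra.Smooth (A ⧸ I)
      ((B ⧸ Ideal.map (algebraMap A B) I) ⧸
        Ideal.span (Set.range (fun i => Ideal.Quotient.mk (Ideal.map (algebraMap A B) I) (f i))))) :
    Algebra.Smooth A (B ⧸ Ideal.span (Set.range f)) := by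
  have hflat : Module.Flat A (B ⧸ Ideal.span (Set.range f)) :=
    main I hI r f hq inferInstance
  have hfp : Algebra.FinitePresentation A (B ⧸ Ideal.span (Set.range f)) :=
    Algebra.FinitePresentation.quotient ⟨(Set.finite_range f).toFinset, by simp⟩
  refine Algebra.Smooth.of_formallySmooth_fiber (fun p hp => ?_)
  have hIp : I ≤ p := by
    intro x hx
    obtain ⟨n, hn⟩ := hI x hx
    exact hp.mem_of_pow_mem n (hn ▸ zero_mem _)
  set κ := p.ResidueField with hκ
  let φ : A ⧸ I →+* κ := Ideal.Quotient.lift I (algebraMap A κ)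
    (fun a ha => Ideal.algebraMap_residueField_eq_zero.mpr (hIp ha))
  let _ : Algebra (A ⧸ I) κ := φ.toAlgebra
  have : IsScalarTower A (A ⧸ I) κ := IsScalarTower.of_algebraMap_eq' rfl
  set C := ((B ⧸ Ideal.map (algebraMap A B) I) ⧸
        Ideal.span (Set.range (fun i => Ideal.Quotient.mk (Ideal.map (algebraMap A B) I) (f i))))
    with hC
  have h1 : Algebra.FormallySmooth κ (κ ⊗[A ⧸ I] C) := inferInstance
  let e1 : κ ⊗[A ⧸ I] C ≃ₐ[κ] κ ⊗[A ⧸ I] ((A ⧸ I) ⊗[A] (B ⧸ Ideal.span (Set.range f))) :=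
    Algebra.TensorProduct.congr AlgEquiv.refl (dqEquiv I f)
  let e2 : κ ⊗[A ⧸ I] ((A ⧸ I) ⊗[A] (B ⧸ Ideal.span (Set.range f))) ≃ₐ[κ]
      κ ⊗[A] (B ⧸ Ideal.span (Set.range f)) :=
    Algebra.TensorProduct.cancelBaseChange A (A ⧸ I) κ κ _
  have h2 : Algebra.FormallySmooth κ (κ ⊗[A] (B ⧸ Ideal.span (Set.range f))) :=
    Algebra.FormallySmooth.of_equiv (A := κ ⊗[A ⧸ I] C) (e1.trans e2)
  exact h2

end Smooth

end Groth.Agent.Lib.Helper9.QRLoc
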