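import Mathlib
import Groth.Agent.Lib.Helper9.ValSat
import Groth.Agent.Lib27.Flat.BCPres
import Groth.Agent.Lib.Helper18.FlJ

set_option autoImplicit false
set_option linter.style.haveILetI false
set_option linter.unusedSectionVars false
set_option linter.unusedVariables false
universe u

namespace Groth.Agent.Lib.Helper9.RGV
open Function MvPolynomial TensorProduct Groth.Agent.Lib.Helper18.Fl Groth.Agent.Lib27.BCPres

attribute [local instance] MvPolynomial.algebraMvPolynomial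

section Defs

variable {R : Type u} [CommRing R] [IsDomain R] {n r : ℕ}
  (L : Submodule (MvPolynomial (Fin n) R) (Fin r → MvPolynomial (Fin n) R))
  (B : Type u) [CommRing B] [Algebra R B]

/-- the extension of `L` to `B[y]^r`. -/
noncomputable def ext : Submodule (MvPolynomial (Fin n) B) (Fin r → MvPolynomial (Fin n) B) :=
  Submodule.span _ (mapVec (algebraMap R B) '' (L : Set (Fin r → MvPolynomial (Fin n) R)))

/-- the saturation of the extension of `L` with respect to the nonzero elements of `R`. -/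
noncomputable def sat : Submodule (MvPolynomial (Fin n) B) (Fin r → MvPolynomial (Fin n) B) where
  carrier := {q | ∃ c : R, c ≠ 0 ∧ (C (algebraMap R B c) : MvPolynomial (Fin n) B) • q ∈ ext L B}
  zero_mem' := ⟨1, one_ne_zero, by rw [smul_zero]; exact zero_mem _⟩
  add_mem' := by
    rintro q₁ q₂ ⟨c₁, hc₁, h₁⟩ ⟨c₂, hc₂, h₂⟩
    refine ⟨c₁ * c₂, mul_ne_zero hc₁ hc₂, ?_⟩
    rw [map_mul, map_mul, smul_add]
    refine add_mem ?_ ?_
    · rw [mul_comm, mul_smul]; exact Submodule.smul_mem _ _ h₁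
    · rw [mul_smul]; exact Submodule.smul_mem _ _ h₂
  smul_mem' := by
    rintro b q ⟨c, hc, h⟩
    refine ⟨c, hc, ?_⟩
    rw [smul_comm]
    exact Submodule.smul_mem _ _ h

variable {L B}

theorem mem_sat_iff (q : Fin r → MvPolynomial (Fin n) B) :
    q ∈ sat L B ↔ ∃ c : R, c ≠ 0 ∧ (C (algebraMap R B c) : MvPolynomial (Fin n) B) • q ∈ ext L B :=
  Iff.rfl

theorem ext_le_sat : ext L B ≤ sat L B := by
  intro q hq
  exact ⟨1, one_ne_zero, by rw [map_one, map_one, one_smul]; exact hq⟩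

theorem mapVec_mem_ext (l : Fin r → MvPolynomial (Fin n) R) (hl : l ∈ L) :
    mapVec (algebraMap R B) l ∈ ext L B :=
  Submodule.subset_span ⟨l, hl, rfl⟩

end Defs

section PartI

variable {R : Type u} [CommRing R] [IsDomain R] {n r : ℕ}
  (L : Submodule (MvPolynomial (Fin n) R) (Fin r → MvPolynomial (Fin n) R))
  (A : Type u) [CommRing A] [IsDomain A] [ValuationRing A] [Algebra R A]
  (hfrac : ∀ a : A, a ≠ 0 → ∃ s u : R, s ≠ 0 ∧ u ≠ 0 ∧ algebraMap R A s * a = algebraMap R A u)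

include hfrac in
theorem sat_saturated (a : A) (ha : a ≠ 0) (x : Fin r → MvPolynomial (Fin n) A)
    (h : a • x ∈ sat L A) : x ∈ sat L A := by
  obtain ⟨c, hc, hcx⟩ := h
  obtain ⟨s, u, hs, hu, hsu⟩ := hfrac a ha
  refine ⟨c * u, mul_ne_zero hc hu, ?_⟩
  have : (C (algebraMap R A (c * u)) : MvPolynomial (Fin n) A) • x =
      (C (algebraMap R A s) : MvPolynomial (Fin n) A) •
        ((C (algebraMap R A c) : MvPolynomial (Fin n) A) • (a • x)) := by
    funext i
    simp only [Pi.smul_apply, smul_eq_mul, MvPolynomial.smul_eq_C_mul]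
    rw [map_mul, ← hsu, map_mul, map_mul]
    ring
  rw [this]
  exact Submodule.smul_mem _ _ hcx

include hfrac in
theorem sat_fg : (sat L A).FG :=
  Groth.Agent.Lib.Helper9.ValSat.sat_fg_pi A n r (sat L A)
    (fun a ha x h => sat_saturated L A hfrac a ha x h)

omit [IsDomain R] [Algebra R A] in
theorem flat_quot_of_saturated
    (N : Submodule (MvPolynomial (Fin n) A) (Fin r → MvPolynomial (Fin n) A))
    (hsat : ∀ a : A, a ≠ 0 → ∀ x : Fin r → MvPolynomial (Fin n) A, a • x ∈ N → x ∈ N) :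
    Module.Flat A ((Fin r → MvPolynomial (Fin n) A) ⧸ N) := by
  refine (Module.Flat.flat_iff_torsion_eq_bot_of_isBezout (R := A)
    (M := (Fin r → MvPolynomial (Fin n) A) ⧸ N)).mpr ?_
  rw [Submodule.eq_bot_iff]
  intro y hy
  obtain ⟨x, rfl⟩ := N.mkQ_surjective y
  rw [Submodule.mem_torsion_iff] at hy
  obtain ⟨⟨a, ha⟩, hax⟩ := hy
  have ha0 : a ≠ 0 := nonZeroDivisors.ne_zero ha
  change a • N.mkQ x = 0 at hax
  rw [Submodule.mkQ_apply, ← Submodule.Quotient.mk_smul, Submodule.Quotient.mk_eq_zero] at hax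
  rw [Submodule.mkQ_apply, Submodule.Quotient.mk_eq_zero]
  exact hsat a ha0 x hax

include hfrac in
/-- the data over the valuation ring. -/
theorem partI : ∃ (m : ℕ) (g : Fin m → Fin r → MvPolynomial (Fin n) A),
    Kspan g = sat L A ∧ Module.Flat A ((Fin r → MvPolynomial (Fin n) A) ⧸ Kspan g) ∧
    ∃ c : Fin m → R, (∀ i, c i ≠ 0) ∧ ∀ i, ∃ (N : ℕ) (a : Fin N → MvPolynomial (Fin n) A)
      (l : Fin N → Fin r → MvPolynomial (Fin n) R), (∀ k, l k ∈ L) ∧
      ∑ k, a k • mapVec (algebraMap R A) (l k) =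
        (C (algebraMap R A (c i)) : MvPolynomial (Fin n) A) • g i := by
  obtain ⟨m, g, hg⟩ := Submodule.fg_iff_exists_fin_generating_family.mp (sat_fg L A hfrac)
  refine ⟨m, g, hg, ?_, ?_⟩
  · have hK : Kspan g = sat L A := hg
    rw [hK]
    exact flat_quot_of_saturated A (sat L A) (fun a ha x h => sat_saturated L A hfrac a ha x h)
  · have hmem : ∀ i, g i ∈ sat L A := fun i => by
      rw [← hg]; exact Submodule.subset_span ⟨i, rfl⟩
    choose c hc hcg using hmem
    refine ⟨c, hc, fun i => ?_⟩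
    have := hcg i
    rw [ext, Submodule.mem_span_set'] at this
    obtain ⟨N, a, l, hal⟩ := this
    have hl : ∀ k, ∃ l' : Fin r → MvPolynomial (Fin n) R, l' ∈ L ∧
        mapVec (algebraMap R A) l' = (l k : Fin r → MvPolynomial (Fin n) A) := fun k => (l k).2
    choose l' hl'L hl' using hl
    refine ⟨N, a, l', hl'L, ?_⟩
    rw [← hal]
    exact Finset.sum_congr rfl (fun k _ => by rw [hl' k])

end PartI

section PartII

variable {A : Type u} [CommRing A] {n m r : ℕ} (g : Fin m → Fin r → MvPolynomial (Fin n) A)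

/-- descent of the flat presentation to a finitely generated `ℤ`-subalgebra. -/
theorem partII [hflat : Module.Flat A ((Fin r → MvPolynomial (Fin n) A) ⧸ Kspan g)] :
    ∃ (S₂ : Subalgebra ℤ A) (g₂ : Fin m → Fin r → MvPolynomial (Fin n) S₂), S₂.FG ∧
      (∀ i, mapVec (inc S₂) (g₂ i) = g i) ∧
      Module.Flat S₂ ((Fin r → MvPolynomial (Fin n) S₂) ⧸ Kspan g₂) := by
  classical
  obtain ⟨T, hTdef⟩ : ∃ T : Set A, T = ⋃ i, ⋃ k, ((g i k).coeffs : Set A) := ⟨_, rfl⟩
  have hT : T.Finite := by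
    rw [hTdef]
    exact Set.finite_iUnion fun i => Set.finite_iUnion fun j => Finset.finite_toSet _
  obtain ⟨S₀, hS₀def⟩ : ∃ S₀ : Subalgebra ℤ A, S₀ = Algebra.adjoin ℤ T := ⟨_, rfl⟩
  have hS₀ : S₀.FG := by rw [hS₀def]; exact Subalgebra.fg_def.2 ⟨T, hT, rfl⟩
  have hTS : T ⊆ S₀ := by rw [hS₀def]; exact Algebra.subset_adjoin
  have hgT : ∀ i k, ((g i k).coeffs : Set A) ⊆ S₀ := fun i k x hx =>
    hTS (by rw [hTdef]; exact Set.mem_iUnion.mpr ⟨i, Set.mem_iUnion.mpr ⟨k, hx⟩⟩)
  choose g₁ hg₁' using fun i k => exists_map_eq_of_coeffs_subset S₀ _ (hgT i k)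
  have hg₁ : ∀ i, mapVec (inc S₀) (g₁ i) = g i := fun i => funext fun k => hg₁' i k
  obtain ⟨S₂, h02, hS₂, hflat₂⟩ := exists_flat_level_global g S₀ hS₀ g₁ hg₁
  refine ⟨S₂, fun i => mapVec (incl h02) (g₁ i), hS₂, fun i => ?_, hflat₂⟩
  rw [mapVec_mapVec, inc_comp_incl]
  exact hg₁ i

end PartII

section Clear

variable {R : Type u} [CommRing R] [IsDomain R] {n : ℕ}
  {A : Type u} [CommRing A] [IsDomain A] [Algebra R A]
  (hfrac : ∀ a : A, a ≠ 0 → ∃ s u : R, s ≠ 0 ∧ u ≠ 0 ∧ algebraMap R A s * a = algebraMap R A u)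

include hfrac in
theorem clear_one (b : MvPolynomial (Fin n) A) : ∃ s : R, s ≠ 0 ∧
    ∃ b' : MvPolynomial (Fin n) R, MvPolynomial.map (algebraMap R A) b' = C (algebraMap R A s) * b := by
  induction b using MvPolynomial.induction_on' with
  | monomial α a =>
    by_cases ha : a = 0
    · refine ⟨1, one_ne_zero, 0, ?_⟩
      rw [ha, map_zero, monomial_zero, mul_zero]
    · obtain ⟨s, u, hs, hu, hsu⟩ := hfrac a ha
      refine ⟨s, hs, monomial α u, ?_⟩
      rw [MvPolynomial.map_monomial, C_mul_monomial, hsu]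
  | add p q hp hq =>
    obtain ⟨s₁, hs₁, p', hp'⟩ := hp
    obtain ⟨s₂, hs₂, q', hq'⟩ := hq
    refine ⟨s₁ * s₂, mul_ne_zero hs₁ hs₂, C s₂ * p' + C s₁ * q', ?_⟩
    rw [map_add, map_mul, map_mul, hp', hq', MvPolynomial.map_C, MvPolynomial.map_C, map_mul,
      map_mul]
    ring

include hfrac in
theorem clear_fin : ∀ {m : ℕ} (b : Fin m → MvPolynomial (Fin n) A), ∃ s : R, s ≠ 0 ∧
    ∀ i, ∃ b' : MvPolynomial (Fin n) R,
      MvPolynomial.map (algebraMap R A) b' = C (algebraMap R A s) * b i := by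
  intro m
  induction m with
  | zero => intro b; exact ⟨1, one_ne_zero, fun i => i.elim0⟩
  | succ m ih =>
    intro b
    obtain ⟨s₁, hs₁, h₁⟩ := ih (fun i => b i.succ)
    obtain ⟨s₂, hs₂, b₀, hb₀⟩ := clear_one hfrac (b 0)
    refine ⟨s₁ * s₂, mul_ne_zero hs₁ hs₂, ?_⟩
    intro i
    refine Fin.cases ?_ (fun i => ?_) i
    · refine ⟨C s₁ * b₀, ?_⟩
      rw [map_mul, hb₀, MvPolynomial.map_C, map_mul, map_mul]
      ring
    · obtain ⟨b', hb'⟩ := h₁ i
      refine ⟨C s₂ * b', ?_⟩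
      rw [map_mul, hb', MvPolynomial.map_C, map_mul, map_mul]
      ring

end Clear

section Lift

variable {A R₁ : Type u} [CommRing A] [CommRing R₁] (j : R₁ →+* A) (hj : Injective j)
  (S₂ : Subalgebra ℤ A) (hS : (S₂ : Set A) ⊆ Set.range j)

include hj hS in
theorem exists_lift_sub : ∃ lam : ↥S₂ →+* R₁, ∀ x : S₂, j (lam x) = (x : A) := by
  let e : R₁ ≃+* j.range := RingEquiv.ofBijective j.rangeRestrict
    ⟨fun a b h => hj (congrArg Subtype.val h), j.rangeRestrict_surjective⟩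
  let ρ : ↥S₂ →+* j.range := RingHom.codRestrict (inc S₂) j.range (fun x => hS x.2)
  refine ⟨e.symm.toRingHom.comp ρ, fun x => ?_⟩
  have h1 : e (e.symm (ρ x)) = ρ x := e.apply_symm_apply _
  have h2 : (e (e.symm (ρ x)) : A) = j (e.symm (ρ x)) := rfl
  have h3 : ((ρ x : j.range) : A) = (x : A) := rfl
  change j (e.symm (ρ x)) = _
  rw [← h2, h1, h3]

end Lift

section PartIIIa

variable {R : Type u} [CommRing R] [IsDomain R] {n r m : ℕ}
  {A : Type u} [CommRing A] [IsDomain A] [Algebra R A]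
  (hfrac : ∀ a : A, a ≠ 0 → ∃ s u : R, s ≠ 0 ∧ u ≠ 0 ∧ algebraMap R A s * a = algebraMap R A u)
  (hinjA : Injective (algebraMap R A))
  {R₁ : Type u} [CommRing R₁] [IsDomain R₁] [Algebra R R₁] (j : R₁ →ₐ[R] A) (hj : Injective j)
  (g : Fin m → Fin r → MvPolynomial (Fin n) A)
  (g1 : Fin m → Fin r → MvPolynomial (Fin n) R₁)
  (hg1 : ∀ i, mapVec (j : R₁ →+* A) (g1 i) = g i)
  [hflat : Module.Flat R₁ ((Fin r → MvPolynomial (Fin n) R₁) ⧸ Kspan g1)]

include hj in
omit [IsDomain R] [IsDomain A] [IsDomain R₁] in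
theorem mapVec_injective : Injective (mapVec (σ := Fin n) (r := r) (j : R₁ →+* A)) := by
  intro v w h
  funext k
  exact MvPolynomial.map_injective _ hj (congrFun h k)

include hinjA j in
omit [IsDomain R] [IsDomain A] [IsDomain R₁] in
theorem algebraMap_injective₁ : Injective (algebraMap R R₁) := by
  intro x y h
  apply hinjA
  rw [← j.commutes, ← j.commutes, h]

include hfrac hinjA hj hg1 hflat in
/-- an element of `R₁[y]^r` whose image over `A` lies in the span of `g` lies in the span of `g1`. -/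
theorem mem_Kspan_of_map (q : Fin r → MvPolynomial (Fin n) R₁)
    (h : mapVec (j : R₁ →+* A) q ∈ Kspan g) : q ∈ Kspan g1 := by
  classical
  obtain ⟨b, hb⟩ := (Submodule.mem_span_range_iff_exists_fun _).mp h
  obtain ⟨s, hs, hb'⟩ := clear_fin hfrac b
  choose b' hb' using hb'
  have hjR : ∀ x : R, j (algebraMap R R₁ x) = algebraMap R A x := fun x => j.commutes x
  have hcomp : ((j : R₁ →+* A)).comp (algebraMap R R₁) = algebraMap R A := RingHom.ext hjR
  have hkey : (C (algebraMap R R₁ s) : MvPolynomial (Fin n) R₁) • q =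
      ∑ i, MvPolynomial.map (algebraMap R R₁) (b' i) • g1 i := by
    apply mapVec_injective j hj
    rw [mapVec_smul, mapVec_sum, MvPolynomial.map_C, ← hb, Finset.smul_sum]
    refine Finset.sum_congr rfl (fun i _ => ?_)
    rw [mapVec_smul, hg1 i, MvPolynomial.map_map, hcomp, hb' i, mul_smul]
    congr 2
    exact hjR s
  have hmem : (C (algebraMap R R₁ s) : MvPolynomial (Fin n) R₁) • q ∈ Kspan g1 := by
    rw [hkey]
    exact Submodule.sum_mem _ (fun i _ => Submodule.smul_mem _ _ (Submodule.subset_span ⟨i, rfl⟩))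
  have hs1 : algebraMap R R₁ s ≠ 0 := fun h0 =>
    hs (algebraMap_injective₁ hinjA j (by rw [h0, map_zero]))
  have h0 : (algebraMap R R₁ s) • (Submodule.Quotient.mk q :
      (Fin r → MvPolynomial (Fin n) R₁) ⧸ Kspan g1) = 0 := by
    rw [← Submodule.Quotient.mk_smul, Submodule.Quotient.mk_eq_zero]
    have : (algebraMap R R₁ s) • q = (C (algebraMap R R₁ s) : MvPolynomial (Fin n) R₁) • q := by
      funext k
      simp only [Pi.smul_apply, MvPolynomial.smul_eq_C_mul, smul_eq_mul]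
    rw [this]
    exact hmem
  have := Groth.Agent.Lib.Helper9.ValSat.eq_zero_of_smul_eq_zero _ hs1 _ h0
  exact (Submodule.Quotient.mk_eq_zero _).mp this

end PartIIIa

end Groth.Agent.Lib.Helper9.RGV
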