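import Mathlib
import Groth.Agent.Lib.Helper9.RGV1

set_option autoImplicit false
set_option linter.style.haveILetI false
set_option linter.unusedSectionVars false
set_option linter.unusedVariables false
universe u

namespace Groth.Agent.Lib.Helper9.RGV
open Function MvPolynomial TensorProduct Groth.Agent.Lib.Helper18.Fl Groth.Agent.Lib27.BCPres

attribute [local instance] MvPolynomial.algebraMvPolynomial

section Theta

variable {R : Type u} [CommRing R] {n r : ℕ}
  {R₁ : Type u} [CommRing R₁] [Algebra R R₁]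
  {M : Type u} [AddCommGroup M] [Module (MvPolynomial (Fin n) R) M]
  (f : (Fin r → MvPolynomial (Fin n) R) →ₗ[MvPolynomial (Fin n) R] M)

/-- the canonical map `R₁[y]^r → R₁[y] ⊗_{R[y]} M`. -/
noncomputable def theta : (Fin r → MvPolynomial (Fin n) R₁) →ₗ[MvPolynomial (Fin n) R₁]
    (MvPolynomial (Fin n) R₁ ⊗[MvPolynomial (Fin n) R] M) :=
  ∑ i, (LinearMap.proj i : (Fin r → MvPolynomial (Fin n) R₁) →ₗ[MvPolynomial (Fin n) R₁]
      MvPolynomial (Fin n) R₁).smulRight
    ((1 : MvPolynomial (Fin n) R₁) ⊗ₜ[MvPolynomial (Fin n) R] f (Pi.single i 1))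

theorem theta_apply (q : Fin r → MvPolynomial (Fin n) R₁) :
    theta (R₁ := R₁) f q =
      ∑ i, q i • ((1 : MvPolynomial (Fin n) R₁) ⊗ₜ[MvPolynomial (Fin n) R] f (Pi.single i 1)) := by
  simp [theta]

theorem theta_mapVec (v : Fin r → MvPolynomial (Fin n) R) :
    theta (R₁ := R₁) f (mapVec (algebraMap R R₁) v) =
      (1 : MvPolynomial (Fin n) R₁) ⊗ₜ[MvPolynomial (Fin n) R] f v := by
  classical
  rw [theta_apply]
  conv_rhs => rw [vec_eq_sum_single v, map_sum, TensorProduct.tmul_sum]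
  refine Finset.sum_congr rfl (fun i _ => ?_)
  rw [map_smul, mapVec_apply, ← MvPolynomial.algebraMap_def, TensorProduct.tmul_smul,
    algebraMap_smul]

theorem theta_surjective (hf : Surjective f) : Surjective (theta (R₁ := R₁) f) := by
  intro x
  induction x using TensorProduct.induction_on with
  | zero => exact ⟨0, map_zero _⟩
  | tmul b m =>
    obtain ⟨v, rfl⟩ := hf m
    refine ⟨b • mapVec (algebraMap R R₁) v, ?_⟩
    rw [map_smul, theta_mapVec, TensorProduct.smul_tmul', smul_eq_mul, mul_one]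
  | add x y hx hy =>
    obtain ⟨a, rfl⟩ := hx
    obtain ⟨b, rfl⟩ := hy
    exact ⟨a + b, map_add _ _ _⟩

end Theta

section Psi

variable {R : Type u} [CommRing R] {n r m : ℕ}
  {R₁ : Type u} [CommRing R₁] [Algebra R R₁]
  {M : Type u} [AddCommGroup M] [Module (MvPolynomial (Fin n) R) M]
  (f : (Fin r → MvPolynomial (Fin n) R) →ₗ[MvPolynomial (Fin n) R] M) (hf : Surjective f)
  (g1 : Fin m → Fin r → MvPolynomial (Fin n) R₁)
  (hker : ∀ l ∈ LinearMap.ker f, mapVec (algebraMap R R₁) l ∈ Kspan g1)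

/-- the map `M → R₁[y]^r / (g1)`. -/
noncomputable def psi0 : M →ₗ[MvPolynomial (Fin n) R]
    ((Fin r → MvPolynomial (Fin n) R₁) ⧸ Kspan g1) :=
  (Submodule.liftQ (LinearMap.ker f)
    (((Kspan g1).mkQ.restrictScalars (MvPolynomial (Fin n) R)) ∘ₗ mapVecₗ) (by
      intro l hl
      rw [LinearMap.mem_ker, LinearMap.comp_apply, LinearMap.restrictScalars_apply,
        Submodule.mkQ_apply, Submodule.Quotient.mk_eq_zero, mapVecₗ_apply]
      exact hker l hl)) ∘ₗ (f.quotKerEquivOfSurjective hf).symm.toLinearMap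

theorem psi0_apply (v : Fin r → MvPolynomial (Fin n) R) :
    psi0 f hf g1 hker (f v) = Submodule.Quotient.mk (mapVec (algebraMap R R₁) v) := by
  rw [psi0, LinearMap.comp_apply, LinearEquiv.coe_coe, LinearMap.quotKerEquivOfSurjective_symm_apply]
  rfl

/-- the map `R₁[y] ⊗ M → R₁[y]^r / (g1)`. -/
noncomputable def psi : (MvPolynomial (Fin n) R₁ ⊗[MvPolynomial (Fin n) R] M) →ₗ[MvPolynomial (Fin n) R₁]
    ((Fin r → MvPolynomial (Fin n) R₁) ⧸ Kspan g1) :=
  LinearMap.liftBaseChange (MvPolynomial (Fin n) R₁) (psi0 f hf g1 hker)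

theorem psi_tmul (b : MvPolynomial (Fin n) R₁) (v : Fin r → MvPolynomial (Fin n) R) :
    psi f hf g1 hker (b ⊗ₜ f v) = b • Submodule.Quotient.mk (mapVec (algebraMap R R₁) v) := by
  rw [psi, LinearMap.liftBaseChange_tmul, psi0_apply]

theorem psi_theta (q : Fin r → MvPolynomial (Fin n) R₁) :
    psi f hf g1 hker (theta f q) = Submodule.Quotient.mk q := by
  classical
  rw [theta_apply, map_sum]
  conv_rhs => rw [vec_eq_sum_single q]
  rw [← Submodule.mkQ_apply, map_sum]
  refine Finset.sum_congr rfl (fun i _ => ?_)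
  rw [map_smul, psi_tmul, one_smul, mapVec_single, map_one, map_smul, Submodule.mkQ_apply]

theorem psi_surjective : Surjective (psi f hf g1 hker) := by
  intro y
  obtain ⟨q, rfl⟩ := Submodule.Quotient.mk_surjective _ y
  exact ⟨theta f q, psi_theta f hf g1 hker q⟩

end Psi

section Ker

variable {R : Type u} [CommRing R] {n r m : ℕ}
  {R₁ : Type u} [CommRing R₁] [Algebra R R₁]
  {M : Type u} [AddCommGroup M] [Module (MvPolynomial (Fin n) R) M]
  (f : (Fin r → MvPolynomial (Fin n) R) →ₗ[MvPolynomial (Fin n) R] M) (hf : Surjective f)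
  (g1 : Fin m → Fin r → MvPolynomial (Fin n) R₁)
  (hker : ∀ l ∈ LinearMap.ker f, mapVec (algebraMap R R₁) l ∈ Kspan g1)
  (c : Fin m → R)
  (hrel1 : ∀ i, ∃ (N : ℕ) (a : Fin N → MvPolynomial (Fin n) R₁)
      (l : Fin N → Fin r → MvPolynomial (Fin n) R), (∀ k, l k ∈ LinearMap.ker f) ∧
      ∑ k, a k • mapVec (algebraMap R R₁) (l k) =
        (C (algebraMap R R₁ (c i)) : MvPolynomial (Fin n) R₁) • g1 i)

include hrel1 in
/-- the kernel of `psi` is killed by the product of the `c i`. -/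
theorem smul_eq_zero_of_psi_eq_zero (x : MvPolynomial (Fin n) R₁ ⊗[MvPolynomial (Fin n) R] M)
    (hx : psi f hf g1 hker x = 0) :
    (C (algebraMap R R₁ (∏ i, c i)) : MvPolynomial (Fin n) R₁) • x = 0 := by
  classical
  obtain ⟨q, rfl⟩ := theta_surjective f hf x
  rw [psi_theta, Submodule.Quotient.mk_eq_zero] at hx
  obtain ⟨b, hb⟩ := (Submodule.mem_span_range_iff_exists_fun _).mp hx
  rw [← map_smul, ← hb, Finset.smul_sum, map_sum]
  refine Finset.sum_eq_zero (fun i _ => ?_)
  obtain ⟨N, a, l, hl, hal⟩ := hrel1 i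
  have h1 : theta f ((C (algebraMap R R₁ (c i)) : MvPolynomial (Fin n) R₁) • g1 i) = 0 := by
    rw [← hal, map_sum]
    refine Finset.sum_eq_zero (fun k _ => ?_)
    rw [map_smul, theta_mapVec, LinearMap.mem_ker.mp (hl k), TensorProduct.tmul_zero, smul_zero]
  have h2 : (C (algebraMap R R₁ (∏ i, c i)) : MvPolynomial (Fin n) R₁) • b i • g1 i =
      (b i * C (algebraMap R R₁ (∏ k ∈ Finset.univ.erase i, c k))) •
        ((C (algebraMap R R₁ (c i)) : MvPolynomial (Fin n) R₁) • g1 i) := by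
    rw [smul_smul, smul_smul]
    congr 1
    rw [← Finset.mul_prod_erase Finset.univ c (Finset.mem_univ i), map_mul, map_mul]
    ring
  rw [h2, map_smul, h1, smul_zero]

end Ker

section Stage

variable {R : Type u} [CommRing R] [IsDomain R] {n r : ℕ}
  (A : Type u) [CommRing A] [IsDomain A] [ValuationRing A] [Algebra R A]
  (hfrac : ∀ a : A, a ≠ 0 → ∃ s u : R, s ≠ 0 ∧ u ≠ 0 ∧ algebraMap R A s * a = algebraMap R A u)
  (hinjA : Injective (algebraMap R A))
  {M : Type u} [AddCommGroup M] [Module (MvPolynomial (Fin n) R) M]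
  (f : (Fin r → MvPolynomial (Fin n) R) →ₗ[MvPolynomial (Fin n) R] M) (hf : Surjective f)

include hfrac hinjA in
/-- **Flattening at a finite stage**: there are a finite subset `T` of the valuation ring and a nonzero
`c ∈ R` such that over every `R`-algebra `R₁ ⊆ A` containing `T` the module `R₁[y] ⊗ M` has a flat
finitely presented quotient `R₁[y]^r/(g1)` whose kernel is killed by `c`. -/
theorem stage : ∃ (T : Finset A) (c : R), c ≠ 0 ∧
    ∀ (R₁ : Type u) [CommRing R₁] [Algebra R R₁] (j : R₁ →ₐ[R] A), Injective j →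
      (↑T : Set A) ⊆ Set.range j →
      ∃ (m : ℕ) (g1 : Fin m → Fin r → MvPolynomial (Fin n) R₁)
        (hker : ∀ l ∈ LinearMap.ker f, mapVec (algebraMap R R₁) l ∈ Kspan g1),
        Module.Flat R₁ ((Fin r → MvPolynomial (Fin n) R₁) ⧸ Kspan g1) ∧
        ∀ x : MvPolynomial (Fin n) R₁ ⊗[MvPolynomial (Fin n) R] M, psi f hf g1 hker x = 0 →
          (C (algebraMap R R₁ c) : MvPolynomial (Fin n) R₁) • x = 0 := by
  classical
  obtain ⟨m, g, hg, hflatA, cc, hcc, hrel⟩ := partI (LinearMap.ker f) A hfrac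
  haveI := hflatA
  obtain ⟨S₂, g₂, hS₂fg, hg₂, hflat₂⟩ := partII g
  obtain ⟨t₂, ht₂fin, ht₂⟩ := Subalgebra.fg_def.mp hS₂fg
  choose N a l hl hal using hrel
  refine ⟨ht₂fin.toFinset ∪ Finset.univ.biUnion (fun i =>
    (Finset.univ : Finset (Fin (N i))).biUnion (fun k => (a i k).coeffs)), ∏ i, cc i,
    Finset.prod_ne_zero_iff.mpr (fun i _ => hcc i), ?_⟩
  intro R₁ _ _ j hj hT
  haveI : IsDomain R₁ := hj.isDomain (j : R₁ →+* A)
  have hjR : ∀ x : R, j (algebraMap R R₁ x) = algebraMap R A x := fun x => j.commutes x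
  have hcomp : ((j : R₁ →+* A)).comp (algebraMap R R₁) = algebraMap R A := RingHom.ext hjR
  have hT1 : t₂ ⊆ Set.range j := by
    intro x hx
    apply hT
    rw [Finset.coe_union]
    exact Or.inl (by simpa using hx)
  have hT2 : ∀ i (k : Fin (N i)), ((a i k).coeffs : Set A) ⊆ Set.range j := by
    intro i k x hx
    apply hT
    rw [Finset.coe_union]
    refine Or.inr ?_
    simp only [Finset.coe_biUnion, Finset.coe_univ, Set.mem_univ, Set.iUnion_true, Set.mem_iUnion]
    exact ⟨i, k, hx⟩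
  have hS : (S₂ : Set A) ⊆ Set.range j := by
    have : S₂ ≤ subalgebraOfSubring (j : R₁ →+* A).range := by
      rw [← ht₂]
      apply Algebra.adjoin_le
      intro x hx
      obtain ⟨y, rfl⟩ := hT1 hx
      exact ⟨y, rfl⟩
    intro x hx
    obtain ⟨y, hy⟩ := this hx
    exact ⟨y, hy⟩
  obtain ⟨lam, hlam⟩ := exists_lift_sub (j : R₁ →+* A) hj S₂ hS
  have hcomp2 : ((j : R₁ →+* A)).comp lam = inc S₂ := RingHom.ext hlam
  let g1 : Fin m → Fin r → MvPolynomial (Fin n) R₁ := fun i => mapVec lam (g₂ i)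
  have hg1 : ∀ i, mapVec (j : R₁ →+* A) (g1 i) = g i := by
    intro i
    change mapVec (j : R₁ →+* A) (mapVec lam (g₂ i)) = g i
    rw [mapVec_mapVec, hcomp2]
    exact hg₂ i
  haveI hflat1 : Module.Flat R₁ ((Fin r → MvPolynomial (Fin n) R₁) ⧸ Kspan g1) := by
    letI : Algebra ↥S₂ R₁ := lam.toAlgebra
    exact flat_pres_of_flat (R₀ := ↥S₂) (R₁ := R₁) g₂
  have hker : ∀ l ∈ LinearMap.ker f, mapVec (algebraMap R R₁) l ∈ Kspan g1 := by
    intro l hl
    apply mem_Kspan_of_map hfrac hinjA j hj g g1 hg1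
    rw [mapVec_mapVec, hcomp, hg]
    exact ext_le_sat (mapVec_mem_ext l hl)
  refine ⟨m, g1, hker, hflat1, ?_⟩
  apply smul_eq_zero_of_psi_eq_zero f hf g1 hker cc
  intro i
  have hlift : ∀ k : Fin (N i), ∃ a1 : MvPolynomial (Fin n) R₁,
      MvPolynomial.map (j : R₁ →+* A) a1 = a i k := by
    intro k
    have : a i k ∈ Set.range (MvPolynomial.map (j : R₁ →+* A)) := by
      rw [MvPolynomial.mem_range_map_iff_coeffs_subset]
      exact hT2 i k
    exact this
  choose a1 ha1 using hlift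
  refine ⟨N i, a1, l i, hl i, ?_⟩
  apply mapVec_injective j hj
  rw [mapVec_sum, mapVec_smul, hg1 i, MvPolynomial.map_C]
  have e0 : ((j : R₁ →+* A)) (algebraMap R R₁ (cc i)) = algebraMap R A (cc i) := hjR _
  rw [e0, ← hal i]
  refine Finset.sum_congr rfl (fun k _ => ?_)
  rw [mapVec_smul, ha1 k, mapVec_mapVec, hcomp]

end Stage

end Groth.Agent.Lib.Helper9.RGV
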