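import Mathlib
import Groth.Prelude.Def_FlatCA
import Groth.Agent.Lib.Helper9.RGV2

set_option autoImplicit false
set_option linter.style.haveILetI false
set_option linter.unusedSectionVars false
set_option linter.unusedVariables false
universe u

namespace Groth.Agent.Lib.Helper9.RGV
open Function MvPolynomial TensorProduct Groth.Agent.Lib.Helper18.Fl Groth.Agent.Lib27.BCPres

attribute [local instance] MvPolynomial.algebraMvPolynomial

section PowTorsion

theorem mem_powTorsion {S : Type u} [CommRing S] (s : S) {M : Type u} [AddCommGroup M] [Module S M]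
    (x : M) : x ∈ FlatCA.powTorsion S s M ↔ ∃ k : ℕ, s ^ k • x = 0 := by
  rw [FlatCA.powTorsion, Submodule.mem_iSup_of_directed]
  · simp only [Submodule.mem_torsionBy_iff]
  · apply Monotone.directed_le
    intro i k hik y hy
    rw [Submodule.mem_torsionBy_iff] at hy ⊢
    obtain ⟨d, rfl⟩ := Nat.exists_eq_add_of_le hik
    rw [pow_add, mul_comm, mul_smul, hy, smul_zero]

end PowTorsion

section Aux

theorem ker_iff_aux {S : Type*} [CommRing S] [IsDomain S] {X Y : Type*} [AddCommGroup X] [Module S X]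
    [AddCommGroup Y] [Module S Y] (ψ : X →ₗ[S] Y)
    (hY : ∀ s : S, s ≠ 0 → ∀ y : Y, s • y = 0 → y = 0) (c a : S) (hca : c ∣ a) (ha : a ≠ 0)
    (hkill : ∀ x, ψ x = 0 → c • x = 0) (x : X) : ψ x = 0 ↔ ∃ k : ℕ, a ^ k • x = 0 := by
  constructor
  · intro hx
    refine ⟨1, ?_⟩
    obtain ⟨d, rfl⟩ := hca
    rw [pow_one, mul_comm, mul_smul, hkill x hx, smul_zero]
  · rintro ⟨k, hk⟩
    apply hY (a ^ k) (pow_ne_zero _ ha)
    rw [← map_smul, hk, map_zero]

end Aux

section MPart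

variable {R : Type u} [CommRing R] [IsDomain R] {n r m : ℕ}
  {R₁ : Type u} [CommRing R₁] [IsDomain R₁] [Algebra R R₁] (hinj1 : Injective (algebraMap R R₁))
  {M : Type u} [AddCommGroup M] [Module (MvPolynomial (Fin n) R) M]
  (f : (Fin r → MvPolynomial (Fin n) R) →ₗ[MvPolynomial (Fin n) R] M) (hf : Surjective f)
  (g1 : Fin m → Fin r → MvPolynomial (Fin n) R₁)
  (hker : ∀ l ∈ LinearMap.ker f, mapVec (algebraMap R R₁) l ∈ Kspan g1)
  [hflat : Module.Flat R₁ ((Fin r → MvPolynomial (Fin n) R₁) ⧸ Kspan g1)]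
  (c a : R) (ha : a ≠ 0) (hca : c ∣ a)
  (hkill : ∀ x : MvPolynomial (Fin n) R₁ ⊗[MvPolynomial (Fin n) R] M, psi f hf g1 hker x = 0 →
    (C (algebraMap R R₁ c) : MvPolynomial (Fin n) R₁) • x = 0)

include hinj1 ha hca hkill hflat in
theorem psi_eq_zero_iff (x : MvPolynomial (Fin n) R₁ ⊗[MvPolynomial (Fin n) R] M) :
    psi f hf g1 hker x = 0 ↔ ∃ k : ℕ, (algebraMap R R₁ a) ^ k • x = 0 := by
  refine ker_iff_aux (S := R₁) (X := MvPolynomial (Fin n) R₁ ⊗[MvPolynomial (Fin n) R] M)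
    ((psi f hf g1 hker).restrictScalars R₁)
    (fun s hs y h => Groth.Agent.Lib.Helper9.ValSat.eq_zero_of_smul_eq_zero s hs y h)
    (algebraMap R R₁ c) (algebraMap R R₁ a) (map_dvd _ hca)
    (fun h0 => ha (hinj1 (by rw [h0, map_zero]))) ?_ x
  intro x hx
  have h1 := hkill x hx
  exact (algebraMap_smul (MvPolynomial (Fin n) R₁) (algebraMap R R₁ c) x).symm.trans h1

include hinj1 ha hca hkill hflat in
/-- the strict transform of `M` over `R₁` is flat. -/
theorem flat_strict_mod [Module R M] [IsScalarTower R (MvPolynomial (Fin n) R) M] :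
    Module.Flat R₁ ((R₁ ⊗[R] M) ⧸ FlatCA.powTorsion R₁ (algebraMap R R₁ a) (R₁ ⊗[R] M)) := by
  let e : (MvPolynomial (Fin n) R₁ ⊗[MvPolynomial (Fin n) R] M) ≃ₗ[R₁] R₁ ⊗[R] M :=
    Algebra.IsPushout.cancelBaseChange R R₁ (MvPolynomial (Fin n) R) (MvPolynomial (Fin n) R₁) M
  let φ : R₁ ⊗[R] M →ₗ[R₁] ((Fin r → MvPolynomial (Fin n) R₁) ⧸ Kspan g1) :=
    ((psi f hf g1 hker).restrictScalars R₁) ∘ₗ e.symm.toLinearMap
  have hφsurj : Surjective φ := by
    intro y
    obtain ⟨x, hx⟩ := psi_surjective f hf g1 hker y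
    exact ⟨e x, by
      change psi f hf g1 hker (e.symm (e x)) = y
      rw [e.symm_apply_apply, hx]⟩
  have hkerφ : LinearMap.ker φ = FlatCA.powTorsion R₁ (algebraMap R R₁ a) (R₁ ⊗[R] M) := by
    ext x
    rw [LinearMap.mem_ker, mem_powTorsion]
    change psi f hf g1 hker (e.symm x) = 0 ↔ _
    rw [psi_eq_zero_iff hinj1 f hf g1 hker c a ha hca hkill]
    refine exists_congr (fun k => ?_)
    rw [← map_smul, LinearEquiv.map_eq_zero_iff]
  exact Module.Flat.of_linearEquiv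
    ((Submodule.quotEquivOfEq _ _ hkerφ.symm).trans (φ.quotKerEquivOfSurjective hφsurj))

end MPart

end Groth.Agent.Lib.Helper9.RGV
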