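import Mathlib
import Groth.Agent.Lib.Helper9.RGV3

set_option autoImplicit false
set_option linter.style.haveILetI false
set_option linter.unusedSectionVars false
set_option linter.unusedVariables false
universe u

namespace Groth.Agent.Lib.Helper9.RGV
open Function MvPolynomial TensorProduct Groth.Agent.Lib.Helper18.Fl Groth.Agent.Lib27.BCPres

attribute [local instance] MvPolynomial.algebraMvPolynomial

section SPartA

variable {R : Type u} [CommRing R] {R₁ : Type u} [CommRing R₁] [Algebra R R₁]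
  {S : Type u} [CommRing S] [Algebra R S] (a : R)

theorem powTorsion_restrictScalars :
    (FlatCA.powTorsion (R₁ ⊗[R] S) (algebraMap R (R₁ ⊗[R] S) a) (R₁ ⊗[R] S)).restrictScalars R₁ =
      FlatCA.powTorsion R₁ (algebraMap R R₁ a) (R₁ ⊗[R] S) := by
  ext x
  rw [Submodule.restrictScalars_mem, mem_powTorsion, mem_powTorsion]
  refine exists_congr (fun k => ?_)
  rw [smul_eq_mul, Algebra.smul_def, map_pow, ← IsScalarTower.algebraMap_apply]

/-- flatness of the ring-theoretic strict transform from the module-theoretic one. -/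
theorem flat_strict_ring
    (h : Module.Flat R₁ ((R₁ ⊗[R] S) ⧸ FlatCA.powTorsion R₁ (algebraMap R R₁ a) (R₁ ⊗[R] S))) :
    Module.Flat R₁ ((R₁ ⊗[R] S) ⧸
      FlatCA.powTorsion (R₁ ⊗[R] S) (algebraMap R (R₁ ⊗[R] S) a) (R₁ ⊗[R] S)) := by
  have e1 := Submodule.Quotient.restrictScalarsEquiv R₁
    (FlatCA.powTorsion (R₁ ⊗[R] S) (algebraMap R (R₁ ⊗[R] S) a) (R₁ ⊗[R] S))
  have e2 := Submodule.quotEquivOfEq _ _ (powTorsion_restrictScalars (R₁ := R₁) (S := S) a)
  exact Module.Flat.of_linearEquiv (e1.symm.trans e2)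

end SPartA

section SPartB

variable {R : Type u} [CommRing R] [IsDomain R] {n m : ℕ}
  {R₁ : Type u} [CommRing R₁] [IsDomain R₁] [Algebra R R₁] (hinj1 : Injective (algebraMap R R₁))
  {S : Type u} [CommRing S] [Algebra R S] [Algebra (MvPolynomial (Fin n) R) S]
  [IsScalarTower R (MvPolynomial (Fin n) R) S]
  (hS : Surjective (algebraMap (MvPolynomial (Fin n) R) S))

variable (n S) in
/-- the presentation `R[y]^1 → S`. -/
noncomputable def f0 : (Fin 1 → MvPolynomial (Fin n) R) →ₗ[MvPolynomial (Fin n) R] S :=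
  (Algebra.linearMap (MvPolynomial (Fin n) R) S) ∘ₗ (LinearMap.proj (0 : Fin 1))

include hS in
theorem f0_surjective : Surjective (f0 (R := R) n S) := by
  intro s
  obtain ⟨p, rfl⟩ := hS s
  exact ⟨fun _ => p, rfl⟩

variable (g1 : Fin m → Fin 1 → MvPolynomial (Fin n) R₁)
  (hker : ∀ l ∈ LinearMap.ker (f0 (R := R) n S), mapVec (algebraMap R R₁) l ∈ Kspan g1)
  [hflat : Module.Flat R₁ ((Fin 1 → MvPolynomial (Fin n) R₁) ⧸ Kspan g1)]
  (c a : R) (ha : a ≠ 0) (hca : c ∣ a)
  (hkill : ∀ x : MvPolynomial (Fin n) R₁ ⊗[MvPolynomial (Fin n) R] S,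
    psi (f0 n S) (f0_surjective hS) g1 hker x = 0 →
    (C (algebraMap R R₁ c) : MvPolynomial (Fin n) R₁) • x = 0)

theorem psi_tmul_one (q : MvPolynomial (Fin n) R₁) :
    psi (f0 n S) (f0_surjective hS) g1 hker (q ⊗ₜ[MvPolynomial (Fin n) R] (1 : S)) =
      Submodule.Quotient.mk (fun _ => q) := by
  have h1 : (1 : S) = f0 (R := R) n S (Pi.single 0 1) := by
    simp [f0]
  rw [h1, psi_tmul, mapVec_single, map_one, ← Submodule.Quotient.mk_smul]
  congr 1
  funext i
  rw [Fin.eq_zero i]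
  simp

theorem mem_Kspan_const_iff (q : MvPolynomial (Fin n) R₁) :
    (fun _ => q) ∈ Kspan g1 ↔ q ∈ Ideal.span (Set.range fun i => g1 i 0) := by
  let ε : (Fin 1 → MvPolynomial (Fin n) R₁) ≃ₗ[MvPolynomial (Fin n) R₁] MvPolynomial (Fin n) R₁ :=
    LinearEquiv.funUnique (Fin 1) (MvPolynomial (Fin n) R₁) (MvPolynomial (Fin n) R₁)
  have h1 : (Kspan g1).map (ε : (Fin 1 → MvPolynomial (Fin n) R₁) →ₗ[MvPolynomial (Fin n) R₁]
      MvPolynomial (Fin n) R₁) = Ideal.span (Set.range fun i => g1 i 0) := by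
    rw [Submodule.map_span, ← Set.range_comp]
    rfl
  rw [← h1]
  constructor
  · intro h
    exact ⟨_, h, rfl⟩
  · rintro ⟨v, hv, hvq⟩
    have : v = fun _ => q := by
      funext i
      rw [Fin.eq_zero i]
      exact hvq
    rw [← this]
    exact hv

include hinj1 ha hca hkill hflat in
/-- the strict transform of `S` over `R₁` is a finitely presented `R₁`-algebra. -/
theorem fp_strict_ring :
    Algebra.FinitePresentation R₁ ((R₁ ⊗[R] S) ⧸
      FlatCA.powTorsion (R₁ ⊗[R] S) (algebraMap R (R₁ ⊗[R] S) a) (R₁ ⊗[R] S)) := by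
  classical
  let I : Ideal (R₁ ⊗[R] S) :=
    FlatCA.powTorsion (R₁ ⊗[R] S) (algebraMap R (R₁ ⊗[R] S) a) (R₁ ⊗[R] S)
  let Φ₀ : MvPolynomial (Fin n) R₁ →ₐ[R₁] (R₁ ⊗[R] S) :=
    MvPolynomial.aeval (fun i => (1 : R₁) ⊗ₜ[R] algebraMap (MvPolynomial (Fin n) R) S (X i))
  let eAlg : (MvPolynomial (Fin n) R₁ ⊗[MvPolynomial (Fin n) R] S) ≃ₐ[R₁] R₁ ⊗[R] S :=
    Algebra.IsPushout.cancelBaseChangeAlg R R₁ (MvPolynomial (Fin n) R) (MvPolynomial (Fin n) R₁) S
  have h1 : ∀ q, eAlg.symm (Φ₀ q) = q ⊗ₜ[MvPolynomial (Fin n) R] (1 : S) := by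
    have : (eAlg.symm : (R₁ ⊗[R] S) →ₐ[R₁] _).comp Φ₀ =
        (Algebra.TensorProduct.includeLeft : MvPolynomial (Fin n) R₁ →ₐ[R₁]
          MvPolynomial (Fin n) R₁ ⊗[MvPolynomial (Fin n) R] S) := by
      apply MvPolynomial.algHom_ext
      intro i
      rw [AlgHom.comp_apply, MvPolynomial.aeval_X, Algebra.TensorProduct.includeLeft_apply]
      change eAlg.symm _ = _
      rw [Algebra.IsPushout.cancelBaseChangeAlg_symm_tmul, map_one, Algebra.algebraMap_eq_smul_one,
        ← TensorProduct.smul_tmul, ← Algebra.algebraMap_eq_smul_one, MvPolynomial.algebraMap_def,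
        MvPolynomial.map_X]
    intro q
    exact congrArg (fun F => F q) this
  have h2 : ∀ x : MvPolynomial (Fin n) R₁ ⊗[MvPolynomial (Fin n) R] S,
      ∃ q : MvPolynomial (Fin n) R₁, x = q ⊗ₜ[MvPolynomial (Fin n) R] (1 : S) := by
    intro x
    induction x using TensorProduct.induction_on with
    | zero => exact ⟨0, (TensorProduct.zero_tmul _ _).symm⟩
    | tmul b s =>
      obtain ⟨p, rfl⟩ := hS s
      refine ⟨p • b, ?_⟩
      rw [Algebra.algebraMap_eq_smul_one, TensorProduct.smul_tmul]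
    | add x y hx hy =>
      obtain ⟨qx, rfl⟩ := hx
      obtain ⟨qy, rfl⟩ := hy
      exact ⟨qx + qy, (TensorProduct.add_tmul _ _ _).symm⟩
  have hΦsurj : Surjective Φ₀ := by
    intro x
    obtain ⟨q, hq⟩ := h2 (eAlg.symm x)
    refine ⟨q, ?_⟩
    apply eAlg.symm.injective
    rw [h1, hq]
  let Ψ : MvPolynomial (Fin n) R₁ →ₐ[R₁] ((R₁ ⊗[R] S) ⧸ I) := (Ideal.Quotient.mkₐ R₁ I).comp Φ₀
  have hΨsurj : Surjective Ψ := (Ideal.Quotient.mkₐ_surjective R₁ I).comp hΦsurj
  have hkerΨ : RingHom.ker Ψ.toRingHom = Ideal.span (Set.range fun i => g1 i 0) := by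
    ext q
    rw [RingHom.mem_ker]
    change Ideal.Quotient.mk I (Φ₀ q) = 0 ↔ _
    rw [Ideal.Quotient.eq_zero_iff_mem]
    change Φ₀ q ∈ FlatCA.powTorsion _ _ _ ↔ _
    rw [mem_powTorsion, ← mem_Kspan_const_iff, ← Submodule.Quotient.mk_eq_zero,
      ← psi_tmul_one hS g1 hker, psi_eq_zero_iff hinj1 _ _ g1 hker c a ha hca hkill]
    refine exists_congr (fun k => ?_)
    have e1 : (algebraMap R (R₁ ⊗[R] S) a) ^ k • Φ₀ q = (algebraMap R R₁ a) ^ k • Φ₀ q := by
      rw [smul_eq_mul, Algebra.smul_def, map_pow, ← IsScalarTower.algebraMap_apply]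
    constructor
    · intro h
      rw [e1] at h
      have h3 := congrArg eAlg.symm h
      rw [map_smul, h1, map_zero] at h3
      exact h3
    · intro h
      rw [e1]
      apply eAlg.symm.injective
      rw [map_smul, h1, map_zero]
      exact h
  have hfg : (RingHom.ker Ψ.toRingHom).FG := by
    rw [hkerΨ]
    exact Submodule.fg_span (Set.finite_range _)
  exact Algebra.FinitePresentation.of_surjective hΨsurj hfg

end SPartB

end Groth.Agent.Lib.Helper9.RGV
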