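import Mathlib
import Groth.Prelude.Def_BlowUp2
import Groth.Agent.Lib.Helper9.RGV4

set_option autoImplicit false
set_option linter.style.haveILetI false
set_option linter.unusedSectionVars false
set_option linter.unusedVariables false
universe u

namespace Groth.Agent.Lib.Helper9.RGV
open Function MvPolynomial TensorProduct Groth.Agent.Lib.Helper18.Fl Groth.Agent.Lib27.BCPres

section Embed

variable {R K : Type u} [CommRing R] [IsDomain R] [Field K] [Algebra R K] [IsFractionRing R K]
  {A : Type u} [CommRing A] [Algebra A K] [Algebra R A] [IsScalarTower R A K]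
  (hAK : Injective (algebraMap A K))
  (I : Ideal R) (a : R) (ha : a ≠ 0)
  (hI : ∀ x ∈ I, ∃ y : A, algebraMap A K y * algebraMap R K a = algebraMap R K x)

include hAK ha hI in
theorem exists_embed : ∃ j₀ : ↥(BlowUp.affineAlgebra R I a) →ₐ[R] A, Injective j₀ ∧
    ∀ x ∈ I, ∀ y : A, algebraMap A K y * algebraMap R K a = algebraMap R K x → ∃ z, j₀ z = y := by
  have haK : algebraMap R K a ≠ 0 := fun h =>
    ha ((injective_iff_map_eq_zero _).mp (IsFractionRing.injective R K) a h)
  have hunit : ∀ y : Submonoid.powers a, IsUnit ((Algebra.ofId R K) y) := by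
    rintro ⟨_, k, rfl⟩
    change IsUnit (algebraMap R K (a ^ k))
    rw [map_pow]
    exact (IsUnit.mk0 _ haK).pow k
  let L : Localization.Away a →ₐ[R] K :=
    IsLocalization.liftAlgHom (M := Submonoid.powers a) (f := Algebra.ofId R K) hunit
  have hLmk : ∀ (x : R) (s : Submonoid.powers a),
      L (IsLocalization.mk' (Localization.Away a) x s) * algebraMap R K s = algebraMap R K x := by
    intro x s
    have : L (IsLocalization.mk' (Localization.Away a) x s) =
        IsLocalization.lift hunit (IsLocalization.mk' (Localization.Away a) x s) := rfl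
    rw [this, mul_comm]
    exact ((IsLocalization.lift_mk'_spec (hg := hunit) x _ s).mp rfl).symm
  have hLinj : Injective L := by
    rw [injective_iff_map_eq_zero]
    intro z hz
    obtain ⟨x, s, rfl⟩ := IsLocalization.exists_mk'_eq (Submonoid.powers a) z
    have h1 := hLmk x s
    rw [hz, zero_mul] at h1
    have hx : x = 0 := (injective_iff_map_eq_zero _).mp (IsFractionRing.injective R K) x h1.symm
    rw [hx, IsLocalization.mk'_zero]
  let AK : Subalgebra R K := (IsScalarTower.toAlgHom R A K).range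
  have hrange : ∀ z : ↥(BlowUp.affineAlgebra R I a), L z.1 ∈ AK := by
    rintro ⟨w, hw⟩
    change L w ∈ AK
    refine Algebra.adjoin_induction (p := fun w _ => L w ∈ AK) ?_ ?_ ?_ ?_ hw
    · rintro _ ⟨x, hx, rfl⟩
      obtain ⟨y, hy⟩ := hI x hx
      have h1 := hLmk x ⟨a, Submonoid.mem_powers a⟩
      refine ⟨y, ?_⟩
      change algebraMap A K y = _
      exact mul_right_cancel₀ haK (hy.trans h1.symm)
    · intro r
      rw [L.commutes]
      exact ⟨algebraMap R A r, (IsScalarTower.algebraMap_apply R A K r).symm⟩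
    · intro x y _ _ hx hy
      rw [map_add]; exact AK.add_mem hx hy
    · intro x y _ _ hx hy
      rw [map_mul]; exact AK.mul_mem hx hy
  let eA : A ≃ₐ[R] AK := AlgEquiv.ofInjective (IsScalarTower.toAlgHom R A K) hAK
  let lam : ↥(BlowUp.affineAlgebra R I a) →ₐ[R] AK :=
    (L.comp (BlowUp.affineAlgebra R I a).val).codRestrict AK hrange
  let j₀ : ↥(BlowUp.affineAlgebra R I a) →ₐ[R] A := (eA.symm : AK →ₐ[R] A).comp lam
  have hj₀ : ∀ z, algebraMap A K (j₀ z) = L z.1 := by
    intro z
    have h1 : eA (eA.symm (lam z)) = lam z := eA.apply_symm_apply _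
    have h2 : ((eA (eA.symm (lam z)) : AK) : K) = algebraMap A K (eA.symm (lam z)) := rfl
    have h3 : ((lam z : AK) : K) = L z.1 := rfl
    change algebraMap A K (eA.symm (lam z)) = _
    rw [← h2, h1, h3]
  refine ⟨j₀, ?_, ?_⟩
  · intro z w hzw
    apply Subtype.ext
    apply hLinj
    rw [← hj₀, ← hj₀, hzw]
  · intro x hx y hy
    refine ⟨⟨IsLocalization.mk' (Localization.Away a) x ⟨a, Submonoid.mem_powers a⟩,
      Algebra.subset_adjoin ⟨x, hx, rfl⟩⟩, ?_⟩
    apply hAK
    rw [hj₀]
    have h1 := hLmk x ⟨a, Submonoid.mem_powers a⟩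
    exact mul_right_cancel₀ haK (h1.trans hy.symm)

end Embed

section Choose

variable {R K : Type u} [CommRing R] [IsDomain R] [IsLocalRing R] [Field K] [Algebra R K]
  {A : Type u} [CommRing A] [Algebra A K] [Algebra R A] [IsScalarTower R A K]
  (hfrac' : ∀ t : A, ∃ s u : R, s ≠ 0 ∧ algebraMap R A s * t = algebraMap R A u)
  (hm : IsLocalRing.maximalIdeal R ≠ ⊥)

include hfrac' hm in
theorem exists_ideal (T : Finset A) (c : R) (hc : c ≠ 0) :
    ∃ (I : Ideal R) (a : R), I.FG ∧ I ≤ IsLocalRing.maximalIdeal R ∧ a ∈ I ∧ a ≠ 0 ∧ c ∣ a ∧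
      (∀ x ∈ I, ∃ y : A, algebraMap A K y * algebraMap R K a = algebraMap R K x) ∧
      (∀ t ∈ T, ∃ x ∈ I, algebraMap A K t * algebraMap R K a = algebraMap R K x) := by
  classical
  choose sf uf hsf hsu using hfrac'
  obtain ⟨μ, hμm, hμ0⟩ := Submodule.exists_mem_ne_zero_of_ne_bot hm
  set s : R := ∏ t ∈ T, sf t with hs
  have hs0 : s ≠ 0 := Finset.prod_ne_zero_iff.mpr (fun t _ => hsf t)
  let u' : A → R := fun t => (∏ t' ∈ T.erase t, sf t') * uf t
  have hu' : ∀ t ∈ T, algebraMap R A s * t = algebraMap R A (u' t) := by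
    intro t ht
    rw [hs, ← Finset.mul_prod_erase T sf ht, map_mul, map_mul, ← hsu t]
    ring
  have hu'K : ∀ t ∈ T, algebraMap R K s * algebraMap A K t = algebraMap R K (u' t) := by
    intro t ht
    rw [IsScalarTower.algebraMap_apply R A K, IsScalarTower.algebraMap_apply R A K, ← map_mul,
      hu' t ht]
  set a : R := s * c * μ with ha
  have ha0 : a ≠ 0 := mul_ne_zero (mul_ne_zero hs0 hc) hμ0
  set G : Finset R := insert a (T.image (fun t => u' t * c * μ)) with hG
  refine ⟨Ideal.span (↑G : Set R), a, ⟨G, rfl⟩, ?_, ?_, ha0, ⟨s * μ, by rw [ha]; ring⟩, ?_, ?_⟩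
  · rw [Ideal.span_le]
    intro x hx
    rw [hG, Finset.coe_insert, Finset.coe_image] at hx
    rcases hx with rfl | ⟨t, _, rfl⟩
    · exact Ideal.mul_mem_left _ _ hμm
    · exact Ideal.mul_mem_left _ _ hμm
  · exact Ideal.subset_span (by rw [hG]; exact Finset.mem_coe.mpr (Finset.mem_insert_self _ _))
  · intro x hx
    refine Submodule.span_induction (p := fun x _ => ∃ y : A,
      algebraMap A K y * algebraMap R K a = algebraMap R K x) ?_ ?_ ?_ ?_ hx
    · intro x hx
      rw [hG, Finset.coe_insert, Finset.coe_image] at hx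
      rcases hx with rfl | ⟨t, ht, rfl⟩
      · exact ⟨1, by rw [map_one, one_mul]⟩
      · refine ⟨t, ?_⟩
        rw [ha, map_mul, map_mul, map_mul, map_mul, ← hu'K t ht]
        ring
    · exact ⟨0, by rw [map_zero, zero_mul, map_zero]⟩
    · rintro x y _ _ ⟨y₁, h₁⟩ ⟨y₂, h₂⟩
      exact ⟨y₁ + y₂, by rw [map_add, add_mul, h₁, h₂, map_add]⟩
    · rintro r x _ ⟨y, hy⟩
      refine ⟨algebraMap R A r * y, ?_⟩
      rw [map_mul, ← IsScalarTower.algebraMap_apply, mul_assoc, hy, smul_eq_mul, map_mul]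
  · intro t ht
    refine ⟨u' t * c * μ, Ideal.subset_span ?_, ?_⟩
    · rw [hG]
      exact Finset.mem_coe.mpr (Finset.mem_insert_of_mem (Finset.mem_image_of_mem _ ht))
    · rw [ha, map_mul, map_mul, map_mul, map_mul, ← hu'K t ht]
      ring

end Choose

end Groth.Agent.Lib.Helper9.RGV
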