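import Mathlib
import Groth.Agent.Lib.Helper9.RGV5

set_option autoImplicit false
set_option linter.style.haveILetI false
set_option linter.unusedSectionVars false
set_option linter.unusedVariables false
universe u

namespace Groth.Agent.Lib.Helper9.RGV
open Function MvPolynomial TensorProduct Groth.Agent.Lib.Helper18.Fl Groth.Agent.Lib27.BCPres

/-- **Raynaud–Gruson flattening along a valuation ring** (Stacks 0535-type). -/
theorem main (R K : Type u) [CommRing R] [IsDomain R] [IsLocalRing R] [Field K]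
    [Algebra R K] [IsFractionRing R K] (S : Type u) [CommRing S] [Algebra R S]
    [Algebra.FiniteType R S] (M : Type u)
    [AddCommGroup M] [Module S M] [Module R M] [IsScalarTower R S M] [Module.Finite S M]
    (A : Type u) [CommRing A] [IsDomain A] [ValuationRing A] [Algebra A K] [IsFractionRing A K]
    [Algebra R A] [IsScalarTower R A K] [IsLocalHom (algebraMap R A)]
    (hm : IsLocalRing.maximalIdeal R ≠ ⊥) :
    ∃ (I : Ideal R) (a : R), I.FG ∧ I ≤ IsLocalRing.maximalIdeal R ∧ a ∈ I ∧ a ≠ 0 ∧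
      (∀ x ∈ I, ∃ y : A, algebraMap A K y * algebraMap R K a = algebraMap R K x) ∧
      ∀ (R₁ : Type u) [CommRing R₁] [Algebra R R₁] (e : R₁ ≃ₐ[R] ↥(BlowUp.affineAlgebra R I a)),
        (IsLocalRing.maximalIdeal R).map (algebraMap R R₁) ≠ ⊤ ∧
        Module.Flat R₁ ((R₁ ⊗[R] S) ⧸
          FlatCA.powTorsion (R₁ ⊗[R] S) (algebraMap R (R₁ ⊗[R] S) a) (R₁ ⊗[R] S)) ∧
        Algebra.FinitePresentation R₁
          ((R₁ ⊗[R] S) ⧸
            FlatCA.powTorsion (R₁ ⊗[R] S) (algebraMap R (R₁ ⊗[R] S) a) (R₁ ⊗[R] S)) ∧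
        Module.Flat R₁ ((R₁ ⊗[R] M) ⧸ FlatCA.powTorsion R₁ (algebraMap R R₁ a) (R₁ ⊗[R] M)) := by
  classical
  have hAK : Injective (algebraMap A K) := IsFractionRing.injective A K
  have hRK : Injective (algebraMap R K) := IsFractionRing.injective R K
  have hinjA : Injective (algebraMap R A) := by
    intro x y h
    apply hRK
    rw [IsScalarTower.algebraMap_apply R A K, h, ← IsScalarTower.algebraMap_apply R A K]
  have hfrac' : ∀ t : A, ∃ s u : R, s ≠ 0 ∧ algebraMap R A s * t = algebraMap R A u := by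
    intro t
    obtain ⟨u, s, hs, hus⟩ := IsFractionRing.div_surjective (A := R) (algebraMap A K t)
    have hs0 : s ≠ 0 := nonZeroDivisors.ne_zero hs
    have hsK : algebraMap R K s ≠ 0 := fun h => hs0 (hRK (by rw [h, map_zero]))
    refine ⟨s, u, hs0, ?_⟩
    apply hAK
    rw [map_mul, ← IsScalarTower.algebraMap_apply, ← IsScalarTower.algebraMap_apply, ← hus,
      mul_div_cancel₀ _ hsK]
  have hfrac : ∀ a : A, a ≠ 0 →
      ∃ s u : R, s ≠ 0 ∧ u ≠ 0 ∧ algebraMap R A s * a = algebraMap R A u := by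
    intro t ht
    obtain ⟨s, u, hs, hsu⟩ := hfrac' t
    refine ⟨s, u, hs, ?_, hsu⟩
    rintro rfl
    rw [map_zero] at hsu
    rcases mul_eq_zero.mp hsu with h | h
    · exact hs (hinjA (by rw [h, map_zero]))
    · exact ht h
  obtain ⟨n, φS, hφS⟩ := Algebra.FiniteType.iff_quotient_mvPolynomial''.mp
    (inferInstance : Algebra.FiniteType R S)
  letI : Algebra (MvPolynomial (Fin n) R) S := φS.toRingHom.toAlgebra
  haveI : IsScalarTower R (MvPolynomial (Fin n) R) S :=
    IsScalarTower.of_algebraMap_eq (fun r => (φS.commutes r).symm)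
  have hS : Surjective (algebraMap (MvPolynomial (Fin n) R) S) := hφS
  letI : Module (MvPolynomial (Fin n) R) M :=
    Module.compHom M (algebraMap (MvPolynomial (Fin n) R) S)
  haveI : IsScalarTower (MvPolynomial (Fin n) R) S M := ⟨fun p s m => by
    change (p • s) • m = algebraMap (MvPolynomial (Fin n) R) S p • (s • m)
    rw [Algebra.smul_def, mul_smul]⟩
  haveI : IsScalarTower R (MvPolynomial (Fin n) R) M := ⟨fun r p m => by
    change algebraMap (MvPolynomial (Fin n) R) S (r • p) • m =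
      r • (algebraMap (MvPolynomial (Fin n) R) S p • m)
    rw [Algebra.smul_def, map_mul, ← IsScalarTower.algebraMap_apply, mul_smul, algebraMap_smul]⟩
  haveI : Module.Finite (MvPolynomial (Fin n) R) S :=
    Module.Finite.of_surjective (Algebra.linearMap (MvPolynomial (Fin n) R) S) hS
  haveI : Module.Finite (MvPolynomial (Fin n) R) M := Module.Finite.trans S M
  obtain ⟨r, fM, hfM⟩ := Module.Finite.exists_fin' (MvPolynomial (Fin n) R) M
  obtain ⟨T_S, c_S, hc_S, H_S⟩ := stage A hfrac hinjA (f0 n S) (f0_surjective hS)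
  obtain ⟨T_M, c_M, hc_M, H_M⟩ := stage A hfrac hinjA fM hfM
  obtain ⟨I, a, hIfg, hIm, haI, ha0, hca, hI, hT⟩ :=
    exists_ideal (K := K) hfrac' hm (T_S ∪ T_M) (c_S * c_M) (mul_ne_zero hc_S hc_M)
  refine ⟨I, a, hIfg, hIm, haI, ha0, hI, ?_⟩
  intro R₁ _ _ e
  obtain ⟨j₀, hj₀inj, hj₀surj⟩ := exists_embed hAK I a ha0 hI
  let j : R₁ →ₐ[R] A := j₀.comp e.toAlgHom
  have hj : Injective j := hj₀inj.comp e.injective
  have hTj : ∀ t ∈ T_S ∪ T_M, t ∈ Set.range j := by
    intro t ht
    obtain ⟨x, hx, hxt⟩ := hT t ht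
    obtain ⟨z, hz⟩ := hj₀surj x hx t hxt
    exact ⟨e.symm z, by
      change j₀ (e (e.symm z)) = t
      rw [e.apply_symm_apply, hz]⟩
  haveI : IsDomain R₁ := hj.isDomain (j : R₁ →+* A)
  have hinj1 : Injective (algebraMap R R₁) := algebraMap_injective₁ hinjA j
  obtain ⟨mS, gS, hkerS, hflatS, hkillS⟩ := H_S R₁ j hj (fun t ht =>
    hTj t (Finset.mem_union_left _ (Finset.mem_coe.mp ht)))
  obtain ⟨mM, gM, hkerM, hflatM, hkillM⟩ := H_M R₁ j hj (fun t ht =>
    hTj t (Finset.mem_union_right _ (Finset.mem_coe.mp ht)))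
  have hcS : c_S ∣ a := dvd_of_mul_right_dvd hca
  have hcM : c_M ∣ a := dvd_of_mul_left_dvd hca
  refine ⟨?_, ?_, ?_, ?_⟩
  · intro htop
    have h1 : (1 : R₁) ∈ (IsLocalRing.maximalIdeal R).map (algebraMap R R₁) := by
      rw [htop]; trivial
    have h2 : (j : R₁ →+* A) 1 ∈
        ((IsLocalRing.maximalIdeal R).map (algebraMap R R₁)).map (j : R₁ →+* A) :=
      Ideal.mem_map_of_mem _ h1
    rw [Ideal.map_map] at h2
    have hcomp : ((j : R₁ →+* A)).comp (algebraMap R R₁) = algebraMap R A :=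
      RingHom.ext (fun x => j.commutes x)
    rw [hcomp, map_one] at h2
    have h3 : (IsLocalRing.maximalIdeal R).map (algebraMap R A) ≤ IsLocalRing.maximalIdeal A :=
      ((IsLocalRing.local_hom_TFAE (algebraMap R A)).out 0 2).mp (inferInstance : IsLocalHom (algebraMap R A))
    exact (IsLocalRing.maximalIdeal.isMaximal A).ne_top ((Ideal.eq_top_iff_one _).mpr (h3 h2))
  · haveI := hflatS
    exact flat_strict_ring a
      (flat_strict_mod hinj1 (f0 n S) (f0_surjective hS) gS hkerS c_S a ha0 hcS hkillS)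
  · haveI := hflatS
    exact fp_strict_ring hinj1 hS gS hkerS c_S a ha0 hcS hkillS
  · haveI := hflatM
    exact flat_strict_mod hinj1 fM hfM gM hkerM c_M a ha0 hcM hkillM

end Groth.Agent.Lib.Helper9.RGV
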