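import Mathlib
import Groth.Agent.Lib.Helper18.FlatLocal
import Groth.Agent.Lib.Helper18.SerreReg2
import Groth.Agent.Lib.Helper18.RkFlat2

/-!
# Regularity at a rational point and extension of the base field (helper9)
-/

set_option autoImplicit false
set_option linter.unusedSectionVars false
universe u
open TensorProduct IsLocalRing
attribute [local instance] RingHom.ker_isPrime

namespace Groth.Agent.Lib.Helper9.RatPtReg

/-- a field is a regular local ring -/
theorem isRegularLocalRing_of_isField (F : Type u) [CommRing F] (hF : IsField F) :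
    IsRegularLocalRing F := by
  let := hF.toField
  apply IsRegularLocalRing.of_spanFinrank_maximalIdeal_le
  rw [IsLocalRing.maximalIdeal_eq_bot]
  have : (⊥ : Ideal F).spanFinrank = 0 := Submodule.spanFinrank_bot
  rw [this]
  exact_mod_cast (ringKrullDim_nonneg_of_nontrivial : 0 ≤ ringKrullDim F)

variable (k K A : Type u) [Field k] [Field K] [Algebra k K] [CommRing A] [Algebra k A]
  [IsLocalRing A] [IsNoetherianRing A] (π : A →ₐ[k] k)

/-- the induced map `K ⊗ A → K` -/
noncomputable abbrev phi : K ⊗[k] A →ₐ[K] K :=
  (Algebra.TensorProduct.rid k K K).toAlgHom.comp (Algebra.TensorProduct.map (AlgHom.id K K) π)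

theorem pi_surjective : Function.Surjective π := by
  intro c
  exact ⟨algebraMap k A c, by simp⟩

theorem ker_phi : RingHom.ker (phi k K A π) =
    (RingHom.ker π).map (Algebra.TensorProduct.includeRight : A →ₐ[k] K ⊗[k] A) := by
  rw [← Algebra.TensorProduct.lTensor_ker (A := K) π (pi_surjective k A π)]
  ext t
  rw [RingHom.mem_ker, RingHom.mem_ker]
  change (Algebra.TensorProduct.rid k K K) ((Algebra.TensorProduct.map (AlgHom.id K K) π) t) = 0 ↔
    (Algebra.TensorProduct.map (AlgHom.id k K) π) t = 0
  rw [map_eq_zero_iff _ (Algebra.TensorProduct.rid k K K).injective]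
  rfl


section main

attribute [local instance] Algebra.TensorProduct.rightAlgebra

theorem flat_tensor : Module.Flat A (K ⊗[k] A) :=
  Module.Flat.of_linearEquiv (Algebra.TensorProduct.commRight k A K).symm.toLinearEquiv

theorem comap_ker_phi (hπ : RingHom.ker π = maximalIdeal A) :
    (RingHom.ker (phi k K A π)).comap (algebraMap A (K ⊗[k] A)) = maximalIdeal A := by
  rw [← hπ]
  ext a
  rw [Ideal.mem_comap, RingHom.mem_ker, RingHom.mem_ker]
  change (Algebra.TensorProduct.rid k K K)
    ((Algebra.TensorProduct.map (AlgHom.id K K) π) ((1 : K) ⊗ₜ[k] a)) = 0 ↔ _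
  rw [Algebra.TensorProduct.map_tmul, Algebra.TensorProduct.rid_tmul, map_one]
  constructor
  · intro h
    by_contra hne
    have : (π a • (1 : K)) ≠ 0 := by
      rw [Algebra.smul_def, mul_one]
      exact (map_ne_zero_iff _ (algebraMap k K).injective).mpr hne
    exact this h
  · intro h
    rw [h, zero_smul]

variable [IsNoetherianRing (Localization.AtPrime (RingHom.ker (phi k K A π)))]

theorem flat_loc : Module.Flat A (Localization.AtPrime (RingHom.ker (phi k K A π))) := by
  have := flat_tensor k K A
  have : Module.Flat (K ⊗[k] A) (Localization.AtPrime (RingHom.ker (phi k K A π))) :=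
    IsLocalization.flat _ (RingHom.ker (phi k K A π)).primeCompl
  exact Module.Flat.trans A (K ⊗[k] A) _

theorem comap_maximalIdeal_loc (hπ : RingHom.ker π = maximalIdeal A) :
    (maximalIdeal (Localization.AtPrime (RingHom.ker (phi k K A π)))).comap
      (algebraMap A (Localization.AtPrime (RingHom.ker (phi k K A π)))) = maximalIdeal A := by
  have h1 : (maximalIdeal (Localization.AtPrime (RingHom.ker (phi k K A π)))).comap
      (algebraMap (K ⊗[k] A) (Localization.AtPrime (RingHom.ker (phi k K A π)))) =
      RingHom.ker (phi k K A π) := Localization.AtPrime.under_maximalIdeal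
  rw [IsScalarTower.algebraMap_eq A (K ⊗[k] A), ← Ideal.comap_comap, h1,
    comap_ker_phi k K A π hπ]

theorem map_maximalIdeal_loc (hπ : RingHom.ker π = maximalIdeal A) :
    (maximalIdeal A).map (algebraMap A (Localization.AtPrime (RingHom.ker (phi k K A π)))) =
      maximalIdeal (Localization.AtPrime (RingHom.ker (phi k K A π))) := by
  rw [IsScalarTower.algebraMap_eq A (K ⊗[k] A), ← Ideal.map_map, ← hπ]
  have h1 : (RingHom.ker π).map (algebraMap A (K ⊗[k] A)) = RingHom.ker (phi k K A π) :=
    (ker_phi k K A π).symm
  rw [h1, Localization.AtPrime.map_eq_maximalIdeal]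

/-- **regularity at a rational point is insensitive to extension of the base field** -/
theorem main (hπ : RingHom.ker π = maximalIdeal A) :
    IsRegularLocalRing A ↔
      IsRegularLocalRing (Localization.AtPrime (RingHom.ker (phi k K A π))) := by
  have hflat := flat_loc k K A π
  have hloc : IsLocalHom (algebraMap A (Localization.AtPrime (RingHom.ker (phi k K A π)))) :=
    ((IsLocalRing.local_hom_TFAE _).out 0 4).mpr (comap_maximalIdeal_loc k K A π hπ)
  constructor
  · intro hreg
    have hfib : IsRegularLocalRing (Localization.AtPrime (RingHom.ker (phi k K A π)) ⧸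
        (maximalIdeal A).map
          (algebraMap A (Localization.AtPrime (RingHom.ker (phi k K A π))))) := by
      refine Groth.Agent.Lib.Helper18.RkFlat.isRegularLocalRing_quot_of_eq
        (map_maximalIdeal_loc k K A π hπ).symm ?_
      exact isRegularLocalRing_of_isField _
        ((Ideal.Quotient.maximal_ideal_iff_isField_quotient _).mp inferInstance)
    exact Groth.Agent.Lib.Helper18.FlatLocal.isRegularLocalRing_of_flat_of_fibre A _
  · intro hreg
    exact Groth.Agent.Lib.Helper18.SerreReg.isRegularLocalRing_of_flat_of_isLocalHom A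
      (Localization.AtPrime (RingHom.ker (phi k K A π)))

end main

end Groth.Agent.Lib.Helper9.RatPtReg
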