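import Mathlib
import Groth.Agent.Lib.Helper29.QCohQcqsAss

set_option autoImplicit false
open CategoryTheory CategoryTheory.Limits AlgebraicGeometry
universe u

namespace Groth.Agent.Lib.Helper9.RedDec

open Groth.Agent.Lib.Helper29.QCoh

variable {X : Scheme.{u}}

/-- The functor of sections over `W`, valued in abelian groups. -/
noncomputable abbrev secFunctor (X : Scheme.{u}) (W : X.Opens) : X.Modules ⥤ Ab.{u} :=
  Scheme.Modules.toPresheaf X ⋙ (evaluation _ _).obj (Opposite.op W)

theorem secFunctor_map {M N : X.Modules} (φ : M ⟶ N) (W : X.Opens) :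
    (secFunctor X W).map φ = φ.app W := rfl

/-- A section of a product of modules all of whose components vanish is zero. -/
theorem pi_section_ext {ι : Type u} (G : ι → X.Modules) {W : X.Opens}
    (p : Γ(∏ᶜ G, W)) (hp : ∀ i, (Pi.π G i).app W p = 0) : p = 0 := by
  have h1 : PreservesLimit (Discrete.functor G) (Scheme.Modules.toPresheaf X) := inferInstance
  have h2' : PreservesLimitsOfShape (Discrete ι)
      ((evaluation (TopologicalSpace.Opens ↥X)ᵒᵖ Ab.{u}).obj (Opposite.op W)) := inferInstance
  have h2 : PreservesLimit (Discrete.functor G ⋙ Scheme.Modules.toPresheaf X)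
      ((evaluation (TopologicalSpace.Opens ↥X)ᵒᵖ Ab.{u}).obj (Opposite.op W)) :=
    h2'.preservesLimit
  have h3 : PreservesLimit (Discrete.functor G) (secFunctor X W) := comp_preservesLimit _ _
  have hlim := isLimitOfPreserves (secFunctor X W) (productIsProduct G)
  apply Concrete.isLimit_ext _ hlim
  rintro ⟨i⟩
  refine (hp i).trans ?_
  exact (map_zero _).symm

/-- A jointly monomorphic family of morphisms is jointly injective on sections. -/
theorem eq_zero_of_forall_app_eq_zero {ι : Type u} (M : X.Modules) (G : ι → X.Modules)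
    (q : ∀ i, M ⟶ G i)
    (hm : ∀ (T : X.Modules) (a b : T ⟶ M), (∀ i, a ≫ q i = b ≫ q i) → a = b)
    {W : X.Opens} (s : Γ(M, W)) (hs : ∀ i, (q i).app W s = 0) : s = 0 := by
  let π : M ⟶ ∏ᶜ G := Pi.lift q
  have hmono : Mono π := by
    refine ⟨fun {T} a b h => hm T a b fun i => ?_⟩
    have := congrArg (fun k => k ≫ Pi.π G i) h
    simpa [π, Category.assoc] using this
  have hπs : π.app W s = 0 := by
    apply pi_section_ext
    intro i
    have h1 : π ≫ Pi.π G i = q i := Pi.lift_π _ _
    have h2 : (π ≫ Pi.π G i).app W s = (q i).app W s := by rw [h1]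
    rw [← hs i, ← h2]
    rfl
  apply eq_zero_of_germ_eq_zero
  intro w hw
  apply (mono_iff_stalkMap_injective π).mp hmono w
  rw [stalkMap_germ, hπs, map_zero, map_zero]

end Groth.Agent.Lib.Helper9.RedDec
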