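import Mathlib
import Groth.Statements.S4683
import Groth.Agent.Lib.Helper9.RedDec1

set_option autoImplicit false
open CategoryTheory CategoryTheory.Limits AlgebraicGeometry
universe u

namespace Groth.Agent.Lib.Helper9.RedDec

open Groth.Agent.Lib.Helper29.QCoh

variable {X : Scheme.{u}}

/-- A section of a quasi-coherent module whose only possible associated point is `x` vanishes as
soon as its germ at `x` does. -/
theorem eq_zero_of_ass_subset (H : X.Modules) [H.IsQuasicoherent] (x : X)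
    (hA : ∀ z, Curv2.IsWeakAssPoint H z → z = x) {W : X.Opens} (t : Γ(H, W))
    (ht : ∀ hx : x ∈ W, H.presheaf.germ W x hx t = 0) : t = 0 := by
  apply eq_zero_of_germ_eq_zero
  intro w hw
  by_contra hne
  obtain ⟨V, hV, hwV, hVW⟩ := exists_isAffineOpen_mem_and_subset (x := w) (U := W) hw
  have hVW' : V ≤ W := hVW
  have h1 : H.presheaf.germ V w hwV (res H hVW' t) ≠ 0 := by rwa [germ_res]
  obtain ⟨z, hzV, -, hz, hzne⟩ := exists_isWeakAssPoint_specializes H hV _ w hwV h1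
  have := hA z hz
  subst this
  apply hzne
  rw [germ_res]
  exact ht (hVW' hzV)

theorem germ_eq_zero_of_app_eq_zero [IsLocallyNoetherian X] (M : X.Modules) (hM : Coh.IsCoh M)
    (hne : AssSch.NoEmbedded M)
    (G : ↥(AssSch.Ass M) → X.Modules) (q : ∀ y, M ⟶ G y)
    (hG : ∀ y, (G y).IsQuasicoherent) (hA : ∀ y, AssSch.Ass (G y) = {y.1})
    (hm : ∀ (T : X.Modules) (a b : T ⟶ M), (∀ y, a ≫ q y = b ≫ q y) → a = b)
    (x : ↥(AssSch.Ass M)) {W : X.Opens} (hxW : x.1 ∈ W) (m : Γ(M, W))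
    (hq : (q x).app W m = 0) : M.presheaf.germ W x.1 hxW m = 0 := by
  obtain ⟨hQ, hFT⟩ := hM
  have : M.IsQuasicoherent := hQ
  have : M.IsFiniteType := hFT
  obtain ⟨V, hV, hxV, hVW⟩ := exists_isAffineOpen_mem_and_subset (x := x.1) (U := W) hxW
  have hVW' : V ≤ W := hVW
  have hfin : {y : X | y ∈ V ∧ Curv2.IsWeakAssPoint M y}.Finite :=
    finite_isWeakAssPoint_of_isAffineOpen M hV
  let S : Set X := {y : X | y ∈ V ∧ Curv2.IsWeakAssPoint M y} \ {x.1}
  have hSfin : S.Finite := hfin.subset Set.sdiff_subset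
  let C : Set X := ⋃ y ∈ S, closure {y}
  have hC : IsClosed C := hSfin.isClosed_biUnion fun y _ => isClosed_closure
  have hxC : x.1 ∉ C := by
    intro hx
    obtain ⟨y, hyS, hxy⟩ := Set.mem_iUnion₂.mp hx
    have hspec : y ⤳ x.1 := specializes_iff_mem_closure.mpr hxy
    have hyA : y ∈ AssSch.Ass M := (isAssPoint_iff_isWeakAssPoint M y).mpr hyS.1.2
    exact hyS.2 (hne x.1 x.2 y hyA hspec).symm
  let V' : X.Opens := ⟨(V : Set X) ∩ Cᶜ, V.isOpen.inter hC.isOpen_compl⟩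
  have hxV' : x.1 ∈ V' := ⟨hxV, hxC⟩
  have hV'W : V' ≤ W := fun z hz => hVW' hz.1
  have hnot : ∀ y : ↥(AssSch.Ass M), y ≠ x → y.1 ∉ V' := by
    intro y hyx hy
    apply hy.2
    refine Set.mem_iUnion₂.mpr ⟨y.1, ⟨⟨hy.1, (isAssPoint_iff_isWeakAssPoint M y.1).mp y.2⟩, ?_⟩,
      subset_closure rfl⟩
    intro h
    exact hyx (Subtype.ext h)
  have hzero : res M hV'W m = 0 := by
    apply eq_zero_of_forall_app_eq_zero M G q hm
    intro y
    by_cases hyx : y = x
    · subst hyx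
      rw [app_res, hq, map_zero]
    · have := hG y
      apply eq_zero_of_ass_subset (G y) y.1
      · intro z hz
        have hz' : z ∈ AssSch.Ass (G y) := (isAssPoint_iff_isWeakAssPoint (G y) z).mpr hz
        rw [hA y] at hz'
        exact hz'
      · intro hy
        exact absurd hy (hnot y hyx)
  rw [← germ_res M hV'W x.1 hxV' m, hzero, map_zero]

theorem kernel_comp_eq_zero [IsLocallyNoetherian X] (M : X.Modules) (hM : Coh.IsCoh M)
    (hne : AssSch.NoEmbedded M)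
    (G : ↥(AssSch.Ass M) → X.Modules) (q : ∀ y, M ⟶ G y)
    (hG : ∀ y, (G y).IsQuasicoherent) (hA : ∀ y, AssSch.Ass (G y) = {y.1})
    (hm : ∀ (T : X.Modules) (a b : T ⟶ M), (∀ y, a ≫ q y = b ≫ q y) → a = b)
    (x : ↥(AssSch.Ass M)) (H : X.Modules) [H.IsQuasicoherent]
    (hH : ∀ z, Curv2.IsWeakAssPoint H z → z = x.1) (q' : M ⟶ H) :
    kernel.ι (q x) ≫ q' = 0 := by
  apply Scheme.Modules.hom_ext
  intro W
  ext n
  change q'.app W ((kernel.ι (q x)).app W n) = 0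
  apply eq_zero_of_ass_subset H x.1 hH
  intro hxW
  have hq : (q x).app W ((kernel.ι (q x)).app W n) = 0 := by
    have h1 : kernel.ι (q x) ≫ q x = 0 := kernel.condition _
    have h2 : (kernel.ι (q x) ≫ q x).app W n = (0 : kernel (q x) ⟶ G x).app W n := by rw [h1]
    exact h2
  rw [← stalkMap_germ, germ_eq_zero_of_app_eq_zero M hM hne G q hG hA hm x hxW _ hq, map_zero]

theorem main [IsLocallyNoetherian X] (M : X.Modules)
    (hM : Coh.IsCoh M) (hne : AssSch.NoEmbedded M)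
    (G G' : ↥(AssSch.Ass M) → X.Modules) (q : ∀ x, M ⟶ G x) (q' : ∀ x, M ⟶ G' x)
    (hq : ∀ x, Epi (q x)) (hq' : ∀ x, Epi (q' x)) (hG : ∀ x, Coh.IsCoh (G x))
    (hG' : ∀ x, Coh.IsCoh (G' x))
    (hA : ∀ x, AssSch.Ass (G x) = {x.1}) (hA' : ∀ x, AssSch.Ass (G' x) = {x.1})
    (hm : ∀ (T : X.Modules) (a b : T ⟶ M), (∀ x, a ≫ q x = b ≫ q x) → a = b)
    (hm' : ∀ (T : X.Modules) (a b : T ⟶ M), (∀ x, a ≫ q' x = b ≫ q' x) → a = b)
    (x : ↥(AssSch.Ass M)) :
    ∃ e : G x ≅ G' x, q x ≫ e.hom = q' x := by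
  have hGq : ∀ y, (G y).IsQuasicoherent := fun y => (hG y).1
  have hGq' : ∀ y, (G' y).IsQuasicoherent := fun y => (hG' y).1
  have := hGq x
  have := hGq' x
  have := hq x
  have := hq' x
  have hH : ∀ z, Curv2.IsWeakAssPoint (G x) z → z = x.1 := by
    intro z hz
    have hz' : z ∈ AssSch.Ass (G x) := (isAssPoint_iff_isWeakAssPoint (G x) z).mpr hz
    rw [hA x] at hz'
    exact hz'
  have hH' : ∀ z, Curv2.IsWeakAssPoint (G' x) z → z = x.1 := by
    intro z hz
    have hz' : z ∈ AssSch.Ass (G' x) := (isAssPoint_iff_isWeakAssPoint (G' x) z).mpr hz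
    rw [hA' x] at hz'
    exact hz'
  have h1 : kernel.ι (q x) ≫ q' x = 0 :=
    kernel_comp_eq_zero M hM hne G q hGq hA hm x (G' x) hH' (q' x)
  have h2 : kernel.ι (q' x) ≫ q x = 0 :=
    kernel_comp_eq_zero M hM hne G' q' hGq' hA' hm' x (G x) hH (q x)
  refine ⟨⟨Abelian.epiDesc (q x) (q' x) h1, Abelian.epiDesc (q' x) (q x) h2, ?_, ?_⟩, ?_⟩
  · rw [← cancel_epi (q x), Abelian.comp_epiDesc_assoc, Abelian.comp_epiDesc, Category.comp_id]
  · rw [← cancel_epi (q' x), Abelian.comp_epiDesc_assoc, Abelian.comp_epiDesc, Category.comp_id]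
  · exact Abelian.comp_epiDesc _ _ _

end Groth.Agent.Lib.Helper9.RedDec
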