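import Mathlib
import Groth.Prelude.Def_RefHull
import Groth.Prelude.Def_Pic
import Groth.Agent.Lib.Helper9.RefGrp7

/-!
# The group of rank one reflexive modules on a normal scheme (helper9)
-/

set_option autoImplicit false
universe u
open CategoryTheory CategoryTheory.Limits AlgebraicGeometry TopologicalSpace Opposite

namespace Groth.Agent.Lib.Helper9.RefGrp

open Groth.Agent.Lib.Helper29.QCoh Groth.Agent.Lib.Helper29.QCoh.Dual
open Groth.Agent.Lib.Helper9.RefStalk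

variable {X : Scheme.{u}}

theorem nonempty_iso_of_eqvGen {M N : X.Modules}
    (h : Relation.EqvGen (fun L L' : X.Modules => Nonempty (L ≅ L')) M N) : Nonempty (M ≅ N) := by
  induction h with
  | rel _ _ h => exact h
  | refl _ => exact ⟨Iso.refl _⟩
  | symm _ _ _ ih => exact ⟨ih.some.symm⟩
  | trans _ _ _ _ _ ih1 ih2 => exact ⟨ih1.some ≪≫ ih2.some⟩

theorem cl_eq_iff (M N : X.Modules) : PicF.cl M = PicF.cl N ↔ Nonempty (M ≅ N) := by
  constructor
  · intro h
    exact nonempty_iso_of_eqvGen (Quot.eqvGen_exact h)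
  · intro h
    exact Quot.sound h

variable [IsIntegral X] [IsLocallyNoetherian X]

/-- the type of classes of rank one coherent reflexive modules -/
abbrev R1 (X : Scheme.{u}) : Type (u + 1) :=
  {c : PicF.Cl X // ∃ F : X.Modules, PicF.cl F = c ∧ RefHull.IsRef1 F}

noncomputable def rep (a : R1 X) : X.Modules := a.2.choose

omit [IsIntegral X] [IsLocallyNoetherian X] in
theorem cl_rep (a : R1 X) : PicF.cl (rep a) = a.1 := a.2.choose_spec.1

omit [IsIntegral X] [IsLocallyNoetherian X] in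
theorem isRef1_rep (a : R1 X) : RefHull.IsRef1 (rep a) := a.2.choose_spec.2

omit [IsIntegral X] [IsLocallyNoetherian X] in
theorem nonempty_rep_iso (F : X.Modules) (hF : RefHull.IsRef1 F) :
    Nonempty (rep (⟨PicF.cl F, F, rfl, hF⟩ : R1 X) ≅ F) :=
  (cl_eq_iff _ _).mp (cl_rep (⟨PicF.cl F, F, rfl, hF⟩ : R1 X))

noncomputable def mul (a b : R1 X) : R1 X :=
  ⟨PicF.cl (RefHull.ddual (CohB1.tensorMod (rep a) (rep b))), _, rfl,
    isRef1_ddual_tensor _ _ (isRef1_rep a) (isRef1_rep b)⟩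

noncomputable def one : R1 X := ⟨PicF.cl (Coh.structureModule X), _, rfl, isRef1_unit⟩

noncomputable def inv (a : R1 X) : R1 X :=
  ⟨PicF.cl (RefHull.dual (rep a)), _, rfl, isRef1_dual _ (isRef1_rep a)⟩

omit [IsIntegral X] in
/-- the reflexive product respects isomorphisms -/
theorem ddual_tensor_congr {F F' G G' : X.Modules} (e : F ≅ F') (f : G ≅ G')
    (hF : Coh.IsCoh F) (hF' : Coh.IsCoh F') (hG : Coh.IsCoh G) (hG' : Coh.IsCoh G') :
    Nonempty (RefHull.ddual (CohB1.tensorMod F G) ≅ RefHull.ddual (CohB1.tensorMod F' G')) :=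
  nonempty_ddual_iso (tensorCongr e f) (isCoh_tensorMod F G hF hG) (isCoh_tensorMod F' G' hF' hG')

theorem group_structure (hX : Pi1.IsNormalScheme X) :
    ∃ (mul : R1 X → R1 X → R1 X) (one : R1 X) (inv : R1 X → R1 X),
      (∀ a b, mul a b = mul b a) ∧ (∀ a b c, mul (mul a b) c = mul a (mul b c)) ∧
        (∀ a, mul one a = a) ∧ (∀ a, mul (inv a) a = one) ∧
        (∀ (F G : X.Modules) (hF : RefHull.IsRef1 F) (hG : RefHull.IsRef1 G),
          (mul ⟨PicF.cl F, F, rfl, hF⟩ ⟨PicF.cl G, G, rfl, hG⟩).1 =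
            PicF.cl (RefHull.ddual (CohB1.tensorMod F G))) ∧
        one.1 = PicF.cl (Coh.structureModule X) ∧
        (∀ (F : X.Modules) (hF : RefHull.IsRef1 F),
          (inv ⟨PicF.cl F, F, rfl, hF⟩).1 = PicF.cl (RefHull.dual F)) := by
  refine ⟨mul, one, inv, ?_, ?_, ?_, ?_, ?_, rfl, ?_⟩
  · intro a b
    apply Subtype.ext
    exact (cl_eq_iff _ _).mpr (ddual_tensor_comm _ _ (isRef1_rep a).1 (isRef1_rep b).1)
  · intro a b c
    apply Subtype.ext
    change PicF.cl (RefHull.ddual (CohB1.tensorMod (rep (mul a b)) (rep c))) =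
      PicF.cl (RefHull.ddual (CohB1.tensorMod (rep a) (rep (mul b c))))
    rw [cl_eq_iff]
    have hab := isRef1_ddual_tensor _ _ (isRef1_rep a) (isRef1_rep b)
    have hbc := isRef1_ddual_tensor _ _ (isRef1_rep b) (isRef1_rep c)
    obtain ⟨e1⟩ := (cl_eq_iff _ _).mp (cl_rep (mul a b))
    obtain ⟨e2⟩ := (cl_eq_iff _ _).mp (cl_rep (mul b c))
    obtain ⟨f1⟩ := ddual_tensor_congr e1 (Iso.refl (rep c)) (isRef1_rep (mul a b)).1 hab.1
      (isRef1_rep c).1 (isRef1_rep c).1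
    obtain ⟨f2⟩ := ddual_tensor_assoc hX _ _ _ (isRef1_rep a) (isRef1_rep b) (isRef1_rep c)
    obtain ⟨f3⟩ := ddual_tensor_congr (Iso.refl (rep a)) e2.symm (isRef1_rep a).1 (isRef1_rep a).1
      hbc.1 (isRef1_rep (mul b c)).1
    exact ⟨f1 ≪≫ f2 ≪≫ f3⟩
  · intro a
    apply Subtype.ext
    change PicF.cl (RefHull.ddual (CohB1.tensorMod (rep one) (rep a))) = a.1
    rw [← cl_rep a, cl_eq_iff]
    obtain ⟨e1⟩ := (cl_eq_iff _ _).mp (cl_rep (one : R1 X))
    obtain ⟨f1⟩ := ddual_tensor_congr e1 (Iso.refl (rep a)) (isRef1_rep one).1 (isCoh_unit X)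
      (isRef1_rep a).1 (isRef1_rep a).1
    obtain ⟨f2⟩ := ddual_unit_tensor (rep a) (isRef1_rep a).1 (isRef1_rep a).2.1
    exact ⟨f1 ≪≫ f2⟩
  · intro a
    apply Subtype.ext
    change PicF.cl (RefHull.ddual (CohB1.tensorMod (rep (inv a)) (rep a))) =
      PicF.cl (Coh.structureModule X)
    rw [cl_eq_iff]
    obtain ⟨e1⟩ := (cl_eq_iff _ _).mp (cl_rep (inv a))
    obtain ⟨f1⟩ := ddual_tensor_congr e1 (Iso.refl (rep a)) (isRef1_rep (inv a)).1
      (isRef1_dual _ (isRef1_rep a)).1 (isRef1_rep a).1 (isRef1_rep a).1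
    obtain ⟨f2⟩ := ddual_dual_tensor hX (rep a) (isRef1_rep a)
    exact ⟨f1 ≪≫ f2⟩
  · intro F G hF hG
    change PicF.cl (RefHull.ddual (CohB1.tensorMod (rep _) (rep _))) = _
    rw [cl_eq_iff]
    obtain ⟨e1⟩ := nonempty_rep_iso F hF
    obtain ⟨e2⟩ := nonempty_rep_iso G hG
    exact ddual_tensor_congr e1 e2 (isRef1_rep _).1 hF.1 (isRef1_rep _).1 hG.1
  · intro F hF
    change PicF.cl (RefHull.dual (rep _)) = _
    rw [cl_eq_iff]
    obtain ⟨e1⟩ := nonempty_rep_iso F hF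
    exact nonempty_dual_iso e1 (isRef1_rep _).1 hF.1

end Groth.Agent.Lib.Helper9.RefGrp
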