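import Mathlib
import Groth.Prelude.Def_RefHull
import Groth.Agent.Lib.Helper9.RefStalk2
import Groth.Agent.Lib.Helper9.LocRefl2
import Groth.Agent.Lib.Helper9.ClosedPt2

/-!
# Reflexivity of a coherent sheaf can be tested at closed points (helper9)
-/

set_option autoImplicit false
universe u
open CategoryTheory CategoryTheory.Limits AlgebraicGeometry TopologicalSpace Opposite

namespace Groth.Agent.Lib.Helper9.RefStalk
open Groth.Agent.Lib.Helper29.QCoh

variable {X : Scheme.{u}} [IsLocallyNoetherian X]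

theorem isReflexiveAt_of_specializes (F : X.Modules) (hF : Coh.IsCoh F) {x z : X} (h : x ⤳ z)
    (hz : RefHull.IsReflexiveAt F z) : RefHull.IsReflexiveAt F x := by
  have := hF.1
  have := hF.2
  obtain ⟨_, ⟨V, hV : IsAffineOpen V, rfl⟩, hzV, -⟩ :=
    X.isBasis_affineOpens.exists_subset_of_mem_open (Set.mem_univ z) isOpen_univ
  have hxV : x ∈ V := h.mem_open V.2 hzV
  have : IsNoetherianRing Γ(X, V) := IsLocallyNoetherian.component_noetherian ⟨V, hV⟩
  have := module_finite_of_isFiniteType F hV
  -- scaffolding at `z`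
  let _ := stalkModule F V z hzV
  let _ : Algebra Γ(X, V) (X.presheaf.stalk z) :=
    TopCat.Presheaf.algebra_section_stalk X.presheaf ⟨z, hzV⟩
  have hlocz := hV.isLocalization_stalk ⟨z, hzV⟩
  have : IsScalarTower Γ(X, V) (X.presheaf.stalk z) (F.presheaf.stalk z) :=
    IsScalarTower.of_algebraMap_smul fun a m => rfl
  have := isLocalizedModule_germ F hV z hzV
  -- scaffolding at `x`
  let _ := stalkModule F V x hxV
  let _ : Algebra Γ(X, V) (X.presheaf.stalk x) :=
    TopCat.Presheaf.algebra_section_stalk X.presheaf ⟨x, hxV⟩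
  have hlocx := hV.isLocalization_stalk ⟨x, hxV⟩
  have : IsScalarTower Γ(X, V) (X.presheaf.stalk x) (F.presheaf.stalk x) :=
    IsScalarTower.of_algebraMap_smul fun a m => rfl
  have := isLocalizedModule_germ F hV x hxV
  have hST : (hV.primeIdealOf ⟨z, hzV⟩).asIdeal.primeCompl ≤
      (hV.primeIdealOf ⟨x, hxV⟩).asIdeal.primeCompl := by
    intro r hr
    have h1 : z ∈ X.basicOpen r :=
      (Groth.Agent.Lib.Helper9.ClosedPt.mem_basicOpen_iff_notMem_primeIdealOf hV r ⟨z, hzV⟩).mpr hr
    have h2 : x ∈ X.basicOpen r := h.mem_open (X.basicOpen r).2 h1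
    exact (Groth.Agent.Lib.Helper9.ClosedPt.mem_basicOpen_iff_notMem_primeIdealOf hV r
      ⟨x, hxV⟩).mp h2
  exact Groth.Agent.Lib.Helper9.LocRefl.isReflexive_mono hST (X.presheaf.stalk z)
    (germₗ F V z hzV) (X.presheaf.stalk x) (germₗ F V x hxV) hz

/-- EGA-style: for a coherent module on an integral locally Noetherian scheme, reflexivity is
equivalent to reflexivity of all stalks, and to reflexivity of the stalks at closed points. -/
theorem tfae_isReflexive (F : X.Modules) (hF : Coh.IsCoh F) :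
    [RefHull.IsReflexive F, ∀ x : ↥X, RefHull.IsReflexiveAt F x,
      ∀ x : ↥X, IsClosed ({x} : Set ↥X) → RefHull.IsReflexiveAt F x].TFAE := by
  tfae_have 1 ↔ 2 := isReflexive_iff_of_isCoh F hF
  tfae_have 2 → 3 := fun h x _ => h x
  tfae_have 3 → 2 := by
    intro h x
    obtain ⟨z, hz, hxz⟩ := Groth.Agent.Lib.Helper9.ClosedPt.exists_isClosed_specializes x
    exact isReflexiveAt_of_specializes F hF hxz (h z hz)
  tfae_finish

end Groth.Agent.Lib.Helper9.RefStalk
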