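import Mathlib
import Groth.Prelude.Def_CAlg
import Groth.Agent.Lib.Helper9.LocRefl2
import Groth.Agent.Lib.Helper16.Depth

/-!
# Serre's condition S₂ and reflexivity (helper9)

A finite torsion-free module `M` over a Noetherian domain `R` such that at every prime `p` either
`M_p` is reflexive or `depth M_p ≥ 2` is reflexive.
-/

set_option autoImplicit false

open IsLocalizedModule RingTheory.Sequence IsLocalRing Pointwise

namespace Groth.Agent.Lib.Helper9.S2Refl

open Groth.Agent.Lib.Helper9.LocRefl Groth.Agent.Lib.Helper16.Depth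

section socle

variable {A : Type*} [CommRing A] [IsDomain A] {N : Type*} [AddCommGroup N] [Module A N]

theorem dual_smul_eq_zero {x : A} (hx : x ≠ 0) (ξ : Module.Dual A (Module.Dual A N))
    (h : x • ξ = 0) : ξ = 0 := by
  apply LinearMap.ext
  intro φ
  have := LinearMap.congr_fun h φ
  simp only [LinearMap.smul_apply, smul_eq_mul, LinearMap.zero_apply, mul_eq_zero] at this
  exact this.resolve_left hx

theorem mem_range_eval_of_reg (hinj : Function.Injective (Module.Dual.eval A N)) {x y : A}
    (hx0 : x ≠ 0) (hy : IsSMulRegular (QuotSMulTop x N) y)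
    (c : Module.Dual A (Module.Dual A N)) (n₁ n₂ : N)
    (h1 : x • c = Module.Dual.eval A N n₁) (h2 : y • c = Module.Dual.eval A N n₂) :
    ∃ n, c = Module.Dual.eval A N n := by
  have heq : y • n₁ = x • n₂ := by
    apply hinj
    rw [map_smul, map_smul, ← h1, ← h2, smul_comm]
  have hmem : n₁ ∈ x • (⊤ : Submodule A N) := by
    have h0 : y • (Submodule.Quotient.mk n₁ : QuotSMulTop x N) = y • 0 := by
      rw [smul_zero, ← Submodule.Quotient.mk_smul, heq, Submodule.Quotient.mk_eq_zero]
      exact Submodule.smul_mem_pointwise_smul _ _ _ Submodule.mem_top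
    have := hy h0
    rwa [Submodule.Quotient.mk_eq_zero] at this
  obtain ⟨n', -, hn'⟩ := (Submodule.mem_smul_pointwise_iff_exists _ _ _).mp hmem
  refine ⟨n', ?_⟩
  have : x • (c - Module.Dual.eval A N n') = 0 := by
    rw [smul_sub, h1, ← map_smul, hn', sub_self]
  exact sub_eq_zero.mp (dual_smul_eq_zero hx0 _ this)

end socle

section main

variable {R : Type*} [CommRing R] [IsDomain R] [IsNoetherianRing R]
variable {M : Type*} [AddCommGroup M] [Module R M] [Module.Finite R M]

theorem eval_injective [Module.IsTorsionFree R M] : Function.Injective (Module.Dual.eval R M) := by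
  rw [injective_iff_map_eq_zero]
  intro m hm
  obtain ⟨t, ht, e⟩ := (C_nonZeroDivisors M).1 m hm
  exact (smul_eq_zero.mp e).resolve_left (nonZeroDivisors.ne_zero ht)

theorem isReflexive_of_forall_prime [Module.IsTorsionFree R M]
    (h : ∀ (p : Ideal R) [p.IsPrime], C R p.primeCompl M ∨
      (2 : ℕ∞) ≤ LocCoh.depth (Localization.AtPrime p) (LocalizedModule p.primeCompl M)) :
    Module.IsReflexive R M := by
  refine ⟨⟨eval_injective, ?_⟩⟩
  by_contra hsurj
  have hE : LinearMap.range (Module.Dual.eval R M) ≠ ⊤ :=
    fun h => hsurj (LinearMap.range_eq_top.mp h)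
  have hnt : Nontrivial (Module.Dual R (Module.Dual R M) ⧸ LinearMap.range (Module.Dual.eval R M)) :=
    Submodule.Quotient.nontrivial_iff.mpr hE
  obtain ⟨p, hp⟩ := associatedPrimes.nonempty R
    (Module.Dual R (Module.Dual R M) ⧸ LinearMap.range (Module.Dual.eval R M))
  obtain ⟨hpp, cbar, hc⟩ := isAssociatedPrime_iff.mp hp
  obtain ⟨c, rfl⟩ := Submodule.Quotient.mk_surjective _ cbar
  have hmem : ∀ a : R, a ∈ p ↔ ∃ m, a • c = Module.Dual.eval R M m := by
    intro a
    rw [hc, Submodule.mem_colon_singleton, Submodule.mem_bot, ← Submodule.Quotient.mk_smul,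
      Submodule.Quotient.mk_eq_zero]
    exact ⟨fun ⟨m, hm⟩ => ⟨m, hm.symm⟩, fun ⟨m, hm⟩ => ⟨m, hm.symm⟩⟩
  have := hpp
  have hnot : ∀ n : LocalizedModule p.primeCompl M,
      D2 p.primeCompl (Localization.AtPrime p) (LocalizedModule.mkLinearMap p.primeCompl M) c ≠
        Module.Dual.eval (Localization.AtPrime p) (LocalizedModule p.primeCompl M) n := by
    intro n hn
    obtain ⟨⟨m, s⟩, hms⟩ := IsLocalizedModule.surj p.primeCompl
      (LocalizedModule.mkLinearMap p.primeCompl M) n
    have h1 : D2 p.primeCompl (Localization.AtPrime p)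
          (LocalizedModule.mkLinearMap p.primeCompl M) (s.1 • c) =
        D2 p.primeCompl (Localization.AtPrime p) (LocalizedModule.mkLinearMap p.primeCompl M)
          (Module.Dual.eval R M m) := by
      rw [map_smul, D2_eval, ← hms, hn]
      change s.1 • Module.Dual.eval (Localization.AtPrime p) (LocalizedModule p.primeCompl M) n =
        Module.Dual.eval (Localization.AtPrime p) (LocalizedModule p.primeCompl M) (s.1 • n)
      rw [← algebraMap_smul (Localization.AtPrime p) s.1 n, map_smul, algebraMap_smul]
    obtain ⟨t, ht⟩ := (IsLocalizedModule.eq_iff_exists p.primeCompl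
      (D2 p.primeCompl (Localization.AtPrime p) (LocalizedModule.mkLinearMap p.primeCompl M))).mp h1
    have hts : t.1 * s.1 ∈ p := (hmem _).mpr ⟨t.1 • m, by rw [mul_smul, map_smul]; exact ht⟩
    exact (p.primeCompl.mul_mem t.2 s.2) hts
  rcases h p with hC | hd
  · obtain ⟨s, hs, m, e⟩ := hC.2 c
    exact hs ((hmem s).mpr ⟨m, e⟩)
  · unfold LocCoh.depth at hd
    have hd' := (le_idealDepth_iff (maximalIdeal (Localization.AtPrime p))
      (LocalizedModule p.primeCompl M) 2).mp (by exact_mod_cast hd)
    have hsub : Subsingleton (LocalizedModule p.primeCompl M) → False := by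
      intro hN
      exact hnot 0 (Subsingleton.elim _ _)
    rcases hd' with htop | ⟨rs, hlen, hreg, hmemrs⟩
    · apply hsub
      have h0 : (⊤ : Submodule (Localization.AtPrime p) (LocalizedModule p.primeCompl M)) = ⊥ :=
        Submodule.eq_bot_of_le_smul_of_le_jacobson_bot (maximalIdeal (Localization.AtPrime p)) ⊤
          Module.Finite.fg_top htop.ge (maximalIdeal_le_jacobson _)
      exact (Submodule.subsingleton_iff (Localization.AtPrime p)).mp
        (subsingleton_of_bot_eq_top h0.symm)
    · obtain ⟨x, y, rfl⟩ := List.length_eq_two.mp hlen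
      rw [isWeaklyRegular_cons_iff, isWeaklyRegular_cons_iff] at hreg
      obtain ⟨hx, hy, -⟩ := hreg
      by_cases hx0 : x = 0
      · apply hsub
        subst hx0
        refine ⟨fun a b => hx ?_⟩
        simp
      · have hrange : ∀ z ∈ maximalIdeal (Localization.AtPrime p), ∃ n,
            z • D2 p.primeCompl (Localization.AtPrime p)
              (LocalizedModule.mkLinearMap p.primeCompl M) c =
            Module.Dual.eval (Localization.AtPrime p) (LocalizedModule p.primeCompl M) n := by
          intro z hz
          obtain ⟨⟨a, s⟩, hz'⟩ := IsLocalization.mk'_surjective p.primeCompl z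
          change IsLocalization.mk' (Localization.AtPrime p) a s = z at hz'
          subst hz'
          have ha : a ∈ p := (IsLocalization.AtPrime.mk'_mem_maximal_iff
            (Localization.AtPrime p) p a s).mp hz
          obtain ⟨m, hm⟩ := (hmem a).mp ha
          refine ⟨IsLocalization.mk' (Localization.AtPrime p) 1 s •
            LocalizedModule.mkLinearMap p.primeCompl M m, ?_⟩
          rw [map_smul, ← D2_eval p.primeCompl (Localization.AtPrime p), ← hm, map_smul,
            ← algebraMap_smul (Localization.AtPrime p) a, smul_smul,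
            IsLocalization.mk'_eq_mul_mk'_one (M := p.primeCompl) a s, mul_comm]
        obtain ⟨n₁, h1⟩ := hrange x (hmemrs x (by simp))
        obtain ⟨n₂, h2⟩ := hrange y (hmemrs y (by simp))
        obtain ⟨n, hn⟩ := mem_range_eval_of_reg
          (eval_injective (R := Localization.AtPrime p) (M := LocalizedModule p.primeCompl M))
          hx0 hy _ n₁ n₂ h1 h2
        exact hnot n hn

end main

end Groth.Agent.Lib.Helper9.S2Refl
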