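import Groth.Agent.Lib.Helper9.HartogsRel
import Groth.Agent.Lib.Helper9.S2Refl
import Groth.Agent.Lib.Helper9.RegRefl
import Groth.Agent.Lib.Helper9.RefStalk4
import Groth.Agent.Lib.Helper10.HartogsConv

/-!
# Reflexive = torsion-free + normal on regular schemes: module-level and dimension lemmas (helper9)
-/

set_option autoImplicit false
universe u
open CategoryTheory AlgebraicGeometry TopologicalSpace IsLocalRing RingTheory.Sequence

namespace Groth.Agent.Lib.Helper9.ReflNormal

open Groth.Agent.Lib.Helper16.Depth Groth.Agent.Lib.Helper18.CM Groth.Agent.Lib.Helper21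
open Groth.Agent.Lib.Helper9.RegRefl

/-- a reflexive module over a local ring of depth at least two has depth at least two -/
theorem two_le_depth_of_isReflexive (R : Type u) [CommRing R] [IsLocalRing R]
    (M : Type u) [AddCommGroup M] [Module R M] [Module.IsReflexive R M]
    (h : HasRegSeq (maximalIdeal R) R 2) : (2 : ℕ∞) ≤ LocCoh.depth R M := by
  obtain ⟨rs, hlen, hreg, hmem⟩ := h
  have hw : IsWeaklyRegular (Module.Dual R (Module.Dual R M)) rs :=
    isWeaklyRegular_dual (Module.Dual R M) rs hlen.le hreg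
  rw [depth_congr (Module.evalEquiv R M)]
  have := (le_idealDepth_iff (I := maximalIdeal R) (M := Module.Dual R (Module.Dual R M)) 2).mpr
    (Or.inr ⟨rs, hlen, hw, hmem⟩)
  exact_mod_cast this

theorem hasRegSeq_of_isRegularLocalRing (R : Type u) [CommRing R] [IsRegularLocalRing R] (k : ℕ)
    (h : (k : WithBot ℕ∞) ≤ ringKrullDim R) : HasRegSeq (maximalIdeal R) R k := by
  obtain ⟨n, hn⟩ := exists_nat_eq_ringKrullDim (R := R)
  obtain ⟨rs, hlen, hreg, hmem⟩ := exists_isRegular_of_isRegularLocalRing R n hn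
  have hn2 : k ≤ n := by rw [hn] at h; exact_mod_cast h
  exact HasRegSeq.mono hn2 ⟨rs, hlen, hreg.toIsWeaklyRegular, hmem⟩

/-- torsion-free finite modules over regular local rings of dimension at most one are free -/
theorem free_of_isTorsionFree (R : Type u) [CommRing R] [IsRegularLocalRing R] [IsDomain R]
    (hdim : ringKrullDim R ≤ 1) (M : Type u) [AddCommGroup M] [Module R M] [Module.Finite R M]
    [Module.IsTorsionFree R M] : Module.Free R M := by
  obtain ⟨n, hn⟩ := exists_nat_eq_ringKrullDim (R := R)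
  have hn1 : n ≤ 1 := by rw [hn] at hdim; exact_mod_cast hdim
  apply free_of_le_depth R M
  rw [hn]
  have : (n : ℕ∞) ≤ LocCoh.depth R M := by
    rcases Nat.le_one_iff_eq_zero_or_eq_one.mp hn1 with rfl | rfl
    · simp
    · obtain ⟨rs, hlen, hreg, hmem⟩ := exists_isRegular_of_isRegularLocalRing R 1 hn
      obtain ⟨x, rfl⟩ := List.length_eq_one_iff.mp hlen
      have hx0 : x ≠ 0 := by
        rintro rfl
        have h1 := hreg.toIsWeaklyRegular
        rw [isWeaklyRegular_cons_iff] at h1
        exact one_ne_zero (h1.1 (by simp : (0 : R) • (1 : R) = (0 : R) • 0))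
      have hxreg : IsSMulRegular M x := (isRegular_iff_ne_zero.mpr hx0).isSMulRegular
      exact (le_idealDepth_iff (I := maximalIdeal R) (M := M) 1).mpr
        (Or.inr (HasRegSeq.cons (hmem x (by simp)) hxreg HasRegSeq.zero))
  exact_mod_cast this

variable {X : Scheme.{u}}

/-- dimension of local rings grows under specialization -/
theorem ringKrullDim_stalk_le_of_specializes {x z : X} (h : x ⤳ z) :
    ringKrullDim (X.presheaf.stalk x) ≤ ringKrullDim (X.presheaf.stalk z) := by
  obtain ⟨_, ⟨W, hW, rfl⟩, hzW, -⟩ := X.isBasis_affineOpens.exists_subset_of_mem_open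
    (Set.mem_univ z) isOpen_univ
  have hxW : x ∈ W := h.mem_open W.2 hzW
  let _ := X.presheaf.algebra_section_stalk ⟨x, hxW⟩
  have := hW.isLocalization_stalk ⟨x, hxW⟩
  have h1 := IsLocalization.AtPrime.ringKrullDim_eq_height (hW.primeIdealOf ⟨x, hxW⟩).asIdeal
    (X.presheaf.stalk x)
  let _ := X.presheaf.algebra_section_stalk ⟨z, hzW⟩
  have := hW.isLocalization_stalk ⟨z, hzW⟩
  have h2 := IsLocalization.AtPrime.ringKrullDim_eq_height (hW.primeIdealOf ⟨z, hzW⟩).asIdeal
    (X.presheaf.stalk z)
  rw [h1, h2]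
  have hle : (hW.primeIdealOf ⟨x, hxW⟩).asIdeal ≤ (hW.primeIdealOf ⟨z, hzW⟩).asIdeal :=
    (Groth.Agent.Lib.Helper9.ClosedPt.specializes_iff_primeIdealOf_le hW ⟨x, hxW⟩ ⟨z, hzW⟩).mp h
  exact_mod_cast Ideal.height_mono hle

end Groth.Agent.Lib.Helper9.ReflNormal
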