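import Groth.Agent.Lib.Helper9.ReflNormal1
import Groth.Prelude.Def_TorSh

/-!
# Reflexive = torsion-free + normal on regular schemes (helper9)
-/

set_option autoImplicit false
universe u
open CategoryTheory CategoryTheory.Limits AlgebraicGeometry TopologicalSpace Opposite IsLocalRing

namespace Groth.Agent.Lib.Helper9.ReflNormal

open Groth.Agent.Lib.Helper29.QCoh Groth.Agent.Lib.Helper10.Hartogs
open Groth.Agent.Lib.Helper9.RefStalk

variable {X : Scheme.{u}} [IsIntegral X] [IsLocallyNoetherian X]

omit [IsLocallyNoetherian X] in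
/-- sections over an affine open of a stalkwise torsion-free quasi-coherent module on an integral
scheme form a torsion-free module -/
theorem isTorsionFree_sections (F : X.Modules) [F.IsQuasicoherent] (hF : TorSh.IsTorsionFree F)
    {W : X.Opens} (hW : IsAffineOpen W) [Nonempty W] :
    Module.IsTorsionFree Γ(X, W) Γ(F, W) := by
  refine ⟨fun r hr m₁ m₂ h => ?_⟩
  have hr0 : r ≠ 0 := hr.ne_zero
  rw [← sub_eq_zero]
  have hm : r • (m₁ - m₂) = 0 := by
    rw [smul_sub, sub_eq_zero]; exact h
  generalize m₁ - m₂ = m at hm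
  have hgerm : ∀ (y : X) (hy : y ∈ W), F.presheaf.germ W y hy m = 0 := by
    intro y hy
    have h1 := congrArg (F.presheaf.germ W y hy) hm
    rw [germ_smul, map_zero] at h1
    have h2 : X.presheaf.germ W y hy r ≠ 0 := by
      intro h0
      apply hr0
      apply germ_injective_of_isIntegral X y hy
      rw [h0, map_zero]
    have := hF y
    exact (smul_eq_zero.mp h1).resolve_left h2
  by_contra hne
  have hI : (⊥ : Submodule Γ(X, W) Γ(F, W)).colon {m} ≠ ⊤ := by
    intro htop
    apply hne
    have : (1 : Γ(X, W)) ∈ (⊥ : Submodule Γ(X, W) Γ(F, W)).colon {m} := by rw [htop]; trivial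
    rw [Submodule.mem_colon_singleton, one_smul] at this
    exact this
  obtain ⟨p, hp, hle⟩ := Ideal.exists_le_maximal _ hI
  have := hp.isPrime
  obtain ⟨y, hyW, hyp⟩ := exists_point_primeIdealOf_eq hW p
  obtain ⟨a, hya, ha⟩ := (germ_eq_zero_iff F hW y hyW m).mp (hgerm y hyW)
  have h3 : a ∉ (hW.primeIdealOf ⟨y, hyW⟩).asIdeal :=
    (mem_basicOpen_iff_notMem_primeIdealOf hW y hyW a).mp hya
  rw [hyp] at h3
  exact h3 (hle (by rw [Submodule.mem_colon_singleton]; exact ha))

omit [IsIntegral X] in
/-- reflexive sheaves on regular schemes satisfy Hartogs extension -/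
theorem bijective_of_isReflexiveAt
    (hreg : ∀ x : X, IsRegularLocalRing (X.presheaf.stalk x)) (F : X.Modules) (hF : Coh.IsCoh F)
    (hR : ∀ x : X, RefHull.IsReflexiveAt F x) {U V : X.Opens} (hVU : V ≤ U)
    (h2 : ∀ x : X, x ∈ U → x ∉ V → (2 : WithBot ℕ∞) ≤ ringKrullDim (X.presheaf.stalk x)) :
    Function.Bijective (F.presheaf.map (homOfLE hVU).op) := by
  have := hF.1
  have := hF.2
  apply Groth.Agent.Lib.Helper9.HartogsRel.map_bijective_of_depth F hVU
  intro x hxU hxV
  have := hreg x
  have : Module.IsReflexive (X.presheaf.stalk x) (F.presheaf.stalk x) := hR x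
  exact two_le_depth_of_isReflexive _ _
    (hasRegSeq_of_isRegularLocalRing _ 2 (by exact_mod_cast h2 x hxU hxV))

/-- torsion-free + Hartogs extension ⇒ reflexive stalks, on regular schemes -/
theorem isReflexiveAt_of_normal
    (hreg : ∀ x : X, IsRegularLocalRing (X.presheaf.stalk x)) (F : X.Modules) (hF : Coh.IsCoh F)
    (htf : TorSh.IsTorsionFree F)
    (hN : ∀ (U V : X.Opens) (hVU : V ≤ U),
      (∀ x : X, x ∈ U → x ∉ V → (2 : WithBot ℕ∞) ≤ ringKrullDim (X.presheaf.stalk x)) →
        Function.Bijective (F.presheaf.map (homOfLE hVU).op))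
    (x : X) : RefHull.IsReflexiveAt F x := by
  have := hF.1
  have := hF.2
  obtain ⟨_, ⟨W, hW : IsAffineOpen W, rfl⟩, hxW, -⟩ :=
    X.isBasis_affineOpens.exists_subset_of_mem_open (Set.mem_univ x) isOpen_univ
  have : Nonempty W := ⟨⟨x, hxW⟩⟩
  have : IsNoetherianRing Γ(X, W) := IsLocallyNoetherian.component_noetherian ⟨W, hW⟩
  have : IsDomain Γ(X, W) := inferInstance
  have : Module.Finite Γ(X, W) Γ(F, W) := module_finite_of_isFiniteType F hW
  have : Module.IsTorsionFree Γ(X, W) Γ(F, W) := isTorsionFree_sections F htf hW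
  have hM : Module.IsReflexive Γ(X, W) Γ(F, W) := by
    apply Groth.Agent.Lib.Helper9.S2Refl.isReflexive_of_forall_prime
    intro p hp
    obtain ⟨y, hyW, hyp⟩ := exists_point_primeIdealOf_eq hW p
    subst hyp
    let _ : Algebra Γ(X, W) (X.presheaf.stalk y) :=
      TopCat.Presheaf.algebra_section_stalk X.presheaf ⟨y, hyW⟩
    have hloc : IsLocalization.AtPrime (X.presheaf.stalk y)
      (hW.primeIdealOf ⟨y, hyW⟩).asIdeal := hW.isLocalization_stalk ⟨y, hyW⟩
    let _ := stalkModule F W y hyW
    have : IsScalarTower Γ(X, W) (X.presheaf.stalk y) (F.presheaf.stalk y) :=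
      IsScalarTower.of_algebraMap_smul fun a t => rfl
    have hlm := isLocalizedModule_germ F hW y hyW
    by_cases hdim : (2 : WithBot ℕ∞) ≤ ringKrullDim (X.presheaf.stalk y)
    · right
      rw [← depth_stalk_eq_depth_localized F hW y hyW]
      let U₀ : X.Opens := ⟨(closure {y})ᶜ, isClosed_closure.isOpen_compl⟩
      apply Groth.Agent.Lib.Helper10.HartogsConv.two_le_depth_of_bijective (U := U₀) F
        (fun W' hW' => ?_) y (fun hy => hy (subset_closure rfl))
      apply hN W' (W' ⊓ U₀) inf_le_left
      intro z hzW' hz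
      have hzc : z ∈ closure {y} := by
        by_contra hzc
        exact hz ⟨hzW', hzc⟩
      have hyz : y ⤳ z := specializes_iff_mem_closure.mpr hzc
      exact hdim.trans (ringKrullDim_stalk_le_of_specializes hyz)
    · left
      have := hreg y
      obtain ⟨n, hn⟩ := Groth.Agent.Lib.Helper21.exists_nat_eq_ringKrullDim
        (R := X.presheaf.stalk y)
      have hle1 : ringKrullDim (X.presheaf.stalk y) ≤ 1 := by
        rw [hn] at hdim ⊢
        have : ¬ (2 ≤ n) := fun h => hdim (by exact_mod_cast h)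
        have : n ≤ 1 := by omega
        exact_mod_cast this
      have : Module.Finite (X.presheaf.stalk y) (F.presheaf.stalk y) :=
        finite_stalk_of_isCoh F hF y
      have : Module.IsTorsionFree (X.presheaf.stalk y) (F.presheaf.stalk y) := htf y
      have : Module.Free (X.presheaf.stalk y) (F.presheaf.stalk y) :=
        free_of_isTorsionFree (X.presheaf.stalk y) hle1 (F.presheaf.stalk y)
      have hrefl : Module.IsReflexive (X.presheaf.stalk y) (F.presheaf.stalk y) := inferInstance
      exact (Groth.Agent.Lib.Helper9.LocRefl.isReflexive_iff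
        (hW.primeIdealOf ⟨y, hyW⟩).asIdeal.primeCompl (X.presheaf.stalk y)
        (germₗ F W y hyW)).mp hrefl
  let _ : Algebra Γ(X, W) (X.presheaf.stalk x) :=
    TopCat.Presheaf.algebra_section_stalk X.presheaf ⟨x, hxW⟩
  have hloc : IsLocalization.AtPrime (X.presheaf.stalk x)
    (hW.primeIdealOf ⟨x, hxW⟩).asIdeal := hW.isLocalization_stalk ⟨x, hxW⟩
  let _ := stalkModule F W x hxW
  have : IsScalarTower Γ(X, W) (X.presheaf.stalk x) (F.presheaf.stalk x) :=
    IsScalarTower.of_algebraMap_smul fun a t => rfl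
  have hlm := isLocalizedModule_germ F hW x hxW
  exact Groth.Agent.Lib.Helper9.LocRefl.isReflexive_of_isLocalizedModule
    (hW.primeIdealOf ⟨x, hxW⟩).asIdeal.primeCompl (X.presheaf.stalk x) (germₗ F W x hxW)

/-- **Reflexive = torsion-free + normal** for coherent modules on a regular integral locally
Noetherian scheme. -/
theorem isReflexive_iff_normal
    (hreg : ∀ x : X, IsRegularLocalRing (X.presheaf.stalk x)) (F : X.Modules) (hF : Coh.IsCoh F) :
    RefHull.IsReflexive F ↔
      TorSh.IsTorsionFree F ∧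
      (∀ (U V : X.Opens) (hVU : V ≤ U),
        (∀ x : X, x ∈ U → x ∉ V → (2 : WithBot ℕ∞) ≤ ringKrullDim (X.presheaf.stalk x)) →
        Function.Bijective (F.presheaf.map (homOfLE hVU).op)) := by
  rw [isReflexive_iff_of_isCoh F hF]
  constructor
  · intro hR
    refine ⟨fun x => ?_, fun U V hVU h2 => bijective_of_isReflexiveAt hreg F hF hR hVU h2⟩
    have : Module.IsReflexive (X.presheaf.stalk x) (F.presheaf.stalk x) := hR x
    infer_instance
  · rintro ⟨htf, hN⟩ x
    exact isReflexiveAt_of_normal hreg F hF htf hN x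

end Groth.Agent.Lib.Helper9.ReflNormal
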