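import Groth.Agent.Lib.Helper9.ReflNormal2
import Groth.Agent.Lib.Helper29.QCohExact
import Groth.Agent.Lib.Helper29.QCohAss2

/-!
# Kernels of maps from reflexive to torsion-free sheaves are normal (helper9)
-/

set_option autoImplicit false
universe u
open CategoryTheory CategoryTheory.Limits AlgebraicGeometry TopologicalSpace Opposite IsLocalRing
open RingTheory.Sequence Pointwise

namespace Groth.Agent.Lib.Helper9.ReflNormal

open Groth.Agent.Lib.Helper29.QCoh Groth.Agent.Lib.Helper10.Hartogs
open Groth.Agent.Lib.Helper9.RefStalk Groth.Agent.Lib.Helper16.Depth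
open Groth.Agent.Lib.Helper9.RegRefl

section modules

variable {R : Type*} [CommRing R] [IsDomain R]
variable {F E Q : Type*} [AddCommGroup F] [Module R F] [AddCommGroup E] [Module R E]
  [AddCommGroup Q] [Module R Q] [Module.IsTorsionFree R Q]

/-- depth lemma: a length-two regular sequence on `E` is regular on the kernel `F` of a map from
`E` onto a torsion-free module -/
theorem isWeaklyRegular_of_exact (i : F →ₗ[R] E) (g : E →ₗ[R] Q) (hi : Function.Injective i)
    (hex : Function.Exact i g) {x y : R} (hx0 : x ≠ 0)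
    (h : IsWeaklyRegular E [x, y]) : IsWeaklyRegular F [x, y] := by
  rw [isWeaklyRegular_cons_iff, isWeaklyRegular_cons_iff] at h ⊢
  obtain ⟨hx, hy, -⟩ := h
  refine ⟨?_, ?_, IsWeaklyRegular.nil R _⟩
  · intro a b hab
    apply hi
    apply hx
    change x • i a = x • i b
    rw [← map_smul, ← map_smul]
    exact congrArg i hab
  · rw [isSMulRegular_iff_right_eq_zero_of_smul]
    intro fbar hf
    obtain ⟨f, rfl⟩ := Submodule.Quotient.mk_surjective _ fbar
    rw [← Submodule.Quotient.mk_smul, Submodule.Quotient.mk_eq_zero] at hf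
    obtain ⟨f', -, hf'⟩ := (Submodule.mem_smul_pointwise_iff_exists _ _ _).mp hf
    have h1 : y • (Submodule.Quotient.mk (i f) : QuotSMulTop x E) = y • 0 := by
      rw [smul_zero, ← Submodule.Quotient.mk_smul, ← map_smul, ← hf', map_smul,
        Submodule.Quotient.mk_eq_zero]
      exact Submodule.smul_mem_pointwise_smul _ _ _ Submodule.mem_top
    have h2 := hy h1
    rw [Submodule.Quotient.mk_eq_zero] at h2
    obtain ⟨e, -, he⟩ := (Submodule.mem_smul_pointwise_iff_exists _ _ _).mp h2
    have h3 : x • g e = 0 := by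
      rw [← map_smul, he]
      exact hex.apply_apply_eq_zero f
    have h4 : g e = 0 := (smul_eq_zero.mp h3).resolve_left hx0
    obtain ⟨f'', hf''⟩ := (hex e).mp h4
    rw [Submodule.Quotient.mk_eq_zero]
    refine (Submodule.mem_smul_pointwise_iff_exists _ _ _).mpr ⟨f'', Submodule.mem_top, ?_⟩
    apply hi
    rw [map_smul, hf'', he]

end modules

variable {X : Scheme.{u}} [IsIntegral X] [IsLocallyNoetherian X]

/-- the kernel of an epimorphism from a reflexive coherent module onto a torsion-free one is normal -/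
theorem bijective_of_shortExact
    (hreg : ∀ x : X, IsRegularLocalRing (X.presheaf.stalk x)) (S : ShortComplex X.Modules)
    (hS : S.ShortExact) (hF : Coh.IsCoh S.X₁) (hE : Coh.IsCoh S.X₂)
    (hErefl : RefHull.IsReflexive S.X₂) (hQtf : TorSh.IsTorsionFree S.X₃)
    {U V : X.Opens} (hVU : V ≤ U)
    (h2 : ∀ x : X, x ∈ U → x ∉ V → (2 : WithBot ℕ∞) ≤ ringKrullDim (X.presheaf.stalk x)) :
    Function.Bijective (S.X₁.presheaf.map (homOfLE hVU).op) := by
  have := hF.1
  have := hF.2
  have hR := (isReflexive_iff_of_isCoh S.X₂ hE).mp hErefl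
  apply Groth.Agent.Lib.Helper9.HartogsRel.map_bijective_of_depth S.X₁ hVU
  intro x hxU hxV
  have := hreg x
  have : Module.IsReflexive (X.presheaf.stalk x) (S.X₂.presheaf.stalk x) := hR x
  have : Module.IsTorsionFree (X.presheaf.stalk x) (S.X₃.presheaf.stalk x) := hQtf x
  obtain ⟨rs, hlen, hreg2, hmem⟩ := hasRegSeq_of_isRegularLocalRing (X.presheaf.stalk x) 2
    (by exact_mod_cast h2 x hxU hxV)
  obtain ⟨a, b, rfl⟩ := List.length_eq_two.mp hlen
  have hwE : IsWeaklyRegular (S.X₂.presheaf.stalk x) [a, b] := by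
    rw [(Module.evalEquiv (X.presheaf.stalk x) (S.X₂.presheaf.stalk x)).isWeaklyRegular_congr]
    exact isWeaklyRegular_dual _ _ hlen.le hreg2
  have ha0 : a ≠ 0 := by
    rintro rfl
    rw [isWeaklyRegular_cons_iff] at hreg2
    exact one_ne_zero (hreg2.1 (by simp :
      (0 : X.presheaf.stalk x) • (1 : X.presheaf.stalk x) = (0 : X.presheaf.stalk x) • 0))
  have := hS.mono_f
  have hinj : Function.Injective (stalkMapₗ S.f x) :=
    (mono_iff_stalkMap_injective S.f).mp inferInstance x
  have hex : Function.Exact (stalkMapₗ S.f x) (stalkMapₗ S.g x) :=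
    (exact_iff_stalk_function_exact S).mp hS.exact x
  have hwF := isWeaklyRegular_of_exact (stalkMapₗ S.f x) (stalkMapₗ S.g x) hinj hex ha0 hwE
  unfold LocCoh.depth
  have := (le_idealDepth_iff (I := maximalIdeal (X.presheaf.stalk x))
    (M := S.X₁.presheaf.stalk x) 2).mpr (Or.inr ⟨[a, b], rfl, hwF, hmem⟩)
  exact_mod_cast this

end Groth.Agent.Lib.Helper9.ReflNormal
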