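import Mathlib
import Groth.Agent.Lib.Helper9.PolyFrob

/-!
# Lifts of a regular sequence over `W₂(k)` cut out a flat quotient
-/

set_option autoImplicit false
universe u v

namespace Groth.Agent.Lib.Helper9.RegLift

open FrobAlg MvPolynomial Groth.Agent.Lib.Helper9.FrobLift Groth.Agent.Lib.Helper9.PolyFrob

section reg

variable {R : Type*} [CommRing R] {m : ℕ} (f : Fin m → R)

/-- the ideal generated by the first `i` elements -/
def initIdeal (i : ℕ) : Ideal R := Ideal.span (f '' {j : Fin m | j.1 < i})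

theorem initIdeal_zero : initIdeal f 0 = ⊥ := by
  unfold initIdeal
  have : {j : Fin m | j.1 < 0} = ∅ := by
    ext j
    simp
  rw [this, Set.image_empty, Ideal.span_empty]

theorem initIdeal_succ (i : ℕ) (hi : i < m) :
    initIdeal f (i + 1) = initIdeal f i ⊔ Ideal.span {f ⟨i, hi⟩} := by
  unfold initIdeal
  have : {j : Fin m | j.1 < i + 1} = {j : Fin m | j.1 < i} ∪ {⟨i, hi⟩} := by
    ext j
    simp only [Set.mem_setOf_eq, Set.mem_union, Set.mem_singleton_iff, Fin.ext_iff]
    omega
  rw [this, Set.image_union, Set.image_singleton, Ideal.span_union]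

theorem initIdeal_top : initIdeal f m = Ideal.span (Set.range f) := by
  unfold initIdeal
  have : {j : Fin m | j.1 < m} = Set.univ := by
    ext j
    simp
  rw [this, Set.image_univ]

theorem ofList_take (i : ℕ) (hi : i ≤ m) :
    Ideal.ofList ((List.ofFn f).take i) = initIdeal f i := by
  unfold Ideal.ofList initIdeal
  congr 1
  ext x
  simp only [Set.mem_setOf_eq, Set.mem_image]
  rw [List.mem_take_iff_getElem]
  constructor
  · rintro ⟨idx, hidx, rfl⟩
    rw [List.length_ofFn] at hidx
    have h1 : idx < m := by omega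
    refine ⟨⟨idx, h1⟩, by simp at hidx ⊢; omega, ?_⟩
    rw [List.getElem_ofFn]
  · rintro ⟨j, hj, rfl⟩
    refine ⟨j.1, ?_, ?_⟩
    · rw [List.length_ofFn]
      have := j.2
      simp only [lt_min_iff]
      exact ⟨hj, this⟩
    · rw [List.getElem_ofFn]

theorem regular_elementwise (hreg : RingTheory.Sequence.IsRegular R (List.ofFn f)) (i : ℕ)
    (hi : i < m) (y : R) (hy : f ⟨i, hi⟩ * y ∈ initIdeal f i) : y ∈ initIdeal f i := by
  have h := hreg.toIsWeaklyRegular.regular_mod_prev i (by rw [List.length_ofFn]; exact hi)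
  rw [List.getElem_ofFn, ofList_take f i hi.le] at h
  have htop : (initIdeal f i • ⊤ : Submodule R R) = initIdeal f i := by
    rw [smul_eq_mul, Ideal.mul_top]
  have h1 : f ⟨i, hi⟩ • (Submodule.Quotient.mk y : R ⧸ (initIdeal f i • ⊤ : Submodule R R)) =
      f ⟨i, hi⟩ • (0 : R ⧸ (initIdeal f i • ⊤ : Submodule R R)) := by
    rw [smul_zero, ← Submodule.Quotient.mk_smul, Submodule.Quotient.mk_eq_zero, htop, smul_eq_mul]
    exact hy
  have h2 := h h1
  rw [Submodule.Quotient.mk_eq_zero, htop] at h2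
  exact h2

end reg

section flat

variable (p : ℕ) [hp : Fact p.Prime] (k : Type u) [Field k] [CharP k p] [PerfectRing k p]
  {n m : ℕ} (f : Fin m → MvPolynomial (Fin n) k) (f' : Fin m → MvPolynomial (Fin n) (W2 p k))

theorem map_initIdeal (hf' : ∀ i, rho p k n (f' i) = f i) (i : ℕ) :
    (initIdeal f' i).map (rho p k n) = initIdeal f i := by
  unfold initIdeal
  rw [Ideal.map_span, Set.image_image]
  congr 2
  ext x
  simp only [Set.mem_image, hf']

theorem p_mul_eq_zero (x : MvPolynomial (Fin n) (W2 p k))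
    (h : (p : MvPolynomial (Fin n) (W2 p k)) * x = 0) :
    ∃ u, x = (p : MvPolynomial (Fin n) (W2 p k)) * u := by
  have hflat : Module.Flat (W2 p k) (MvPolynomial (Fin n) (W2 p k)) := inferInstance
  have hcrit := (Groth.Agent.S13136.result p k (MvPolynomial (Fin n) (W2 p k))).mp hflat
  have h1 : (p : W2 p k) • x = 0 := by
    rw [Algebra.smul_def, map_natCast]
    exact h
  obtain ⟨u, hu⟩ := hcrit x h1
  refine ⟨u, ?_⟩
  rw [hu, Algebra.smul_def, map_natCast]

theorem claim (hf' : ∀ i, rho p k n (f' i) = f i)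
    (hreg : RingTheory.Sequence.IsRegular (MvPolynomial (Fin n) k) (List.ofFn f)) :
    ∀ i : ℕ, i ≤ m → ∀ x : MvPolynomial (Fin n) (W2 p k),
      (p : MvPolynomial (Fin n) (W2 p k)) * x ∈ initIdeal f' i →
      ∃ j ∈ initIdeal f' i, ∃ u, x = j + (p : MvPolynomial (Fin n) (W2 p k)) * u := by
  intro i
  induction i with
  | zero =>
    intro _ x hx
    rw [initIdeal_zero, Ideal.mem_bot] at hx
    obtain ⟨u, hu⟩ := p_mul_eq_zero p k x hx
    exact ⟨0, Ideal.zero_mem _, u, by rw [zero_add, hu]⟩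
  | succ i ih =>
    intro hi x hx
    have hi' : i < m := hi
    rw [initIdeal_succ f' i hi', Submodule.mem_sup] at hx
    obtain ⟨a, ha, b, hb, hab⟩ := hx
    obtain ⟨c, rfl⟩ := Ideal.mem_span_singleton'.mp hb
    -- reduce mod p
    have h1 : f ⟨i, hi'⟩ * rho p k n c ∈ initIdeal f i := by
      have h2 := congrArg (rho p k n) hab
      rw [map_add, map_mul, map_mul, map_natCast, CharP.cast_eq_zero, zero_mul, hf'] at h2
      have h3 : f ⟨i, hi'⟩ * rho p k n c = - rho p k n a := by
        linear_combination h2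
      rw [h3, ← map_initIdeal p k f f' hf']
      exact Submodule.neg_mem _ (Ideal.mem_map_of_mem _ ha)
    have h4 := regular_elementwise f hreg i hi' _ h1
    rw [← map_initIdeal p k f f' hf',
      Ideal.mem_map_iff_of_surjective _ (rho_surjective p k)] at h4
    obtain ⟨j', hj', hj'c⟩ := h4
    have h5 : rho p k n (c - j') = 0 := by rw [map_sub, hj'c, sub_self]
    obtain ⟨c', hc'⟩ := exists_of_rho_eq_zero p k _ h5
    -- p (x - f' c') ∈ J'_i
    have h6 : (p : MvPolynomial (Fin n) (W2 p k)) * (x - c' * f' ⟨i, hi'⟩) ∈ initIdeal f' i := by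
      have : (p : MvPolynomial (Fin n) (W2 p k)) * (x - c' * f' ⟨i, hi'⟩) =
          a + j' * f' ⟨i, hi'⟩ := by
        have hc : c = j' + (p : MvPolynomial (Fin n) (W2 p k)) * c' := by
          rw [← hc']; ring
        rw [mul_sub, ← hab, hc]
        ring
      rw [this]
      exact Ideal.add_mem _ ha (Ideal.mul_mem_right _ _ hj')
    obtain ⟨j, hj, u, hu⟩ := ih hi'.le _ h6
    refine ⟨j + c' * f' ⟨i, hi'⟩, ?_, u, ?_⟩
    · rw [initIdeal_succ f' i hi']
      exact Ideal.add_mem _ (Ideal.mem_sup_left hj)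
        (Ideal.mem_sup_right (Ideal.mul_mem_left _ _ (Ideal.subset_span rfl)))
    · linear_combination hu

theorem inter_eq (hf' : ∀ i, rho p k n (f' i) = f i)
    (hreg : RingTheory.Sequence.IsRegular (MvPolynomial (Fin n) k) (List.ofFn f)) :
    Ideal.span {(p : MvPolynomial (Fin n) (W2 p k))} ⊓ Ideal.span (Set.range f') =
      Ideal.span {(p : MvPolynomial (Fin n) (W2 p k))} * Ideal.span (Set.range f') := by
  apply le_antisymm _ Ideal.mul_le_inf
  rintro x ⟨hx1, hx2⟩
  obtain ⟨y, rfl⟩ := Ideal.mem_span_singleton'.mp hx1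
  rw [mul_comm, ← initIdeal_top] at hx2
  obtain ⟨j, hj, u, hu⟩ := claim p k f f' hf' hreg m le_rfl y hx2
  rw [initIdeal_top] at hj
  have : y * (p : MvPolynomial (Fin n) (W2 p k)) = (p : MvPolynomial (Fin n) (W2 p k)) * j := by
    rw [hu, add_mul, mul_comm j, mul_assoc, mul_comm u, ← mul_assoc, pp', zero_mul, add_zero]
  rw [this]
  exact Ideal.mul_mem_mul (Ideal.subset_span rfl) hj

end flat

end Groth.Agent.Lib.Helper9.RegLift
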