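import Mathlib
import Groth.Agent.Lib.Helper9.RegLiftNoeth

set_option autoImplicit false
set_option linter.unusedSectionVars false
universe u
open TensorProduct Function RingTheory.Sequence IsLocalRing
open scoped Pointwise

namespace Groth.Agent.Lib.Helper9.RegLiftNoeth

open Groth.Agent.Lib.Helper1.RegLift (mM exists_one_tmul one_tmul_eq_zero_iff map_ker)

theorem smul_top_quotient {B : Type*} [CommRing B] {M : Type*} [AddCommGroup M] [Module B M]
    (I : Ideal B) (P : Submodule B M) :
    (I • (⊤ : Submodule B (M ⧸ P))) = (I • (⊤ : Submodule B M)).map P.mkQ := by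
  rw [Submodule.map_smul'', Submodule.map_top, Submodule.range_mkQ]

theorem mk_mem_smul_top_quotient_iff {B : Type*} [CommRing B] {M : Type*} [AddCommGroup M]
    [Module B M] (I : Ideal B) (P : Submodule B M) (x : M) :
    (Submodule.Quotient.mk x : M ⧸ P) ∈ I • (⊤ : Submodule B (M ⧸ P)) ↔
      x ∈ I • (⊤ : Submodule B M) ⊔ P := by
  rw [smul_top_quotient, Submodule.mem_map, Submodule.mem_sup]
  constructor
  · rintro ⟨y, hy, hyx⟩
    refine ⟨y, hy, x - y, ?_, by abel⟩
    have : (Submodule.Quotient.mk y : M ⧸ P) = Submodule.Quotient.mk x := hyx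
    rw [Submodule.Quotient.eq] at this
    have h2 := P.neg_mem this
    rwa [neg_sub] at h2
  · rintro ⟨y, hy, p, hp, rfl⟩
    refine ⟨y, hy, ?_⟩
    rw [Submodule.mkQ_apply, Submodule.Quotient.eq]
    have : y - (y + p) = -p := by abel
    rw [this]
    exact P.neg_mem hp

theorem main (A B : Type u) [CommRing A] [CommRing B] [IsLocalRing A]
    [IsLocalRing B] [IsNoetherianRing A] [IsNoetherianRing B] [Algebra A B] [IsLocalHom (algebraMap A B)]
    (M : Type u) [AddCommGroup M] [Module B M] [Module A M] [IsScalarTower A B M] [Module.Finite B M]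
    [Module.Flat A M] (R : Submodule B M) (hR : Module.Flat A (M ⧸ R)) (fs : List B)
    (h1 : Ideal.ofList fs • (⊤ : Submodule B M) ≤ R)
    (h2 : RingTheory.Sequence.IsWeaklyRegular
      (M ⧸ ((IsLocalRing.maximalIdeal A).map (algebraMap A B) • (⊤ : Submodule B M))) fs)
    (h3 : Ideal.ofList fs • (⊤ : Submodule B
        (M ⧸ ((IsLocalRing.maximalIdeal A).map (algebraMap A B) • (⊤ : Submodule B M)))) =
      R.map ((IsLocalRing.maximalIdeal A).map (algebraMap A B) • (⊤ : Submodule B M)).mkQ) :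
    RingTheory.Sequence.IsWeaklyRegular M fs ∧ R = Ideal.ofList fs • (⊤ : Submodule B M) := by
  set I : Ideal B := (IsLocalRing.maximalIdeal A).map (algebraMap A B) with hI
  set mMM : Submodule B M := I • (⊤ : Submodule B M) with hmMM
  set N : Submodule B M := Ideal.ofList fs • (⊤ : Submodule B M) with hN
  obtain ⟨hw, hflN⟩ := isWeaklyRegular_and_flat (C := A) fs M (M ⧸ mMM) mMM.mkQ
    (Submodule.mkQ_surjective _) (fun x => by
      rw [Submodule.mkQ_apply, Submodule.Quotient.mk_eq_zero]) h2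
  refine ⟨hw, ?_⟩
  -- R ≤ mM ⊔ N
  have hRle : R ≤ mMM ⊔ N := by
    intro r hr
    have hr1 : mMM.mkQ r ∈ R.map mMM.mkQ := Submodule.mem_map_of_mem hr
    rw [← h3, smul_top_quotient, Submodule.mem_map] at hr1
    obtain ⟨n, hn, hnr⟩ := hr1
    have : (Submodule.Quotient.mk n : M ⧸ mMM) = Submodule.Quotient.mk r := hnr
    rw [Submodule.Quotient.eq] at this
    rw [Submodule.mem_sup]
    refine ⟨r - n, ?_, n, hn, by abel⟩
    have h5 := mMM.neg_mem this
    rwa [neg_sub] at h5
  let u : (M ⧸ N) →ₗ[B] (M ⧸ R) := Submodule.mapQ N R LinearMap.id h1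
  let uA : (M ⧸ N) →ₗ[A] (M ⧸ R) := u.restrictScalars A
  have hinj : Injective (uA.lTensor (IsLocalRing.ResidueField A)) := by
    rw [injective_iff_map_eq_zero]
    intro t ht
    obtain ⟨xb, rfl⟩ := exists_one_tmul (C := A) (M ⧸ N) t
    obtain ⟨x, rfl⟩ := Submodule.Quotient.mk_surjective _ xb
    rw [LinearMap.lTensor_tmul] at ht
    have hux : uA (Submodule.Quotient.mk x) = (Submodule.Quotient.mk x : M ⧸ R) := rfl
    rw [hux, one_tmul_eq_zero_iff (C := A) (A := B), mk_mem_smul_top_quotient_iff] at ht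
    rw [one_tmul_eq_zero_iff (C := A) (A := B), mk_mem_smul_top_quotient_iff]
    have : mMM ⊔ R ≤ mMM ⊔ N := sup_le le_sup_left hRle
    exact this ht
  obtain ⟨hu, -⟩ :=
    Groth.Agent.Lib.Helper9.injective_and_flat_of_lTensor_residueField_injective uA B hinj
  refine le_antisymm ?_ h1
  intro r hr
  have h4 : uA (Submodule.Quotient.mk r) = uA 0 := by
    rw [map_zero]
    show (Submodule.Quotient.mk r : M ⧸ R) = 0
    rw [Submodule.Quotient.mk_eq_zero]
    exact hr
  have h5 := hu h4
  rwa [Submodule.Quotient.mk_eq_zero] at h5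

end Groth.Agent.Lib.Helper9.RegLiftNoeth
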