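import Mathlib
import Groth.Agent.Lib.Helper9.Kummer2
import Groth.Agent.Lib.Helper21.RegularLocal

set_option autoImplicit false
universe u

namespace Groth.Agent.Lib.Helper9.RegParam

open IsLocalRing

theorem le_of_add_nat_le_add_nat (x y : WithBot ℕ∞) (n : ℕ)
    (h : x + (n : WithBot ℕ∞) ≤ y + n) : x ≤ y := by
  induction x using WithBot.recBotCoe with
  | bot => exact bot_le
  | coe a =>
    induction y using WithBot.recBotCoe with
    | bot => simp at h
    | coe b =>
      have h' : a + (n : ℕ∞) ≤ b + n := by exact_mod_cast h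
      have := (ENat.add_le_add_iff_right (ENat.natCast_ne_top n)).mp h'
      exact_mod_cast this

variable {A : Type u} [CommRing A] [IsLocalRing A] [IsNoetherianRing A]

omit [IsNoetherianRing A] in
/-- the maximal ideal of a quotient of a local ring. -/
theorem maximalIdeal_quotient (J : Ideal A) [IsLocalRing (A ⧸ J)] :
    maximalIdeal (A ⧸ J) = (maximalIdeal A).map (Ideal.Quotient.mk J) := by
  have hne : J ≠ ⊤ := Ideal.Quotient.nontrivial_iff.mp inferInstance
  have hle : J ≤ maximalIdeal A := le_maximalIdeal hne
  have h1 := Ideal.map_eq_top_or_isMaximal_of_surjective (Ideal.Quotient.mk J)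
    Ideal.Quotient.mk_surjective (maximalIdeal.isMaximal A)
  rcases h1 with h1 | h1
  · exfalso
    have h2 : Ideal.comap (Ideal.Quotient.mk J) (Ideal.map (Ideal.Quotient.mk J) (maximalIdeal A))
        = maximalIdeal A := by
      rw [Ideal.comap_map_of_surjective _ Ideal.Quotient.mk_surjective, ← RingHom.ker_eq_comap_bot,
        Ideal.mk_ker, sup_eq_left.mpr hle]
    rw [h1, Ideal.comap_top] at h2
    exact (maximalIdeal.isMaximal A).ne_top h2.symm
  · exact (IsLocalRing.eq_maximalIdeal h1).symm

variable {r : ℕ} (x : Fin r → maximalIdeal A)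

/-- the ideal generated by the `x i`. -/
def J : Ideal A := Ideal.span (Set.range fun i => (x i : A))

omit [IsNoetherianRing A] in
theorem J_le : J x ≤ maximalIdeal A := by
  unfold J
  rw [Ideal.span_le]
  rintro _ ⟨i, rfl⟩
  exact (x i).2

theorem dim_le : ringKrullDim A ≤ ringKrullDim (A ⧸ J x) + (r : WithBot ℕ∞) := by
  have h1 := ringKrullDim_le_ringKrullDim_quotient_add_encard
    (Set.range fun i => (x i : A)) (by
      rintro _ ⟨i, rfl⟩
      rw [IsLocalRing.ringJacobson_eq_maximalIdeal]
      exact (x i).2)
  refine h1.trans ?_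
  unfold J
  gcongr
  have h2 : (Set.range fun i => (x i : A)).encard ≤ (r : ℕ∞) := by
    have := Set.encard_image_le (fun i => (x i : A)) Set.univ
    rw [Set.image_univ] at this
    refine this.trans ?_
    simp
  exact_mod_cast h2

theorem map_mk_span (s : Set A) :
    (Ideal.span ((Set.range fun i => (x i : A)) ∪ s)).map (Ideal.Quotient.mk (J x)) =
      Ideal.span (Ideal.Quotient.mk (J x) '' s) := by
  rw [Ideal.map_span, Set.image_union, Ideal.span_union]
  have h0 : Ideal.span (Ideal.Quotient.mk (J x) '' (Set.range fun i => (x i : A))) = ⊥ := by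
    rw [Ideal.span_eq_bot]
    rintro _ ⟨_, ⟨i, rfl⟩, rfl⟩
    exact Ideal.Quotient.eq_zero_iff_mem.mpr (Ideal.subset_span ⟨i, rfl⟩)
  rw [h0, bot_sup_eq]

theorem forward (hreg : IsRegularLocalRing A)
    (hli : LinearIndependent (ResidueField A) (fun i => (maximalIdeal A).toCotangent (x i))) :
    ringKrullDim (A ⧸ J x) + (r : WithBot ℕ∞) = ringKrullDim A ∧ IsRegularLocalRing (A ⧸ J x) := by
  obtain ⟨s, hsfin, hcard, hspan⟩ :=
    Groth.Agent.Lib.Helper9.Kummer.exists_extension (f := fun i => (x i : A))
      (fun i => (x i).2) (by simpa using hli)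
  have hd := (IsRegularLocalRing.iff_finrank_cotangentSpace A).mp hreg
  have hnt : Nontrivial (A ⧸ J x) :=
    Ideal.Quotient.nontrivial_iff.mpr (fun h => (maximalIdeal.isMaximal A).ne_top
      (top_le_iff.mp (h ▸ J_le x)))
  have hloc : IsLocalRing (A ⧸ J x) :=
    IsLocalRing.of_surjective' (Ideal.Quotient.mk (J x)) Ideal.Quotient.mk_surjective
  have hmQ : maximalIdeal (A ⧸ J x) = Ideal.span (Ideal.Quotient.mk (J x) '' s) := by
    rw [maximalIdeal_quotient, ← hspan, map_mk_span]
  have h1 : (maximalIdeal (A ⧸ J x)).spanFinrank ≤ s.ncard := by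
    rw [hmQ]
    exact (Submodule.spanFinrank_span_le_ncard_of_finite (hsfin.image _)).trans
      (Set.ncard_image_le hsfin)
  have hI1 := dim_le x
  have hI2 := ringKrullDim_le_spanFinrank_maximalIdeal (A ⧸ J x)
  have h2 : ((maximalIdeal (A ⧸ J x)).spanFinrank : WithBot ℕ∞) + (r : WithBot ℕ∞) ≤
      ringKrullDim A := by
    rw [← hd]
    have : (maximalIdeal (A ⧸ J x)).spanFinrank + r ≤
        Module.finrank (ResidueField A) (CotangentSpace A) := by omega
    exact_mod_cast this
  refine ⟨le_antisymm ?_ hI1, ?_⟩
  · exact (add_le_add_left hI2 _).trans h2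
  · apply IsRegularLocalRing.of_spanFinrank_maximalIdeal_le
    exact le_of_add_nat_le_add_nat _ _ r (h2.trans hI1)

theorem backward (hdim : ringKrullDim (A ⧸ J x) + (r : WithBot ℕ∞) = ringKrullDim A)
    (hQ : IsRegularLocalRing (A ⧸ J x)) :
    IsRegularLocalRing A ∧
      LinearIndependent (ResidueField A) (fun i => (maximalIdeal A).toCotangent (x i)) := by
  classical
  set μ := (maximalIdeal (A ⧸ J x)).spanFinrank with hμ
  have hμdim : (μ : WithBot ℕ∞) = ringKrullDim (A ⧸ J x) := hQ.spanFinrank_maximalIdeal
  have hfg : (maximalIdeal (A ⧸ J x)).FG := (isNoetherianRing_iff_ideal_fg _).mp inferInstance _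
  set G := Submodule.generators (maximalIdeal (A ⧸ J x)) with hG
  have hGfin : G.Finite := Submodule.FG.finite_generators hfg
  have hGcard : G.ncard = μ := Submodule.FG.generators_ncard hfg
  have hGspan : Ideal.span G = maximalIdeal (A ⧸ J x) := Submodule.span_generators _
  let σ : A ⧸ J x → A := Function.surjInv Ideal.Quotient.mk_surjective
  have hσ : ∀ q, Ideal.Quotient.mk (J x) (σ q) = q := Function.surjInv_eq _
  set s : Set A := σ '' G with hs
  have hsfin : s.Finite := hGfin.image _
  have hscard : s.ncard ≤ μ := hGcard ▸ Set.ncard_image_le hGfin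
  have hmks : Ideal.Quotient.mk (J x) '' s = G := by
    rw [hs, Set.image_image]
    simp [hσ]
  have hcomap : ∀ a : A, Ideal.Quotient.mk (J x) a ∈ maximalIdeal (A ⧸ J x) →
      a ∈ maximalIdeal A := by
    intro a ha
    rw [maximalIdeal_quotient, Ideal.mem_map_iff_of_surjective _ Ideal.Quotient.mk_surjective] at ha
    obtain ⟨b, hb, hab⟩ := ha
    have : a - b ∈ J x := by
      rw [← Ideal.Quotient.eq_zero_iff_mem, map_sub, hab, sub_self]
    have h2 : a = (a - b) + b := by ring
    rw [h2]
    exact Ideal.add_mem _ (J_le x this) hb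
  have hsm : s ⊆ maximalIdeal A := by
    rintro _ ⟨g, hg, rfl⟩
    apply hcomap
    rw [hσ, ← hGspan]
    exact Ideal.subset_span hg
  have hspan : Ideal.span ((Set.range fun i => (x i : A)) ∪ s) = maximalIdeal A := by
    apply le_antisymm
    · rw [Ideal.span_le]
      rintro a (⟨i, rfl⟩ | ha)
      · exact (x i).2
      · exact hsm ha
    · intro a ha
      have h1 : Ideal.Quotient.mk (J x) a ∈ maximalIdeal (A ⧸ J x) := by
        rw [maximalIdeal_quotient]
        exact Ideal.mem_map_of_mem _ ha
      rw [← hGspan, ← hmks, ← Ideal.map_span,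
        Ideal.mem_map_iff_of_surjective _ Ideal.Quotient.mk_surjective] at h1
      obtain ⟨b, hb, hab⟩ := h1
      have h2 : a - b ∈ J x := by
        rw [← Ideal.Quotient.eq_zero_iff_mem, map_sub, hab, sub_self]
      have h3 : a = (a - b) + b := by ring
      rw [h3, Ideal.span_union]
      exact Ideal.add_mem _ (Ideal.mem_sup_left h2) (Ideal.mem_sup_right hb)
  have hdimA : ringKrullDim A = ((μ + r : ℕ) : WithBot ℕ∞) := by
    rw [← hdim, ← hμdim]
    norm_cast
  have hregA : IsRegularLocalRing A := by
    apply IsRegularLocalRing.of_spanFinrank_maximalIdeal_le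
    rw [← hspan, hdimA]
    have h1 := Submodule.spanFinrank_span_le_ncard_of_finite (R := A)
      ((Set.finite_range fun i => (x i : A)).union hsfin)
    have h2 : ((Set.range fun i => (x i : A)) ∪ s).ncard ≤ r + μ := by
      refine (Set.ncard_union_le _ _).trans (add_le_add ?_ hscard)
      have := Set.ncard_image_le (f := fun i => (x i : A)) (Set.finite_univ)
      rw [Set.image_univ] at this
      simpa using this
    have h3 : (Ideal.span ((Set.range fun i => (x i : A)) ∪ s)).spanFinrank ≤ μ + r := by
      change (Submodule.span A _).spanFinrank ≤ _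
      omega
    exact_mod_cast h3
  refine ⟨hregA, ?_⟩
  -- linear independence
  have hfr : Module.finrank (ResidueField A) (CotangentSpace A) = μ + r := by
    have := (IsRegularLocalRing.iff_finrank_cotangentSpace A).mp hregA
    rw [hdimA] at this
    exact_mod_cast this
  set s0 : Set (maximalIdeal A) := Subtype.val ⁻¹' s with hs0
  have hs0val : Subtype.val '' s0 = s := by
    rw [hs0, Set.image_preimage_eq_inter_range, Subtype.range_coe_subtype]
    exact Set.inter_eq_left.mpr hsm
  have hs0fin : s0.Finite := hsfin.preimage Subtype.val_injective.injOn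
  have hs0card : s0.ncard ≤ μ := by
    have : s0.ncard = s.ncard := by
      rw [← hs0val, Set.ncard_image_of_injective _ Subtype.val_injective]
    omega
  set S0 : Set (maximalIdeal A) := Set.range x ∪ s0 with hS0
  have hS0span : Submodule.span A S0 = ⊤ := by
    apply Submodule.map_injective_of_injective (maximalIdeal A).subtype_injective
    rw [Submodule.map_span, Submodule.map_top, Submodule.range_subtype, hS0, Set.image_union,
      ← Set.range_comp]
    change Submodule.span A (Set.range (fun i => (x i : A)) ∪ Subtype.val '' s0) = _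
    rw [hs0val]
    exact hspan
  have hcot := IsLocalRing.CotangentSpace.span_image_eq_top_iff.mpr hS0span
  rw [hS0, Set.image_union, ← Set.range_comp, Submodule.span_union] at hcot
  set V1 := Submodule.span (ResidueField A)
    (Set.range ((maximalIdeal A).toCotangent ∘ x)) with hV1
  set V2 := Submodule.span (ResidueField A) ((maximalIdeal A).toCotangent '' s0) with hV2
  have hV2le : Module.finrank (ResidueField A) V2 ≤ μ := by
    have hfin2 : ((maximalIdeal A).toCotangent '' s0).Finite := hs0fin.image _
    have h1 := finrank_span_finset_le_card (R := ResidueField A) hfin2.toFinset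
    rw [Set.Finite.coe_toFinset] at h1
    refine h1.trans ?_
    rw [← Set.ncard_eq_toFinset_card _ hfin2]
    exact (Set.ncard_image_le hs0fin).trans hs0card
  have hsum : Module.finrank (ResidueField A) (CotangentSpace A) ≤
      Module.finrank (ResidueField A) V1 + Module.finrank (ResidueField A) V2 := by
    have := Submodule.finrank_add_le_finrank_add_finrank V1 V2
    rw [hcot, finrank_top] at this
    exact this
  have hV1le : Module.finrank (ResidueField A) V1 ≤ r := by
    have := finrank_range_le_card (R := ResidueField A) ((maximalIdeal A).toCotangent ∘ x)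
    rw [Fintype.card_fin] at this
    exact this
  rw [linearIndependent_iff_card_eq_finrank_span, Fintype.card_fin]
  change r = Module.finrank (ResidueField A) V1
  omega

theorem main (A : Type u) [CommRing A] [IsLocalRing A]
    [IsNoetherianRing A] (r : ℕ) (x : Fin r → IsLocalRing.maximalIdeal A) :
    ((IsRegularLocalRing A ∧
        LinearIndependent (IsLocalRing.ResidueField A)
          (fun i => (IsLocalRing.maximalIdeal A).toCotangent (x i))) ↔
      (ringKrullDim (A ⧸ Ideal.span (Set.range fun i => (x i : A))) + r = ringKrullDim A ∧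
        IsRegularLocalRing (A ⧸ Ideal.span (Set.range fun i => (x i : A))))) ∧
    (IsRegularLocalRing (A ⧸ Ideal.span (Set.range fun i => (x i : A))) →
      ringKrullDim (A ⧸ Ideal.span (Set.range fun i => (x i : A))) + r = ringKrullDim A →
        (Ideal.span (Set.range fun i => (x i : A))).IsPrime) := by
  refine ⟨⟨fun h => forward x h.1 h.2, fun h => backward x h.1 h.2⟩, fun hQ _ => ?_⟩
  have := Groth.Agent.Lib.Helper21.isDomain_of_isRegularLocalRing
    (A ⧸ Ideal.span (Set.range fun i => (x i : A)))
  exact (Ideal.Quotient.isDomain_iff_prime _).mp this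

end Groth.Agent.Lib.Helper9.RegParam
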