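import Groth.Agent.Lib.Helper21.RegularLocal
import Mathlib.RingTheory.Ideal.UFD
import Mathlib.RingTheory.DiscreteValuationRing.TFAE
import Mathlib.RingTheory.Nakayama

/-!
# A regular local ring of dimension two is a UFD (helper9 library)

Elementary proof: pick `x ∈ 𝔪 \ 𝔪²`; `A/(x)` is a DVR, so `(x)` is prime; a height-one prime not
containing `x` has principal image in `A/(x)`, hence is principal by Nakayama.
-/

set_option autoImplicit false

namespace Groth.Agent.Lib.Helper9

open IsLocalRing

universe u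

/-- If `A/(x)` is a principal ideal ring with `x ∈ 𝔪`, every prime not containing `x` is
principal. -/
theorem isPrincipal_of_isPrime_of_notMem {A : Type*} [CommRing A] [IsLocalRing A]
    [IsNoetherianRing A] {x : A} (hx : x ∈ maximalIdeal A)
    [IsPrincipalIdealRing (A ⧸ Ideal.span {x})] (p : Ideal A) [hp : p.IsPrime] (hxp : x ∉ p) :
    p.IsPrincipal := by
  obtain ⟨gbar, hg⟩ :=
    (IsPrincipalIdealRing.principal (p.map (Ideal.Quotient.mk (Ideal.span {x})))).principal
  have hg' : p.map (Ideal.Quotient.mk (Ideal.span {x})) = Ideal.span {gbar} := hg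
  have h0 : gbar ∈ p.map (Ideal.Quotient.mk (Ideal.span {x})) := by
    rw [hg']; exact Ideal.mem_span_singleton_self _
  obtain ⟨f, hfp, rfl⟩ := (Ideal.mem_map_iff_of_surjective _ Ideal.Quotient.mk_surjective).mp h0
  refine ⟨f, ?_⟩
  show p = Ideal.span {f}
  apply le_antisymm _ ((Ideal.span_singleton_le_iff_mem _).mpr hfp)
  apply Submodule.le_of_le_smul_of_le_jacobson_bot (I := maximalIdeal A)
    (IsNoetherian.noetherian p) (maximalIdeal_le_jacobson _)
  intro y hy
  have h1 : Ideal.Quotient.mk (Ideal.span {x}) y ∈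
      p.map (Ideal.Quotient.mk (Ideal.span {x})) := Ideal.mem_map_of_mem _ hy
  rw [hg'] at h1
  obtain ⟨cbar, hc⟩ := Ideal.mem_span_singleton'.mp h1
  obtain ⟨c, rfl⟩ := Ideal.Quotient.mk_surjective cbar
  have h2 : y - c * f ∈ Ideal.span {x} := by
    rw [← Ideal.Quotient.eq_zero_iff_mem, map_sub, map_mul, hc, sub_self]
  obtain ⟨a, ha⟩ := Ideal.mem_span_singleton'.mp h2
  have ha' : a ∈ p := by
    have : a * x ∈ p := by rw [ha]; exact p.sub_mem hy (p.mul_mem_left _ hfp)
    exact (hp.mem_or_mem this).resolve_right hxp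
  have hy' : y = c * f + x • a := by rw [smul_eq_mul]; linear_combination -ha
  rw [hy']
  exact Submodule.add_mem_sup (Ideal.mem_span_singleton'.mpr ⟨c, rfl⟩)
    (Submodule.smul_mem_smul hx ha')

/-- A regular local ring of Krull dimension two is a unique factorization domain. -/
theorem ufd_of_isRegularLocalRing_of_dim_two (A : Type u) [CommRing A] [IsRegularLocalRing A]
    [IsDomain A] (hA : ringKrullDim A = 2) : UniqueFactorizationMonoid A := by
  have hnot : maximalIdeal A ∉ minimalPrimes A := by
    intro hmin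
    have h0 : (maximalIdeal A).height = 0 := Ideal.height_eq_zero_iff.mpr hmin
    have h1 := IsLocalRing.maximalIdeal_height_eq_ringKrullDim (R := A)
    rw [h0, hA] at h1
    have : ((0 : ℕ) : WithBot ℕ∞) = ((2 : ℕ) : WithBot ℕ∞) := h1
    have h2 : (0 : ℕ) = 2 := by exact_mod_cast this
    omega
  obtain ⟨x, hx, hx2, hxn⟩ :=
    Groth.Agent.Lib.Helper21.exists_mem_maximalIdeal_notMem_sq_notMem_minimalPrimes hnot
  obtain ⟨hreg, hd⟩ := Groth.Agent.Lib.Helper21.isRegularLocalRing_quotient_of_notMem_sq hx hx2 hxn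
  have hdim' : ringKrullDim (A ⧸ Ideal.span {x}) = 1 := by
    obtain ⟨m, hm⟩ := Groth.Agent.Lib.Helper21.exists_nat_eq_ringKrullDim (R := A ⧸ Ideal.span {x})
    rw [hm, hA] at hd
    have : m + 1 = 2 := by exact_mod_cast hd
    rw [hm]
    have : m = 1 := by omega
    exact_mod_cast this
  have hdom : IsDomain (A ⧸ Ideal.span {x}) :=
    Groth.Agent.Lib.Helper21.isDomain_of_isRegularLocalRing _
  have hfr : Module.finrank (ResidueField (A ⧸ Ideal.span {x}))
      (CotangentSpace (A ⧸ Ideal.span {x})) = 1 := by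
    have := (IsRegularLocalRing.iff_finrank_cotangentSpace (A ⧸ Ideal.span {x})).mp hreg
    rw [hdim'] at this
    exact_mod_cast this
  have hdvr : IsDiscreteValuationRing (A ⧸ Ideal.span {x}) :=
    IsLocalRing.finrank_CotangentSpace_eq_one_iff.mp hfr
  have hprime : (Ideal.span {x}).IsPrime := (Ideal.Quotient.isDomain_iff_prime _).mp hdom
  have hx0 : x ≠ 0 := by
    rintro rfl
    exact hx2 (Ideal.zero_mem _)
  have hxprime : Prime x := (Ideal.span_singleton_prime hx0).mp hprime
  apply UniqueFactorizationMonoid.of_forall_isPrincipal_of_height_eq_one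
  intro p hp hph
  by_cases hxp : x ∈ p
  · exact ⟨x, p.eq_span_singleton_of_height_eq_one hph hxp hxprime⟩
  · exact isPrincipal_of_isPrime_of_notMem hx p hxp

end Groth.Agent.Lib.Helper9
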