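import Mathlib
import Groth.Agent.Lib.Helper9.RigPt

set_option autoImplicit false
set_option linter.style.haveILetI false
set_option linter.unusedSectionVars false
set_option linter.unusedVariables false
universe u

namespace Groth.Agent.Lib.Helper9.RigPt2
open Groth.Agent.Lib.Helper9.RigPt
open IsLocalRing Polynomial

section Main42

variable (R : Type u) [CommRing R] [IsDomain R] [ValuationRing R] [Ring.KrullDimLE 1 R]
  (t : R) (ht : t ≠ 0) [IsAdicComplete (Ideal.span {t}) R]
variable (A : Type u) [CommRing A] [Algebra R A] (f : A)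
variable (B : Type u) [CommRing B] [Algebra R B] [IsDomain B] [IsLocalRing B]

include ht in
theorem main42 (hB : AdicRing.Admissible R (Ideal.span {t}) B) (hdim : ringKrullDim B = 1)
    (u : AdicRing.CLoc (Ideal.span {t}) f →ₐ[R] B) (hu : Function.Surjective u) :
    Function.Surjective
      (u.toRingHom.comp (algebraMap A (AdicRing.CLoc (Ideal.span {t}) f))) := by
  have htB := algebraMap_t_ne_zero R t B hB.2
  haveI hfin : Module.Finite R B :=
    finite_of_topFiniteType R t ht B (topFiniteType_of_admissible R t B hB) htB hdim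
  set Af := Localization.Away f with hAf
  set J : Ideal Af := (Ideal.span {t}).map (algebraMap R Af) with hJdef
  have hJ : J = Ideal.span {algebraMap R Af t} := by
    rw [hJdef, Ideal.map_span, Set.image_singleton]
  let ρ : A →ₐ[R] B :=
    { toRingHom := u.toRingHom.comp (algebraMap A (AdicCompletion J Af))
      commutes' := fun r => by
        have h1 : algebraMap A (AdicCompletion J Af) (algebraMap R A r) =
            algebraMap R (AdicCompletion J Af) r := by
          rw [AdicCompletion.algebraMap_apply, AdicCompletion.algebraMap_apply,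
            ← IsScalarTower.algebraMap_apply R A Af]
        simp only [AlgHom.toRingHom_eq_coe, RingHom.toMonoidHom_eq_coe, OneHom.toFun_eq_coe,
          MonoidHom.toOneHom_coe, MonoidHom.coe_coe, RingHom.coe_comp, RingHom.coe_coe,
          Function.comp_apply]
        rw [h1, AlgHom.commutes] }
  have hρ : ∀ a, ρ a = u (algebraMap A (AdicCompletion J Af) a) := fun a => rfl
  change Function.Surjective ρ
  set B₀ : Subalgebra R B := ρ.range with hB₀
  -- g = ρ f is a unit of B₀
  have hgu : IsUnit (ρ f) := by
    rw [hρ]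
    have h1 : IsUnit (algebraMap A Af f) := IsLocalization.Away.algebraMap_isUnit f
    have h2 : IsUnit (algebraMap A (AdicCompletion J Af) f) := by
      rw [AdicCompletion.algebraMap_apply]
      have : AdicCompletion.of J Af (algebraMap A Af f) =
          algebraMap Af (AdicCompletion J Af) (algebraMap A Af f) := rfl
      rw [this]
      exact h1.map _
    exact h2.map u
  haveI : Algebra.IsIntegral R B := Algebra.IsIntegral.of_finite R B
  have hintB₀ : (B₀.val : B₀ →+* B).IsIntegral := by
    intro b
    exact (Algebra.IsIntegral.isIntegral (R := R) b).tower_top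
  haveI hloc : IsLocalHom (B₀.val : B₀ →+* B) :=
    hintB₀.isLocalHom Subtype.val_injective
  have hg0 : IsUnit (⟨ρ f, ⟨f, rfl⟩⟩ : B₀) :=
    isUnit_of_map_unit (B₀.val : B₀ →+* B) _ hgu
  obtain ⟨⟨h, hh⟩, hgh⟩ := hg0.exists_right_inv
  have hgh' : ρ f * h = 1 := congrArg Subtype.val hgh
  -- image of the localization lies in B₀
  have himg : ∀ p : Af, u (AdicCompletion.of J Af p) ∈ B₀ := by
    intro p
    obtain ⟨⟨a, ⟨_, k, rfl⟩⟩, hp⟩ := IsLocalization.surj (Submonoid.powers f) p
    simp only at hp
    have hof : ∀ q : Af, AdicCompletion.of J Af q = algebraMap Af (AdicCompletion J Af) q :=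
      fun q => rfl
    have h1 : u (AdicCompletion.of J Af p) * ρ f ^ k = ρ a := by
      rw [hρ, hρ, ← map_pow, ← map_mul, AdicCompletion.algebraMap_apply,
        AdicCompletion.algebraMap_apply, hof, hof, hof, ← map_pow, ← map_mul, ← map_pow, hp]
    have h2 : u (AdicCompletion.of J Af p) = ρ a * h ^ k := by
      have : (ρ f * h) ^ k = 1 := by rw [hgh', one_pow]
      calc u (AdicCompletion.of J Af p) = u (AdicCompletion.of J Af p) * (ρ f * h) ^ k := by
            rw [this, mul_one]
        _ = (u (AdicCompletion.of J Af p) * ρ f ^ k) * h ^ k := by rw [mul_pow]; ring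
        _ = ρ a * h ^ k := by rw [h1]
    rw [h2]
    exact B₀.mul_mem ⟨a, rfl⟩ (B₀.pow_mem hh k)
  -- Nakayama
  have hle : (⊤ : Submodule R B) ≤ Subalgebra.toSubmodule B₀ ⊔ (Ideal.span {t}) • ⊤ := by
    intro b _
    obtain ⟨x, rfl⟩ := hu b
    obtain ⟨p, hp⟩ := exists_sub_mem t J hJ x
    obtain ⟨c, hc⟩ := Ideal.mem_span_singleton'.mp hp
    have hx : x = AdicCompletion.of J Af p + c * algebraMap R (AdicCompletion J Af) t := by
      rw [hc]; ring
    rw [hx, map_add, map_mul, AlgHom.commutes]
    refine Submodule.add_mem_sup (himg p) ?_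
    rw [mul_comm, ← Algebra.smul_def]
    exact Submodule.smul_mem_smul (Ideal.mem_span_singleton_self t) Submodule.mem_top
  have hfg : (⊤ : Submodule R B).FG := Module.finite_def.mp hfin
  have := Submodule.le_of_le_smul_of_le_jacobson_bot hfg (span_le_jacobson R t) hle
  intro b
  obtain ⟨a, ha⟩ := this (Submodule.mem_top : b ∈ ⊤)
  exact ⟨a, ha⟩

end Main42

end Groth.Agent.Lib.Helper9.RigPt2
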