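import Groth.Agent.Lib.Helper9.ReflNormal4

/-!
# Reflexive ⟺ torsion-free + S₂ over a Noetherian normal domain (helper9)
-/

set_option autoImplicit false
universe u
open IsLocalRing RingTheory.Sequence

namespace Groth.Agent.Lib.Helper9.S2ReflIff

open Groth.Agent.Lib.Helper16.Depth Groth.Agent.Lib.Helper18.CM
open Groth.Agent.Lib.Helper9.RegRefl Groth.Agent.Lib.Helper9.ReflNormal
open Groth.Agent.Lib.Helper9.LocRefl

section local_ring

variable (A : Type u) [CommRing A] [IsLocalRing A] [IsNoetherianRing A] [IsDomain A]
  [IsIntegrallyClosed A] (N : Type u) [AddCommGroup N] [Module A N]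

/-- reflexive modules over normal Noetherian local domains satisfy `min 2 (dim A) ≤ depth N` -/
theorem le_depth_of_isReflexive [Module.IsReflexive A N] (j : ℕ) (hj2 : j ≤ 2)
    (hj : (j : WithBot ℕ∞) ≤ ringKrullDim A) : (j : ℕ∞) ≤ LocCoh.depth A N := by
  have h1 := Groth.Agent.Lib.Helper18.Serre.min_two_dim_le_depth_of_normal A
  have h2 : ((j : ℕ∞) : WithBot ℕ∞) ≤ ((LocCoh.depth A A : ℕ∞) : WithBot ℕ∞) :=
    le_trans (le_min (show ((j : ℕ∞) : WithBot ℕ∞) ≤ (((2 : ℕ) : ℕ∞) : WithBot ℕ∞) from
      WithBot.coe_le_coe.mpr (by exact_mod_cast hj2)) hj) h1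
  have h3 : (j : ℕ∞) ≤ LocCoh.depth A A := WithBot.coe_le_coe.mp h2
  rcases (le_idealDepth_iff (maximalIdeal A) A j).mp h3 with htop | ⟨rs, hlen, hreg, hmem⟩
  · exfalso
    have h5 : (1 : A) ∈ maximalIdeal A • (⊤ : Submodule A A) := by rw [htop]; trivial
    rw [smul_eq_mul, Ideal.mul_top] at h5
    exact (Ideal.ne_top_iff_one _).mp (IsLocalRing.maximalIdeal.isMaximal A).ne_top h5
  · have hw : IsWeaklyRegular (Module.Dual A (Module.Dual A N)) rs :=
      isWeaklyRegular_dual (Module.Dual A N) rs (hlen ▸ hj2) hreg
    rw [depth_congr (Module.evalEquiv A N)]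
    exact (le_idealDepth_iff (I := maximalIdeal A) (M := Module.Dual A (Module.Dual A N)) j).mpr
      (Or.inr ⟨rs, hlen, hw, hmem⟩)

end local_ring

variable {R M : Type u} [CommRing R] [IsDomain R] [IsNoetherianRing R] [IsIntegrallyClosed R]
  [AddCommGroup M] [Module R M] [Module.Finite R M]

theorem hasSk_two_of_isReflexive [Module.IsReflexive R M] : LocCoh.HasSk 2 R M := by
  intro p hp
  have : IsIntegrallyClosed (Localization.AtPrime p) :=
    isIntegrallyClosed_of_isLocalization (Localization.AtPrime p) p.primeCompl
      (Ideal.primeCompl_le_nonZeroDivisors p)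
  have : Module.IsReflexive (Localization.AtPrime p) (LocalizedModule p.primeCompl M) :=
    isReflexive_of_isLocalizedModule p.primeCompl (Localization.AtPrime p)
      (LocalizedModule.mkLinearMap p.primeCompl M)
  have hsd := Module.supportDim_le_ringKrullDim (R := Localization.AtPrime p)
    (M := LocalizedModule p.primeCompl M)
  generalize ht : min ((2 : ℕ) : WithBot ℕ∞)
    (Module.supportDim (Localization.AtPrime p) (LocalizedModule p.primeCompl M)) = t
  have ht2 : t ≤ ((2 : ℕ) : WithBot ℕ∞) := ht ▸ min_le_left _ _
  have htd : t ≤ ringKrullDim (Localization.AtPrime p) := ht ▸ (min_le_right _ _).trans hsd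
  induction t using WithBot.recBotCoe with
  | bot => exact bot_le
  | coe n =>
    induction n using ENat.recTopCoe with
    | top =>
      exfalso
      have h' : ((⊤ : ℕ∞) : WithBot ℕ∞) ≤ (((2 : ℕ) : ℕ∞) : WithBot ℕ∞) := ht2
      rw [WithBot.coe_le_coe] at h'
      simp at h'
    | coe j =>
      have hj2 : j ≤ 2 := by
        have h' : ((j : ℕ∞) : WithBot ℕ∞) ≤ (((2 : ℕ) : ℕ∞) : WithBot ℕ∞) := ht2
        rw [WithBot.coe_le_coe] at h'
        exact_mod_cast h'
      have := le_depth_of_isReflexive (Localization.AtPrime p) (LocalizedModule p.primeCompl M)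
        j hj2 htd
      exact WithBot.coe_le_coe.mpr this

theorem isReflexive_of_hasSk_two [Module.IsTorsionFree R M] (hS2 : LocCoh.HasSk 2 R M) :
    Module.IsReflexive R M := by
  apply Groth.Agent.Lib.Helper9.S2Refl.isReflexive_of_forall_prime
  intro p hp
  have : IsIntegrallyClosed (Localization.AtPrime p) :=
    isIntegrallyClosed_of_isLocalization (Localization.AtPrime p) p.primeCompl
      (Ideal.primeCompl_le_nonZeroDivisors p)
  by_cases h2 : (2 : WithBot ℕ∞) ≤ ringKrullDim (Localization.AtPrime p)
  · by_cases hN : Subsingleton (LocalizedModule p.primeCompl M)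
    · left
      have : Module.IsReflexive (Localization.AtPrime p) (LocalizedModule p.primeCompl M) :=
        inferInstance
      exact (isReflexive_iff p.primeCompl (Localization.AtPrime p)
        (LocalizedModule.mkLinearMap p.primeCompl M)).mp this
    · right
      rw [not_subsingleton_iff_nontrivial] at hN
      have hann : Module.annihilator (Localization.AtPrime p)
          (LocalizedModule p.primeCompl M) = ⊥ := by
        rw [eq_bot_iff]
        intro a ha
        obtain ⟨v, hv⟩ := exists_ne (0 : LocalizedModule p.primeCompl M)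
        have h1 : a • v = 0 := Module.mem_annihilator.mp ha v
        rcases smul_eq_zero.mp h1 with h | h
        · exact h
        · exact absurd h hv
      have hsd : Module.supportDim (Localization.AtPrime p) (LocalizedModule p.primeCompl M) =
          ringKrullDim (Localization.AtPrime p) := by
        rw [Module.supportDim_eq_ringKrullDim_quotient_annihilator, hann]
        exact ringKrullDim_eq_of_ringEquiv (RingEquiv.quotientBot _)
      have h3 := hS2 p
      rw [hsd, min_eq_left (by exact_mod_cast h2)] at h3
      exact WithBot.coe_le_coe.mp h3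
  · left
    have : Module.Free (Localization.AtPrime p) (LocalizedModule p.primeCompl M) :=
      free_of_isTorsionFree_of_normal (Localization.AtPrime p) h2 (LocalizedModule p.primeCompl M)
    have : Module.IsReflexive (Localization.AtPrime p) (LocalizedModule p.primeCompl M) :=
      inferInstance
    exact (isReflexive_iff p.primeCompl (Localization.AtPrime p)
      (LocalizedModule.mkLinearMap p.primeCompl M)).mp this

theorem isReflexive_iff_hasSk_two :
    Module.IsReflexive R M ↔ NoZeroSMulDivisors R M ∧ LocCoh.HasSk 2 R M := by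
  constructor
  · intro h
    exact ⟨⟨fun h => smul_eq_zero.mp h⟩, hasSk_two_of_isReflexive⟩
  · rintro ⟨h1, h2⟩
    exact isReflexive_of_hasSk_two h2

end Groth.Agent.Lib.Helper9.S2ReflIff
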