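import Mathlib
import Groth.Agent.Lib.Helper12.Mil2
import Groth.Agent.Lib.Helper9.ValSat
import Groth.Agent.Lib.Helper9.LocFP2

set_option autoImplicit false
set_option linter.style.haveILetI false
set_option linter.unusedSectionVars false
set_option linter.unusedVariables false
universe u v

namespace Groth.Agent.Lib.Helper9.SemiVal
open Function MvPolynomial TensorProduct

section Gens

attribute [local instance] MvPolynomial.algebraMvPolynomial

variable {R S : Type u} [CommRing R] [CommRing S] [Algebra R S]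

/-- local generation of the kernel of a presentation from finite presentation of the localization. -/
theorem alg_loc_gens' (n : ℕ) (φ : MvPolynomial (Fin n) R →ₐ[R] S) (hφ : Surjective φ)
    (p : Ideal R) [p.IsPrime]
    (Rp Sp : Type u) [CommRing Rp] [CommRing Sp] [Algebra R Rp] [IsLocalization.AtPrime Rp p]
    [Algebra Rp Sp] [Algebra S Sp] [Algebra R Sp] [IsScalarTower R Rp Sp] [IsScalarTower R S Sp]
    [IsLocalization (Algebra.algebraMapSubmonoid S p.primeCompl) Sp]
    [Algebra.FinitePresentation Rp Sp] :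
    ∃ G : Finset (MvPolynomial (Fin n) R), (↑G : Set (MvPolynomial (Fin n) R)) ⊆ RingHom.ker φ ∧
      ∀ k ∈ RingHom.ker φ, ∃ t : R, t ∉ p ∧
        (C t : MvPolynomial (Fin n) R) * k ∈ Ideal.span (↑G : Set (MvPolynomial (Fin n) R)) := by
  classical
  set P := MvPolynomial (Fin n) R with hP
  set Q := MvPolynomial (Fin n) Rp with hQ
  let μ : P →+* Q := MvPolynomial.map (algebraMap R Rp)
  let ψ : Q →ₐ[Rp] Sp := MvPolynomial.aeval (fun i => algebraMap S Sp (φ (X i)))
  have hcomp : ∀ q : P, ψ (μ q) = algebraMap S Sp (φ q) := by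
    intro q
    have : (ψ : Q →+* Sp).comp μ = (algebraMap S Sp).comp (φ : P →+* S) := by
      apply MvPolynomial.ringHom_ext
      · intro r
        simp only [RingHom.comp_apply, μ, ψ]
        rw [MvPolynomial.map_C, RingHom.coe_coe, MvPolynomial.aeval_C, RingHom.coe_coe,
          ← MvPolynomial.algebraMap_eq,
          AlgHom.commutes, ← IsScalarTower.algebraMap_apply, ← IsScalarTower.algebraMap_apply]
      · intro i
        simp only [RingHom.comp_apply, μ, ψ]
        rw [MvPolynomial.map_X, RingHom.coe_coe, MvPolynomial.aeval_X, RingHom.coe_coe]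
    exact congrArg (fun g => g q) this
  have hunit : ∀ t : R, t ∉ p → IsUnit (algebraMap R Rp t) := fun t ht =>
    IsLocalization.map_units Rp (⟨t, ht⟩ : p.primeCompl)
  have hψC : ∀ a : Rp, ψ (C a) = algebraMap Rp Sp a := fun a => MvPolynomial.aeval_C _ a
  have htower : ∀ t : R, algebraMap S Sp (algebraMap R S t) = algebraMap Rp Sp (algebraMap R Rp t) := by
    intro t
    rw [← IsScalarTower.algebraMap_apply, ← IsScalarTower.algebraMap_apply]
  have hψsurj : Surjective ψ := by
    intro y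
    obtain ⟨⟨s, σ⟩, hy⟩ := IsLocalization.surj (Algebra.algebraMapSubmonoid S p.primeCompl) y
    obtain ⟨t, ht, hσ⟩ := σ.2
    obtain ⟨q, rfl⟩ := hφ s
    obtain ⟨u, hu⟩ := hunit t ht
    refine ⟨C (↑u⁻¹ : Rp) * μ q, ?_⟩
    rw [map_mul, hcomp, hψC]
    change y * algebraMap S Sp σ.1 = _ at hy
    rw [← hy, ← hσ, htower, ← hu, mul_comm y, ← mul_assoc, ← map_mul, Units.inv_mul, map_one, one_mul]
  have hker : (RingHom.ker ψ.toRingHom).FG :=
    Algebra.FinitePresentation.ker_fg_of_mvPolynomial ψ hψsurj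
  have hkereq : RingHom.ker ψ.toRingHom = Ideal.span (μ '' (RingHom.ker φ : Set P)) := by
    apply le_antisymm
    · intro x hx
      obtain ⟨⟨q, σ⟩, hx'⟩ := IsLocalization.surj (p.primeCompl.map (C (σ := Fin n))) x
      obtain ⟨t, ht, hσ⟩ := σ.2
      change x * μ σ.1 = μ q at hx'
      have h0 : algebraMap S Sp (φ q) = 0 := by
        rw [← hcomp, ← hx', map_mul]
        have : ψ x = 0 := hx
        rw [this, zero_mul]
      obtain ⟨c, hc⟩ := (IsLocalization.map_eq_zero_iff (Algebra.algebraMapSubmonoid S p.primeCompl)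
        Sp (φ q)).mp h0
      obtain ⟨t', ht', hct'⟩ := c.2
      have hmem : C t' * q ∈ RingHom.ker φ := by
        rw [RingHom.mem_ker, map_mul, ← MvPolynomial.algebraMap_eq, AlgHom.commutes, hct']
        exact hc
      have h1 : μ (C t' * q) ∈ Ideal.span (μ '' (RingHom.ker φ : Set P)) :=
        Ideal.subset_span ⟨_, hmem, rfl⟩
      rw [map_mul, ← hx', ← hσ, ← mul_assoc, mul_comm, ← mul_assoc] at h1
      have hu : IsUnit (μ (C t) * μ (C t')) := by
        have e1 : μ (C t) = C (algebraMap R Rp t) := MvPolynomial.map_C _ _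
        have e2 : μ (C t') = C (algebraMap R Rp t') := MvPolynomial.map_C _ _
        rw [e1, e2, ← map_mul]
        exact ((hunit t ht).mul (hunit t' ht')).map C
      exact (Ideal.unit_mul_mem_iff_mem _ hu).mp h1
    · rw [Ideal.span_le]
      rintro _ ⟨k, hk, rfl⟩
      change ψ (μ k) = 0
      rw [hcomp, (RingHom.mem_ker).mp hk, map_zero]
  rw [hkereq] at hker
  obtain ⟨G', hG'sub, hG'⟩ := (Submodule.fg_span_iff_fg_span_finset_subset _).mp hker
  obtain ⟨G, hGJ, rfl⟩ := Finset.subset_set_image_iff.mp hG'sub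
  refine ⟨G, hGJ, ?_⟩
  intro k hk
  have h1 : μ k ∈ Ideal.map μ (Ideal.span (↑G : Set P)) := by
    rw [Ideal.map_span]
    have : μ k ∈ Ideal.span (μ '' (RingHom.ker φ : Set P)) := Ideal.subset_span ⟨k, hk, rfl⟩
    have h2 : Ideal.span (μ '' (RingHom.ker φ : Set P)) = Ideal.span (μ '' (↑G : Set P)) := by
      rw [Finset.coe_image] at hG'
      exact hG'
    rw [h2] at this
    exact this
  obtain ⟨⟨i, m⟩, him⟩ := (IsLocalization.mem_map_algebraMap_iff
    (p.primeCompl.map (C (σ := Fin n))) Q).mp h1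
  obtain ⟨t, ht, hm⟩ := m.2
  obtain ⟨c, hc⟩ := IsLocalization.exists_of_eq (M := p.primeCompl.map (C (σ := Fin n))) (S := Q)
    (x := k * m.1) (y := i.1) (by rw [map_mul]; exact him)
  obtain ⟨t', ht', hct'⟩ := c.2
  refine ⟨t' * t, fun h => (Ideal.IsPrime.mem_or_mem inferInstance h).elim ht' ht, ?_⟩
  rw [map_mul, hct', hm, mul_assoc, mul_comm (m : P), hc]
  exact Ideal.mul_mem_left _ _ i.2


end Gens

section VFP

/-- a flat algebra of finite type over a valuation domain is finitely presented. -/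
theorem algebra_fp_of_flat (V S : Type u) [CommRing V] [IsDomain V] [ValuationRing V] [CommRing S]
    [Algebra V S] [Algebra.FiniteType V S] [Module.Flat V S] : Algebra.FinitePresentation V S := by
  classical
  obtain ⟨n, φ, hφ⟩ := Algebra.FiniteType.iff_quotient_mvPolynomial''.mp
    (inferInstance : Algebra.FiniteType V S)
  letI : Algebra (MvPolynomial (Fin n) V) S := φ.toRingHom.toAlgebra
  haveI : IsScalarTower V (MvPolynomial (Fin n) V) S :=
    IsScalarTower.of_algebraMap_eq (fun r => (φ.commutes r).symm)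
  have hφ' : Surjective (Algebra.linearMap (MvPolynomial (Fin n) V) S) := hφ
  haveI : Module.Finite (MvPolynomial (Fin n) V) S :=
    Module.Finite.of_surjective (Algebra.linearMap (MvPolynomial (Fin n) V) S) hφ'
  haveI : Module.FinitePresentation (MvPolynomial (Fin n) V) S :=
    Groth.Agent.Lib.Helper9.ValSat.finitePresentation_of_flat V (MvPolynomial (Fin n) V) S
  have hker := Module.FinitePresentation.fg_ker (Algebra.linearMap (MvPolynomial (Fin n) V) S) hφ'
  exact Algebra.FinitePresentation.of_surjective hφ hker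

end VFP

section SV

variable {O R A K : Type u} [CommRing O] [CommRing R] [CommRing A] [Field K]
  [Algebra O R] [Algebra O A] [Algebra R K] [Algebra A K] [Algebra O K]
  [IsScalarTower O R K] [IsScalarTower O A K]
  (hsq : EtMil.IsFibreSquare O R A K)
  [IsLocalRing A] [IsDomain R] [ValuationRing R] [IsFractionRing R K]

include hsq

omit [IsLocalRing A] [IsDomain R] [ValuationRing R] [IsFractionRing R K] in
theorem surjR : Surjective (algebraMap O R) := by
  intro r
  obtain ⟨a, ha⟩ := hsq.1 (algebraMap R K r)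
  obtain ⟨o, ⟨h1, h2⟩, -⟩ := hsq.2 r a ha.symm
  exact ⟨o, h1⟩

omit [IsLocalRing A] [IsDomain R] [ValuationRing R] [IsFractionRing R K] in
theorem ext_sq (x y : O) (h1 : algebraMap O R x = algebraMap O R y)
    (h2 : algebraMap O A x = algebraMap O A y) : x = y := by
  have hm : algebraMap R K (algebraMap O R y) = algebraMap A K (algebraMap O A y) := by
    rw [← IsScalarTower.algebraMap_apply, ← IsScalarTower.algebraMap_apply]
  exact (hsq.2 _ _ hm).unique ⟨h1, h2⟩ ⟨rfl, rfl⟩

omit [IsDomain R] [ValuationRing R] in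
theorem isUnit_of_ne (s : O) (hs : algebraMap O R s ≠ 0) : IsUnit (algebraMap O A s) := by
  by_contra hnu
  have hmem : algebraMap O A s ∈ IsLocalRing.maximalIdeal A := (IsLocalRing.mem_maximalIdeal _).mpr hnu
  have hker : RingHom.ker (algebraMap A K) = IsLocalRing.maximalIdeal A :=
    IsLocalRing.eq_maximalIdeal (RingHom.ker_isMaximal_of_surjective _ hsq.1)
  rw [← hker, RingHom.mem_ker, ← IsScalarTower.algebraMap_apply,
    IsScalarTower.algebraMap_apply O R K] at hmem
  exact hs ((injective_iff_map_eq_zero _).mp (IsFractionRing.injective R K) _ hmem)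

omit [IsDomain R] [ValuationRing R] in
theorem star (s z : O) (hs : algebraMap O R s ≠ 0) (hz : algebraMap O R z = 0) :
    ∃ z' : O, algebraMap O R z' = 0 ∧ z = s * z' := by
  obtain ⟨u, hu⟩ := isUnit_of_ne hsq s hs
  have hzK : algebraMap A K (algebraMap O A z) = 0 := by
    rw [← IsScalarTower.algebraMap_apply, IsScalarTower.algebraMap_apply O R K, hz, map_zero]
  have hm : algebraMap R K 0 = algebraMap A K (↑u⁻¹ * algebraMap O A z) := by
    rw [map_zero, map_mul, hzK, mul_zero]
  obtain ⟨z', ⟨h1, h2⟩, -⟩ := hsq.2 _ _ hm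
  refine ⟨z', h1, ?_⟩
  apply ext_sq hsq
  · rw [map_mul, h1, mul_zero, hz]
  · rw [map_mul, h2, ← hu, ← mul_assoc, Units.mul_inv, one_mul]

omit [ValuationRing R] in
theorem isLocalization_atPrime [hp : (RingHom.ker (algebraMap O R)).IsPrime] :
    IsLocalization.AtPrime A (RingHom.ker (algebraMap O R)) := by
  refine ⟨?_, ?_, ?_⟩
  · rintro ⟨s, hs⟩
    exact isUnit_of_ne hsq s (fun h => hs (RingHom.mem_ker.mpr h))
  · intro a
    obtain ⟨⟨b1, b2⟩, hb⟩ := IsLocalization.surj (nonZeroDivisors R) (algebraMap A K a)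
    obtain ⟨s, hs⟩ := surjR hsq b2.1
    have hs0 : algebraMap O R s ≠ 0 := by
      rw [hs]; exact nonZeroDivisors.ne_zero b2.2
    have hm : algebraMap R K b1 = algebraMap A K (a * algebraMap O A s) := by
      rw [map_mul, ← IsScalarTower.algebraMap_apply O A K, IsScalarTower.algebraMap_apply O R K, hs]
      exact hb.symm
    obtain ⟨t, ⟨h1, h2⟩, -⟩ := hsq.2 _ _ hm
    exact ⟨(t, ⟨s, fun h => hs0 (RingHom.mem_ker.mp h)⟩), h2.symm⟩
  · intro x y hxy
    refine ⟨1, ?_⟩
    rw [OneMemClass.coe_one, one_mul, one_mul]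
    apply ext_sq hsq _ _ _ hxy
    apply IsFractionRing.injective R K
    rw [← IsScalarTower.algebraMap_apply, ← IsScalarTower.algebraMap_apply,
      IsScalarTower.algebraMap_apply O A K, hxy, ← IsScalarTower.algebraMap_apply]

section Mod

variable (N : Type u) [AddCommGroup N] [Module O N]

omit [IsDomain R] [ValuationRing R] in
theorem reg (hadm : Injective (fun n : N => ((1 : A) ⊗ₜ[O] n : A ⊗[O] N)))
    (s : O) (hs : algebraMap O R s ≠ 0) (n : N) (h : s • n = 0) : n = 0 := by
  apply hadm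
  change (1 : A) ⊗ₜ[O] n = (1 : A) ⊗ₜ[O] (0 : N)
  rw [TensorProduct.tmul_zero]
  have hu := isUnit_of_ne hsq s hs
  have h1 : (algebraMap O A s) • ((1 : A) ⊗ₜ[O] n : A ⊗[O] N) = 0 := by
    rw [algebraMap_smul, ← TensorProduct.tmul_smul, h, TensorProduct.tmul_zero]
  exact (IsUnit.smul_eq_zero hu).mp h1

omit [IsLocalRing A] [IsDomain R] [ValuationRing R] [IsFractionRing R K] in
theorem exists_one_tmul (y : R ⊗[O] N) : ∃ n : N, (1 : R) ⊗ₜ[O] n = y := by
  induction y using TensorProduct.induction_on with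
  | zero => exact ⟨0, TensorProduct.tmul_zero _ _⟩
  | tmul r n =>
    obtain ⟨o, rfl⟩ := surjR hsq r
    exact ⟨o • n, by rw [Algebra.algebraMap_eq_smul_one, TensorProduct.smul_tmul]⟩
  | add y1 y2 h1 h2 =>
    obtain ⟨n1, rfl⟩ := h1
    obtain ⟨n2, rfl⟩ := h2
    exact ⟨n1 + n2, TensorProduct.tmul_add _ _ _⟩

omit [IsLocalRing A] [IsDomain R] [ValuationRing R] [IsFractionRing R K] in
theorem one_tmul_eq_zero_iff (n : N) :
    (1 : R) ⊗ₜ[O] n = 0 ↔ n ∈ (RingHom.ker (algebraMap O R)) • (⊤ : Submodule O N) := by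
  constructor
  · intro h
    have hex : Function.Exact
        (LinearMap.rTensor N (LinearMap.ker (Algebra.linearMap O R)).subtype)
        (LinearMap.rTensor N (Algebra.linearMap O R)) :=
      rTensor_exact N (LinearMap.exact_subtype_ker_map (Algebra.linearMap O R)) (surjR hsq)
    have h0 : LinearMap.rTensor N (Algebra.linearMap O R) ((1 : O) ⊗ₜ[O] n) = 0 := by
      rw [LinearMap.rTensor_tmul, Algebra.linearMap_apply, map_one, h]
    obtain ⟨w, hw⟩ := (hex _).mp h0
    have hn : n = TensorProduct.lid O N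
        (LinearMap.rTensor N (LinearMap.ker (Algebra.linearMap O R)).subtype w) := by
      rw [hw, TensorProduct.lid_tmul, one_smul]
    rw [hn]
    clear hn hw
    induction w using TensorProduct.induction_on with
    | zero => simp
    | tmul z n' =>
      rw [LinearMap.rTensor_tmul, TensorProduct.lid_tmul]
      refine Submodule.smul_mem_smul ?_ Submodule.mem_top
      have := z.2
      rw [LinearMap.mem_ker, Algebra.linearMap_apply] at this
      exact RingHom.mem_ker.mpr this
    | add w1 w2 h1 h2 =>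
      rw [map_add, map_add]
      exact add_mem h1 h2
  · intro h
    refine Submodule.smul_induction_on (p := fun n => (1 : R) ⊗ₜ[O] n = 0) h ?_ ?_
    · intro z hz n' _
      rw [← TensorProduct.smul_tmul, ← Algebra.algebraMap_eq_smul_one, RingHom.mem_ker.mp hz,
        TensorProduct.zero_tmul]
    · intro x y hx hy
      rw [TensorProduct.tmul_add, hx, hy, add_zero]

omit [IsDomain R] [ValuationRing R] in
theorem div_mem (s : O) (hs : algebraMap O R s ≠ 0) (x : N)
    (hx : x ∈ (RingHom.ker (algebraMap O R)) • (⊤ : Submodule O N)) :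
    ∃ x' ∈ (RingHom.ker (algebraMap O R)) • (⊤ : Submodule O N), x = s • x' := by
  refine Submodule.smul_induction_on
    (p := fun x => ∃ x' ∈ (RingHom.ker (algebraMap O R)) • (⊤ : Submodule O N), x = s • x') hx ?_ ?_
  · intro z hz n' _
    obtain ⟨z', hz', rfl⟩ := star hsq s z hs (RingHom.mem_ker.mp hz)
    exact ⟨z' • n', Submodule.smul_mem_smul (RingHom.mem_ker.mpr hz') Submodule.mem_top,
      mul_smul _ _ _⟩
  · intro x y hx hy
    obtain ⟨x', hx', rfl⟩ := hx
    obtain ⟨y', hy', rfl⟩ := hy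
    exact ⟨x' + y', add_mem hx' hy', (smul_add _ _ _).symm⟩

theorem flat_baseChange (hadm : Injective (fun n : N => ((1 : A) ⊗ₜ[O] n : A ⊗[O] N))) :
    Module.Flat R (R ⊗[O] N) := by
  refine (Module.Flat.flat_iff_torsion_eq_bot_of_isBezout (R := R) (M := R ⊗[O] N)).mpr ?_
  rw [Submodule.eq_bot_iff]
  intro y hy
  rw [Submodule.mem_torsion_iff] at hy
  obtain ⟨⟨r, hr⟩, hry⟩ := hy
  have hr0 : r ≠ 0 := nonZeroDivisors.ne_zero hr
  obtain ⟨n, rfl⟩ := exists_one_tmul hsq N y
  obtain ⟨s, rfl⟩ := surjR hsq r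
  change (algebraMap O R s) • ((1 : R) ⊗ₜ[O] n : R ⊗[O] N) = 0 at hry
  have h1 : (1 : R) ⊗ₜ[O] (s • n) = 0 := by
    rw [← hry, TensorProduct.smul_tmul', smul_eq_mul, mul_one, Algebra.algebraMap_eq_smul_one,
      TensorProduct.smul_tmul]
  have h2 := (one_tmul_eq_zero_iff hsq N _).mp h1
  obtain ⟨n', hn', hsn⟩ := div_mem hsq N s hr0 _ h2
  have h3 : n = n' := by
    have : s • (n - n') = 0 := by rw [smul_sub, hsn, sub_self]
    exact sub_eq_zero.mp (reg hsq N hadm s hr0 _ this)
  rw [h3]
  exact (one_tmul_eq_zero_iff hsq N _).mpr hn'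

theorem flat_of_admissible (hadm : Injective (fun n : N => ((1 : A) ⊗ₜ[O] n : A ⊗[O] N)))
    [Module.Flat A (A ⊗[O] N)] : Module.Flat O N := by
  haveI := flat_baseChange hsq N hadm
  exact Groth.Agent.Lib.Helper12.Mil.flat_of_fibreSquare hsq N

end Mod

section Alg

attribute [local instance] Algebra.TensorProduct.rightAlgebra

variable (D : Type u) [CommRing D] [Algebra O D]

omit [IsDomain R] [ValuationRing R] in
theorem div_poly (n : ℕ) (s : O) (hs : algebraMap O R s ≠ 0) (w : MvPolynomial (Fin n) O)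
    (hw : w ∈ Ideal.map (C : O →+* MvPolynomial (Fin n) O) (RingHom.ker (algebraMap O R))) :
    ∃ w' ∈ Ideal.map (C : O →+* MvPolynomial (Fin n) O) (RingHom.ker (algebraMap O R)),
      w = C s * w' := by
  refine Submodule.span_induction (p := fun w _ => ∃ w' ∈ Ideal.map (C : O →+* MvPolynomial (Fin n) O)
    (RingHom.ker (algebraMap O R)), w = C s * w') ?_ ?_ ?_ ?_ hw
  · rintro _ ⟨z, hz, rfl⟩
    obtain ⟨z', hz', rfl⟩ := star hsq s z hs (RingHom.mem_ker.mp hz)
    exact ⟨C z', Ideal.mem_map_of_mem _ (RingHom.mem_ker.mpr hz'), map_mul _ _ _⟩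
  · exact ⟨0, zero_mem _, (mul_zero _).symm⟩
  · rintro x y _ _ ⟨x', hx', rfl⟩ ⟨y', hy', rfl⟩
    exact ⟨x' + y', add_mem hx' hy', (mul_add _ _ _).symm⟩
  · rintro a x _ ⟨x', hx', rfl⟩
    exact ⟨a * x', Ideal.mul_mem_left _ _ hx', by rw [smul_eq_mul]; ring⟩

theorem algebra_fp [Algebra.FiniteType O D]
    (hadm : Injective (fun c : D => ((1 : A) ⊗ₜ[O] c : A ⊗[O] D)))
    [Module.Flat A (A ⊗[O] D)] [Algebra.FinitePresentation A (A ⊗[O] D)] :
    Algebra.FinitePresentation O D := by
  classical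
  haveI hflatO : Module.Flat O D := flat_of_admissible hsq D hadm
  haveI hprime : (RingHom.ker (algebraMap O R)).IsPrime := RingHom.ker_isPrime _
  haveI hloc : IsLocalization.AtPrime A (RingHom.ker (algebraMap O R)) := isLocalization_atPrime hsq
  obtain ⟨n, φ, hφ⟩ := Algebra.FiniteType.iff_quotient_mvPolynomial''.mp
    (inferInstance : Algebra.FiniteType O D)
  haveI : IsLocalization (Algebra.algebraMapSubmonoid D (RingHom.ker (algebraMap O R)).primeCompl)
      (A ⊗[O] D) := IsLocalization.tensorRight A (RingHom.ker (algebraMap O R)).primeCompl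
  obtain ⟨G1, hG1J, hG1⟩ := alg_loc_gens' n φ hφ (RingHom.ker (algebraMap O R)) A (A ⊗[O] D)
  set p : Ideal O := RingHom.ker (algebraMap O R) with hp
  let μ : MvPolynomial (Fin n) O →+* MvPolynomial (Fin n) R := MvPolynomial.map (algebraMap O R)
  have hμsurj : Surjective μ := MvPolynomial.map_surjective _ (surjR hsq)
  have hkerμ : RingHom.ker μ = Ideal.map (C : O →+* MvPolynomial (Fin n) O) p := MvPolynomial.ker_map _
  set J : Ideal (MvPolynomial (Fin n) O) := RingHom.ker φ with hJ
  set Jb : Ideal (MvPolynomial (Fin n) R) := Ideal.map μ J with hJb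
  have hregφ : ∀ s : O, algebraMap O R s ≠ 0 → ∀ f : MvPolynomial (Fin n) O, C s * f ∈ J → f ∈ J := by
    intro s hs f hf
    rw [hJ, RingHom.mem_ker] at hf ⊢
    apply reg hsq D hadm s hs
    rw [← hf, map_mul, ← MvPolynomial.algebraMap_eq, AlgHom.commutes, Algebra.smul_def]
  have hsat : ∀ r : R, r ≠ 0 → ∀ fb : MvPolynomial (Fin n) R, r • fb ∈ Jb → fb ∈ Jb := by
    intro r hr fb h
    obtain ⟨s, rfl⟩ := surjR hsq r
    obtain ⟨f, rfl⟩ := hμsurj fb
    have h1 : μ (C s * f) ∈ Jb := by
      rw [map_mul, show μ (C s) = C (algebraMap O R s) from MvPolynomial.map_C _ _,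
        ← MvPolynomial.smul_eq_C_mul]
      exact h
    obtain ⟨j, hj, hjμ⟩ := (Ideal.mem_map_iff_of_surjective μ hμsurj).mp h1
    have h2 : C s * f - j ∈ Ideal.map (C : O →+* MvPolynomial (Fin n) O) p := by
      rw [← hkerμ, RingHom.mem_ker, map_sub, hjμ, sub_self]
    obtain ⟨w', hw', hw⟩ := div_poly hsq n s hr _ h2
    have h3 : f - w' ∈ J := by
      apply hregφ s hr
      rw [mul_sub, ← hw, sub_sub_cancel]
      exact hj
    have h4 : μ w' = 0 := by
      rw [← RingHom.mem_ker, hkerμ]; exact hw'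
    have : μ f = μ (f - w') := by rw [map_sub, h4, sub_zero]
    rw [this]
    exact Ideal.mem_map_of_mem μ h3
  have hJbfg : Jb.FG := Groth.Agent.Lib.Helper9.ValSat.sat_fg R n Jb hsat
  obtain ⟨G', hG'sub, hG'⟩ := (Submodule.fg_span_iff_fg_span_finset_subset _).mp hJbfg
  obtain ⟨G2, hG2J, rfl⟩ := Finset.subset_set_image_iff.mp hG'sub
  -- the key: elements of `J ∩ p[x]` lie in the span of `G1`
  have key : ∀ w ∈ Ideal.map (C : O →+* MvPolynomial (Fin n) O) p, φ w = 0 → w ∈ Ideal.span (↑G1 : Set (MvPolynomial (Fin n) O)) := by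
    intro w hw hφw
    rw [Ideal.map, Ideal.span, Submodule.mem_span_set'] at hw
    obtain ⟨m, f, g, rfl⟩ := hw
    have hg : ∀ i, ∃ z ∈ p, C z = (g i : MvPolynomial (Fin n) O) := fun i => (g i).2
    choose z hz hzg using hg
    have hrel : ∑ i, z i • φ (f i) = 0 := by
      rw [← hφw, map_sum]
      refine Finset.sum_congr rfl (fun i _ => ?_)
      rw [smul_eq_mul, map_mul, ← hzg i, ← MvPolynomial.algebraMap_eq, AlgHom.commutes,
        Algebra.smul_def, mul_comm]
    obtain ⟨k, a, y, hxy, hza⟩ := Module.Flat.isTrivialRelation_of_sum_smul_eq_zero (R := O) (M := D) (f := z)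
      (x := fun i => φ (f i)) hrel
    choose Y hY using (fun j => hφ (y j))
    set κ : Fin m → MvPolynomial (Fin n) O := fun i => f i - ∑ j, C (a i j) * Y j with hκdef
    have hκ : ∀ i, φ (κ i) = 0 := by
      intro i
      rw [hκdef]
      simp only [map_sub, map_sum, map_mul, hY]
      have hxi : φ (f i) = ∑ j, a i j • y j := hxy i
      rw [hxi, sub_eq_zero]
      refine Finset.sum_congr rfl (fun j _ => ?_)
      rw [← MvPolynomial.algebraMap_eq, AlgHom.commutes, Algebra.smul_def]
    have hterm : ∀ i, f i • (g i : MvPolynomial (Fin n) O) = C (z i) * κ i + ∑ j, C (z i * a i j) * Y j := by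
      intro i
      rw [← hzg i, hκdef, smul_eq_mul]
      simp only [mul_sub, Finset.mul_sum, map_mul]
      rw [mul_comm (f i)]
      have : ∀ j, C (z i) * (C (a i j) * Y j) = C (z i) * C (a i j) * Y j := fun j => by ring
      simp only [this]
      ring
    have hw : ∑ i, f i • (g i : MvPolynomial (Fin n) O) = ∑ i, C (z i) * κ i := by
      rw [Finset.sum_congr rfl (fun i _ => hterm i), Finset.sum_add_distrib, Finset.sum_comm]
      have h0 : ∀ j, ∑ i, C (z i * a i j) * Y j = 0 := by
        intro j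
        rw [← Finset.sum_mul, ← map_sum, hza j, map_zero, zero_mul]
      rw [Finset.sum_congr rfl (fun j _ => h0 j), Finset.sum_const_zero, add_zero]
    rw [hw]
    refine Ideal.sum_mem _ (fun i _ => ?_)
    obtain ⟨t, ht, htκ⟩ := hG1 (κ i) (RingHom.mem_ker.mpr (hκ i))
    obtain ⟨z', hz', hzz⟩ := star hsq t (z i) (fun h => ht (RingHom.mem_ker.mpr h))
      (RingHom.mem_ker.mp (hz i))
    rw [hzz, map_mul, mul_comm (C t), mul_assoc]
    exact Ideal.mul_mem_left _ _ htκ
  refine Algebra.FinitePresentation.of_surjective hφ ⟨G1 ∪ G2, ?_⟩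
  apply le_antisymm
  · rw [Ideal.span_le, Finset.coe_union]
    exact Set.union_subset hG1J hG2J
  · intro j hj
    have h1 : μ j ∈ Ideal.map μ (Ideal.span (↑G2 : Set (MvPolynomial (Fin n) O))) := by
      rw [Ideal.map_span, ← Finset.coe_image]
      have h5 : μ j ∈ Submodule.span (MvPolynomial (Fin n) R)
          (μ '' (J : Set (MvPolynomial (Fin n) O))) := Submodule.subset_span ⟨j, hj, rfl⟩
      rw [hG'] at h5
      exact h5
    obtain ⟨g, hg, hgμ⟩ := (Ideal.mem_map_iff_of_surjective μ hμsurj).mp h1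
    have hgJ : g ∈ J := (Ideal.span_le.mpr hG2J) hg
    have hw1 : j - g ∈ Ideal.map (C : O →+* MvPolynomial (Fin n) O) p := by
      rw [← hkerμ, RingHom.mem_ker, map_sub, hgμ, sub_self]
    have hw2 : φ (j - g) = 0 := by
      have e1 : φ j = 0 := RingHom.mem_ker.mp hj
      have e2 : φ g = 0 := RingHom.mem_ker.mp hgJ
      rw [map_sub, e1, e2, sub_zero]
    have hw3 := key _ hw1 hw2
    have : j = (j - g) + g := by ring
    rw [this]
    refine add_mem (Ideal.span_mono ?_ hw3) (Ideal.span_mono ?_ hg)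
    · rw [Finset.coe_union]; exact Set.subset_union_left
    · rw [Finset.coe_union]; exact Set.subset_union_right

end Alg

end SV

end Groth.Agent.Lib.Helper9.SemiVal
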