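import Mathlib
import Groth.Agent.Lib.Helper9.SemiVal

set_option autoImplicit false
universe u
open TensorProduct

namespace Groth.Agent.Lib.Helper9.SemiValInst
open Groth.Agent.Lib.Helper9.SemiVal

theorem main
    (A : Type u) [CommRing A] [IsLocalRing A] (R : ValuationSubring (IsLocalRing.ResidueField A))
    (O : Subring A) (hO : O = R.toSubring.comap (IsLocalRing.residue A))
    (C : Type u) [CommRing C] [Algebra ↥O C] [Algebra.FiniteType ↥O C]
    (hadm : Function.Injective (Algebra.TensorProduct.includeRight : C →ₐ[↥O] A ⊗[↥O] C))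
    (hflat : Module.Flat A (A ⊗[↥O] C)) (hfp : Algebra.FinitePresentation A (A ⊗[↥O] C)) :
    Module.Flat ↥O C ∧ Algebra.FinitePresentation ↥O C := by
  have hmemO : ∀ a : A, a ∈ O ↔ IsLocalRing.residue A a ∈ R := by
    intro a
    rw [hO]
    rfl
  let ρ : ↥O →+* ↥R :=
    { toFun := fun x => ⟨IsLocalRing.residue A x.1, (hmemO x.1).mp x.2⟩
      map_one' := Subtype.ext (map_one _)
      map_mul' := fun x y => Subtype.ext (map_mul _ _ _)
      map_zero' := Subtype.ext (map_zero _)
      map_add' := fun x y => Subtype.ext (map_add _ _ _) }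
  let _ : Algebra ↥O ↥R := ρ.toAlgebra
  have : IsScalarTower ↥O ↥R (IsLocalRing.ResidueField A) :=
    IsScalarTower.of_algebraMap_eq (fun x => rfl)
  have : IsScalarTower ↥O A (IsLocalRing.ResidueField A) :=
    IsScalarTower.of_algebraMap_eq (fun x => rfl)
  have hsq : EtMil.IsFibreSquare ↥O ↥R A (IsLocalRing.ResidueField A) := by
    refine ⟨IsLocalRing.residue_surjective, ?_⟩
    intro b a' h
    have hmem : a' ∈ O := by
      rw [hmemO]
      have : IsLocalRing.residue A a' = (b : IsLocalRing.ResidueField A) := h.symm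
      rw [this]
      exact b.2
    refine ⟨⟨a', hmem⟩, ⟨?_, rfl⟩, ?_⟩
    · apply Subtype.ext
      exact h.symm
    · rintro y ⟨-, hy⟩
      apply Subtype.ext
      exact hy
  have hadm' : Function.Injective (fun c : C => ((1 : A) ⊗ₜ[↥O] c : A ⊗[↥O] C)) := by
    intro x y hxy
    exact hadm hxy
  exact ⟨flat_of_admissible hsq C hadm', algebra_fp hsq C hadm'⟩

end Groth.Agent.Lib.Helper9.SemiValInst
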