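import Mathlib

set_option autoImplicit false
universe u

namespace Groth.Agent.Lib.Helper9.SepDiag

open TensorProduct IntermediateField

section general

variable (K : Type u) [Field K]

/-- the diagonal element -/
noncomputable def dlt (S : Type u) [CommRing S] [Algebra K S] (x : S) : S ⊗[K] S :=
  x ⊗ₜ[K] (1 : S) - (1 : S) ⊗ₜ[K] x

theorem dlt_mem (S : Type u) [CommRing S] [Algebra K S] (x : S) :
    dlt K S x ∈ KaehlerDifferential.ideal K S := by
  have := KaehlerDifferential.one_smul_sub_smul_one_mem_ideal K x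
  rw [← neg_sub] at this
  have h2 := (KaehlerDifferential.ideal K S).neg_mem this
  rw [neg_neg] at h2
  exact h2

theorem of_eq_iff (S : Type u) [CommRing S] [Algebra K S] (z w : S ⊗[K] S) :
    AdicCompletion.of (KaehlerDifferential.ideal K S) (S ⊗[K] S) z =
      AdicCompletion.of (KaehlerDifferential.ideal K S) (S ⊗[K] S) w ↔
    ∀ n : ℕ, z - w ∈ (KaehlerDifferential.ideal K S) ^ n := by
  rw [← sub_eq_zero, ← map_sub]
  constructor
  · intro h n
    have h1 := congrArg (fun f => f.1 n) h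
    simp only [AdicCompletion.of_apply] at h1
    have h2 : (Submodule.mkQ ((KaehlerDifferential.ideal K S) ^ n • ⊤ :
        Submodule (S ⊗[K] S) (S ⊗[K] S))) (z - w) = 0 := h1
    rw [Submodule.mkQ_apply, Submodule.Quotient.mk_eq_zero, smul_eq_mul, Ideal.mul_top] at h2
    exact h2
  · intro h
    apply AdicCompletion.ext
    intro n
    rw [AdicCompletion.of_apply]
    show _ = (0 : _)
    rw [Submodule.mkQ_apply, Submodule.Quotient.mk_eq_zero, smul_eq_mul, Ideal.mul_top]
    exact h n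

end general

variable (K L : Type u) [Field K] [Field L] [Algebra K L]

/-- the map `E ⊗ E → L ⊗ L` for an intermediate field -/
noncomputable def phi (E : IntermediateField K L) : E ⊗[K] E →ₐ[K] L ⊗[K] L :=
  Algebra.TensorProduct.map E.val E.val

theorem lmul_phi (E : IntermediateField K L) (z : E ⊗[K] E) :
    Algebra.TensorProduct.lmul' K (phi K L E z) = ((Algebra.TensorProduct.lmul' K z : E) : L) := by
  induction z using TensorProduct.induction_on with
  | zero => simp
  | tmul a b => simp [phi]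
  | add a b ha hb => simp [map_add, ha, hb]

theorem phi_dlt (E : IntermediateField K L) (e : E) :
    phi K L E (dlt K E e) = dlt K L (e : L) := by
  simp [phi, dlt]

theorem map_ideal_le (E : IntermediateField K L) :
    (KaehlerDifferential.ideal K E).map (phi K L E) ≤ KaehlerDifferential.ideal K L := by
  rw [Ideal.map_le_iff_le_comap]
  intro z hz
  rw [Ideal.mem_comap]
  show Algebra.TensorProduct.lmul' K (phi K L E z) = 0
  rw [lmul_phi]
  have : Algebra.TensorProduct.lmul' K z = 0 := hz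
  rw [this]
  rfl


theorem map_pow_le (E : IntermediateField K L) (n : ℕ) :
    ((KaehlerDifferential.ideal K E) ^ n).map (phi K L E) ≤ (KaehlerDifferential.ideal K L) ^ n := by
  rw [Ideal.map_pow]
  exact Ideal.pow_right_mono (map_ideal_le K L E) n

/-- (⇐) -/
theorem mem_pow_of_isSeparable (x : L) (hx : IsSeparable K x) (n : ℕ) :
    dlt K L x ∈ (KaehlerDifferential.ideal K L) ^ n := by
  let E : IntermediateField K L := K⟮x⟯
  have hsep : Algebra.IsSeparable K E :=
    (IntermediateField.isSeparable_adjoin_simple_iff_isSeparable K L).mpr hx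
  have hunr : Algebra.FormallyUnramified K E := Algebra.FormallyUnramified.of_isSeparable K E
  have hidem : IsIdempotentElem (KaehlerDifferential.ideal K E) :=
    (Ideal.cotangent_subsingleton_iff _).mp (inferInstanceAs (Subsingleton Ω[E⁄K]))
  have hpow : ∀ m : ℕ, (KaehlerDifferential.ideal K E) ^ (m + 1) = KaehlerDifferential.ideal K E :=
    fun m => hidem.pow_succ_eq m
  let g : E := AdjoinSimple.gen K x
  have hg : dlt K E g ∈ (KaehlerDifferential.ideal K E) ^ n := by
    cases n with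
    | zero => simp
    | succ m => rw [hpow m]; exact dlt_mem K E g
  have := map_pow_le K L E n (Ideal.mem_map_of_mem _ hg)
  rw [phi_dlt] at this
  exact this


theorem flat_phi (E : IntermediateField K L) :
    RingHom.Flat (R := E ⊗[K] E) (S := L ⊗[K] L) (phi K L E).toRingHom := by
  have hE : (E.val : E →+* L).Flat := by
    rw [RingHom.Flat]
    infer_instance
  exact RingHom.Flat.tensorProductMap (f := E.val) (g := E.val) hE hE

section dlt_lemmas

variable (S : Type u) [CommRing S] [Algebra K S]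

theorem dlt_add (a b : S) : dlt K S (a + b) = dlt K S a + dlt K S b := by
  rw [dlt, dlt, dlt, TensorProduct.add_tmul, TensorProduct.tmul_add]
  ring

theorem dlt_mul (a b : S) :
    dlt K S (a * b) = (a ⊗ₜ[K] (1 : S)) * dlt K S b + ((1 : S) ⊗ₜ[K] b) * dlt K S a := by
  rw [dlt, dlt, dlt, mul_sub, mul_sub, Algebra.TensorProduct.tmul_mul_tmul,
    Algebra.TensorProduct.tmul_mul_tmul, Algebra.TensorProduct.tmul_mul_tmul,
    Algebra.TensorProduct.tmul_mul_tmul]
  simp only [one_mul, mul_one]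
  rw [mul_comm b a]
  abel

theorem dlt_algebraMap (c : K) : dlt K S (algebraMap K S c) = 0 := by
  rw [dlt, Algebra.algebraMap_eq_smul_one, TensorProduct.smul_tmul, sub_self]

theorem dlt_inv (F : Type u) [Field F] [Algebra K F] (a : F) :
    dlt K F a⁻¹ = - ((a⁻¹ ⊗ₜ[K] a⁻¹) * dlt K F a) := by
  by_cases h0 : a = 0
  · rw [h0]; simp [dlt]
  · rw [dlt, dlt, mul_sub, Algebra.TensorProduct.tmul_mul_tmul,
      Algebra.TensorProduct.tmul_mul_tmul, inv_mul_cancel₀ h0, neg_sub, mul_one]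

end dlt_lemmas

theorem key (x : L) (y : L) (hy : y ∈ K⟮x⟯) :
    dlt K K⟮x⟯ ⟨y, hy⟩ ∈ Ideal.span {dlt K K⟮x⟯ (AdjoinSimple.gen K x)} := by
  induction hy using IntermediateField.adjoin_induction with
  | mem y hy =>
    have : (⟨y, subset_adjoin K _ hy⟩ : K⟮x⟯) = AdjoinSimple.gen K x := by
      apply Subtype.ext
      show y = (AdjoinSimple.gen K x : L)
      rw [AdjoinSimple.coe_gen]
      simpa using hy
    rw [this]
    exact Ideal.subset_span rfl
  | algebraMap c =>
    have h := dlt_algebraMap K K⟮x⟯ c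
    have h1 : dlt K K⟮x⟯ ⟨algebraMap K L c, IntermediateField.algebraMap_mem _ c⟩ = 0 := h
    rw [h1]
    exact zero_mem _
  | add a b ha hb iha ihb =>
    have h := dlt_add K K⟮x⟯ ⟨a, ha⟩ ⟨b, hb⟩
    have h1 : dlt K K⟮x⟯ ⟨a + b, add_mem ha hb⟩ =
        dlt K K⟮x⟯ ⟨a, ha⟩ + dlt K K⟮x⟯ ⟨b, hb⟩ := h
    rw [h1]
    exact add_mem iha ihb
  | inv a ha iha =>
    have h := dlt_inv K K⟮x⟯ ⟨a, ha⟩
    have h1 : dlt K K⟮x⟯ ⟨a⁻¹, inv_mem ha⟩ =
        - (((⟨a, ha⟩ : K⟮x⟯)⁻¹ ⊗ₜ[K] (⟨a, ha⟩ : K⟮x⟯)⁻¹) * dlt K K⟮x⟯ ⟨a, ha⟩) := h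
    rw [h1]
    exact neg_mem (Ideal.mul_mem_left _ _ iha)
  | mul a b ha hb iha ihb =>
    have h := dlt_mul K K⟮x⟯ ⟨a, ha⟩ ⟨b, hb⟩
    have h1 : dlt K K⟮x⟯ ⟨a * b, mul_mem ha hb⟩ =
        ((⟨a, ha⟩ : K⟮x⟯) ⊗ₜ[K] (1 : K⟮x⟯)) * dlt K K⟮x⟯ ⟨b, hb⟩ +
          ((1 : K⟮x⟯) ⊗ₜ[K] (⟨b, hb⟩ : K⟮x⟯)) * dlt K K⟮x⟯ ⟨a, ha⟩ := h
    rw [h1]
    exact add_mem (Ideal.mul_mem_left _ _ ihb) (Ideal.mul_mem_left _ _ iha)

/-- the diagonal ideal of a simple extension is generated by the diagonal element of the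
generator -/
theorem ideal_adjoin_simple (x : L) :
    KaehlerDifferential.ideal K K⟮x⟯ = Ideal.span {dlt K K⟮x⟯ (AdjoinSimple.gen K x)} := by
  apply le_antisymm
  · rw [← KaehlerDifferential.span_range_eq_ideal, Ideal.span_le]
    rintro _ ⟨e, rfl⟩
    have := key K L x e.1 e.2
    have h2 : (1 : K⟮x⟯) ⊗ₜ[K] e - e ⊗ₜ[K] (1 : K⟮x⟯) = - dlt K K⟮x⟯ e := by
      rw [dlt]; ring
    show (1 : K⟮x⟯) ⊗ₜ[K] e - e ⊗ₜ[K] (1 : K⟮x⟯) ∈ _
    rw [h2]
    exact neg_mem this
  · rw [Ideal.span_le, Set.singleton_subset_iff]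
    exact dlt_mem K K⟮x⟯ _


/-- equational criterion for a single annihilator relation -/
theorem flat_ann_descent {A B : Type*} [CommRing A] [CommRing B] (φ : A →+* B) (hφ : φ.Flat)
    (d : A) (s : B) (h : φ d * s = 0) :
    ∃ (k : ℕ) (α : Fin k → A) (y : Fin k → B), s = ∑ j, φ (α j) * y j ∧ ∀ j, d * α j = 0 := by
  letI : Algebra A B := φ.toAlgebra
  haveI : Module.Flat A B := hφ
  have hrel : ∑ i : Fin 1, (fun _ => d) i • (fun _ => s) i = 0 := by
    simp only [Finset.univ_unique, Fin.default_eq_zero, Finset.sum_singleton]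
    rw [Algebra.smul_def]
    exact h
  obtain ⟨k, α, y, hxy, hα⟩ := Module.Flat.isTrivialRelation_of_sum_smul_eq_zero
    (R := A) (M := B) (f := fun _ : Fin 1 => d) (x := fun _ => s) hrel
  refine ⟨k, α 0, y, ?_, ?_⟩
  · have h0 : s = ∑ j, α 0 j • y j := hxy 0
    rw [h0]
    refine Finset.sum_congr rfl fun j _ => ?_
    rw [Algebra.smul_def]
    rfl
  · intro j
    have := hα j
    simpa using this

/-- flat descent of the annihilator relation -/
theorem descent (E : IntermediateField K L) (g : E) (s : L ⊗[K] L)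
    (hs : s * dlt K L (g : L) = 0) (hs1 : Algebra.TensorProduct.lmul' K s = 1) :
    dlt K E g ∈ (KaehlerDifferential.ideal K E) ^ 2 := by
  obtain ⟨k, α, y, hs2, hα'⟩ := flat_ann_descent (A := E ⊗[K] E) (B := L ⊗[K] L)
    (phi K L E).toRingHom (flat_phi K L E) (dlt K E g) s (by
      show phi K L E (dlt K E g) * s = 0
      rw [phi_dlt, mul_comm]
      exact hs)
  have halg : ∀ z : E ⊗[K] E, (phi K L E).toRingHom z = phi K L E z := fun _ => rfl
  -- some α has nonzero image
  have hex : ∃ j, Algebra.TensorProduct.lmul' K (α j) ≠ 0 := by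
    by_contra hcon
    push Not at hcon
    have : Algebra.TensorProduct.lmul' K s = 0 := by
      rw [hs2, map_sum]
      apply Finset.sum_eq_zero
      intro j _
      rw [halg, map_mul, lmul_phi, hcon j]
      simp
    rw [hs1] at this
    exact one_ne_zero this
  obtain ⟨j, hj⟩ := hex
  set a := α j with ha
  set c : E := Algebra.TensorProduct.lmul' K a with hc
  have hmem1 : a - c ⊗ₜ[K] (1 : E) ∈ KaehlerDifferential.ideal K E := by
    show Algebra.TensorProduct.lmul' K (a - c ⊗ₜ[K] (1 : E)) = 0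
    rw [map_sub, Algebra.TensorProduct.lmul'_apply_tmul, mul_one, ← hc, sub_self]
  have hmem2 : (c ⊗ₜ[K] (1 : E)) * dlt K E g ∈ (KaehlerDifferential.ideal K E) ^ 2 := by
    have h1 : (c ⊗ₜ[K] (1 : E)) * dlt K E g = - ((a - c ⊗ₜ[K] (1 : E)) * dlt K E g) := by
      have := hα' j
      rw [← ha] at this
      linear_combination this
    rw [h1, pow_two]
    exact neg_mem (Ideal.mul_mem_mul hmem1 (dlt_mem K E g))
  have h1 : dlt K E g = (c⁻¹ ⊗ₜ[K] (1 : E)) * ((c ⊗ₜ[K] (1 : E)) * dlt K E g) := by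
    rw [← mul_assoc, Algebra.TensorProduct.tmul_mul_tmul, inv_mul_cancel₀ hj, mul_one]
    exact (one_mul _).symm
  rw [h1]
  exact Ideal.mul_mem_left _ _ hmem2

/-- (⇒) -/
theorem isSeparable_of_mem_pow (hfg : (⊤ : IntermediateField K L).FG) (x : L)
    (h : ∀ n : ℕ, dlt K L x ∈ (KaehlerDifferential.ideal K L) ^ n) : IsSeparable K x := by
  haveI : Algebra.EssFiniteType K L := IntermediateField.fg_top_iff.mp hfg
  haveI : Algebra.EssFiniteType L (L ⊗[K] L) := inferInstance
  haveI : IsNoetherianRing (L ⊗[K] L) := Algebra.EssFiniteType.isNoetherianRing L (L ⊗[K] L)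
  -- Krull
  have hmem : dlt K L x ∈ (⨅ i : ℕ, (KaehlerDifferential.ideal K L) ^ i • ⊤ :
      Submodule (L ⊗[K] L) (L ⊗[K] L)) := by
    rw [Submodule.mem_iInf]
    intro i
    rw [smul_eq_mul, Ideal.mul_top]
    exact h i
  obtain ⟨r, hr⟩ := (Ideal.mem_iInf_smul_pow_eq_bot_iff _ _).mp hmem
  set s : L ⊗[K] L := 1 - (r : L ⊗[K] L) with hs_def
  have hs : s * dlt K L x = 0 := by
    rw [hs_def, sub_mul, one_mul, ← smul_eq_mul, hr, sub_self]
  have hs1 : Algebra.TensorProduct.lmul' K s = 1 := by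
    have hr0 : Algebra.TensorProduct.lmul' K (r : L ⊗[K] L) = 0 := r.2
    rw [hs_def, map_sub, map_one, hr0, sub_zero]
  have hgx : ((AdjoinSimple.gen K x : K⟮x⟯) : L) = x := AdjoinSimple.coe_gen K x
  have hmem3 : dlt K K⟮x⟯ (AdjoinSimple.gen K x) ∈ (KaehlerDifferential.ideal K K⟮x⟯) ^ 2 := by
    apply descent K L K⟮x⟯ (AdjoinSimple.gen K x) s _ hs1
    rw [hgx]
    exact hs
  have hidem : IsIdempotentElem (KaehlerDifferential.ideal K K⟮x⟯) := by
    apply le_antisymm
    · exact Ideal.mul_le_right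
    · conv_lhs => rw [ideal_adjoin_simple K L x]
      rw [Ideal.span_le, Set.singleton_subset_iff, ← pow_two]
      exact hmem3
  haveI : Algebra.FormallyUnramified K K⟮x⟯ :=
    ⟨(Ideal.cotangent_subsingleton_iff _).mpr hidem⟩
  haveI : Algebra.EssFiniteType K K⟮x⟯ :=
    IntermediateField.essFiniteType_iff.mpr
      (IntermediateField.fg_adjoin_of_finite (Set.finite_singleton x))
  have hsep : Algebra.IsSeparable K K⟮x⟯ := Algebra.FormallyUnramified.isSeparable K K⟮x⟯
  exact (IntermediateField.isSeparable_adjoin_simple_iff_isSeparable K L).mp hsep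

theorem main (hfg : (⊤ : IntermediateField K L).FG) (x : L) :
    AdicCompletion.of (KaehlerDifferential.ideal K L) (L ⊗[K] L) (x ⊗ₜ[K] (1 : L)) =
        AdicCompletion.of (KaehlerDifferential.ideal K L) (L ⊗[K] L) ((1 : L) ⊗ₜ[K] x) ↔
      x ∈ separableClosure K L := by
  rw [of_eq_iff, mem_separableClosure_iff]
  constructor
  · intro h
    exact isSeparable_of_mem_pow K L hfg x h
  · intro h n
    exact mem_pow_of_isSeparable K L x h n

end Groth.Agent.Lib.Helper9.SepDiag
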