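import Mathlib

set_option autoImplicit false
universe u

namespace Groth.Agent.Lib.Helper9.SigmaApprox

open Matrix

variable {R : Type u} [CommRing R] {n : ℕ}

/-- the semilinear map `x ↦ C σ(x)` in coordinates -/
def Phi (σ : R →+* R) (C : Matrix (Fin n) (Fin n) R) (x : Fin n → R) : Fin n → R :=
  fun i => ∑ j, C i j * σ (x j)

lemma Phi_add (σ : R →+* R) (C : Matrix (Fin n) (Fin n) R) (x y : Fin n → R) :
    Phi σ C (x + y) = Phi σ C x + Phi σ C y := by
  funext i
  simp only [Phi, Pi.add_apply, map_add, mul_add, Finset.sum_add_distrib]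

lemma Phi_sub (σ : R →+* R) (C : Matrix (Fin n) (Fin n) R) (x y : Fin n → R) :
    Phi σ C (x - y) = Phi σ C x - Phi σ C y := by
  funext i
  simp only [Phi, Pi.sub_apply, map_sub, mul_sub, Finset.sum_sub_distrib]

lemma Phi_smul (σ : R →+* R) (C : Matrix (Fin n) (Fin n) R) (r : R) (x : Fin n → R) :
    Phi σ C (r • x) = σ r • Phi σ C x := by
  funext i
  simp only [Phi, Pi.smul_apply, smul_eq_mul, map_mul, Finset.mul_sum]
  exact Finset.sum_congr rfl (fun j _ => by ring)

lemma dvd_Phi (σ : R →+* R) (C : Matrix (Fin n) (Fin n) R) (a : R) (ha : σ a = a)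
    (x : Fin n → R) (hx : ∀ j, a ∣ x j) (i : Fin n) : a ∣ Phi σ C x i := by
  refine Finset.dvd_sum (fun j _ => ?_)
  obtain ⟨y, hy⟩ := hx j
  rw [hy, map_mul, ha]
  exact Dvd.dvd.mul_left (dvd_mul_right _ _) _

/-- successive approximation for fixed points of a semilinear map over an adically complete ring -/
theorem exists_fixed_of_approx (π : R) [IsAdicComplete (Ideal.span {π}) R] (σ : R →+* R)
    (hσ : σ π = π) (C : Matrix (Fin n) (Fin n) R)
    (hsolve : ∀ z : Fin n → R, ∃ y : Fin n → R, ∀ i, π ∣ Phi σ C y i - y i - z i)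
    (x₀ : Fin n → R) (h₀ : ∀ i, π ∣ Phi σ C x₀ i - x₀ i) :
    ∃ x : Fin n → R, Phi σ C x = x ∧ ∀ i, π ∣ x i - x₀ i := by
  classical
  have hσpow : ∀ m : ℕ, σ (π ^ m) = π ^ m := fun m => by rw [map_pow, hσ]
  -- one step of the approximation
  have step : ∀ (m : ℕ) (x : Fin n → R), (∀ i, π ^ m ∣ Phi σ C x i - x i) →
      ∃ x' : Fin n → R, (∀ i, π ^ (m + 1) ∣ Phi σ C x' i - x' i) ∧ ∀ i, π ^ m ∣ x' i - x i := by
    intro m x hx
    choose z hz using hx
    obtain ⟨y, hy⟩ := hsolve (fun i => - z i)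
    choose w hw using hy
    refine ⟨x + π ^ m • y, fun i => ⟨w i, ?_⟩, fun i => ⟨y i, ?_⟩⟩
    · rw [Phi_add, Phi_smul, hσpow]
      simp only [Pi.add_apply, Pi.smul_apply, smul_eq_mul]
      have h1 := hz i
      have h2 := hw i
      simp only [sub_neg_eq_add] at h2
      calc Phi σ C x i + π ^ m * Phi σ C y i - (x i + π ^ m * y i)
          = (Phi σ C x i - x i) + π ^ m * (Phi σ C y i - y i) := by ring
        _ = π ^ m * z i + π ^ m * (Phi σ C y i - y i) := by rw [h1]
        _ = π ^ m * (Phi σ C y i - y i + z i) := by ring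
        _ = π ^ m * (π * w i) := by rw [h2]
        _ = π ^ (m + 1) * w i := by ring
    · simp
  choose! nxt hnxt1 hnxt2 using step
  let seq : ℕ → (Fin n → R) := fun m => Nat.rec x₀ (fun m x => nxt (m + 1) x) m
  have hseq0 : seq 0 = x₀ := rfl
  have hseqS : ∀ m, seq (m + 1) = nxt (m + 1) (seq m) := fun m => rfl
  have hseq : ∀ m i, π ^ (m + 1) ∣ Phi σ C (seq m) i - seq m i := by
    intro m
    induction m with
    | zero => intro i; rw [hseq0, zero_add, pow_one]; exact h₀ i
    | succ m ih => rw [hseqS]; exact hnxt1 (m + 1) (seq m) ih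
  have hdiff : ∀ m i, π ^ (m + 1) ∣ seq (m + 1) i - seq m i := by
    intro m i
    rw [hseqS]
    exact hnxt2 (m + 1) (seq m) (hseq m) i
  -- limits coordinatewise
  have hlim : ∀ i, ∃ L : R, ∀ m, π ^ m ∣ seq m i - L := by
    intro i
    have hc : AdicCompletion.IsAdicCauchy (Ideal.span {π}) R (fun m => seq m i) := by
      rw [AdicCompletion.isAdicCauchy_iff]
      intro m
      rw [SModEq.sub_mem, smul_eq_mul, Ideal.mul_top, Ideal.span_singleton_pow,
        Ideal.mem_span_singleton]
      have := hdiff m i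
      rw [← neg_sub, dvd_neg]
      exact (pow_dvd_pow π (Nat.le_succ m)).trans this
    obtain ⟨L, hL⟩ := IsPrecomplete.prec (inferInstance : IsPrecomplete (Ideal.span {π}) R) hc
    refine ⟨L, fun m => ?_⟩
    have := hL m
    rwa [SModEq.sub_mem, smul_eq_mul, Ideal.mul_top, Ideal.span_singleton_pow,
      Ideal.mem_span_singleton] at this
  choose L hL using hlim
  have hfix : ∀ i, Phi σ C L i - L i = 0 := by
    intro i
    apply IsHausdorff.haus (inferInstance : IsHausdorff (Ideal.span {π}) R)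
    intro m
    rw [SModEq.sub_mem, sub_zero, smul_eq_mul, Ideal.mul_top, Ideal.span_singleton_pow,
      Ideal.mem_span_singleton]
    have h1 : π ^ m ∣ Phi σ C (L - seq m) i :=
      dvd_Phi σ C (π ^ m) (hσpow m) _ (fun j => by
        have := hL j m
        rw [← neg_sub, dvd_neg] at this
        exact this) i
    have h2 : π ^ m ∣ Phi σ C (seq m) i - seq m i :=
      (pow_dvd_pow π (Nat.le_succ m)).trans (hseq m i)
    have h3 : π ^ m ∣ seq m i - L i := hL i m
    have : Phi σ C L i - L i =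
        Phi σ C (L - seq m) i + (Phi σ C (seq m) i - seq m i) + (seq m i - L i) := by
      rw [Phi_sub]
      simp only [Pi.sub_apply]
      ring
    rw [this]
    exact dvd_add (dvd_add h1 h2) h3
  refine ⟨L, funext (fun i => sub_eq_zero.mp (hfix i)), fun i => ?_⟩
  have h1 : π ∣ seq 1 i - L i := by simpa using hL i 1
  have h2 : π ∣ seq 1 i - x₀ i := by
    have := hdiff 0 i
    simpa [hseq0] using this
  have : L i - x₀ i = (seq 1 i - x₀ i) - (seq 1 i - L i) := by ring
  rw [this]
  exact dvd_sub h2 h1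

end Groth.Agent.Lib.Helper9.SigmaApprox
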