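import Mathlib
import Groth.Prelude.Def_W4bk4bump814p2PDiff

/-!
# The subgroups `Σ^i` generated by `x^(p^j-1) dx`, `j < i`

Key point: additivity of `δ_n` modulo `Σ^n`, via the Witt addition polynomials.
-/

set_option autoImplicit false
universe u v

namespace Groth.Agent.Lib.Helper9.SigmaDelta

open MvPolynomial W4bk4bump814p2

section poly

variable (p : ℕ) [hp : Fact p.Prime]

/-- specialization of the Witt variables to Teichmüller representatives -/
noncomputable def spec : Fin 2 × ℕ → MvPolynomial (Fin 2) ℤ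
  | (b, 0) => X b
  | (_, _ + 1) => 0

/-- Witt addition polynomials evaluated at Teichmüller representatives -/
noncomputable def S (j : ℕ) : MvPolynomial (Fin 2) ℤ := aeval spec (WittVector.wittAdd p j)

theorem S_zero : S p 0 = X 0 + X 1 := by
  unfold S
  rw [WittVector.wittAdd_zero, map_add, aeval_X, aeval_X]
  rfl

theorem sum_spec (n : ℕ) (b : Fin 2) :
    ∑ i ∈ Finset.range (n + 1),
      (p : MvPolynomial (Fin 2) ℤ) ^ i * (spec ∘ Prod.mk b) i ^ p ^ (n - i) = X b ^ p ^ n := by
  rw [Finset.sum_eq_single_of_mem 0 (Finset.mem_range.mpr (Nat.succ_pos n))]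
  · simp [spec]
  · intro i _ hi
    obtain ⟨k, rfl⟩ := Nat.exists_eq_succ_of_ne_zero hi
    have : (spec ∘ Prod.mk b) (k + 1) = 0 := rfl
    rw [this, zero_pow (pow_ne_zero _ hp.out.ne_zero), mul_zero]

theorem S_identity (n : ℕ) :
    ∑ j ∈ Finset.range (n + 1), (p : MvPolynomial (Fin 2) ℤ) ^ j * S p j ^ p ^ (n - j) =
      X 0 ^ p ^ n + X 1 ^ p ^ n := by
  have h := wittStructureInt_prop p (X 0 + X 1 : MvPolynomial (Fin 2) ℤ) n
  have h2 := congrArg (aeval spec) h
  rw [aeval_bind₁, aeval_wittPolynomial, map_add, bind₁_X_right, bind₁_X_right, map_add,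
    aeval_rename, aeval_rename, aeval_wittPolynomial, aeval_wittPolynomial, sum_spec,
    sum_spec] at h2
  exact h2

theorem S_deriv (n : ℕ) (k : Fin 2) :
    ∑ j ∈ Finset.range (n + 1), S p j ^ (p ^ (n - j) - 1) * pderiv k (S p j) =
      X k ^ (p ^ n - 1) := by
  have h := congrArg (pderiv k) (S_identity p n)
  have hL : pderiv k (∑ j ∈ Finset.range (n + 1),
      (p : MvPolynomial (Fin 2) ℤ) ^ j * S p j ^ p ^ (n - j)) =
      ((p ^ n : ℕ) : MvPolynomial (Fin 2) ℤ) *
        ∑ j ∈ Finset.range (n + 1), S p j ^ (p ^ (n - j) - 1) * pderiv k (S p j) := by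
    rw [map_sum, Finset.mul_sum]
    refine Finset.sum_congr rfl fun j hj => ?_
    have hj' : j ≤ n := Nat.lt_succ_iff.mp (Finset.mem_range.mp hj)
    rw [Derivation.leibniz, Derivation.leibniz_pow, Derivation.leibniz_pow,
      Derivation.map_natCast, smul_zero, smul_zero, smul_zero, add_zero, smul_eq_mul,
      nsmul_eq_mul, smul_eq_mul]
    have : ((p ^ n : ℕ) : MvPolynomial (Fin 2) ℤ) =
        (p : MvPolynomial (Fin 2) ℤ) ^ j * ((p ^ (n - j) : ℕ) : MvPolynomial (Fin 2) ℤ) := by
      rw [Nat.cast_pow, Nat.cast_pow, ← pow_add, Nat.add_sub_cancel' hj']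
    rw [this]
    ring
  have hR : pderiv k (X 0 ^ p ^ n + X 1 ^ p ^ n : MvPolynomial (Fin 2) ℤ) =
      ((p ^ n : ℕ) : MvPolynomial (Fin 2) ℤ) * X k ^ (p ^ n - 1) := by
    rw [map_add, Derivation.leibniz_pow, Derivation.leibniz_pow, pderiv_X, pderiv_X]
    fin_cases k <;> simp
  rw [hL, hR] at h
  refine mul_left_cancel₀ ?_ h
  rw [Nat.cast_ne_zero]
  exact pow_ne_zero _ hp.out.ne_zero

end poly

section chain

variable {K : Type u} {A : Type v} [CommRing K] [CommRing A] [Algebra K A]
variable {M : Type*} [AddCommGroup M] [Module A M] [Module K M] [IsScalarTower K A M]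

theorem chain_rule (D : Derivation K A M) (f : Fin 2 → A) (P : MvPolynomial (Fin 2) ℤ) :
    D (aeval f P) = ∑ k, aeval f (pderiv k P) • D (f k) := by
  induction P using MvPolynomial.induction_on with
  | C a =>
    rw [aeval_C]
    simp
  | add P Q hP hQ =>
    simp only [map_add, hP, hQ, add_smul, Finset.sum_add_distrib]
  | mul_X P i hP =>
    rw [map_mul, aeval_X, Derivation.leibniz, hP]
    have h1 : ∀ k, aeval f (pderiv k (P * X i)) • D (f k) =
        (aeval f P * aeval f (Pi.single (M := fun _ => MvPolynomial (Fin 2) ℤ) k 1 i)) • D (f k) +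
          (f i * aeval f (pderiv k P)) • D (f k) := by
      intro k
      rw [Derivation.leibniz, pderiv_X, smul_eq_mul, smul_eq_mul, map_add, map_mul, map_mul,
        aeval_X, add_smul]
    simp only [h1]
    rw [Finset.sum_add_distrib]
    congr 1
    · rw [Finset.sum_eq_single i]
      · rw [Pi.single_eq_same, map_one, mul_one]
      · intro k _ hk
        rw [Pi.single_eq_of_ne' hk, map_zero, mul_zero, zero_smul]
      · intro h
        exact absurd (Finset.mem_univ i) h
    · rw [Finset.smul_sum]
      refine Finset.sum_congr rfl fun k _ => ?_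
      rw [smul_smul]

end chain

section main

variable (K : Type u) (A : Type v) [Field K] (p : ℕ) [hp : Fact p.Prime] [CharP K p]
  [CommRing A] [Algebra K A]

theorem delta_sum (n : ℕ) (x y : A) :
    ∑ j ∈ Finset.range (n + 1), delta K A p (n - j) (aeval ![x, y] (S p j)) =
      delta K A p n x + delta K A p n y := by
  unfold delta
  have h1 : ∀ j, aeval ![x, y] (S p j) ^ (p ^ (n - j) - 1) •
      KaehlerDifferential.D K A (aeval ![x, y] (S p j)) =
      ∑ k, aeval ![x, y] (S p j ^ (p ^ (n - j) - 1) * pderiv k (S p j)) •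
        KaehlerDifferential.D K A (![x, y] k) := by
    intro j
    rw [chain_rule, Finset.smul_sum]
    refine Finset.sum_congr rfl fun k _ => ?_
    rw [smul_smul, map_mul, map_pow]
  simp only [h1]
  rw [Finset.sum_comm]
  have h2 : ∀ k : Fin 2, ∑ j ∈ Finset.range (n + 1),
      aeval ![x, y] (S p j ^ (p ^ (n - j) - 1) * pderiv k (S p j)) •
        KaehlerDifferential.D K A (![x, y] k) =
      (![x, y] k) ^ (p ^ n - 1) • KaehlerDifferential.D K A (![x, y] k) := by
    intro k
    rw [← Finset.sum_smul, ← map_sum, S_deriv, map_pow, aeval_X]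
  simp only [h2]
  rw [Fin.sum_univ_two]
  rfl

/-- the additive subgroup generated by the `δ_j(z)`, `j < n` -/
noncomputable def G (n : ℕ) : AddSubgroup (Ω[A⁄K]) :=
  AddSubgroup.closure (⋃ j ∈ Finset.range n, Set.range (delta K A p j))

theorem delta_mem_G {j n : ℕ} (hj : j < n) (z : A) : delta K A p j z ∈ G K A p n := by
  apply AddSubgroup.subset_closure
  simp only [Set.mem_iUnion, Finset.mem_range, Set.mem_range]
  exact ⟨j, hj, z, rfl⟩

theorem G_mono {m n : ℕ} (h : m ≤ n) : G K A p m ≤ G K A p n := by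
  apply AddSubgroup.closure_mono
  intro ω hω
  simp only [Set.mem_iUnion, Finset.mem_range, Set.mem_range] at hω ⊢
  obtain ⟨j, hj, z, rfl⟩ := hω
  exact ⟨j, lt_of_lt_of_le hj h, z, rfl⟩

theorem defect_mem_G (n : ℕ) (x y : A) :
    delta K A p n (x + y) - delta K A p n x - delta K A p n y ∈ G K A p n := by
  have h := delta_sum K A p n x y
  rw [Finset.sum_range_succ', S_zero] at h
  have h0 : aeval ![x, y] (X 0 + X 1 : MvPolynomial (Fin 2) ℤ) = x + y := by
    rw [map_add, aeval_X, aeval_X]
    rfl
  rw [h0, Nat.sub_zero] at h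
  have : delta K A p n (x + y) - delta K A p n x - delta K A p n y =
      -∑ j ∈ Finset.range n, delta K A p (n - (j + 1)) (aeval ![x, y] (S p (j + 1))) := by
    rw [sub_sub, ← h]
    abel
  rw [this]
  apply AddSubgroup.neg_mem
  apply AddSubgroup.sum_mem
  intro j hj
  apply delta_mem_G
  have := Finset.mem_range.mp hj
  omega

theorem delta_zero (n : ℕ) : delta K A p n (0 : A) = 0 := by
  unfold delta
  rw [map_zero, smul_zero]

theorem sigma_eq (n : ℕ) : sigma K A p n = (G K A p n : Set (Ω[A⁄K])) := by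
  induction n with
  | zero =>
    rw [sigma_zero]
    unfold G
    simp
  | succ n ih =>
    rw [sigma_succ, ih]
    ext ω
    simp only [Set.mem_ofPred_eq, SetLike.mem_coe]
    constructor
    · rintro ⟨x, hx⟩
      have : ω = (ω - delta K A p n x) + delta K A p n x := by abel
      rw [this]
      exact AddSubgroup.add_mem _ (G_mono K A p (Nat.le_succ n) hx)
        (delta_mem_G K A p (Nat.lt_succ_self n) x)
    · intro hω
      unfold G at hω
      induction hω using AddSubgroup.closure_induction with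
      | mem ω hω =>
        simp only [Set.mem_iUnion, Finset.mem_range, Set.mem_range] at hω
        obtain ⟨j, hj, z, rfl⟩ := hω
        by_cases hjn : j = n
        · subst hjn
          exact ⟨z, by rw [sub_self]; exact AddSubgroup.zero_mem _⟩
        · refine ⟨0, ?_⟩
          rw [delta_zero, sub_zero]
          exact delta_mem_G K A p (by omega) z
      | zero =>
        exact ⟨0, by rw [delta_zero, sub_zero]; exact AddSubgroup.zero_mem _⟩
      | add ω₁ ω₂ _ _ h₁ h₂ =>
        obtain ⟨x₁, h₁⟩ := h₁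
        obtain ⟨x₂, h₂⟩ := h₂
        refine ⟨x₁ + x₂, ?_⟩
        have : ω₁ + ω₂ - delta K A p n (x₁ + x₂) =
            (ω₁ - delta K A p n x₁) + (ω₂ - delta K A p n x₂) -
              (delta K A p n (x₁ + x₂) - delta K A p n x₁ - delta K A p n x₂) := by abel
        rw [this]
        exact AddSubgroup.sub_mem _ (AddSubgroup.add_mem _ h₁ h₂) (defect_mem_G K A p n x₁ x₂)
      | neg ω _ h =>
        obtain ⟨x, h⟩ := h
        refine ⟨-x, ?_⟩
        have hd := defect_mem_G K A p n x (-x)
        rw [add_neg_cancel, delta_zero, zero_sub] at hd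
        have : -ω - delta K A p n (-x) =
            -(ω - delta K A p n x) + (-delta K A p n x - delta K A p n (-x)) := by abel
        rw [this]
        exact AddSubgroup.add_mem _ (AddSubgroup.neg_mem _ h) hd

theorem defect_mem_sigma (n : ℕ) (x y : A) :
    delta K A p n (x + y) - delta K A p n x - delta K A p n y ∈ sigma K A p n := by
  rw [sigma_eq]
  exact defect_mem_G K A p n x y

theorem exists_pow_eq [PerfectField K] (j : ℕ) (c : K) : ∃ a : K, a ^ p ^ j = c := by
  induction j generalizing c with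
  | zero => exact ⟨c, by simp⟩
  | succ j ih =>
    obtain ⟨b, hb⟩ := surjective_frobenius K p c
    obtain ⟨a, ha⟩ := ih b
    refine ⟨a, ?_⟩
    rw [pow_succ, pow_mul, ha]
    exact hb

theorem smul_delta (j : ℕ) (a : K) (z : A) :
    delta K A p j (a • z) = (a ^ p ^ j) • delta K A p j z := by
  unfold delta
  have h1 : 1 ≤ p ^ j := Nat.one_le_pow _ _ hp.out.pos
  rw [Derivation.map_smul, smul_pow, smul_assoc, smul_comm (z ^ _) a, smul_smul, ← pow_succ,
    Nat.sub_add_cancel h1]

theorem smul_mem_G [PerfectField K] (n : ℕ) (c : K) {ω : Ω[A⁄K]} (hω : ω ∈ G K A p n) :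
    c • ω ∈ G K A p n := by
  unfold G at hω
  induction hω using AddSubgroup.closure_induction with
  | mem ω hω =>
    simp only [Set.mem_iUnion, Finset.mem_range, Set.mem_range] at hω
    obtain ⟨j, hj, z, rfl⟩ := hω
    obtain ⟨a, rfl⟩ := exists_pow_eq K p j c
    rw [← smul_delta]
    exact delta_mem_G K A p hj _
  | zero => rw [smul_zero]; exact AddSubgroup.zero_mem _
  | add ω₁ ω₂ _ _ h₁ h₂ => rw [smul_add]; exact AddSubgroup.add_mem _ h₁ h₂
  | neg ω _ h => rw [smul_neg]; exact AddSubgroup.neg_mem _ h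

end main

end Groth.Agent.Lib.Helper9.SigmaDelta
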