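import Mathlib
import Groth.Prelude.Def_CAlgX
import Groth.Agent.S9315
import Groth.Agent.Lib.Helper9.FinLenSupp

/-!
# Lifting along small extensions suffices for adic formal smoothness (EGA 0_IV 19.3 / 22.1)

`R → S` a local homomorphism of local rings, `S` Noetherian.  `SmallLift R S` is the lifting property
against small extensions (Artinian local `A`, `J` of square zero and length one).  We show that it implies
the lifting property against all square-zero extensions killing a power of the maximal ideal.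
-/

set_option autoImplicit false

namespace Groth.Agent.Lib.Helper9.SmallExt

open IsLocalRing

universe u

/-- the small extension lifting hypothesis -/
def SmallLift (R S : Type u) [CommRing R] [CommRing S] [IsLocalRing R] [IsLocalRing S]
    [Algebra R S] : Prop :=
  ∀ (A : Type u) [CommRing A] [IsLocalRing A] [IsArtinianRing A] [Algebra R A]
    [IsLocalHom (algebraMap R A)] (J : Ideal A), J ^ 2 = ⊥ → Module.length A J = 1 →
    ∀ [IsLocalRing (A ⧸ J)] (ψ : S →ₐ[R] A ⧸ J) [IsLocalHom ψ.toRingHom],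
      Function.Bijective (ResidueField.map ψ.toRingHom) →
      ∃ χ : S →ₐ[R] A, (Ideal.Quotient.mkₐ R J).comp χ = ψ

section
variable {R S : Type u} [CommRing R] [CommRing S] [IsLocalRing R] [IsLocalRing S]
  [IsNoetherianRing S] [Algebra R S] [IsLocalHom (algebraMap R S)]

omit [IsNoetherianRing S] in
open Groth.Agent.S9315 in
/-- Abstract form: `E` is a fibre product of `A₁` and `S/𝔪^(k+1)` over `A₂`. -/
theorem exists_lift_of_simple_aux (H : SmallLift R S)
    {A₁ A₂ E : Type u} [CommRing A₁] [CommRing A₂] [CommRing E] [Algebra R A₁] [Algebra R A₂]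
    [Algebra R E]
    (p : A₁ →ₐ[R] A₂) (hp : Function.Surjective p)
    (hsq : ∀ y y' : A₁, p y = 0 → p y' = 0 → y * y' = 0)
    (ψ : S →ₐ[R] A₂) (I : Ideal S) [IsLocalRing (S ⧸ I)] [IsArtinianRing (S ⧸ I)]
    (ψbar : (S ⧸ I) →ₐ[R] A₂)
    (hψbar : ∀ s, ψbar (Ideal.Quotient.mk _ s) = ψ s)
    (hne : ∃ y, p y = 0 ∧ y ≠ 0)
    (hs : ∀ y, p y = 0 → y ≠ 0 → ∀ y', p y' = 0 → ∃ (a : A₁) (s : S), p a = ψ s ∧ y' = a * y)
    (π₁ : E →ₐ[R] A₁) (π₂ : E →ₐ[R] (S ⧸ I))
    (hmem : ∀ x : E, p (π₁ x) = ψbar (π₂ x))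
    (hex : ∀ a s, p a = ψbar s → ∃ x : E, π₁ x = a ∧ π₂ x = s)
    (hinj : ∀ x : E, π₁ x = 0 → π₂ x = 0 → x = 0) :
    ∃ χ : S →ₐ[R] A₁, p.comp χ = ψ := by
  have hπ₂surj : Function.Surjective π₂ := by
    intro s
    obtain ⟨a, ha⟩ := hp (ψbar s)
    obtain ⟨x, -, hx⟩ := hex a s ha
    exact ⟨x, hx⟩
  -- units lift along `p`
  have hunit : ∀ a : A₁, IsUnit (p a) → IsUnit a := by
    intro a ha
    obtain ⟨u, hu⟩ := ha
    obtain ⟨a', ha'⟩ := hp (↑u⁻¹ : A₂)
    have hn : p (a * a' - 1) = 0 := by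
      rw [map_sub, map_mul, map_one, ha', ← hu, Units.mul_inv, sub_self]
    have hn2 : (a * a' - 1) * (a * a' - 1) = 0 := hsq _ _ hn hn
    refine isUnit_iff_exists_inv.mpr ⟨a' * (1 - (a * a' - 1)), ?_⟩
    have : a * (a' * (1 - (a * a' - 1))) = 1 - (a * a' - 1) * (a * a' - 1) := by ring
    rw [this, hn2, sub_zero]
  -- π₂ is a local homomorphism
  have hπ₂loc : IsLocalHom (π₂ : E →+* (S ⧸ I)) := by
    constructor
    intro x hx
    have hx2 : IsUnit (π₂ x) := hx
    have hx1 : IsUnit (π₁ x) := by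
      apply hunit
      rw [hmem x]
      exact hx2.map ψbar
    obtain ⟨u, hu⟩ := hx1
    obtain ⟨v, hv⟩ := hx2
    have hinv : p (↑u⁻¹ : A₁) = ψbar (↑v⁻¹ : S ⧸ I) := by
      have h1 : p (↑u⁻¹ : A₁) * p (π₁ x) = 1 := by
        rw [← map_mul, ← hu, Units.inv_mul, map_one]
      have h2 : ψbar (↑v⁻¹ : S ⧸ I) * p (π₁ x) = 1 := by
        rw [hmem x, ← map_mul, ← hv, Units.inv_mul, map_one]
      have h3 : p (π₁ x) * p (↑u⁻¹ : A₁) = 1 := by rw [mul_comm]; exact h1
      calc p (↑u⁻¹ : A₁) = (ψbar (↑v⁻¹ : S ⧸ I) * p (π₁ x)) * p (↑u⁻¹ : A₁) := by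
            rw [h2, one_mul]
        _ = ψbar (↑v⁻¹ : S ⧸ I) := by rw [mul_assoc, h3, mul_one]
    obtain ⟨y, hy1, hy2⟩ := hex _ _ hinv
    refine isUnit_iff_exists_inv.mpr ⟨y, ?_⟩
    have h0 : x * y - 1 = 0 := by
      apply hinj
      · rw [map_sub, map_mul, map_one, hy1, ← hu, Units.mul_inv, sub_self]
      · rw [map_sub, map_mul, map_one, hy2, ← hv, Units.mul_inv, sub_self]
    exact sub_eq_zero.mp h0
  have : IsLocalRing E := RingHom.domain_isLocalRing (π₂ : E →+* (S ⧸ I))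
  have : IsLocalHom (algebraMap R E) := by
    have : IsLocalHom (Ideal.Quotient.mk I) :=
      IsLocalHom.of_surjective _ Ideal.Quotient.mk_surjective
    have : IsLocalHom ((π₂ : E →+* (S ⧸ I)).comp (algebraMap R E)) := by
      have : (π₂ : E →+* (S ⧸ I)).comp (algebraMap R E) =
          (Ideal.Quotient.mk I).comp (algebraMap R S) := by
        ext r
        simp
      rw [this]
      infer_instance
    exact isLocalHom_of_comp (algebraMap R E) (π₂ : E →+* (S ⧸ I))
  set V : Ideal E := RingHom.ker (π₂ : E →+* (S ⧸ I)) with hV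
  have hVmem : ∀ x : E, x ∈ V ↔ π₂ x = 0 := fun x => Iff.rfl
  have hV1 : ∀ x : E, x ∈ V → p (π₁ x) = 0 := by
    intro x hx
    rw [hmem x, (hVmem x).mp hx, map_zero]
  have hVsq : V ^ 2 = ⊥ := by
    rw [eq_bot_iff, pow_two, Ideal.mul_le]
    intro x hx y hy
    have h12 : π₁ x * π₁ y = 0 := hsq _ _ (hV1 x hx) (hV1 y hy)
    rw [hVmem] at hx hy
    rw [Ideal.mem_bot]
    apply hinj
    · rw [map_mul, h12]
    · rw [map_mul, hx, zero_mul]
  -- `V` is a simple `E`-module
  have hVsimple : IsSimpleModule E V := by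
    rw [isSimpleModule_iff_toSpanSingleton_surjective]
    constructor
    · obtain ⟨y, hy0, hyne⟩ := hne
      obtain ⟨x, hx1, hx2⟩ := hex y 0 (by rw [hy0, map_zero])
      refine ⟨⟨⟨x, hx2⟩, 0, ?_⟩⟩
      intro h
      apply hyne
      have h' : x = 0 := congrArg Subtype.val h
      rw [← hx1, h', map_zero]
    · intro v hv w
      have hv1 : p (π₁ (v : E)) = 0 := hV1 v v.2
      have hw1 : p (π₁ (w : E)) = 0 := hV1 w w.2
      have hvne : π₁ (v : E) ≠ 0 := by
        intro h0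
        apply hv
        apply Subtype.ext
        exact hinj _ h0 ((hVmem v).mp v.2)
      obtain ⟨a, s, has, hw⟩ := hs _ hv1 hvne _ hw1
      obtain ⟨x, hx1, hx2⟩ := hex a (Ideal.Quotient.mk I s) (by rw [has, hψbar])
      refine ⟨x, ?_⟩
      apply Subtype.ext
      change x * (v : E) = (w : E)
      have h0 : x * (v : E) - (w : E) = 0 := by
        apply hinj
        · rw [map_sub, map_mul, hx1, hw, sub_self]
        · rw [map_sub, map_mul, (hVmem v).mp v.2, (hVmem w).mp w.2, mul_zero, sub_zero]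
      exact sub_eq_zero.mp h0
  have hVlen : Module.length E V = 1 := Module.length_eq_one_iff.mpr hVsimple
  -- `E` is Artinian
  have hEart : IsArtinianRing E := by
    let _ : Algebra E (S ⧸ I) := (π₂ : E →+* (S ⧸ I)).toAlgebra
    have h1 : IsArtinian E (S ⧸ I) := isArtinian_of_surjective_algebraMap (S := E) (R := S ⧸ I) (M := S ⧸ I) hπ₂surj
    have h2 : IsArtinian E V := by
      have hfl : IsFiniteLength E V := by
        rw [← Module.length_ne_top_iff, hVlen]
        exact ENat.one_ne_top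
      exact (isFiniteLength_iff_isNoetherian_isArtinian.mp hfl).2
    change IsArtinian E E
    refine isArtinian_of_range_eq_ker V.subtype (Algebra.linearMap E (S ⧸ I)) ?_
    ext x
    simp only [LinearMap.mem_range, LinearMap.mem_ker, Algebra.linearMap_apply]
    constructor
    · rintro ⟨v, rfl⟩
      exact v.2
    · intro hx
      exact ⟨⟨x, hx⟩, rfl⟩
  let e : (E ⧸ V) ≃ₐ[R] (S ⧸ I) := Ideal.quotientKerAlgEquivOfSurjective hπ₂surj
  have he : ∀ x : E, e (Ideal.Quotient.mk V x) = π₂ x := fun x => rfl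
  have : IsLocalRing (E ⧸ V) := e.symm.toRingEquiv.isLocalRing
  let ψ' : S →ₐ[R] E ⧸ V := (e.symm : (S ⧸ I) →ₐ[R] E ⧸ V).comp (Ideal.Quotient.mkₐ R I)
  have hψ'surj : Function.Surjective ψ' :=
    e.symm.surjective.comp (Ideal.Quotient.mkₐ_surjective R I)
  have : IsLocalHom ψ'.toRingHom := by
    have h := IsLocalHom.of_surjective (R := S) (S := E ⧸ V) ψ'.toRingHom hψ'surj
    exact h
  have hbij : Function.Bijective (ResidueField.map (R := S) (S := E ⧸ V) ψ'.toRingHom) := by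
    refine ⟨RingHom.injective _, fun y => ?_⟩
    obtain ⟨a, rfl⟩ := IsLocalRing.residue_surjective y
    obtain ⟨s, rfl⟩ := hψ'surj a
    exact ⟨IsLocalRing.residue S s, rfl⟩
  obtain ⟨χ', hχ'⟩ := H E V hVsq hVlen ψ' hbij
  refine ⟨π₁.comp χ', ?_⟩
  ext s
  have h1 : Ideal.Quotient.mk V (χ' s) = ψ' s := AlgHom.congr_fun hχ' s
  have h2 : π₂ (χ' s) = Ideal.Quotient.mk I s := by
    rw [← he, h1]
    simp [ψ']
  change p (π₁ (χ' s)) = ψ s
  rw [hmem (χ' s), h2, hψbar]

open Groth.Agent.S9315 in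
/-- Lifting against a surjection whose kernel is square-zero and simple over the fibre product. -/
theorem exists_lift_of_simple (H : SmallLift R S)
    {A₁ A₂ : Type u} [CommRing A₁] [CommRing A₂] [Algebra R A₁] [Algebra R A₂]
    (p : A₁ →ₐ[R] A₂) (hp : Function.Surjective p)
    (hsq : ∀ y y' : A₁, p y = 0 → p y' = 0 → y * y' = 0)
    (ψ : S →ₐ[R] A₂) (k : ℕ) (hk : ∀ x ∈ maximalIdeal S ^ (k + 1), ψ x = 0)
    (hne : ∃ y, p y = 0 ∧ y ≠ 0)
    (hs : ∀ y, p y = 0 → y ≠ 0 → ∀ y', p y' = 0 → ∃ (a : A₁) (s : S), p a = ψ s ∧ y' = a * y) :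
    ∃ χ : S →ₐ[R] A₁, p.comp χ = ψ := by
  have hSI : IsArtinianRing (S ⧸ maximalIdeal S ^ (k + 1)) :=
    Groth.Agent.Lib.Helper9.FinLenSupp.isArtinianRing_quotient_pow S (k + 1)
  let ψbar : (S ⧸ maximalIdeal S ^ (k + 1)) →ₐ[R] A₂ := Ideal.Quotient.liftₐ _ ψ hk
  have hψbar : ∀ s, ψbar (Ideal.Quotient.mk _ s) = ψ s := fun s => rfl
  let φ₁ : (A₁ × (S ⧸ maximalIdeal S ^ (k + 1))) →ₐ[R] A₂ := p.comp (AlgHom.fst R A₁ _)
  let φ₂ : (A₁ × (S ⧸ maximalIdeal S ^ (k + 1))) →ₐ[R] A₂ := ψbar.comp (AlgHom.snd R A₁ _)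
  exact exists_lift_of_simple_aux H p hp hsq ψ (maximalIdeal S ^ (k + 1)) ψbar hψbar hne hs
    (E := AlgHom.equalizer φ₁ φ₂)
    ((AlgHom.fst R A₁ _).comp (AlgHom.equalizer φ₁ φ₂).val)
    ((AlgHom.snd R A₁ _).comp (AlgHom.equalizer φ₁ φ₂).val)
    (fun x => x.2)
    (fun a s h => ⟨⟨(a, s), h⟩, rfl, rfl⟩)
    (fun x h1 h2 => Subtype.ext (Prod.ext h1 h2))

end

/-- coordinates on a module killed by a maximal ideal -/
theorem exists_coords {A : Type u} [CommRing A] (𝔫 : Ideal A) [h𝔫 : 𝔫.IsMaximal] (M : Type u)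
    [AddCommGroup M] [Module A M] (hM : ∀ a ∈ 𝔫, ∀ m : M, a • m = 0) :
    ∃ (ι : Type u) (f : ι → M →ₗ[A] A ⧸ 𝔫) (r : (ι → A ⧸ 𝔫) →ₗ[A] M),
      (∀ m, r (fun i => f i m) = m) ∧ ∀ i, ∃ m, f i m = 1 := by
  let _ : Field (A ⧸ 𝔫) := Ideal.Quotient.field 𝔫
  have htors : Module.IsTorsionBySet A M 𝔫 := fun m a => hM a a.2 m
  let _ : Module (A ⧸ 𝔫) M := htors.module
  have : IsScalarTower A (A ⧸ 𝔫) M := htors.isScalarTower
  let b := Module.Basis.ofVectorSpace (A ⧸ 𝔫) M
  let g : M →ₗ[A ⧸ 𝔫] (Module.Basis.ofVectorSpaceIndex (A ⧸ 𝔫) M → A ⧸ 𝔫) :=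
    LinearMap.pi (fun i => b.coord i)
  have hg : LinearMap.ker g = ⊥ := by
    rw [LinearMap.ker_eq_bot']
    intro m hm
    apply b.forall_coord_eq_zero_iff.mp
    intro i
    exact congrFun hm i
  obtain ⟨r', hr'⟩ := g.exists_leftInverse_of_injective hg
  refine ⟨Module.Basis.ofVectorSpaceIndex (A ⧸ 𝔫) M, fun i => (b.coord i).restrictScalars A,
    r'.restrictScalars A, ?_, ?_⟩
  · intro m
    exact LinearMap.congr_fun hr' m
  · intro i
    refine ⟨b i, ?_⟩
    change b.coord i (b i) = 1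
    rw [Module.Basis.coord_apply, Module.Basis.repr_self, Finsupp.single_eq_same]

section
variable {R S : Type u} [CommRing R] [CommRing S] [IsLocalRing R] [IsLocalRing S]
  [IsNoetherianRing S] [Algebra R S] [IsLocalHom (algebraMap R S)]

/-- Lifting against a surjection whose square-zero kernel is killed by a maximal ideal with
residue field generated by `S`. -/
theorem exists_lift_of_killed (H : SmallLift R S)
    {A₁ A₂ : Type u} [CommRing A₁] [CommRing A₂] [Algebra R A₁] [Algebra R A₂]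
    (p : A₁ →ₐ[R] A₂) (hp : Function.Surjective p)
    (𝔫 : Ideal A₁) [h𝔫 : 𝔫.IsMaximal]
    (hsq : ∀ y y' : A₁, p y = 0 → p y' = 0 → y * y' = 0)
    (hkill : ∀ a ∈ 𝔫, ∀ y : A₁, p y = 0 → a * y = 0)
    (ψ : S →ₐ[R] A₂) (k : ℕ) (hk : ∀ x ∈ maximalIdeal S ^ (k + 1), ψ x = 0)
    (hres : ∀ a : A₁, ∃ (s : S) (a' : A₁), p a' = ψ s ∧ a - a' ∈ 𝔫) :
    ∃ χ : S →ₐ[R] A₁, p.comp χ = ψ := by
  classical
  let _ : Field (A₁ ⧸ 𝔫) := Ideal.Quotient.field 𝔫
  set J : Ideal A₁ := RingHom.ker p.toRingHom with hJ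
  have hJmem : ∀ x : A₁, x ∈ J ↔ p x = 0 := fun x => Iff.rfl
  have hM : ∀ a ∈ 𝔫, ∀ m : J, a • m = 0 := by
    intro a ha m
    apply Subtype.ext
    change a * (m : A₁) = 0
    exact hkill a ha _ m.2
  obtain ⟨ι, f, r, hr, hf1⟩ := exists_coords 𝔫 J hM
  -- the hyperplanes
  let W : ι → Ideal A₁ := fun i => Submodule.map J.subtype (LinearMap.ker (f i))
  have hWmem : ∀ i (x : A₁), x ∈ W i ↔ ∃ h : x ∈ J, f i ⟨x, h⟩ = 0 := by
    intro i x
    constructor
    · rintro ⟨m, hm, rfl⟩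
      exact ⟨m.2, hm⟩
    · rintro ⟨h, hx⟩
      exact ⟨⟨x, h⟩, hx, rfl⟩
  have hWle : ∀ i, W i ≤ J := fun i x hx => ((hWmem i x).mp hx).1
  let P : ∀ i, (A₁ ⧸ W i) →ₐ[R] A₂ := fun i =>
    Ideal.Quotient.liftₐ (W i) p (fun x hx => (hJmem x).mp (hWle i hx))
  have hPmk : ∀ i (x : A₁), P i (Ideal.Quotient.mk (W i) x) = p x := fun i x => rfl
  have hsmul : ∀ (c : A₁) (z : A₁ ⧸ 𝔫), c • z = Ideal.Quotient.mk 𝔫 c * z := fun c z => rfl
  have key : ∀ i, ∃ χ : S →ₐ[R] A₁ ⧸ W i, (P i).comp χ = ψ := by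
    intro i
    apply exists_lift_of_simple H (P i) _ _ ψ k hk
    · -- nonzero element
      obtain ⟨m, hm⟩ := hf1 i
      refine ⟨Ideal.Quotient.mk (W i) (m : A₁), ?_, ?_⟩
      · rw [hPmk]
        exact (hJmem _).mp m.2
      · intro h0
        rw [Ideal.Quotient.eq_zero_iff_mem, hWmem] at h0
        obtain ⟨h, h0⟩ := h0
        have : f i m = 0 := h0
        rw [hm] at this
        exact one_ne_zero this
    · -- simplicity
      intro y hy hyne y' hy'
      obtain ⟨j, rfl⟩ := Ideal.Quotient.mk_surjective y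
      obtain ⟨j', rfl⟩ := Ideal.Quotient.mk_surjective y'
      rw [hPmk] at hy hy'
      have hjJ : j ∈ J := (hJmem j).mpr hy
      have hj'J : j' ∈ J := (hJmem j').mpr hy'
      have hfj : f i ⟨j, hjJ⟩ ≠ 0 := by
        intro h0
        apply hyne
        rw [Ideal.Quotient.eq_zero_iff_mem, hWmem]
        exact ⟨hjJ, h0⟩
      obtain ⟨c, hc⟩ := Ideal.Quotient.mk_surjective (f i ⟨j', hj'J⟩ / f i ⟨j, hjJ⟩)
      obtain ⟨s, c', hc's, hcc'⟩ := hres c
      refine ⟨Ideal.Quotient.mk (W i) c', s, ?_, ?_⟩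
      · rw [hPmk, hc's]
      · rw [← map_mul, eq_comm, Ideal.Quotient.eq, hWmem]
        have hmem : c' * j - j' ∈ J := J.sub_mem (J.mul_mem_left c' hjJ) hj'J
        refine ⟨hmem, ?_⟩
        have h1 : (⟨c' * j - j', hmem⟩ : J) = c' • (⟨j, hjJ⟩ : J) - ⟨j', hj'J⟩ := rfl
        rw [h1, map_sub, map_smul, hsmul]
        have h2 : Ideal.Quotient.mk 𝔫 c' = Ideal.Quotient.mk 𝔫 c := by
          rw [eq_comm, Ideal.Quotient.eq]
          exact hcc'
        rw [h2, hc, div_mul_cancel₀ _ hfj, sub_self]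
    · -- surjective
      intro z
      obtain ⟨a, ha⟩ := hp z
      exact ⟨Ideal.Quotient.mk (W i) a, ha⟩
    · -- square zero
      intro y y' hy hy'
      obtain ⟨j, rfl⟩ := Ideal.Quotient.mk_surjective y
      obtain ⟨j', rfl⟩ := Ideal.Quotient.mk_surjective y'
      rw [hPmk] at hy hy'
      rw [← map_mul, hsq j j' hy hy', map_zero]
  choose χi hχi using key
  have hχi' : ∀ i s, P i (χi i s) = ψ s := fun i s => AlgHom.congr_fun (hχi i) s
  -- a set-theoretic section
  choose σ hσ using fun s : S => hp (ψ s)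
  have hjj : ∀ i s, ∃ j : J, χi i s = Ideal.Quotient.mk (W i) (σ s + (j : A₁)) := by
    intro i s
    obtain ⟨t, ht⟩ := Ideal.Quotient.mk_surjective (χi i s - Ideal.Quotient.mk (W i) (σ s))
    have htJ : t ∈ J := by
      rw [hJmem, ← hPmk i, ht, map_sub, hχi', hPmk, hσ, sub_self]
    refine ⟨⟨t, htJ⟩, ?_⟩
    rw [map_add, ht]
    ring
  choose jj hjj using hjj
  let χfun : S → A₁ := fun s => σ s + ((r fun i => f i (jj i s) : J) : A₁)
  -- the key property
  have hstar : ∀ (s : S) (a : A₁) (j : ι → J), p a = ψ s →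
      (∀ i, χi i s = Ideal.Quotient.mk (W i) (a + (j i : A₁))) →
      χfun s = a + ((r fun i => f i (j i) : J) : A₁) := by
    intro s a j ha hj
    have hj0 : a - σ s ∈ J := by rw [hJmem, map_sub, ha, hσ, sub_self]
    have hcoord : ∀ i, f i (jj i s) = f i ⟨a - σ s, hj0⟩ + f i (j i) := by
      intro i
      have h1 := (hjj i s).symm.trans (hj i)
      rw [Ideal.Quotient.eq, hWmem] at h1
      obtain ⟨h, h1⟩ := h1
      have h2 : (⟨σ s + (jj i s : A₁) - (a + (j i : A₁)), h⟩ : J) =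
          jj i s - (⟨a - σ s, hj0⟩ + j i) := by
        apply Subtype.ext
        change σ s + (jj i s : A₁) - (a + (j i : A₁)) = (jj i s : A₁) - ((a - σ s) + (j i : A₁))
        ring
      rw [h2, map_sub, sub_eq_zero] at h1
      rw [h1, map_add]
    have hfun : (fun i => f i (jj i s)) =
        (fun i => f i ⟨a - σ s, hj0⟩) + fun i => f i (j i) := by
      funext i
      exact hcoord i
    change σ s + ((r fun i => f i (jj i s) : J) : A₁) = _
    rw [hfun, map_add, hr, Submodule.coe_add]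
    change σ s + ((a - σ s) + _) = _
    ring
  have hχp : ∀ s, p (χfun s) = ψ s := by
    intro s
    change p (σ s + _) = _
    rw [map_add, hσ, (hJmem _).mp (r fun i => f i (jj i s)).2, add_zero]
  have hone : χfun 1 = 1 := by
    have := hstar 1 1 (fun _ => 0) (by rw [map_one, map_one])
      (fun i => by rw [map_one, Submodule.coe_zero, add_zero, map_one])
    rw [this]
    have h0 : (fun i => f i (0 : J)) = 0 := by
      funext i
      exact map_zero _
    rw [h0, map_zero, Submodule.coe_zero, add_zero]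
  have hzero : χfun 0 = 0 := by
    have := hstar 0 0 (fun _ => 0) (by rw [map_zero, map_zero])
      (fun i => by rw [map_zero, Submodule.coe_zero, add_zero, map_zero])
    rw [this]
    have h0 : (fun i => f i (0 : J)) = 0 := by
      funext i
      exact map_zero _
    rw [h0, map_zero, Submodule.coe_zero, add_zero]
  have hadd : ∀ s s', χfun (s + s') = χfun s + χfun s' := by
    intro s s'
    have := hstar (s + s') (σ s + σ s') (fun i => jj i s + jj i s')
      (by rw [map_add, map_add, hσ, hσ])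
      (fun i => by
        rw [map_add, hjj i s, hjj i s', ← map_add, Submodule.coe_add]
        congr 1
        ring)
    rw [this]
    have h0 : (fun i => f i (jj i s + jj i s')) =
        (fun i => f i (jj i s)) + fun i => f i (jj i s') := by
      funext i
      exact map_add _ _ _
    rw [h0, map_add, Submodule.coe_add]
    change _ = (σ s + _) + (σ s' + _)
    ring
  have hmul : ∀ s s', χfun (s * s') = χfun s * χfun s' := by
    intro s s'
    have hz : ∀ i, (jj i s : A₁) * (jj i s' : A₁) = 0 := fun i =>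
      hsq _ _ ((hJmem _).mp (jj i s).2) ((hJmem _).mp (jj i s').2)
    have := hstar (s * s') (σ s * σ s') (fun i => σ s • jj i s' + σ s' • jj i s)
      (by rw [map_mul, map_mul, hσ, hσ])
      (fun i => by
        rw [map_mul, hjj i s, hjj i s', ← map_mul]
        congr 1
        change _ = σ s * σ s' + (σ s * (jj i s' : A₁) + σ s' * (jj i s : A₁))
        have := hz i
        linear_combination this)
    rw [this]
    have h0 : (fun i => f i (σ s • jj i s' + σ s' • jj i s)) =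
        σ s • (fun i => f i (jj i s')) + σ s' • fun i => f i (jj i s) := by
      funext i
      rw [map_add, map_smul, map_smul]
      rfl
    rw [h0, map_add, map_smul, map_smul, Submodule.coe_add, Submodule.coe_smul, Submodule.coe_smul]
    have hz' : ((r fun i => f i (jj i s) : J) : A₁) * ((r fun i => f i (jj i s') : J) : A₁) = 0 :=
      hsq _ _ ((hJmem _).mp (r fun i => f i (jj i s)).2) ((hJmem _).mp (r fun i => f i (jj i s')).2)
    change _ = (σ s + _) * (σ s' + _)
    simp only [smul_eq_mul]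
    linear_combination (-1 : A₁) * hz'
  have hcomm : ∀ c : R, χfun (algebraMap R S c) = algebraMap R A₁ c := by
    intro c
    have := hstar (algebraMap R S c) (algebraMap R A₁ c) (fun _ => 0)
      (by rw [AlgHom.commutes, AlgHom.commutes])
      (fun i => by rw [AlgHom.commutes, Submodule.coe_zero, add_zero]; rfl)
    rw [this]
    have h0 : (fun i => f i (0 : J)) = 0 := by
      funext i
      exact map_zero _
    rw [h0, map_zero, Submodule.coe_zero, add_zero]
  let χ : S →ₐ[R] A₁ :=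
    { toFun := χfun
      map_one' := hone
      map_mul' := hmul
      map_zero' := hzero
      map_add' := hadd
      commutes' := hcomm }
  refine ⟨χ, ?_⟩
  ext s
  exact hχp s

end

section
variable {R S : Type u} [CommRing R] [CommRing S] [IsLocalRing R] [IsLocalRing S]
  [IsNoetherianRing S] [Algebra R S] [IsLocalHom (algebraMap R S)]

/-- Lifting against a surjection with square-zero kernel killed by a power of a maximal ideal with
residue field generated by `S`. -/
theorem exists_lift_of_pow_killed (H : SmallLift R S) (N : ℕ) :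
    ∀ {A₁ A₂ : Type u} [CommRing A₁] [CommRing A₂] [Algebra R A₁] [Algebra R A₂]
    (p : A₁ →ₐ[R] A₂) (_ : Function.Surjective p)
    (𝔫 : Ideal A₁) [𝔫.IsMaximal]
    (_ : ∀ y y' : A₁, p y = 0 → p y' = 0 → y * y' = 0)
    (_ : ∀ a ∈ 𝔫 ^ N, ∀ y : A₁, p y = 0 → a * y = 0)
    (ψ : S →ₐ[R] A₂) (_ : ∃ k : ℕ, ∀ x ∈ maximalIdeal S ^ (k + 1), ψ x = 0)
    (_ : ∀ a : A₁, ∃ (s : S) (a' : A₁), p a' = ψ s ∧ a - a' ∈ 𝔫),
    ∃ χ : S →ₐ[R] A₁, p.comp χ = ψ := by
  induction N with
  | zero =>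
    intro A₁ A₂ _ _ _ _ p hp 𝔫 _ hsq hkill ψ hk hres
    have hinj : Function.Injective p := by
      rw [injective_iff_map_eq_zero]
      intro y hy
      have := hkill 1 (by rw [pow_zero, Ideal.one_eq_top]; exact Submodule.mem_top) y hy
      rwa [one_mul] at this
    let e : A₁ ≃ₐ[R] A₂ := AlgEquiv.ofBijective p ⟨hinj, hp⟩
    refine ⟨(e.symm : A₂ →ₐ[R] A₁).comp ψ, ?_⟩
    ext s
    change p (e.symm (ψ s)) = ψ s
    exact e.apply_symm_apply (ψ s)
  | succ N ih =>
    intro A₁ A₂ _ _ _ _ p hp 𝔫 h𝔫 hsq hkill ψ hk hres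
    obtain ⟨k, hk⟩ := hk
    set J : Ideal A₁ := RingHom.ker p.toRingHom with hJ
    have hJmem : ∀ x : A₁, x ∈ J ↔ p x = 0 := fun x => Iff.rfl
    have hJ𝔫 : J ≤ 𝔫 := by
      intro y hy
      have h0 : y * y = 0 := hsq y y hy hy
      have h1 : y * y ∈ 𝔫 := by rw [h0]; exact 𝔫.zero_mem
      exact (or_self_iff.mp (h𝔫.isPrime.mem_or_mem h1))
    set J' : Ideal A₁ := 𝔫 * J with hJ'
    have hJ'J : J' ≤ J := Ideal.mul_le_right
    -- first step: lift to `A₁ ⧸ J'`
    let pbar : (A₁ ⧸ J') →ₐ[R] A₂ :=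
      Ideal.Quotient.liftₐ J' p (fun x hx => (hJmem x).mp (hJ'J hx))
    have hpbar : ∀ x : A₁, pbar (Ideal.Quotient.mk J' x) = p x := fun x => rfl
    have hmax : (𝔫.map (Ideal.Quotient.mk J')).IsMaximal :=
      Ideal.IsMaximal.map_of_surjective_of_ker_le Ideal.Quotient.mk_surjective
        (by rw [Ideal.mk_ker]; exact hJ'J.trans hJ𝔫)
    obtain ⟨χ', hχ'⟩ : ∃ χ' : S →ₐ[R] A₁ ⧸ J', pbar.comp χ' = ψ := by
      apply exists_lift_of_killed H pbar _ (𝔫.map (Ideal.Quotient.mk J')) _ _ ψ k hk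
      · intro a
        obtain ⟨a₀, rfl⟩ := Ideal.Quotient.mk_surjective a
        obtain ⟨s, a₀', h1, h2⟩ := hres a₀
        refine ⟨s, Ideal.Quotient.mk J' a₀', ?_, ?_⟩
        · rw [hpbar, h1]
        · rw [← map_sub]
          exact Ideal.mem_map_of_mem _ h2
      · intro z
        obtain ⟨a, ha⟩ := hp z
        exact ⟨Ideal.Quotient.mk J' a, ha⟩
      · intro y y' hy hy'
        obtain ⟨j, rfl⟩ := Ideal.Quotient.mk_surjective y
        obtain ⟨j', rfl⟩ := Ideal.Quotient.mk_surjective y'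
        rw [hpbar] at hy hy'
        rw [← map_mul, hsq j j' hy hy', map_zero]
      · intro a ha y hy
        obtain ⟨a₀, ha₀, rfl⟩ := (Ideal.mem_map_iff_of_surjective _ Ideal.Quotient.mk_surjective).mp ha
        obtain ⟨y₀, rfl⟩ := Ideal.Quotient.mk_surjective y
        rw [hpbar] at hy
        rw [← map_mul, Ideal.Quotient.eq_zero_iff_mem]
        exact Ideal.mul_mem_mul ha₀ ((hJmem y₀).mpr hy)
    have hχ'' : ∀ s, pbar (χ' s) = ψ s := fun s => AlgHom.congr_fun hχ' s
    -- second step: lift to `A₁`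
    obtain ⟨χ, hχ⟩ : ∃ χ : S →ₐ[R] A₁, (Ideal.Quotient.mkₐ R J').comp χ = χ' := by
      apply ih (Ideal.Quotient.mkₐ R J') (Ideal.Quotient.mkₐ_surjective R J') 𝔫 _ _ χ' _ _
      · intro y y' hy hy'
        have hy1 : y ∈ J' := Ideal.Quotient.eq_zero_iff_mem.mp hy
        have hy'1 : y' ∈ J' := Ideal.Quotient.eq_zero_iff_mem.mp hy'
        exact hsq y y' ((hJmem y).mp (hJ'J hy1)) ((hJmem y').mp (hJ'J hy'1))
      · intro a ha y hy
        have hy1 : y ∈ J' := Ideal.Quotient.eq_zero_iff_mem.mp hy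
        rw [hJ'] at hy1
        refine Submodule.mul_induction_on hy1 ?_ ?_
        · intro n hn j hj
          rw [← mul_assoc]
          apply hkill (a * n) _ j ((hJmem j).mp hj)
          rw [pow_succ]
          exact Ideal.mul_mem_mul ha hn
        · intro x y hx hy
          rw [mul_add, hx, hy, add_zero]
      · refine ⟨2 * k + 1, ?_⟩
        intro x hx
        have h2 : maximalIdeal S ^ (2 * k + 1 + 1) = maximalIdeal S ^ (k + 1) * maximalIdeal S ^ (k + 1) := by
          rw [← pow_add]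
          congr 1
          ring
        rw [h2] at hx
        refine Submodule.mul_induction_on hx ?_ ?_
        · intro x hx y hy
          rw [map_mul]
          obtain ⟨j, hj⟩ := Ideal.Quotient.mk_surjective (χ' x)
          obtain ⟨j', hj'⟩ := Ideal.Quotient.mk_surjective (χ' y)
          have h3 : p j = 0 := by rw [← hpbar, hj, hχ'', hk x hx]
          have h4 : p j' = 0 := by rw [← hpbar, hj', hχ'', hk y hy]
          rw [← hj, ← hj', ← map_mul, hsq j j' h3 h4, map_zero]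
        · intro x y hx hy
          rw [map_add, hx, hy, add_zero]
      · intro a
        obtain ⟨s, a₀', h1, h2⟩ := hres a
        obtain ⟨a', ha'⟩ := Ideal.Quotient.mk_surjective (χ' s)
        refine ⟨s, a', ha', ?_⟩
        have h3 : a' - a₀' ∈ J := by
          rw [hJmem, map_sub, ← hpbar a', ha', hχ'', h1, sub_self]
        have h4 : a - a' = (a - a₀') - (a' - a₀') := by ring
        rw [h4]
        exact 𝔫.sub_mem h2 (hJ𝔫 h3)
    refine ⟨χ, ?_⟩
    ext s
    have h1 : Ideal.Quotient.mk J' (χ s) = χ' s := AlgHom.congr_fun hχ s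
    change p (χ s) = ψ s
    rw [← hpbar, h1, hχ'']

end


end Groth.Agent.Lib.Helper9.SmallExt
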