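import Mathlib
import Groth.Prelude.Def_CAlg
import Groth.Prelude.Def_EGA4b
import Groth.Prelude.Def_Hensel
import Groth.Agent.S2772
import Groth.Agent.Lib.Helper18.CplQuot
import Groth.Agent.Lib.Helper18.CatFlat
import Groth.Agent.Lib.Helper18.FormEq
import Groth.Agent.Lib.Helper18.FormEq2
import Groth.Agent.Lib.Helper4.HznNoethC
import Groth.Agent.Lib.Helper4.HznProps
import Groth.Agent.Lib.Helper9.IndEtaleRegular
import Groth.Agent.Lib.Helper9.NormalFF2

set_option autoImplicit false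
set_option linter.style.haveILetI false
set_option linter.unusedSectionVars false
universe u

namespace Groth.Agent.Lib.Helper9.StrictFormCat
open TensorProduct IsLocalRing

section surj
variable {R S : Type u} [CommRing R] [CommRing S] [IsNoetherianRing R] [IsNoetherianRing S]
  (φ : R →+* S) (hφ : Function.Surjective φ)
include hφ

/-- converse of `comap_mem_associatedPrimes_of_surjective` -/
theorem exists_comap_eq_of_mem_associatedPrimes (P : Ideal R)
    (hP : P ∈ associatedPrimes R (R ⧸ RingHom.ker φ)) :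
    ∃ q ∈ associatedPrimes S S, q.comap φ = P := by
  rw [AssociatedPrimes.mem_iff, isAssociatedPrime_iff] at hP
  obtain ⟨hPp, y, hy⟩ := hP
  obtain ⟨x, rfl⟩ := Ideal.Quotient.mk_surjective y
  have hmem : ∀ r : R, r ∈ P ↔ φ (r * x) = 0 := by
    intro r
    rw [hy, Submodule.mem_colon_singleton, Submodule.mem_bot]
    have : r • (Ideal.Quotient.mk (RingHom.ker φ)) x = Ideal.Quotient.mk (RingHom.ker φ) (r * x) :=
      rfl
    rw [this, Ideal.Quotient.eq_zero_iff_mem, RingHom.mem_ker]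
  have hker : RingHom.ker φ ≤ P := by
    intro r hr
    rw [hmem, map_mul, RingHom.mem_ker.mp hr, zero_mul]
  have hcomap : (P.map φ).comap φ = P := by
    rw [Ideal.comap_map_of_surjective φ hφ]
    exact sup_eq_left.mpr (by rwa [← RingHom.ker_eq_comap_bot])
  refine ⟨P.map φ, ?_, hcomap⟩
  rw [AssociatedPrimes.mem_iff, isAssociatedPrime_iff]
  refine ⟨Ideal.map_isPrime_of_surjective hφ hker, φ x, ?_⟩
  ext s
  obtain ⟨r, rfl⟩ := hφ s
  rw [Submodule.mem_colon_singleton, Submodule.mem_bot, smul_eq_mul, ← map_mul, ← hmem]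
  constructor
  · intro h
    have : r ∈ (P.map φ).comap φ := h
    rwa [hcomap] at this
  · intro h
    exact Ideal.mem_map_of_mem φ h

end surj


section key

variable (R S : Type u) [CommRing R] [IsLocalRing R] [IsNoetherianRing R]
    [CommRing S] [IsLocalRing S] [IsNoetherianRing S] [Algebra R S] [IsLocalHom (algebraMap R S)]

open Groth.Agent.Lib.Helper18 in
/-- the associated primes of `Ĉ ⊗ (A/I)` for the completion of a quotient -/
theorem associatedPrimes_cpl_quotient (A : Type u) [CommRing A] [IsLocalRing A]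
    [IsNoetherianRing A] (I : Ideal A) [IsLocalRing (A ⧸ I)]
    (P : Ideal (EGA4.Cpl (A ⧸ I))) (hP : P ∈ associatedPrimes (EGA4.Cpl (A ⧸ I)) (EGA4.Cpl (A ⧸ I))) :
    haveI := CplQuot.isLocalHom_of_surjective A (A ⧸ I) Ideal.Quotient.mk_surjective
    P.comap (CplQuot.cplMap A (A ⧸ I)) ∈
      associatedPrimes (EGA4.Cpl A) (EGA4.Cpl A ⊗[A] (A ⧸ I)) ∧
    ringKrullDim (EGA4.Cpl A ⧸ P.comap (CplQuot.cplMap A (A ⧸ I))) =
      ringKrullDim (EGA4.Cpl (A ⧸ I) ⧸ P) := by
  have hs : Function.Surjective (algebraMap A (A ⧸ I)) := Ideal.Quotient.mk_surjective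
  haveI hloc := CplQuot.isLocalHom_of_surjective A (A ⧸ I) hs
  have hφ := CplQuot.cplMap_surjective A (A ⧸ I) hs
  have hker := CplQuot.ker_cplMap A (A ⧸ I) hs
  have hkp : RingHom.ker (algebraMap A (A ⧸ I)) = I := by
    rw [Ideal.Quotient.algebraMap_eq, Ideal.mk_ker]
  rw [hkp] at hker
  haveI : IsNoetherianRing (EGA4.Cpl A) := Groth.Agent.Lib.Helper9.NormalFF.isNoetherianRing_cpl A
  haveI : IsNoetherianRing (A ⧸ I) := inferInstance
  haveI : IsNoetherianRing (EGA4.Cpl (A ⧸ I)) :=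
    Groth.Agent.Lib.Helper9.NormalFF.isNoetherianRing_cpl (A ⧸ I)
  have h1 := FormEq.comap_mem_associatedPrimes_of_surjective _ hφ P hP
  let e : (EGA4.Cpl A ⧸ RingHom.ker (CplQuot.cplMap A (A ⧸ I))) ≃ₗ[EGA4.Cpl A]
      EGA4.Cpl A ⊗[A] (A ⧸ I) :=
    (Submodule.quotEquivOfEq _ _ hker) ≪≫ₗ
      (Algebra.TensorProduct.quotIdealMapEquivTensorQuot (EGA4.Cpl A) I).toLinearEquiv
  rw [LinearEquiv.AssociatedPrimes.eq e] at h1
  exact ⟨h1, FormEq.ringKrullDim_quotient_comap_of_surjective _ hφ P⟩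


open Groth.Agent.Lib.Helper18 in
/-- strict formal catenarity ascends along a flat local map with zero-dimensional fibres
inducing an isomorphism on completions -/
theorem isFormallyStrictlyCatenary_of_algEquiv_cpl [Module.Flat R S]
    (e : EGA4.Cpl R ≃ₐ[R] EGA4.Cpl S)
    (hfib : ∀ (q : Ideal S) [q.IsPrime], q ∈ ((q.under R).map (algebraMap R S)).minimalPrimes)
    (hR : EGA4.IsFormallyStrictlyCatenary R) : EGA4.IsFormallyStrictlyCatenary S := by
  intro q hq
  set p : Ideal R := q.under R with hp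
  haveI hpp : p.IsPrime := Ideal.comap_isPrime _ _
  set pS : Ideal S := p.map (algebraMap R S) with hpS
  haveI : IsNoetherianRing (EGA4.Cpl R) := Groth.Agent.Lib.Helper9.NormalFF.isNoetherianRing_cpl R
  haveI : IsNoetherianRing (EGA4.Cpl S) := Groth.Agent.Lib.Helper9.NormalFF.isNoetherianRing_cpl S
  haveI : IsNoetherianRing (EGA4.Cpl (R ⧸ p)) :=
    Groth.Agent.Lib.Helper9.NormalFF.isNoetherianRing_cpl (R ⧸ p)
  haveI : IsNoetherianRing (EGA4.Cpl (S ⧸ q)) :=
    Groth.Agent.Lib.Helper9.NormalFF.isNoetherianRing_cpl (S ⧸ q)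
  -- Step 1
  have hsR : Function.Surjective (algebraMap R (R ⧸ p)) := Ideal.Quotient.mk_surjective
  haveI hlocR := CplQuot.isLocalHom_of_surjective R (R ⧸ p) hsR
  have hφp := CplQuot.cplMap_surjective R (R ⧸ p) hsR
  have hkerp := CplQuot.ker_cplMap R (R ⧸ p) hsR
  have hkp : RingHom.ker (algebraMap R (R ⧸ p)) = p := by
    rw [Ideal.Quotient.algebraMap_eq, Ideal.mk_ker]
  rw [hkp] at hkerp
  let ψ : EGA4.Cpl S →+* EGA4.Cpl (R ⧸ p) :=
    (CplQuot.cplMap R (R ⧸ p)).comp (e.symm.toRingEquiv : EGA4.Cpl S →+* EGA4.Cpl R)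
  have hψ : Function.Surjective ψ := hφp.comp e.symm.surjective
  have hkerψ : RingHom.ker ψ = pS.map (algebraMap S (EGA4.Cpl S)) := by
    have h1 : RingHom.ker ψ = (RingHom.ker (CplQuot.cplMap R (R ⧸ p))).comap
        (e.symm.toRingEquiv : EGA4.Cpl S →+* EGA4.Cpl R) := by
      rw [← RingHom.comap_ker]
    rw [h1, hkerp, hpS, Ideal.map_map]
    have h2 : (p.map (algebraMap R (EGA4.Cpl R))).comap
        (e.symm.toRingEquiv : EGA4.Cpl S →+* EGA4.Cpl R) =
        (p.map (algebraMap R (EGA4.Cpl R))).map (e.toRingEquiv : EGA4.Cpl R →+* EGA4.Cpl S) :=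
      Ideal.comap_symm (e.toRingEquiv)
    rw [h2, Ideal.map_map]
    congr 1
    refine RingHom.ext fun r => ?_
    simp only [RingHom.comp_apply]
    rw [← IsScalarTower.algebraMap_apply R S (EGA4.Cpl S)]
    exact e.commutes r
  have step1 : ∀ P' ∈ associatedPrimes (EGA4.Cpl S) (EGA4.Cpl S ⊗[S] (S ⧸ pS)),
      ringKrullDim (EGA4.Cpl S ⧸ P') = ringKrullDim (R ⧸ p) := by
    intro P' hP'
    let e1 : (EGA4.Cpl S ⧸ RingHom.ker ψ) ≃ₗ[EGA4.Cpl S] EGA4.Cpl S ⊗[S] (S ⧸ pS) :=
      (Submodule.quotEquivOfEq _ _ hkerψ) ≪≫ₗ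
        (Algebra.TensorProduct.quotIdealMapEquivTensorQuot (EGA4.Cpl S) pS).toLinearEquiv
    rw [← LinearEquiv.AssociatedPrimes.eq e1] at hP'
    obtain ⟨P'', hP'', rfl⟩ := exists_comap_eq_of_mem_associatedPrimes ψ hψ P' hP'
    rw [FormEq.ringKrullDim_quotient_comap_of_surjective ψ hψ P'', hR p P'' hP'',
      FormEq.ringKrullDim_cpl]
  -- Step 2
  have hqmin := hfib q
  have hann : Module.annihilator S (S ⧸ pS) = pS := Ideal.annihilator_quotient
  have hqass : q ∈ associatedPrimes S (S ⧸ pS) := by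
    apply Module.associatedPrimes.minimalPrimes_annihilator_subset_associatedPrimes S (S ⧸ pS)
    rw [hann]
    exact hqmin
  obtain ⟨-, f, hf⟩ := (isAssociatedPrime_iff_exists_injective_linearMap q (S ⧸ pS)).mp hqass
  have hF : Function.Injective (f.baseChange (EGA4.Cpl S)) := by
    have := Module.Flat.lTensor_preserves_injective_linearMap (M := EGA4.Cpl S) f hf
    exact this
  have hsub := associatedPrimes.subset_of_injective hF
  -- Step 3
  have key : ∀ P ∈ associatedPrimes (EGA4.Cpl (S ⧸ q)) (EGA4.Cpl (S ⧸ q)),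
      ringKrullDim (EGA4.Cpl (S ⧸ q) ⧸ P) = ringKrullDim (R ⧸ p) := by
    intro P hP
    obtain ⟨h1, h2⟩ := associatedPrimes_cpl_quotient S q P hP
    rw [← h2]
    exact step1 _ (hsub h1)
  intro P hP
  rw [key P hP]
  obtain ⟨m₀, hm₀, h0⟩ := CatFlat.exists_minimalPrimes_ringKrullDim_quotient_eq (EGA4.Cpl (S ⧸ q))
  have hm₀ass : m₀ ∈ associatedPrimes (EGA4.Cpl (S ⧸ q)) (EGA4.Cpl (S ⧸ q)) := by
    apply Module.associatedPrimes.minimalPrimes_annihilator_subset_associatedPrimes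
    have : Module.annihilator (EGA4.Cpl (S ⧸ q)) (EGA4.Cpl (S ⧸ q)) = ⊥ :=
      Module.annihilator_eq_bot.mpr inferInstance
    rw [this]
    exact hm₀
  rw [← h0, key m₀ hm₀ass]

end key


theorem main (R S : Type u) [CommRing R] [IsLocalRing R] [IsNoetherianRing R]
    [CommRing S] [IsLocalRing S] [Algebra R S] [IsLocalHom (algebraMap R S)]
    [Hensel.IsHenselization R S]
    (h : EGA4.IsFormallyStrictlyCatenary R) : EGA4.IsFormallyStrictlyCatenary S := by
  haveI : IsNoetherianRing S :=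
    (Groth.Agent.Lib.Helper4.Hzn.isNoetherianRing_iff_of_isHenselization R S).mp inferInstance
  haveI := Groth.Agent.Lib.Helper4.Hzn.faithfullyFlat_of_isHenselization R S
  obtain ⟨e⟩ := Groth.Agent.S2772.nonempty_algEquiv_cpl R S
  have hind := Groth.Agent.Lib.Helper4.IndEt.isIndEtale_of_isHenselization R S
  refine isFormallyStrictlyCatenary_of_algEquiv_cpl R S e (fun q _ => ?_) h
  refine ⟨⟨inferInstance, Ideal.map_le_iff_le_comap.mpr le_rfl⟩, ?_⟩
  rintro q' ⟨hq'p, hq'le⟩ hq'q x hx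
  obtain ⟨s, hs, hsx⟩ :=
    Groth.Agent.Lib.Helper9.IndEtaleRegular.exists_mul_mem_map R S hind q x hx
  have h1 := hq'le hsx
  exact (hq'p.mem_or_mem h1).resolve_left (fun h => hs (hq'q h))

end Groth.Agent.Lib.Helper9.StrictFormCat
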