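import Mathlib
import Groth.Agent.Lib.Helper9.K0Ref1
import Groth.Agent.Lib.Helper9.CohGlue
import Groth.Agent.Lib.Helper29.QCohGen

/-!
# Coherent modules on integral Noetherian schemes are quotients of torsion-free coherent modules
(helper9)
-/

set_option autoImplicit false
universe u
open CategoryTheory CategoryTheory.Limits AlgebraicGeometry TopologicalSpace Opposite

namespace Groth.Agent.Lib.Helper9.TFQuot

open Groth.Agent.Lib.Helper29.QCoh Groth.Agent.Lib.Helper9.IdMul Groth.Agent.Lib.Helper9.Dev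

variable {X : Scheme.{u}}

/-- Stalkwise torsion-freeness in the `NoZeroSMulDivisors` form. -/
def TF (P : X.Modules) : Prop :=
  ∀ y : X, NoZeroSMulDivisors (X.presheaf.stalk y) (P.presheaf.stalk y)

theorem tf_unitM [IsIntegral X] : TF (unitM X) := by
  intro z
  have h : Module.IsTorsionFree (X.presheaf.stalk z) ((unitM X).presheaf.stalk z) :=
    Groth.Agent.Lib.Helper9.K0Ref.isTorsionFree_unitM z
  exact ⟨fun {c x} hcx => smul_eq_zero.mp hcx⟩

theorem tf_of_mono {P N : X.Modules} (a : P ⟶ N) [Mono a] (hN : TF N) : TF P := by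
  intro y
  have hinj : Function.Injective (stalkMap a y) := (mono_iff_stalkMap_injective a).mp inferInstance y
  have := hN y
  refine ⟨fun {c x} hcx => ?_⟩
  have h1 : c • stalkMap a y x = 0 := by
    rw [← stalkMap_smul, hcx, map_zero]
  rcases NoZeroSMulDivisors.eq_zero_or_eq_zero_of_smul_eq_zero h1 with h | h
  · exact Or.inl h
  · right
    apply hinj
    rw [h, map_zero]

theorem tf_biprod {A B : X.Modules} (hA : TF A) (hB : TF B) : TF (A ⊞ B) := by
  intro y
  have := hA y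
  have := hB y
  refine ⟨fun {c x} hcx => ?_⟩
  by_cases hc : c = 0
  · exact Or.inl hc
  right
  have h1 : stalkMap (biprod.fst : A ⊞ B ⟶ A) y x = 0 := by
    have : c • stalkMap (biprod.fst : A ⊞ B ⟶ A) y x = 0 := by
      rw [← stalkMap_smul, hcx, map_zero]
    exact (NoZeroSMulDivisors.eq_zero_or_eq_zero_of_smul_eq_zero this).resolve_left hc
  have h2 : stalkMap (biprod.snd : A ⊞ B ⟶ B) y x = 0 := by
    have : c • stalkMap (biprod.snd : A ⊞ B ⟶ B) y x = 0 := by
      rw [← stalkMap_smul, hcx, map_zero]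
    exact (NoZeroSMulDivisors.eq_zero_or_eq_zero_of_smul_eq_zero this).resolve_left hc
  have h3 : stalkMap (𝟙 (A ⊞ B)) y x = x := by
    rw [stalkMap_id]; rfl
  have h4 : (𝟙 (A ⊞ B)) = biprod.fst ≫ biprod.inl + biprod.snd ≫ biprod.inr := biprod.total.symm
  rw [← h3, h4]
  have h5 : stalkMap (biprod.fst ≫ biprod.inl + biprod.snd ≫ biprod.inr : A ⊞ B ⟶ A ⊞ B) y x
      = stalkMap (biprod.fst ≫ biprod.inl : A ⊞ B ⟶ A ⊞ B) y x +
        stalkMap (biprod.snd ≫ biprod.inr : A ⊞ B ⟶ A ⊞ B) y x := by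
    have := stalkMap_sum (Finset.univ : Finset (Fin 2))
      (fun i : Fin 2 => if i = 0 then (biprod.fst ≫ biprod.inl : A ⊞ B ⟶ A ⊞ B)
        else biprod.snd ≫ biprod.inr) y
    simp only [Fin.sum_univ_two, Fin.isValue, ↓reduceIte, one_ne_zero] at this
    rw [this]
    rfl
  rw [h5, stalkMap_comp_apply, stalkMap_comp_apply, h1, h2, map_zero, map_zero, add_zero]

/-- A local section of a quasi-coherent module on a Noetherian scheme is, near every point of its
domain, in the image of a morphism from a coherent submodule of the structure sheaf. -/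
theorem exists_sub_unit_through_section [IsNoetherian X] (F : X.Modules) (hF : Coh.IsQCoh F)
    (V : X.Opens) (s : Γ(F, V)) :
    ∃ (P : X.Modules) (a : P ⟶ unitM X) (ψ : P ⟶ F), Coh.IsCoh P ∧ Mono a ∧
      ∀ (y : X) (hy : y ∈ V), F.presheaf.germ V y hy s ∈ stalkMapRange ψ y := by
  have hFq : F.IsQuasicoherent := hF
  have hOcoh : Coh.IsCoh (unitM X) := Groth.Agent.Lib.Helper9.RefStalk.isCoh_unit X
  have hOq : (unitM X).IsQuasicoherent := hOcoh.1
  have hOf : (unitM X).IsFiniteType := hOcoh.2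
  have hV' : V.ι ''ᵁ ⊤ = V := by simp
  let s' : Γ(F.restrict V.ι, ⊤) := res F hV'.le s
  let φ₀ : (unitM X).restrict V.ι ⟶ F.restrict V.ι :=
    (restrictUnitIso' V.ι).hom ≫ homOfSection (F.restrict V.ι) s'
  have hU : (V : Set X) = ((Scheme.IdealSheafData.vanishingIdeal
      ⟨(V : Set X)ᶜ, V.isOpen.isClosed_compl⟩).support : Set X)ᶜ := by
    have : ((Scheme.IdealSheafData.vanishingIdeal
        ⟨(V : Set X)ᶜ, V.isOpen.isClosed_compl⟩).support : Set X) = (V : Set X)ᶜ :=
      Scheme.IdealSheafData.coe_support_vanishingIdeal _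
    rw [this, compl_compl]
  obtain ⟨n, ψ, hψ⟩ := main9515 X F (unitM X) hF hOcoh _ V hU φ₀
  have hJn : ∀ U' : X.affineOpens, U'.1 ≤ V → ((Scheme.IdealSheafData.vanishingIdeal
      ⟨(V : Set X)ᶜ, V.isOpen.isClosed_compl⟩) ^ n).ideal U' = ⊤ := fun U' hU' =>
    pow_ideal_eq_top _ n U' (vanishingIdeal_compl_ideal_eq_top V U' hU')
  have hb1 : ∀ W : X.Opens, W ≤ V → Function.Bijective ((Dual3.idealMulι
      ((Scheme.IdealSheafData.vanishingIdeal
        ⟨(V : Set X)ᶜ, V.isOpen.isClosed_compl⟩) ^ n) (unitM X)).app W) := fun W hW =>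
    idealMulι_app_bijective_of_ideal_eq_top _ (unitM X) W fun U' hU' => hJn U' (hU'.trans hW)
  -- a preimage of the unit section
  obtain ⟨u, hu⟩ := (app_bijective_of_isIso (restrictUnitIso' V.ι).hom ⊤).2 (toUnit 1)
  obtain ⟨z, hz⟩ := (hb1 (V.ι ''ᵁ ⊤) hV'.le).2 u
  have hcomp : ψ.app (V.ι ''ᵁ ⊤) z =
      φ₀.app ⊤ ((Dual3.idealMulι _ (unitM X)).app (V.ι ''ᵁ ⊤) z) := by
    have := congrArg (fun φ => Scheme.Modules.Hom.app φ ⊤) hψ
    exact congrArg (fun k => k.hom z) this
  have hval : ψ.app (V.ι ''ᵁ ⊤) z = res F hV'.le s := by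
    rw [hcomp, hz]
    have h1 : φ₀.app ⊤ u = (homOfSection (F.restrict V.ι) s').app ⊤
        ((restrictUnitIso' V.ι).hom.app ⊤ u) := rfl
    rw [h1, hu, homOfSection_app_one]
  refine ⟨_, Dual3.idealMulι _ (unitM X), ψ,
    ⟨isQuasicoherent_idealMul _ (unitM X), isFiniteType_idealMul _ (unitM X)⟩,
    inferInstance, fun y hy => ?_⟩
  have hy' : y ∈ V.ι ''ᵁ ⊤ := by rw [hV']; exact hy
  refine ⟨((Dual3.idealMul _).obj (unitM X)).presheaf.germ (V.ι ''ᵁ ⊤) y hy' z, ?_⟩
  rw [stalkMap_germ, hval, germ_res]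

theorem stalkMapRange_comp_le {A B C : X.Modules} (f : A ⟶ B) (g : B ⟶ C) (y : X) :
    stalkMapRange (f ≫ g) y ≤ stalkMapRange g y := by
  rintro t ⟨a, rfl⟩
  exact ⟨stalkMap f y a, (stalkMap_comp_apply f g y a).symm⟩

/-- Finitely many local sections of a quasi-coherent module are, near every point of their
domains, in the image of a single morphism from a torsion-free coherent module. -/
theorem exists_tf_through_sections [IsNoetherian X] [IsIntegral X] (F : X.Modules)
    (hF : Coh.IsQCoh F) (T : Finset (Σ V : X.Opens, Γ(F, V))) :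
    ∃ (F' : X.Modules) (π : F' ⟶ F), Coh.IsCoh F' ∧ TF F' ∧
      ∀ p ∈ T, ∀ (y : X) (hy : y ∈ p.1), F.presheaf.germ p.1 y hy p.2 ∈ stalkMapRange π y := by
  classical
  induction T using Finset.induction_on with
  | empty =>
    exact ⟨unitM X, 0, Groth.Agent.Lib.Helper9.RefStalk.isCoh_unit X, tf_unitM,
      fun p hp => absurd hp (Finset.notMem_empty p)⟩
  | insert p T _ ih =>
    obtain ⟨F'', π'', hc'', htf'', hr''⟩ := ih
    obtain ⟨P, a, ψ, hPc, hamono, hPr⟩ := exists_sub_unit_through_section F hF p.1 p.2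
    have hq1 : P.IsQuasicoherent := hPc.1
    have hq2 : F''.IsQuasicoherent := hc''.1
    have hf1 : P.IsFiniteType := hPc.2
    have hf2 : F''.IsFiniteType := hc''.2
    refine ⟨P ⊞ F'', biprod.desc ψ π'',
      ⟨Groth.Agent.Lib.Helper9.CohGlue.isQuasicoherent_biprod P F'',
        Groth.Agent.Lib.Helper9.CohGlue.isFiniteType_biprod P F''⟩,
      tf_biprod (tf_of_mono a tf_unitM) htf'', fun q hq y hy => ?_⟩
    rcases Finset.mem_insert.mp hq with rfl | hq
    · have h1 := hPr y hy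
      have h2 : stalkMapRange ψ y ≤ stalkMapRange (biprod.desc ψ π'') y := by
        have := stalkMapRange_comp_le (biprod.inl : P ⟶ P ⊞ F'') (biprod.desc ψ π'') y
        rwa [biprod.inl_desc] at this
      exact h2 h1
    · have h1 := hr'' q hq y hy
      have h2 : stalkMapRange π'' y ≤ stalkMapRange (biprod.desc ψ π'') y := by
        have := stalkMapRange_comp_le (biprod.inr : F'' ⟶ P ⊞ F'') (biprod.desc ψ π'') y
        rwa [biprod.inr_desc] at this
      exact h2 h1

/-- On an integral Noetherian scheme every coherent module is a quotient of a torsion-free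
coherent module. -/
theorem main14989 (Y : Scheme.{u}) [IsNoetherian Y] [IsIntegral Y]
    (F : Y.Modules) (hF : Coh.IsCoh F) :
    ∃ (F' : Y.Modules) (π : F' ⟶ F), Coh.IsCoh F' ∧
      (∀ y : Y, NoZeroSMulDivisors ↥(Y.presheaf.stalk y) ↥(F'.presheaf.stalk y)) ∧ Epi π := by
  classical
  have hFq : F.IsQuasicoherent := hF.1
  have hFf : F.IsFiniteType := hF.2
  have hcov : ∀ x : Y, ∃ W : Y.affineOpens, x ∈ W.1 := by
    intro x
    obtain ⟨W, hW, hxW, -⟩ := Opens.isBasis_iff_nbhd.mp Y.isBasis_affineOpens (Opens.mem_top x)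
    exact ⟨⟨W, hW⟩, hxW⟩
  choose Wx hWx using hcov
  obtain ⟨t, ht⟩ := isCompact_univ.elim_finite_subcover (fun x : Y => ((Wx x).1 : Set Y))
    (fun x => (Wx x).1.isOpen) (fun x _ => Set.mem_iUnion.mpr ⟨x, hWx x⟩)
  have hfin : ∀ x : Y, Module.Finite Γ(Y, (Wx x).1) Γ(F, (Wx x).1) := fun x =>
    (isFiniteType_iff_forall_module_finite F).mp hFf _ (Wx x).2
  choose S hS using fun x => (hfin x).fg_top
  let T : Finset (Σ V : Y.Opens, Γ(F, V)) :=
    t.biUnion fun x => (S x).image fun m => (⟨(Wx x).1, m⟩ : Σ V : Y.Opens, Γ(F, V))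
  obtain ⟨F', π, hc, htf, hr⟩ := exists_tf_through_sections F hF.1 T
  refine ⟨F', π, hc, htf, ?_⟩
  rw [epi_iff_stalkMap_surjective]
  intro y
  obtain ⟨x, hxt, hyx⟩ := Set.mem_iUnion₂.mp (ht (Set.mem_univ y))
  have hspan : Submodule.span Γ(Y, (Wx x).1)
      (Set.range (fun m : S x => (m : Γ(F, (Wx x).1)))) = ⊤ := by
    rw [Subtype.range_coe_subtype]
    exact hS x
  have h1 := span_germ_eq_top_of_span_eq_top F (Wx x).2 _ hspan y hyx
  have h2 : Submodule.span (Y.presheaf.stalk y)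
      (Set.range fun m : S x => F.presheaf.germ (Wx x).1 y hyx (m : Γ(F, (Wx x).1))) ≤
      stalkMapRange π y := by
    rw [Submodule.span_le]
    rintro _ ⟨m, rfl⟩
    have hmem : (⟨(Wx x).1, (m : Γ(F, (Wx x).1))⟩ : Σ V : Y.Opens, Γ(F, V)) ∈ T :=
      Finset.mem_biUnion.mpr ⟨x, hxt, Finset.mem_image.mpr ⟨m, m.2, rfl⟩⟩
    exact hr _ hmem y hyx
  rw [h1] at h2
  intro v
  exact h2 (Submodule.mem_top : v ∈ ⊤)

end Groth.Agent.Lib.Helper9.TFQuot
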