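import Mathlib
import Groth.Prelude.Def_FDesc
import Groth.Agent.Lib.Helper29.QCohAss2
import Groth.Agent.Lib.Helper9.ClosedPt2
import Groth.Agent.Lib.Helper29.QCohIdealMod
import Groth.Agent.Lib.Helper9.TensAss3

set_option autoImplicit false
universe u
open CategoryTheory CategoryTheory.Limits AlgebraicGeometry TopologicalSpace Opposite TensorProduct

namespace Groth.Agent.Lib.Helper9.TensAss

open Groth.Agent.Lib.Helper29.QCoh Groth.Agent.Lib.Helper9.ClosedPt

variable {k : Type u} [Field k] {X Y : Scheme.{u}}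

theorem isDomain_of_openImmersion [IsIntegral X] (R : CommRingCat.{u}) (j : Spec R ⟶ X)
    [IsOpenImmersion j] [Nonempty (Spec R)] : IsDomain R := by
  haveI : IsIntegral (Spec R) := isIntegral_of_isOpenImmersion j
  exact (affine_isIntegral_iff R).mp inferInstance

theorem exists_affine_tensor (f : X ⟶ Spec (CommRingCat.of k)) (g : Y ⟶ Spec (CommRingCat.of k))
    [IsIntegral X] [IsIntegral Y] (z : ↥(pullback f g)) :
    ∃ (W : (pullback f g).Opens) (_ : IsAffineOpen W) (A B : Type u) (_ : CommRing A)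
      (_ : CommRing B) (_ : IsDomain A) (_ : IsDomain B) (_ : Algebra k A) (_ : Algebra k B),
      z ∈ W ∧ Nonempty (Γ(pullback f g, W) ≃+* A ⊗[k] B) := by
  let 𝒰X := X.affineOpenCover
  let 𝒰Y := Y.affineOpenCover
  let 𝒲 := Scheme.Pullback.openCoverOfLeftRight 𝒰X.openCover 𝒰Y.openCover f g
  obtain ⟨ij, w, hw⟩ := 𝒲.exists_eq z
  obtain ⟨i, j⟩ := ij
  let RA : CommRingCat.{u} := 𝒰X.X i
  let RB : CommRingCat.{u} := 𝒰Y.X j
  let φ : Spec RA ⟶ Spec (CommRingCat.of k) := 𝒰X.f i ≫ f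
  let ψ : Spec RB ⟶ Spec (CommRingCat.of k) := 𝒰Y.f j ≫ g
  letI algA : Algebra k RA := (Spec.preimage φ).hom.toAlgebra
  letI algB : Algebra k RB := (Spec.preimage ψ).hom.toAlgebra
  have hφ : Spec.map (CommRingCat.ofHom (algebraMap k RA)) = φ := Spec.map_preimage φ
  have hψ : Spec.map (CommRingCat.ofHom (algebraMap k RB)) = ψ := Spec.map_preimage ψ
  let e : pullback φ ψ ≅ Spec (CommRingCat.of (RA ⊗[k] RB)) :=
    pullback.congrHom hφ.symm hψ.symm ≪≫ pullbackSpecIso k RA RB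
  let V : Scheme.{u} := pullback φ ψ
  let ι : V ⟶ pullback f g := 𝒲.f (i, j)
  haveI : IsOpenImmersion ι := 𝒲.map_prop (i, j)
  haveI : IsAffine V := IsAffine.of_isIso e.hom
  let w' : V := w
  haveI : Nonempty (Spec RA) := ⟨(pullback.fst φ ψ).base w'⟩
  haveI : Nonempty (Spec RB) := ⟨(pullback.snd φ ψ).base w'⟩
  haveI : IsDomain RA := isDomain_of_openImmersion RA (𝒰X.f i)
  haveI : IsDomain RB := isDomain_of_openImmersion RB (𝒰Y.f j)
  refine ⟨ι.opensRange, isAffineOpen_opensRange ι, RA, RB, inferInstance, inferInstance,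
    inferInstance, inferInstance, algA, algB, ⟨w', hw⟩, ⟨?_⟩⟩
  let E : Γ(pullback f g, ι.opensRange) ≅ CommRingCat.of (RA ⊗[k] RB) :=
    (IsOpenImmersion.ΓIsoTop ι).symm ≪≫ (Scheme.Γ.mapIso e.symm.op) ≪≫
      Scheme.ΓSpecIso (CommRingCat.of (RA ⊗[k] RB))
  exact E.commRingCatIsoToRingEquiv


theorem noEmbedded_pullback (f : X ⟶ Spec (CommRingCat.of k)) (g : Y ⟶ Spec (CommRingCat.of k))
    [IsIntegral X] [IsIntegral Y] [IsLocallyNoetherian (pullback f g)] :
    AssSch.NoEmbedded (Coh.structureModule (pullback f g)) := by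
  intro x hx y hy hyx
  obtain ⟨W, hW, A, B, _, _, _, _, _, _, hxW, ⟨e⟩⟩ := exists_affine_tensor f g x
  have : IsNoetherianRing Γ(pullback f g, W) :=
    IsLocallyNoetherian.component_noetherian ⟨W, hW⟩
  have : (Coh.structureModule (pullback f g)).IsQuasicoherent :=
    inferInstanceAs (unitM (pullback f g)).IsQuasicoherent
  have hyW : y ∈ W := hyx.mem_open W.2 hxW
  have hqx := primeIdealOf_mem_associatedPrimes (Coh.structureModule (pullback f g)) hW x hxW
    ((isAssPoint_iff_isWeakAssPoint _ x).1 hx)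
  have hqy := primeIdealOf_mem_associatedPrimes (Coh.structureModule (pullback f g)) hW y hyW
    ((isAssPoint_iff_isWeakAssPoint _ y).1 hy)
  have hgood : Good Γ(pullback f g, W) := Good.of_ringEquiv e (good_tensor_field k A B)
  have hle : (hW.primeIdealOf ⟨y, hyW⟩).asIdeal ≤ (hW.primeIdealOf ⟨x, hxW⟩).asIdeal :=
    (specializes_iff_primeIdealOf_le hW ⟨y, hyW⟩ ⟨x, hxW⟩).mp hyx
  have heq : (hW.primeIdealOf ⟨y, hyW⟩).asIdeal = (hW.primeIdealOf ⟨x, hxW⟩).asIdeal :=
    hgood.eq_of_le hqy hqx hle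
  exact eq_of_primeIdealOf_eq hW x y hxW hyW (PrimeSpectrum.ext heq.symm)

end Groth.Agent.Lib.Helper9.TensAss
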