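import Mathlib
import Groth.Prelude.Def_RegImm
import Groth.Agent.Lib.Helper9.QRBC1

set_option autoImplicit false
set_option linter.unusedSectionVars false
universe u
open TensorProduct Function

namespace Groth.Agent.Lib.Helper9.TransReg

/-- the kernel of a surjection of flat modules is flat -/
theorem flat_ker_of_flat {A : Type*} [CommRing A] {K F Q : Type*} [AddCommGroup K] [Module A K]
    [AddCommGroup F] [Module A F] [AddCommGroup Q] [Module A Q]
    (i : K →ₗ[A] F) (p : F →ₗ[A] Q) (hi : Injective i) (hp : Surjective p)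
    (hex : Function.Exact i p) [Module.Flat A F] [Module.Flat A Q] : Module.Flat A K := by
  rw [Module.Flat.iff_rTensor_injective']
  intro I
  have h1 : Injective (i.lTensor I) :=
    LinearMap.lTensor_injective_of_exact_of_flat p hp i hi hex I
  have h2 : Injective (I.subtype.rTensor F) := Module.Flat.rTensor_preserves_injective_linearMap _
    Subtype.val_injective
  have h3 : (i.lTensor A) ∘ₗ (I.subtype.rTensor K) = (I.subtype.rTensor F) ∘ₗ (i.lTensor I) := by
    rw [LinearMap.lTensor_comp_rTensor, LinearMap.rTensor_comp_lTensor]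
  have h4 : Injective ((i.lTensor A) ∘ₗ (I.subtype.rTensor K)) := by
    rw [h3]
    exact h2.comp h1
  exact Injective.of_comp h4

/-- a localization (with respect to a multiplicative subset of an algebra) of a flat module is flat -/
theorem flat_of_isLocalizedModule {A B : Type*} [CommRing A] [CommRing B] [Algebra A B]
    (S : Submonoid B) {X Y : Type*} [AddCommGroup X] [Module A X] [Module B X] [IsScalarTower A B X]
    [AddCommGroup Y] [Module A Y] [Module B Y] [IsScalarTower A B Y]
    (g : X →ₗ[B] Y) [IsLocalizedModule S g] [Module.Flat A X] : Module.Flat A Y := by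
  rw [Module.Flat.iff_lTensor_injective']
  intro I
  have h1 : Injective (I.subtype.lTensor X) := Module.Flat.lTensor_preserves_injective_linearMap _
    Subtype.val_injective
  have h2 := IsLocalizedModule.map_lTensor (R := A) B S I.subtype g
  have h3 : Injective (IsLocalizedModule.map S (AlgebraTensorModule.rTensor A I g)
      (AlgebraTensorModule.rTensor A A g) (AlgebraTensorModule.lTensor B X I.subtype)) :=
    IsLocalizedModule.map_injective S _ _ _ h1
  rw [h2] at h3
  exact h3

/-- restriction of scalars does not change the module when a compatible structure exists -/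
noncomputable def rsEquiv (A B : Type*) [CommRing A] [CommRing B] [Algebra A B] (X : Type*)
    [AddCommGroup X] [Module A X] [Module B X] [IsScalarTower A B X] :
    RestrictScalars A B X ≃ₗ[A] X :=
  { RestrictScalars.addEquiv A B X with
    map_smul' := fun a _ => algebraMap_smul B a _ }

section Main

variable (A B : Type u) [CommRing A] [CommRing B] [Algebra A B]

theorem flat_quot_pow_of_trans (rs : List B) (hrs : RegImm.IsTransRegularSeq A B rs) (k : ℕ) :
    Module.Flat A (B ⧸ Ideal.ofList rs ^ k) := by
  obtain ⟨hw, hfl⟩ := hrs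
  have h1 : rs = List.ofFn rs.get := (List.ofFn_get rs).symm
  have hq : CAlgX.IsQuasiRegular rs.get := by
    apply Groth.Agent.Lib.Helper12.QR.isQuasiRegular_of_isWeaklyRegular
    rw [← h1]
    exact hw
  have hJ : Ideal.ofList rs = Ideal.span (Set.range rs.get) := by
    conv_lhs => rw [h1]
    exact Groth.Agent.Lib.Helper12.QR.ofList_ofFn _
  have h2 := hfl rs.length le_rfl
  rw [List.take_length, hJ] at h2
  rw [hJ]
  exact Groth.Agent.Lib.Helper9.QRBC.flat_quot_pow rs.get hq k

theorem flat_self_of_trans (rs : List B) (hrs : RegImm.IsTransRegularSeq A B rs) :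
    Module.Flat A B := by
  have h := hrs.2 0 (Nat.zero_le _)
  rw [List.take_zero, Ideal.ofList_nil] at h
  exact Module.Flat.of_linearEquiv ((AlgEquiv.quotientBot A B).symm.toLinearEquiv)

theorem flat_pow_of_trans (rs : List B) (hrs : RegImm.IsTransRegularSeq A B rs) (n : ℕ) :
    Module.Flat A ↥(Ideal.ofList rs ^ n) := by
  have h1 := flat_quot_pow_of_trans A B rs hrs n
  have h2 := flat_self_of_trans A B rs hrs
  set J := Ideal.ofList rs ^ n with hJ
  refine flat_ker_of_flat ((J.subtype).restrictScalars A)
    ((Ideal.Quotient.mkₐ A J).toLinearMap) Subtype.val_injective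
    (Ideal.Quotient.mkₐ_surjective A J) ?_
  intro y
  constructor
  · intro hy
    have : y ∈ J := by
      rw [← Ideal.Quotient.eq_zero_iff_mem]
      exact hy
    exact ⟨⟨y, this⟩, rfl⟩
  · rintro ⟨x, rfl⟩
    exact Ideal.Quotient.eq_zero_iff_mem.mpr x.2

theorem main (rs : List B) (hrs : RegImm.IsTransRegularSeq A B rs) (n m : ℕ) (hnm : n < m) :
    Module.Flat A (RestrictScalars A B
      (↥(Ideal.ofList rs ^ n) ⧸ (Submodule.comap (Ideal.ofList rs ^ n).subtype (Ideal.ofList rs ^ m)))) ∧
      ∀ (q : Ideal B) [q.IsPrime], Ideal.ofList rs ≤ q →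
        Module.Flat A (RestrictScalars A B (LocalizedModule q.primeCompl ↥(Ideal.ofList rs ^ n))) := by
  set J := Ideal.ofList rs with hJ
  have hle : J ^ m ≤ J ^ n := Ideal.pow_le_pow_right hnm.le
  constructor
  · have h1 := flat_quot_pow_of_trans A B rs hrs n
    have h2 := flat_quot_pow_of_trans A B rs hrs m
    set K := ↥(J ^ n) ⧸ (Submodule.comap (J ^ n).subtype (J ^ m)) with hK
    let i : K →ₗ[B] (B ⧸ J ^ m) := Submodule.mapQ _ (J ^ m) (J ^ n).subtype le_rfl
    have hi : Injective i := by
      rw [← LinearMap.ker_eq_bot, Submodule.eq_bot_iff]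
      intro x hx
      obtain ⟨⟨b, hb⟩, rfl⟩ := Submodule.Quotient.mk_surjective _ x
      rw [LinearMap.mem_ker, Submodule.mapQ_apply] at hx
      rw [Submodule.Quotient.mk_eq_zero]
      have : b ∈ J ^ m := (Submodule.Quotient.mk_eq_zero _).mp hx
      exact this
    have hKflat : Module.Flat A K := by
      refine flat_ker_of_flat (i.restrictScalars A)
        ((Ideal.Quotient.factorₐ A hle).toLinearMap) hi
        (Ideal.Quotient.factor_surjective hle) ?_
      intro y
      obtain ⟨b, rfl⟩ := Ideal.Quotient.mk_surjective y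
      constructor
      · intro hy
        have hb : b ∈ J ^ n := by
          rw [← Ideal.Quotient.eq_zero_iff_mem]
          exact hy
        exact ⟨Submodule.Quotient.mk ⟨b, hb⟩, rfl⟩
      · rintro ⟨x, hx⟩
        obtain ⟨⟨c, hc⟩, rfl⟩ := Submodule.Quotient.mk_surjective _ x
        have h3 : (Ideal.Quotient.mk (J ^ m)) c = (Ideal.Quotient.mk (J ^ m)) b := hx
        show (Ideal.Quotient.factor hle) (Ideal.Quotient.mk (J ^ m) b) = 0
        rw [← h3, Ideal.Quotient.factor_mk, Ideal.Quotient.eq_zero_iff_mem]
        exact hc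
    exact Module.Flat.of_linearEquiv (rsEquiv A B K)
  · intro q _ _
    have h1 := flat_pow_of_trans A B rs hrs n
    have h2 : Module.Flat A (LocalizedModule q.primeCompl ↥(J ^ n)) :=
      flat_of_isLocalizedModule q.primeCompl (LocalizedModule.mkLinearMap q.primeCompl ↥(J ^ n))
    exact Module.Flat.of_linearEquiv (rsEquiv A B _)

end Main

end Groth.Agent.Lib.Helper9.TransReg
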