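import Mathlib
import Groth.Agent.Lib.Helper9.TruncWitt
import Groth.Agent.Lib.Helper9.FrobLang
import Groth.Agent.S19239

set_option autoImplicit false
universe u

namespace Groth.Agent.Lib.Helper9.TruncWitt

open WittVector IsLocalRing Polynomial

section Field

variable (p : ℕ) [hp : Fact p.Prime] (K : Type u) [Field K] [CharP K p]

/-- fixed points of Frobenius are the prime field -/
theorem exists_natCast_of_pow_eq (x : K) (hx : x ^ p = x) : ∃ j : ℕ, (j : K) = x := by
  classical
  have hp1 : 1 < p := hp.out.one_lt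
  let P : K[X] := X ^ p - X
  have hP : P ≠ 0 := FiniteField.X_pow_card_sub_X_ne_zero K hp1
  have hdeg : P.natDegree = p := FiniteField.X_pow_card_sub_X_natDegree_eq K hp1
  let S : Finset K := (Finset.range p).image (fun j : ℕ => (j : K))
  have hScard : S.card = p := by
    rw [Finset.card_image_of_injOn, Finset.card_range]
    intro a ha b hb hab
    have := (CharP.natCast_eq_natCast K p).mp hab
    exact Nat.ModEq.eq_of_lt_of_lt this (Finset.mem_range.mp ha) (Finset.mem_range.mp hb)
  have hSroots : S ⊆ P.roots.toFinset := by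
    intro y hy
    obtain ⟨j, _, rfl⟩ := Finset.mem_image.mp hy
    rw [Multiset.mem_toFinset, mem_roots hP, IsRoot.def]
    simp only [P, eval_sub, eval_pow, eval_X]
    have := map_natCast (frobenius K p) j
    rw [frobenius_def] at this
    rw [this, sub_self]
  have hcard : P.roots.toFinset.card ≤ p :=
    (Multiset.toFinset_card_le _).trans ((card_roots' P).trans_eq hdeg)
  have hSeq : S = P.roots.toFinset :=
    Finset.eq_of_subset_of_card_le hSroots (hcard.trans_eq hScard.symm)
  have hxm : x ∈ P.roots.toFinset := by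
    rw [Multiset.mem_toFinset, mem_roots hP, IsRoot.def]
    simp only [P, eval_sub, eval_pow, eval_X]
    rw [hx, sub_self]
  rw [← hSeq] at hxm
  obtain ⟨j, _, rfl⟩ := Finset.mem_image.mp hxm
  exact ⟨j, rfl⟩

omit [CharP K p] in
theorem finite_setOf_pow_eq : {a : K | a ^ p = a}.Finite := by
  classical
  have hp1 : 1 < p := hp.out.one_lt
  have hP : (X ^ p - X : K[X]) ≠ 0 := FiniteField.X_pow_card_sub_X_ne_zero K hp1
  refine Set.Finite.subset (X ^ p - X : K[X]).roots.toFinset.finite_toSet ?_
  intro a ha
  rw [Finset.mem_coe, Multiset.mem_toFinset, mem_roots hP, IsRoot.def]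
  simp only [eval_sub, eval_pow, eval_X]
  rw [(show a ^ p = a from ha), sub_self]

end Field

variable (p : ℕ) [hp : Fact p.Prime] (k : Type u) [Field k] [CharP k p] [IsAlgClosed k] (n : ℕ)

/-- the residue field of `W_{n+1}(k)` is `k` -/
noncomputable def resEquiv : ResidueField (TruncatedWittVector p (n + 1) k) ≃+* k :=
  (Ideal.quotEquivOfEq (ker_c0 p k n).symm).trans
    (RingHom.quotientKerEquivOfSurjective (c0_surjective p k n))

omit [IsAlgClosed k] in
theorem resEquiv_residue (r : TruncatedWittVector p (n + 1) k) :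
    resEquiv p k n (residue _ r) = c0 p k n r := rfl

instance : IsAlgClosed (ResidueField (TruncatedWittVector p (n + 1) k)) :=
  IsAlgClosed.of_ringEquiv k _ (resEquiv p k n).symm

instance : CharP (ResidueField (TruncatedWittVector p (n + 1) k)) p :=
  charP_of_injective_ringHom (f := (resEquiv p k n).symm.toRingHom) (resEquiv p k n).symm.injective p

theorem residue_eq_iff (r s : TruncatedWittVector p (n + 1) k) :
    residue _ r = residue _ s ↔ c0 p k n r = c0 p k n s := by
  rw [← resEquiv_residue, ← resEquiv_residue]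
  exact (resEquiv p k n).injective.eq_iff.symm

/-- the two cases of `σ` -/
theorem exists_sigmaBar (σ : TruncatedWittVector p (n + 1) k →+* TruncatedWittVector p (n + 1) k)
    (hσ : σ = WittGrp.truncMap p (n + 1) (frobenius k p) ∨
      σ = WittGrp.truncMap p (n + 1) (frobeniusEquiv k p).symm.toRingHom) :
    ∃ σbar : ResidueField (TruncatedWittVector p (n + 1) k) →+*
        ResidueField (TruncatedWittVector p (n + 1) k),
      (∀ r, σbar (residue _ r) = residue _ (σ r)) ∧ Function.Surjective σbar ∧
      (∀ (m : ℕ) (b : Fin (m + 1) → ResidueField (TruncatedWittVector p (n + 1) k)), b ≠ 0 →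
        ∃ x, x ≠ 0 ∧ x = ∑ i : Fin (m + 1), (⇑σbar)^[i.val + 1] x * (⇑σbar)^[i.val] (b (Fin.rev i))) ∧
      (∀ c, ∃ y, σbar y - y + c = 0) ∧
      (∀ x, σbar x = x → x ^ p = x) := by
  rcases hσ with rfl | rfl
  · refine ⟨frobenius _ p, ?_, ?_, ?_, ?_, ?_⟩
    · intro r
      rw [frobenius_def, ← map_pow, residue_eq_iff, c0_truncMap, map_pow, frobenius_def]
    · exact surjective_frobenius _ p
    · exact Groth.Agent.Lib.Helper9.FrobLang.h2_frobenius p _
    · exact Groth.Agent.Lib.Helper9.FrobLang.h3_frobenius p _
    · intro x hx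
      rwa [frobenius_def] at hx
  · refine ⟨(frobeniusEquiv _ p).symm.toRingHom, ?_, ?_, ?_, ?_, ?_⟩
    · intro r
      change (frobeniusEquiv _ p).symm (residue _ r) = _
      rw [RingEquiv.symm_apply_eq, _root_.frobeniusEquiv_apply, frobenius_def, ← map_pow, residue_eq_iff,
        map_pow, c0_truncMap]
      change _ = ((frobeniusEquiv k p).symm (c0 p k n r)) ^ p
      rw [frobeniusEquiv_symm_pow_p]
    · exact (frobeniusEquiv _ p).symm.surjective
    · exact Groth.Agent.S19239.h2_frob p _
    · exact Groth.Agent.S19239.h3_frob p _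
    · intro x hx
      change (frobeniusEquiv _ p).symm x = x at hx
      rw [RingEquiv.symm_apply_eq, _root_.frobeniusEquiv_apply, frobenius_def] at hx
      exact hx.symm

end Groth.Agent.Lib.Helper9.TruncWitt
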