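import Mathlib
import Groth.Agent.Lib.Helper9.ValSat
import Groth.Agent.S2107

set_option autoImplicit false
set_option linter.style.haveILetI false
set_option linter.unusedSectionVars false
set_option linter.unusedVariables false
universe u v

namespace Groth.Agent.Lib.Helper9.ValInj
open Groth.Agent.Lib.Helper9.ValSat Groth.Agent.Lib.Helper9.BoschV11
open Function IsLocalRing MvPolynomial

/-- a local ring essentially of finite type is a quotient of a localization of a polynomial ring
at a prime. -/
theorem exists_locPoly (A B : Type u) [CommRing A] [CommRing B] [IsLocalRing B] [Algebra A B]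
    [Algebra.EssFiniteType A B] :
    ∃ (n : ℕ) (q : Ideal (MvPolynomial (Fin n) A)) (_ : q.IsPrime)
      (ρ : Localization.AtPrime q →ₐ[A] B), Surjective ρ := by
  classical
  let C := Algebra.EssFiniteType.subalgebra A B
  let Mo := Algebra.EssFiniteType.submonoid A B
  haveI : IsLocalization Mo B := inferInstance
  obtain ⟨n, φ, hφ⟩ := Algebra.FiniteType.iff_quotient_mvPolynomial''.mp
    (inferInstance : Algebra.FiniteType A C)
  let θ : MvPolynomial (Fin n) A →ₐ[A] B := C.val.comp φ
  let q : Ideal (MvPolynomial (Fin n) A) := (maximalIdeal B).comap θ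
  haveI hq : q.IsPrime := Ideal.comap_isPrime θ _
  have hunit : ∀ y : q.primeCompl, IsUnit (θ (y : MvPolynomial (Fin n) A)) := by
    intro y
    have : (y : MvPolynomial (Fin n) A) ∉ q := y.2
    rw [Ideal.mem_comap, mem_maximalIdeal, mem_nonunits_iff, not_not] at this
    exact this
  let ρ : Localization.AtPrime q →ₐ[A] B := IsLocalization.liftAlgHom (M := q.primeCompl) (f := θ) hunit
  refine ⟨n, q, hq, ρ, ?_⟩
  intro b
  obtain ⟨c, s, rfl⟩ := IsLocalization.exists_mk'_eq Mo b
  obtain ⟨p, hp⟩ := hφ c
  obtain ⟨σ, hσ⟩ := hφ (s : C)
  have hθσ : θ σ = algebraMap C B (s : C) := by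
    change (φ σ : B) = _
    rw [hσ]; rfl
  have hθp : θ p = algebraMap C B c := by
    change (φ p : B) = _
    rw [hp]; rfl
  have hσq : σ ∈ q.primeCompl := by
    change σ ∉ q
    rw [Ideal.mem_comap, mem_maximalIdeal, mem_nonunits_iff, not_not, hθσ]
    exact IsLocalization.map_units B s
  refine ⟨IsLocalization.mk' (Localization.AtPrime q) p ⟨σ, hσq⟩, ?_⟩
  change IsLocalization.lift hunit (IsLocalization.mk' (Localization.AtPrime q) p ⟨σ, hσq⟩) = _
  rw [IsLocalization.lift_mk'_spec]
  change θ p = θ σ * _
  rw [hθp, hθσ, mul_comm, IsLocalization.mk'_spec]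

/-- **fibrewise injectivity over a valuation ring**. -/
theorem injective_and_flat {A B : Type u} [CommRing A] [IsDomain A] [ValuationRing A]
    [CommRing B] [IsLocalRing B] [Algebra A B] [IsLocalHom (algebraMap A B)]
    [Algebra.EssFiniteType A B]
    {N M : Type u} [AddCommGroup N] [Module B N] [Module A N] [IsScalarTower A B N]
    [Module.Finite B N]
    [AddCommGroup M] [Module B M] [Module A M] [IsScalarTower A B M] [Module.Finite B M]
    [Module.Flat A M]
    (u : N →ₗ[B] M)
    (hu : Function.Injective (Submodule.mapQ (IsLocalRing.maximalIdeal A • ⊤ : Submodule A N)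
      (IsLocalRing.maximalIdeal A • ⊤ : Submodule A M) (u.restrictScalars A)
      (fun n hn => Submodule.smul_top_le_comap_smul_top _ _ hn))) :
    Function.Injective u ∧ Module.Flat A (M ⧸ LinearMap.range u) := by
  classical
  obtain ⟨n, q, hq, ρ, hρ⟩ := exists_locPoly A B
  have hu' : ∀ x : N, u x ∈ (maximalIdeal A • ⊤ : Submodule A M) →
      x ∈ (maximalIdeal A • ⊤ : Submodule A N) := by
    intro x hx
    have h1 : Submodule.mapQ (IsLocalRing.maximalIdeal A • ⊤ : Submodule A N)
      (IsLocalRing.maximalIdeal A • ⊤ : Submodule A M) (u.restrictScalars A)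
      (fun n hn => Submodule.smul_top_le_comap_smul_top _ _ hn) (Submodule.Quotient.mk x) = 0 := by
      rw [Submodule.mapQ_apply]
      exact (Submodule.Quotient.mk_eq_zero _).mpr hx
    have h2 := hu (h1.trans (map_zero _).symm)
    exact (Submodule.Quotient.mk_eq_zero _).mp h2
  letI : Algebra (Localization.AtPrime q) B := ρ.toRingHom.toAlgebra
  haveI : IsScalarTower A (Localization.AtPrime q) B :=
    IsScalarTower.of_algebraMap_eq (fun a => (ρ.commutes a).symm)
  letI : Module (Localization.AtPrime q) M := Module.compHom M (algebraMap (Localization.AtPrime q) B)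
  letI : Module (Localization.AtPrime q) N := Module.compHom N (algebraMap (Localization.AtPrime q) B)
  haveI : IsScalarTower (Localization.AtPrime q) B M :=
    IsScalarTower.of_algebraMap_smul fun _ _ => rfl
  haveI : IsScalarTower (Localization.AtPrime q) B N :=
    IsScalarTower.of_algebraMap_smul fun _ _ => rfl
  haveI : IsScalarTower A (Localization.AtPrime q) M :=
    IsScalarTower.of_algebraMap_smul (fun a m => by
      change algebraMap (Localization.AtPrime q) B (algebraMap A (Localization.AtPrime q) a) • m = a • m
      rw [← IsScalarTower.algebraMap_apply, algebraMap_smul])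
  haveI : IsScalarTower A (Localization.AtPrime q) N :=
    IsScalarTower.of_algebraMap_smul (fun a m => by
      change algebraMap (Localization.AtPrime q) B (algebraMap A (Localization.AtPrime q) a) • m = a • m
      rw [← IsScalarTower.algebraMap_apply, algebraMap_smul])
  haveI : Module.Finite (Localization.AtPrime q) B :=
    Module.Finite.of_surjective (Algebra.linearMap (Localization.AtPrime q) B) hρ
  haveI : Module.Finite (Localization.AtPrime q) M := Module.Finite.trans B M
  haveI : Module.Finite (Localization.AtPrime q) N := Module.Finite.trans B N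
  haveI : IsLocalHom (algebraMap A (Localization.AtPrime q)) := ⟨fun a ha => by
    have : IsUnit (algebraMap A B a) := by
      rw [IsScalarTower.algebraMap_apply A (Localization.AtPrime q) B]
      exact ha.map _
    exact isUnit_of_map_unit (algebraMap A B) a this⟩
  have hS : CAlgX.IsEssFinitePresentation A (Localization.AtPrime q) :=
    ⟨MvPolynomial (Fin n) A, inferInstance, inferInstance, inferInstance, inferInstance,
      q.primeCompl, inferInstance, inferInstance⟩
  haveI : Module.FinitePresentation (Localization.AtPrime q) M :=
    finitePresentation_of_flat A (Localization.AtPrime q) M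
  let u' : N →ₗ[Localization.AtPrime q] M :=
    { toFun := u
      map_add' := u.map_add
      map_smul' := fun s x => u.map_smul (algebraMap (Localization.AtPrime q) B s) x }
  have hu'apply : ∀ x, u' x = u x := fun _ => rfl
  let Nb : Submodule (Localization.AtPrime q) M := LinearMap.range u'
  haveI : Module.Finite (Localization.AtPrime q) Nb := Module.Finite.range u'
  haveI : Module.Flat A Nb := by
    refine (Module.Flat.flat_iff_torsion_eq_bot_of_isBezout (R := A) (M := Nb)).mpr ?_
    rw [Submodule.eq_bot_iff]
    intro y hy
    rw [Submodule.mem_torsion_iff] at hy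
    obtain ⟨⟨a, ha⟩, hay⟩ := hy
    have ha0 : a ≠ 0 := nonZeroDivisors.ne_zero ha
    change a • y = 0 at hay
    apply Subtype.ext
    apply eq_zero_of_smul_eq_zero a ha0
    have := congrArg Subtype.val hay
    simpa using this
  haveI : Module.FinitePresentation (Localization.AtPrime q) Nb :=
    finitePresentation_of_flat A (Localization.AtPrime q) Nb
  have hmemM : ∀ y : M, y ∈ (maximalIdeal A) • (⊤ : Submodule A M) ↔
      y ∈ (maximalIdeal A).map (algebraMap A (Localization.AtPrime q)) •
        (⊤ : Submodule (Localization.AtPrime q) M) := by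
    intro y
    have := Ideal.smul_restrictScalars (maximalIdeal A) (⊤ : Submodule (Localization.AtPrime q) M)
    rw [Submodule.restrictScalars_top] at this
    rw [← this, Submodule.restrictScalars_mem]
  have hmemNb : ∀ y : Nb, y ∈ (maximalIdeal A) • (⊤ : Submodule A Nb) ↔
      y ∈ (maximalIdeal A).map (algebraMap A (Localization.AtPrime q)) •
        (⊤ : Submodule (Localization.AtPrime q) Nb) := by
    intro y
    have := Ideal.smul_restrictScalars (maximalIdeal A) (⊤ : Submodule (Localization.AtPrime q) Nb)
    rw [Submodule.restrictScalars_top] at this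
    rw [← this, Submodule.restrictScalars_mem]
  have key := Groth.Agent.S2107.result (R := A) (S := Localization.AtPrime q) (M := Nb) (N := M)
    hS Nb.subtype (by
      intro x hx
      rw [← hmemM] at hx
      rw [← hmemNb]
      obtain ⟨x0, n0, hn0⟩ := x
      have hx' : u n0 ∈ (maximalIdeal A • ⊤ : Submodule A M) := by
        rw [← hu'apply, hn0]; exact hx
      have h3 := hu' n0 hx'
      let r : N →ₗ[A] Nb := (u'.rangeRestrict).restrictScalars A
      have h4 := Submodule.smul_top_le_comap_smul_top (maximalIdeal A) r h3
      have h5 : r n0 = ⟨x0, n0, hn0⟩ := Subtype.ext hn0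
      rw [Submodule.mem_comap, h5] at h4
      exact h4)
  constructor
  · have hK : LinearMap.ker u' = ⊥ := by
      have hfg : (LinearMap.ker u').FG := by
        have := Module.FinitePresentation.fg_ker (N := Nb) u'.rangeRestrict
          u'.surjective_rangeRestrict
        rwa [LinearMap.ker_rangeRestrict] at this
      apply Submodule.eq_bot_of_le_smul_of_le_jacobson_bot
        ((maximalIdeal A).map (algebraMap A (Localization.AtPrime q))) _ hfg
      · intro x hx
        have hx0 : u x = 0 := hx
        have h1 : x ∈ (maximalIdeal A • ⊤ : Submodule A N) :=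
          hu' x (by rw [hx0]; exact Submodule.zero_mem _)
        obtain ⟨a, ha, n', -, rfl⟩ := exists_eq_smul_of_mem_smul _ _ _ h1
        by_cases ha0 : a = 0
        · rw [ha0, zero_smul]; exact Submodule.zero_mem _
        · have h2 : u n' = 0 := by
            apply eq_zero_of_smul_eq_zero a ha0
            rw [← hx0, ← algebraMap_smul B a n', map_smul, algebraMap_smul]
          have h3 : n' ∈ LinearMap.ker u' := h2
          rw [← algebraMap_smul (Localization.AtPrime q) a n']
          exact Submodule.smul_mem_smul (Ideal.mem_map_of_mem _ ha) h3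
      · have h := ((IsLocalRing.local_hom_TFAE (algebraMap A (Localization.AtPrime q))).out 0 2).mp
          (inferInstance : IsLocalHom (algebraMap A (Localization.AtPrime q)))
        exact h.trans (IsLocalRing.maximalIdeal_le_jacobson ⊥)
    intro x y hxy
    have : x - y ∈ LinearMap.ker u' := by
      change u (x - y) = 0
      rw [map_sub, hxy, sub_self]
    rw [hK, Submodule.mem_bot, sub_eq_zero] at this
    exact this
  · have h6 : Module.Flat A (M ⧸ (LinearMap.range Nb.subtype).restrictScalars A) := key.2
    have e1 : (M ⧸ (LinearMap.range Nb.subtype).restrictScalars A) ≃ₗ[A]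
        (M ⧸ (LinearMap.range u).restrictScalars A) :=
      Submodule.quotEquivOfEq _ _ (by
        ext m
        simp only [Submodule.restrictScalars_mem, Submodule.range_subtype]
        rfl)
    have h7 : Module.Flat A (M ⧸ (LinearMap.range u).restrictScalars A) :=
      Module.Flat.of_linearEquiv e1.symm
    exact h7

end Groth.Agent.Lib.Helper9.ValInj
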