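import Mathlib

/-!
# Weighted homogeneity of Witt structure polynomials (helper9 library)

* `isWeightedHomogeneous_bind₁` : substituting homogeneous polynomials into a weighted homogeneous one.
* `isWeightedHomogeneous_wittStructureInt` : if `Φ` is weighted homogeneous of degree `e` for weights
  `c`, then `wittStructureInt p Φ n` is weighted homogeneous of degree `e * p ^ n` for the weights
  `(j, i) ↦ c j * p ^ i`.
* `aeval_mem_of_isWeightedHomogeneous` : evaluating a weighted homogeneous polynomial of positive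
  degree on elements of a multiplicative filtration.
-/

set_option autoImplicit false

namespace Groth.Agent.Lib.Helper9

open MvPolynomial

section Subst

variable {σ τ : Type*} {R : Type*} [CommRing R]

/-- Substituting polynomials `G j`, homogeneous of degree `c j * D`, into a polynomial `Φ` which is
weighted homogeneous of degree `e` for the weights `c`, gives a weighted homogeneous polynomial of
degree `e * D`. -/
theorem isWeightedHomogeneous_bind₁ (c : σ → ℕ) (w : τ → ℕ) (Φ : MvPolynomial σ R) (e D : ℕ)
    (hΦ : IsWeightedHomogeneous c Φ e) (G : σ → MvPolynomial τ R)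
    (hG : ∀ j, IsWeightedHomogeneous w (G j) (c j * D)) :
    IsWeightedHomogeneous w (bind₁ G Φ) (e * D) := by
  classical
  rw [← Φ.support_sum_monomial_coeff, map_sum]
  apply IsWeightedHomogeneous.sum
  intro d hd
  rw [bind₁_monomial]
  apply IsWeightedHomogeneous.C_mul
  have hwd : Finsupp.weight c d = e := hΦ (mem_support_iff.mp hd)
  have h1 := IsWeightedHomogeneous.prod d.support (fun j => G j ^ d j) (fun j => d j • (c j * D))
    (fun j _ => (hG j).pow (d j))
  have h2 : ∑ j ∈ d.support, d j • (c j * D) = e * D := by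
    rw [← hwd, Finsupp.weight_apply, Finsupp.sum, Finset.sum_mul]
    apply Finset.sum_congr rfl
    intro j _
    simp only [smul_eq_mul]
    ring
  rwa [h2] at h1

end Subst

section Witt

variable (p : ℕ) [hp : Fact p.Prime]

/-- the weights `(j, i) ↦ c j * p ^ i` -/
def wittWeight {idx : Type*} (c : idx → ℕ) : idx × ℕ → ℕ := fun i => c i.1 * p ^ i.2

omit hp in
theorem isWeightedHomogeneous_rename_wittPolynomial {idx : Type*} (c : idx → ℕ) (j : idx) (n : ℕ) :
    IsWeightedHomogeneous (wittWeight p c) (rename (Prod.mk j) (wittPolynomial p ℤ n))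
      (c j * p ^ n) := by
  rw [wittPolynomial_eq_sum_C_mul_X_pow, map_sum]
  apply IsWeightedHomogeneous.sum
  intro i hi
  rw [map_mul, map_pow (rename _), rename_C, rename_X]
  apply IsWeightedHomogeneous.C_mul
  have h1 := (isWeightedHomogeneous_X ℤ (wittWeight p c) (j, i)).pow (p ^ (n - i))
  have h2 : p ^ (n - i) • wittWeight p c (j, i) = c j * p ^ n := by
    simp only [wittWeight, smul_eq_mul]
    rw [mul_left_comm, ← pow_add, Nat.sub_add_cancel (Nat.lt_succ_iff.mp (Finset.mem_range.mp hi))]
  rwa [h2] at h1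

/-- If `Φ` is weighted homogeneous of degree `e` for the weights `c`, the `n`-th Witt structure
polynomial of `Φ` is weighted homogeneous of degree `e * p ^ n` for the weights
`(j, i) ↦ c j * p ^ i`. -/
theorem isWeightedHomogeneous_wittStructureInt {idx : Type*} (c : idx → ℕ)
    (Φ : MvPolynomial idx ℤ) (e : ℕ) (hΦ : IsWeightedHomogeneous c Φ e) (n : ℕ) :
    IsWeightedHomogeneous (wittWeight p c) (wittStructureInt p Φ n) (e * p ^ n) := by
  classical
  have hp0 : p ≠ 0 := hp.out.ne_zero
  induction n using Nat.strong_induction_on with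
  | _ n ih =>
  have hprop : ∑ x ∈ Finset.range n, C ((p : ℤ) ^ x) * (wittStructureInt p Φ x) ^ p ^ (n - x) +
      C ((p : ℤ) ^ n) * wittStructureInt p Φ n =
      bind₁ (fun j => rename (Prod.mk j) (wittPolynomial p ℤ n)) Φ := by
    have h := wittStructureInt_prop p Φ n
    rw [← h, wittPolynomial_eq_sum_C_mul_X_pow, map_sum, Finset.sum_range_succ]
    congr 1
    · apply Finset.sum_congr rfl
      intro x _
      rw [map_mul, bind₁_C_right, map_pow (bind₁ _), bind₁_X_right]
    · rw [map_mul, bind₁_C_right, map_pow (bind₁ _), bind₁_X_right, Nat.sub_self, pow_zero,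
        pow_one]
  have hrhs := isWeightedHomogeneous_bind₁ c (wittWeight p c) Φ e (p ^ n) hΦ
    (fun j => rename (Prod.mk j) (wittPolynomial p ℤ n))
    (fun j => isWeightedHomogeneous_rename_wittPolynomial p c j n)
  have hsum : IsWeightedHomogeneous (wittWeight p c)
      (∑ x ∈ Finset.range n, C ((p : ℤ) ^ x) * (wittStructureInt p Φ x) ^ p ^ (n - x))
      (e * p ^ n) := by
    apply IsWeightedHomogeneous.sum
    intro i hi
    apply IsWeightedHomogeneous.C_mul
    have h1 := (ih i (Finset.mem_range.mp hi)).pow (p ^ (n - i))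
    have h2 : p ^ (n - i) • (e * p ^ i) = e * p ^ n := by
      rw [smul_eq_mul, mul_left_comm, ← pow_add, Nat.sub_add_cancel (Finset.mem_range.mp hi).le]
    rwa [h2] at h1
  have hmain : IsWeightedHomogeneous (wittWeight p c)
      (C ((p : ℤ) ^ n) * wittStructureInt p Φ n) (e * p ^ n) := by
    have : C ((p : ℤ) ^ n) * wittStructureInt p Φ n =
        bind₁ (fun j => rename (Prod.mk j) (wittPolynomial p ℤ n)) Φ -
        ∑ x ∈ Finset.range n, C ((p : ℤ) ^ x) * (wittStructureInt p Φ x) ^ p ^ (n - x) := by
      rw [← hprop]; ring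
    rw [this]
    exact hrhs.sub hsum
  intro d hd
  apply hmain
  rw [coeff_C_mul]
  exact mul_ne_zero (pow_ne_zero n (by exact_mod_cast hp0)) hd

/-- `wittMul p n` is weighted homogeneous of degree `p ^ n` in the second set of variables
(weights `(0, i) ↦ 0`, `(1, i) ↦ p ^ i`). -/
theorem isWeightedHomogeneous_wittMul_right (n : ℕ) :
    IsWeightedHomogeneous (wittWeight p ![0, 1]) (WittVector.wittMul p n) (p ^ n) := by
  have hΦ : IsWeightedHomogeneous (![0, 1] : Fin 2 → ℕ) (X 0 * X 1 : MvPolynomial (Fin 2) ℤ) 1 := by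
    have h0 := isWeightedHomogeneous_X ℤ (![0, 1] : Fin 2 → ℕ) 0
    have h1 := isWeightedHomogeneous_X ℤ (![0, 1] : Fin 2 → ℕ) 1
    simpa using h0.mul h1
  have := isWeightedHomogeneous_wittStructureInt p ![0, 1] (X 0 * X 1) 1 hΦ n
  rwa [one_mul] at this

/-- `wittAdd p n` is weighted homogeneous of degree `p ^ n` (weights `(j, i) ↦ p ^ i`). -/
theorem isWeightedHomogeneous_wittAdd (n : ℕ) :
    IsWeightedHomogeneous (wittWeight p ![1, 1]) (WittVector.wittAdd p n) (p ^ n) := by
  have hΦ : IsWeightedHomogeneous (![1, 1] : Fin 2 → ℕ) (X 0 + X 1 : MvPolynomial (Fin 2) ℤ) 1 := by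
    have h0 := isWeightedHomogeneous_X ℤ (![1, 1] : Fin 2 → ℕ) 0
    have h1 := isWeightedHomogeneous_X ℤ (![1, 1] : Fin 2 → ℕ) 1
    simpa using h0.add h1
  have := isWeightedHomogeneous_wittStructureInt p ![1, 1] (X 0 + X 1) 1 hΦ n
  rwa [one_mul] at this

end Witt

section Eval

variable {K : Type*} [CommRing K] (N : ℕ → AddSubgroup K)

/-- multipliers of degree `i` for a multiplicative filtration -/
def multSet (i : ℕ) : Set K := {x | ∀ j, ∀ k ∈ N j, x * k ∈ N (i + j)}

theorem one_mem_multSet : (1 : K) ∈ multSet N 0 := by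
  intro j k hk
  rw [one_mul, zero_add]
  exact hk

theorem mul_mem_multSet {i i' : ℕ} {x y : K} (hx : x ∈ multSet N i) (hy : y ∈ multSet N i') :
    x * y ∈ multSet N (i + i') := by
  intro j k hk
  rw [mul_assoc, add_assoc]
  exact hx _ _ (hy _ _ hk)

theorem pow_mem_multSet {i : ℕ} {x : K} (hx : x ∈ multSet N i) (n : ℕ) :
    x ^ n ∈ multSet N (n * i) := by
  induction n with
  | zero => rw [pow_zero, zero_mul]; exact one_mem_multSet N
  | succ n ih => rw [pow_succ, Nat.succ_mul]; exact mul_mem_multSet N ih hx

variable {σ : Type*} (w : σ → ℕ) (v : σ → K)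

theorem monomial_value_mem_multSet (hv : ∀ s, v s ∈ multSet N (w s)) (d : σ →₀ ℕ) :
    d.prod (fun s k => v s ^ k) ∈ multSet N (Finsupp.weight w d) := by
  classical
  induction d using Finsupp.induction_linear with
  | zero => rw [Finsupp.prod_zero_index, map_zero]; exact one_mem_multSet N
  | add d d' hd hd' =>
    rw [Finsupp.prod_add_index' (fun _ => pow_zero _) (fun _ _ _ => pow_add _ _ _), map_add]
    exact mul_mem_multSet N hd hd'
  | single s n =>
    rw [Finsupp.prod_single_index (h := fun s k => v s ^ k) (pow_zero _), Finsupp.weight_single,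
      smul_eq_mul]
    exact pow_mem_multSet N (hv s) n

/-- Evaluating a weighted homogeneous integer polynomial of positive degree `m` at elements `v s`
lying in the pieces `N (w s)` of a multiplicative filtration (variables of weight `0` being allowed
to be arbitrary multipliers) gives an element of `N m`. -/
theorem aeval_mem_of_isWeightedHomogeneous
    (hmul : ∀ (i j : ℕ) (a b : K), a ∈ N i → b ∈ N j → a * b ∈ N (i + j))
    (h1 : ∀ s, 0 < w s → v s ∈ N (w s))
    (h0 : ∀ s, w s = 0 → ∀ i, ∀ k ∈ N i, v s * k ∈ N i)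
    (P : MvPolynomial σ ℤ) (m : ℕ) (hm : 0 < m) (hP : IsWeightedHomogeneous w P m) :
    aeval v P ∈ N m := by
  classical
  have hv : ∀ s, v s ∈ multSet N (w s) := by
    intro s
    rcases Nat.eq_zero_or_pos (w s) with h | h
    · intro j k hk
      rw [h, zero_add]
      exact h0 s h j k hk
    · intro j k hk
      exact hmul _ _ _ _ (h1 s h) hk
  have hB : ∀ d : σ →₀ ℕ, Finsupp.weight w d = m → d.prod (fun s k => v s ^ k) ∈ N m := by
    intro d hd
    obtain ⟨s, hs, hws⟩ : ∃ s ∈ d.support, w s ≠ 0 := by
      by_contra hcon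
      push Not at hcon
      have : Finsupp.weight w d = 0 := by
        rw [Finsupp.weight_apply, Finsupp.sum]
        apply Finset.sum_eq_zero
        intro s hs
        rw [hcon s hs, smul_zero]
      omega
    have hds : d s ≠ 0 := Finsupp.mem_support_iff.mp hs
    have hdec : d = (d - Finsupp.single s 1) + Finsupp.single s 1 :=
      (Finsupp.sub_add_single_one_cancel hds).symm
    have hwt := Finsupp.weight_sub_single_add (w := w) hds
    have hprod : d.prod (fun s k => v s ^ k) =
        (d - Finsupp.single s 1).prod (fun s k => v s ^ k) * v s := by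
      conv_lhs => rw [hdec]
      rw [Finsupp.prod_add_index' (fun _ => pow_zero _) (fun _ _ _ => pow_add _ _ _),
        Finsupp.prod_single_index (h := fun s k => v s ^ k) (pow_zero _), pow_one]
    rw [hprod, ← hd, ← hwt]
    exact monomial_value_mem_multSet N w v hv _ _ _ (h1 s (Nat.pos_of_ne_zero hws))
  rw [aeval_def, eval₂_eq]
  apply AddSubgroup.sum_mem
  intro d hd
  have hwd : Finsupp.weight w d = m := hP (mem_support_iff.mp hd)
  have h2 : (algebraMap ℤ K) (coeff d P) * ∏ i ∈ d.support, v i ^ d i =
      (coeff d P) • d.prod (fun s k => v s ^ k) := by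
    rw [zsmul_eq_mul, Finsupp.prod]
    simp
  rw [h2]
  exact AddSubgroup.zsmul_mem _ (hB d hwd) _

end Eval

end Groth.Agent.Lib.Helper9
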