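import Mathlib
import Groth.Agent.Lib.Helper17.ZClosDepth
import Groth.Agent.Lib.Helper9.HartogsLoc
import Groth.Agent.Lib.Helper9.DepthOpen3

/-!
# Z-closedness at a point from depth two at the generisations in `Z` (helper9)
-/

set_option autoImplicit false
universe u
open CategoryTheory CategoryTheory.Limits AlgebraicGeometry TopologicalSpace Opposite

namespace Groth.Agent.Lib.Helper9.ZCl

open ZClos Groth.Agent.Lib.Helper17 Groth.Agent.Lib.Helper17.ZClosSec
open Groth.Agent.Lib.Helper17.SheafBasis Groth.Agent.Lib.Helper17.ZClosDepth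
open Groth.Agent.Lib.Helper29.QCoh Groth.Agent.Lib.Helper9.HartogsLoc
open Groth.Agent.Lib.Helper9.DepthOpen

variable {X : Scheme.{u}} [IsLocallyNoetherian X] {Z : Set X}

theorem rhoStalk_germ (F : X.Modules) (x : X) {W : X.Opens} (hxW : x ∈ W) (m : Γ(F, W)) :
    rhoStalk Z F x (F.presheaf.germ W x hxW m) =
      ((H0 Z).obj F).presheaf.germ W x hxW ((rhoApp Z F).app W m) := by
  change (TopCat.Presheaf.stalkFunctor (C := Ab.{u}) x).map (rhoApp Z F).mapPresheaf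
    (F.presheaf.germ W x hxW m) = _
  rw [TopCat.Presheaf.stalkFunctor_map_germ_apply]
  rfl

/-- **depth two at the generisations in `Z` implies `Z`-closed at the point** -/
theorem isZClosedAt_of_depth (hZ : StableUnderSpecialization Z) (F : X.Modules)
    (hF : Coh.IsCoh F) (x : X)
    (h : ∀ x' : X, x' ⤳ x → x' ∈ Z →
      (2 : ℕ∞) ≤ LocCoh.depth (X.presheaf.stalk x') (F.presheaf.stalk x')) :
    IsZClosedAt Z F x := by
  have := hF.1
  have := hF.2
  refine ⟨(isZPureAt_iff_depth hZ F hF x).mpr (fun x' h1 h2 =>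
    le_trans (by norm_num) (h x' h1 h2)), fun t => ?_⟩
  obtain ⟨U₀, hxU₀, ξ, rfl⟩ := TopCat.Presheaf.exists_germ_eq ((H0 Z).obj F).presheaf t
  obtain ⟨W₀, hW₀, hxW₀, hW₀U₀⟩ := exists_isAffineOpen_mem_and_subset (x := x) (U := U₀) hxU₀
  have hW₀U₀' : W₀ ≤ U₀ := hW₀U₀
  have hV := NoethColimMod.isCompact_of_le W₀ hW₀.isCompact
  obtain ⟨T, a, ha⟩ := exists_cls Z F W₀ hV W₀ le_rfl
    (((H0 Z).obj F).presheaf.map (homOfLE hW₀U₀').op ξ)
  obtain ⟨V, hxV, hVd⟩ := exists_nhd_depth F hF T.1 2 x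
    (fun z hzT hzx => h z hzx (T.2 hzT))
  obtain ⟨W, hW, hxW, hWle⟩ := exists_isAffineOpen_mem_and_subset (x := x) (U := W₀ ⊓ V)
    ⟨hxW₀, hxV⟩
  have hWle' : W ≤ W₀ ⊓ V := hWle
  have hWW₀ : W ≤ W₀ := hWle'.trans inf_le_left
  have hloc : LocDepthTwoOn F T.U hW := locDepthTwoOn_of_stalk_depth F T.U hW
    (fun z hzW hzU => hVd z (hWle' hzW).2 (by
      by_contra hzT
      exact hzU hzT))
  have hle : W ⊓ T.U ≤ cap T.U W₀ := by
    rw [cap_eq]
    exact le_inf inf_le_right (inf_le_left.trans hWW₀)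
  obtain ⟨m, hm⟩ := res_surjective_of_isAffineOpen F T.U hW hloc (res F hle a)
  refine ⟨F.presheaf.germ W x hxW m, ?_⟩
  rw [rhoStalk_germ, rho_app_eq Z F T]
  rw [← TopCat.Presheaf.germ_res_apply ((H0 Z).obj F).presheaf (homOfLE (hWW₀.trans hW₀U₀')) x
    hxW ξ, ← map_map_apply ((H0 Z).obj F).presheaf (homOfLE hWW₀) (homOfLE hW₀U₀') _ ξ, ← ha,
    cls_res]
  congr 2
  have hcap : cap T.U W ≤ W ⊓ T.U := by
    rw [cap_eq, inf_comm]
  have h1 := congrArg (res F hcap) hm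
  rw [res_res, res_res] at h1
  exact h1

end Groth.Agent.Lib.Helper9.ZCl
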