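import Mathlib
import Groth.Agent.Lib.Helper9.ZCl1
import Groth.Agent.Lib.Helper10.HartogsConv

/-!
# Depth two at the generisations in `Z` from Z-closedness at a point (helper9)
-/

set_option autoImplicit false
universe u
open CategoryTheory CategoryTheory.Limits AlgebraicGeometry TopologicalSpace Opposite
open RingTheory.Sequence Pointwise

namespace Groth.Agent.Lib.Helper9.ZCl

open ZClos Groth.Agent.Lib.Helper17 Groth.Agent.Lib.Helper17.ZClosSec
open Groth.Agent.Lib.Helper17.SheafBasis Groth.Agent.Lib.Helper17.ZClosDepth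
open Groth.Agent.Lib.Helper29.QCoh Groth.Agent.Lib.Helper9.HartogsLoc
open Groth.Agent.Lib.Helper9.DepthOpen Groth.Agent.Lib.Helper9.ClosedPt
open Groth.Agent.Lib.Helper10.Hartogs Groth.Agent.Lib.Helper10.HartogsConv
open Groth.Agent.Lib.Helper16.Depth Groth.Agent.Lib.Helper16.LC Groth.Agent.Lib.Helper18.CM

variable {X : Scheme.{u}} [IsLocallyNoetherian X] {Z : Set X}

omit [IsLocallyNoetherian X] in
theorem rho_res (F : X.Modules) {W W' : X.Opens} (i : W' ⟶ W) (m : Γ(F, W)) :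
    (rhoApp Z F).app W' (F.presheaf.map i.op m) =
      ((H0 Z).obj F).presheaf.map i.op ((rhoApp Z F).app W m) := by
  have n := (rhoApp Z F).mapPresheaf.naturality i.op
  have n2 := congrArg (fun φ => φ m) n
  exact n2

/-- **`Z`-closed at the point implies depth two at the generisations in `Z`** -/
theorem depth_of_isZClosedAt (hZ : StableUnderSpecialization Z) (F : X.Modules)
    (hF : Coh.IsCoh F) (x : X) (hcl : IsZClosedAt Z F x) (x' : X) (hx'x : x' ⤳ x)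
    (hx'Z : x' ∈ Z) :
    (2 : ℕ∞) ≤ LocCoh.depth (X.presheaf.stalk x') (F.presheaf.stalk x') := by
  have := hF.1
  have := hF.2
  have hpure := (isZPureAt_iff_depth hZ F hF x).mp hcl.1
  let T : Cl Z := ⟨⟨closure {x'}, isClosed_closure⟩, fun y hy =>
    hZ (specializes_iff_mem_closure.mpr hy) hx'Z⟩
  have hx'T : x' ∈ T.1 := subset_closure rfl
  obtain ⟨V₁, hxV₁, hV₁⟩ := exists_nhd_depth F hF T.1 1 x (fun z hzT hzx => by
    have h1 := hpure z hzx (T.2 hzT)
    rw [Nat.cast_one]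
    exact h1)
  obtain ⟨W, hW, hxW, hWV₁⟩ := exists_isAffineOpen_mem_and_subset (x := x) (U := V₁) hxV₁
  have hWV₁' : W ≤ V₁ := hWV₁
  have hx'W : x' ∈ W := hx'x.mem_open W.2 hxW
  have : IsNoetherianRing Γ(X, W) := IsLocallyNoetherian.component_noetherian ⟨W, hW⟩
  have : Module.Finite Γ(X, W) Γ(F, W) := module_finite_of_isFiniteType F hW
  have hJ1 : ∀ z : W, (z : X) ∈ T.1 →
      nonvanIdeal W (W ⊓ T.U) ≤ (hW.primeIdealOf z).asIdeal := by
    intro z hzT c hc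
    by_contra hne
    have hzc : (z : X) ∈ X.basicOpen c := (mem_basicOpen_iff_notMem_primeIdealOf hW c z).mpr hne
    exact ((mem_nonvanIdeal c).mp hc hzc).2 hzT
  have hJ2 : ∀ z : W, nonvanIdeal W (W ⊓ T.U) ≤ (hW.primeIdealOf z).asIdeal →
      (z : X) ∈ T.1 := by
    intro z hle
    by_contra hzT
    have hz' : (z : X) ∈ W ⊓ T.U := ⟨z.2, hzT⟩
    obtain ⟨c, hcV, hzc⟩ := hW.exists_basicOpen_le (V := W ⊓ T.U) ⟨z.1, hz'⟩ z.2
    exact (mem_basicOpen_iff_notMem_primeIdealOf hW c z).mp hzc (hle ((mem_nonvanIdeal c).mpr hcV))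
  obtain ⟨fs, hlen, hmem, hreg⟩ := (Groth.Agent.Lib.Helper11.DepthLoc.forall_le_depth_iff
    (nonvanIdeal W (W ⊓ T.U)) Γ(F, W) 1).mp (fun q hq hJq => by
      obtain ⟨z, hz⟩ := primeIdealOf_surjective hW ⟨q, hq⟩
      have hzq : (hW.primeIdealOf z).asIdeal = q := by rw [hz]
      subst hzq
      rw [← depth_stalk_eq_depth_localized F hW z.1 z.2]
      exact hV₁ z.1 (hWV₁' z.2) (hJ2 z hJq))
  obtain ⟨a, rfl⟩ := List.length_eq_one_iff.mp hlen
  have haJ : a ∈ nonvanIdeal W (W ⊓ T.U) := hmem a (by simp)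
  have hareg : IsSMulRegular Γ(F, W) a := ((isWeaklyRegular_cons_iff _ a []).mp hreg).1
  rw [depth_stalk_eq_depth_localized F hW x' hx'W]
  have hJq := hJ1 ⟨x', hx'W⟩ hx'T
  by_contra hlt
  have h1 := depth_localization_quotSMulTop (hW.primeIdealOf ⟨x', hx'W⟩).asIdeal Γ(F, W) a
    (hJq haJ) hareg
  have h0 : LocCoh.depth (Localization.AtPrime (hW.primeIdealOf ⟨x', hx'W⟩).asIdeal)
      (LocalizedModule (hW.primeIdealOf ⟨x', hx'W⟩).asIdeal.primeCompl
        (QuotSMulTop a Γ(F, W))) = 0 := by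
    by_contra hd0
    have h2 := Order.one_le_iff_ne_zero.mpr hd0
    apply hlt
    rw [← h1, ← one_add_one_eq_two]
    exact add_le_add_left h2 1
  have hnoeth : IsNoetherianRing (Localization.AtPrime (hW.primeIdealOf ⟨x', hx'W⟩).asIdeal) :=
    IsLocalization.isNoetherianRing (hW.primeIdealOf ⟨x', hx'W⟩).asIdeal.primeCompl _
      inferInstance
  have hfinq : Module.Finite (Localization.AtPrime (hW.primeIdealOf ⟨x', hx'W⟩).asIdeal)
      (LocalizedModule (hW.primeIdealOf ⟨x', hx'W⟩).asIdeal.primeCompl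
        (QuotSMulTop a Γ(F, W))) :=
    Module.Finite.of_isLocalizedModule (hW.primeIdealOf ⟨x', hx'W⟩).asIdeal.primeCompl
      (LocalizedModule.mkLinearMap (hW.primeIdealOf ⟨x', hx'W⟩).asIdeal.primeCompl
        (QuotSMulTop a Γ(F, W)))
  rw [depth_eq_zero_iff, ← mem_associatedPrimes_iff_maximalIdeal_mem] at h0
  obtain ⟨-, tbar, htbar⟩ := (isAssociatedPrime_iff).mp h0
  obtain ⟨t, rfl⟩ := Submodule.Quotient.mk_surjective _ tbar
  have hqt : ∀ r : Γ(X, W), r ∈ (hW.primeIdealOf ⟨x', hx'W⟩).asIdeal ↔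
      ∃ n : Γ(F, W), r • t = a • n := by
    intro r
    rw [htbar, Submodule.mem_colon_singleton, Submodule.mem_bot, ← Submodule.Quotient.mk_smul,
      Submodule.Quotient.mk_eq_zero, Submodule.mem_smul_pointwise_iff_exists]
    constructor
    · rintro ⟨n, -, hn⟩
      exact ⟨n, hn.symm⟩
    · rintro ⟨n, hn⟩
      exact ⟨n, trivial, hn.symm⟩
  obtain ⟨σ, hσ⟩ := exists_sec_of_colon F hW hareg t (fun b hb => (hqt b).mp (hJq hb))
  -- the class of `σ` in the closure, and a preimage near `x`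
  have hV := NoethColimMod.isCompact_of_le W hW.isCompact
  have hcap : cap T.U W ≤ W ⊓ T.U := by rw [cap_eq, inf_comm]
  obtain ⟨s, hs⟩ := hcl.2 (((H0 Z).obj F).presheaf.germ W x hxW (cls Z F T W (res F hcap σ)))
  obtain ⟨W₁, hxW₁, m₁, rfl⟩ := TopCat.Presheaf.exists_germ_eq F.presheaf s
  rw [rhoStalk_germ] at hs
  obtain ⟨N, hxN, i₁, i₂, hN⟩ := TopCat.Presheaf.germ_eq _ x hxW₁ hxW _ _ hs
  obtain ⟨W₂, hW₂, hxW₂, hW₂N⟩ := exists_isAffineOpen_mem_and_subset (x := x) (U := N) hxN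
  have hW₂N' : W₂ ≤ N := hW₂N
  have hW₂W : W₂ ≤ W := hW₂N'.trans i₂.le
  have hW₂W₁ : W₂ ≤ W₁ := hW₂N'.trans i₁.le
  have hV₂ : ∀ W' : X.Opens, W' ≤ W₂ → IsCompact (W' : Set X) :=
    fun W' h => hV W' (h.trans hW₂W)
  have e1 : (rhoApp Z F).app W₂ (res F hW₂W₁ m₁) =
      cls Z F T W₂ (res F ((cap_mono le_rfl hW₂W).trans hcap) σ) := by
    change (rhoApp Z F).app W₂ (F.presheaf.map (homOfLE hW₂W₁).op m₁) = _
    rw [rho_res, ← map_map_apply ((H0 Z).obj F).presheaf (homOfLE hW₂N') i₁ (homOfLE hW₂W₁)]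
    erw [hN]
    rw [map_map_apply ((H0 Z).obj F).presheaf (homOfLE hW₂N') i₂ (homOfLE hW₂W), cls_res]
    congr 1
    exact res_res F hcap (cap_mono le_rfl hW₂W) σ
  rw [rho_app_eq Z F T] at e1
  obtain ⟨T', hTT', h2⟩ := (cls_eq_iff Z F W₂ hV₂ W₂ le_rfl T _ _).mp e1
  change res F _ (res F _ (res F hW₂W₁ m₁)) = res F _ (res F _ σ) at h2
  rw [res_res, res_res, res_res] at h2
  -- the difference `a m₁ - t` dies in the closure near `x`
  have hle' : cap T'.U W₂ ≤ W₂ := T'.U.ι.image_preimage_le W₂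
  have hδ : (rhoApp Z F).app W₂ (rsmul F hW₂W a (res F hW₂W₁ m₁) - res F hW₂W t) = 0 := by
    rw [rho_app_eq Z F T']
    change cls Z F T' W₂ (res F hle' _) = 0
    rw [map_sub, rsmul_res, res_res, res_res, h2, ← cls_zero Z F T' W₂]
    congr 1
    have h3 := congrArg (res F (((cap_mono (Cl.U_anti hTT') le_rfl).trans
      ((cap_mono le_rfl hW₂W).trans hcap)) : cap T'.U W₂ ≤ W ⊓ T.U)) hσ
    rw [rsmul_res, res_res] at h3
    rw [sub_eq_zero]
    exact h3
  have hg : F.presheaf.germ W₂ x hxW₂ (rsmul F hW₂W a (res F hW₂W₁ m₁) - res F hW₂W t) =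
      F.presheaf.germ W₂ x hxW₂ 0 := by
    apply hcl.1
    rw [rhoStalk_germ, rhoStalk_germ, hδ]
    simp only [map_zero]
  obtain ⟨N', hxN', j₁, j₂, hN'⟩ := TopCat.Presheaf.germ_eq _ x hxW₂ hxW₂ _ _ hg
  obtain ⟨c, hcN', hxc⟩ := hW.exists_basicOpen_le (V := N') ⟨x, hxN'⟩ hxW
  have hcW₂ : X.basicOpen c ≤ W₂ := hcN'.trans j₁.le
  have h4 : rsmul F (X.basicOpen_le c) a (res F (hcW₂.trans hW₂W₁) m₁) =
      res F (X.basicOpen_le c) t := by
    have h5 : res F hcW₂ (rsmul F hW₂W a (res F hW₂W₁ m₁) - res F hW₂W t) = 0 := by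
      rw [← res_res F j₁.le hcN']
      change res F hcN' (F.presheaf.map j₁.op _) = 0
      erw [hN']
      rw [map_zero, map_zero]
    rw [map_sub, rsmul_res, res_res, res_res, sub_eq_zero] at h5
    exact h5
  obtain ⟨n, m₄, hm₄⟩ := exists_pow_smul_eq_res F hW c (res F (hcW₂.trans hW₂W₁) m₁)
  have h6 : res F (X.basicOpen_le c) (c ^ n • t - a • m₄) = 0 := by
    rw [map_sub, res_smul, res_smul, ← hm₄, ← h4, map_pow]
    unfold rsmul
    rw [smul_comm, sub_self]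
  obtain ⟨k, hk⟩ := exists_pow_smul_eq_zero F hW c _ h6
  have hcq : c ^ (k + n) ∈ (hW.primeIdealOf ⟨x', hx'W⟩).asIdeal := by
    rw [hqt]
    refine ⟨c ^ k • m₄, ?_⟩
    rw [smul_sub, sub_eq_zero] at hk
    rw [pow_add, mul_smul, hk, smul_comm]
  have hcq' : c ∈ (hW.primeIdealOf ⟨x', hx'W⟩).asIdeal :=
    Ideal.IsPrime.mem_of_pow_mem inferInstance _ hcq
  have hx'c : x' ∈ X.basicOpen c := hx'x.mem_open (X.basicOpen c).2 hxc
  exact (mem_basicOpen_iff_notMem_primeIdealOf hW c ⟨x', hx'W⟩).mp hx'c hcq'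

end Groth.Agent.Lib.Helper9.ZCl
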