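import Mathlib
import Groth.Agent.Lib.Helper9.ZCl2
import Groth.Agent.Lib.Helper9.ReflNormal4
import Groth.Agent.Lib.Helper18.CM3
import Groth.Agent.S5857

/-!
# The closure along `Z^(2)` satisfies `(S_2)` (helper9)
-/

set_option autoImplicit false
universe u
open CategoryTheory CategoryTheory.Limits AlgebraicGeometry TopologicalSpace Opposite

namespace Groth.Agent.Lib.Helper9.ZCl

open ZClos Groth.Agent.Lib.Helper17 Groth.Agent.Lib.Helper17.ZClosSec
open Groth.Agent.Lib.Helper9.RefStalk Groth.Agent.Lib.Helper9.ReflNormal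
open Groth.Agent.Lib.Helper18.CM

variable {X : Scheme.{u}}

theorem stable_dimGe (X : Scheme.{u}) (n : ℕ) : StableUnderSpecialization (ZClos.dimGe X n) := by
  intro x y hxy hx
  unfold ZClos.dimGe at hx ⊢
  rw [Set.mem_ofPred_eq, ringKrullDim_stalk_eq_coheight] at hx ⊢
  have h1 : Order.coheight x ≤ Order.coheight y :=
    Order.coheight_anti (Scheme.le_iff_specializes.mpr hxy)
  exact le_trans hx (by exact_mod_cast h1)

variable [IsLocallyNoetherian X] {Z : Set X}

/-- the stalk map of `ρ` as a linear equivalence, off `Z` -/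
noncomputable def rhoEquiv (F : X.Modules) (x : X) (h : IsZClosedAt Z F x) :
    F.presheaf.stalk x ≃ₗ[X.presheaf.stalk x] ((H0 Z).obj F).presheaf.stalk x :=
  LinearEquiv.ofBijective (RefHull.stalkMapₗ (rhoApp Z F) x) h

theorem le_one_of_ne (d : WithBot ℕ∞) (h1 : d ≤ 1) (h2 : d ≠ 1) : d ≤ 0 := by
  have hlt : d < 1 := lt_of_le_of_ne h1 h2
  induction d using WithBot.recBotCoe with
  | bot => exact bot_le
  | coe n =>
    have h3 : n < 1 := by exact_mod_cast hlt
    rw [Order.lt_one_iff] at h3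
    subst h3
    rfl

/-- `(S_2)` for a module closed at `x ∉ Z^(2)` without associated points of codimension one -/
theorem s2_of_not_mem (F : X.Modules) (hF : Coh.IsCoh F)
    (hass : ∀ x ∈ AssSch.Ass F, ringKrullDim (X.presheaf.stalk x) ≠ 1) (x : X)
    (hx : x ∉ ZClos.dimGe X 2) :
    min (2 : WithBot ℕ∞) (Module.supportDim (X.presheaf.stalk x) (F.presheaf.stalk x)) ≤
      ((LocCoh.depth (X.presheaf.stalk x) (F.presheaf.stalk x) : ℕ∞) : WithBot ℕ∞) := by
  have hle1 : ringKrullDim (X.presheaf.stalk x) ≤ 1 := dim_le_one_of_not_two_le _ hx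
  have hsd : Module.supportDim (X.presheaf.stalk x) (F.presheaf.stalk x) ≤
      ringKrullDim (X.presheaf.stalk x) := Module.supportDim_le_ringKrullDim _ _
  have hfin := finite_stalk_of_isCoh F hF x
  by_cases hd : LocCoh.depth (X.presheaf.stalk x) (F.presheaf.stalk x) = 0
  · have hd' := hd
    rw [depth_eq_zero_iff] at hd'
    have hx_ass : x ∈ AssSch.Ass F := hd'
    have hne := hass x hx_ass
    have h0 := le_one_of_ne _ hle1 hne
    rw [hd]
    exact le_trans (min_le_right _ _) (hsd.trans h0)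
  · have h1 : (1 : ℕ∞) ≤ LocCoh.depth (X.presheaf.stalk x) (F.presheaf.stalk x) :=
      Order.one_le_iff_ne_zero.mpr hd
    refine le_trans (min_le_right _ _) (hsd.trans (hle1.trans ?_))
    exact_mod_cast h1

/-- **the closure of `F` along `Z^(2)` satisfies `(S_2)`** -/
theorem s2_H0 (F : X.Modules) (hF : Coh.IsCoh F)
    (hass : ∀ x ∈ AssSch.Ass F, ringKrullDim (X.presheaf.stalk x) ≠ 1)
    (hH : Coh.IsCoh ((ZClos.H0 (ZClos.dimGe X 2)).obj F)) (x : X) :
    min (2 : WithBot ℕ∞) (Module.supportDim (X.presheaf.stalk x)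
        (((ZClos.H0 (ZClos.dimGe X 2)).obj F).presheaf.stalk x)) ≤
      ((LocCoh.depth (X.presheaf.stalk x)
        (((ZClos.H0 (ZClos.dimGe X 2)).obj F).presheaf.stalk x) : ℕ∞) : WithBot ℕ∞) := by
  have hZ := stable_dimGe X 2
  by_cases hx : x ∈ ZClos.dimGe X 2
  · have h2 := Groth.Agent.S5857.result X _ hZ F hF hH x hx
    refine le_trans (min_le_left _ _) ?_
    have h3 : (((2 : ℕ∞)) : WithBot ℕ∞) ≤ ((LocCoh.depth (X.presheaf.stalk x)
        (((ZClos.H0 (ZClos.dimGe X 2)).obj F).presheaf.stalk x) : ℕ∞) : WithBot ℕ∞) :=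
      WithBot.coe_le_coe.mpr h2
    exact h3
  · have hbij := isZClosedAt_of_not_mem (ZClos.dimGe X 2) F x hx
    rw [← depth_congr (rhoEquiv F x hbij), ← Module.supportDim_eq_of_equiv (rhoEquiv F x hbij)]
    exact s2_of_not_mem F hF hass x hx

end Groth.Agent.Lib.Helper9.ZCl
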