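import Mathlib
import Groth.Agent.Lib.Helper9.ZCl3
import Groth.Agent.Lib.Helper29.IsoLocus
import Groth.Agent.Lib.Helper18.JacDim7

/-!
# The locus where a coherent module is closed along `Z` (helper9)
-/

set_option autoImplicit false
universe u
open CategoryTheory CategoryTheory.Limits AlgebraicGeometry TopologicalSpace Opposite

namespace Groth.Agent.Lib.Helper9.ZCl

open ZClos Groth.Agent.Lib.Helper17 Groth.Agent.Lib.Helper17.ZClosSec
open Groth.Agent.Lib.Helper9.RefStalk Groth.Agent.Lib.Helper9.ReflNormal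
open Groth.Agent.Lib.Helper18.CM Groth.Agent.Lib.Helper29.QCoh

variable {X : Scheme.{u}} [IsLocallyNoetherian X] {Z : Set X}

/-- the locus where `F` is `Z`-closed is open when the closure is coherent -/
theorem isOpen_isZClosedAt (F : X.Modules) (hF : Coh.IsCoh F)
    (hH : Coh.IsCoh ((H0 Z).obj F)) : IsOpen {x : X | IsZClosedAt Z F x} := by
  have := hF.1
  have := hF.2
  have := hH.1
  have := hH.2
  exact isOpen_setOf_stalkMap_bijective (rhoApp Z F)

/-- the dimension of the stalk of a module with full support -/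
theorem supportDim_eq_of_full (F : X.Modules) (hF : Coh.IsCoh F)
    (hsupp : ∀ x : X, Nontrivial (F.presheaf.stalk x)) (x : X) :
    Module.supportDim (X.presheaf.stalk x) (F.presheaf.stalk x) =
      ringKrullDim (X.presheaf.stalk x) := by
  have := hF.1
  have h : Module.support (X.presheaf.stalk x) (F.presheaf.stalk x) = Set.univ := by
    ext q
    simp only [Set.mem_univ, iff_true]
    refine (Groth.Agent.Lib.Helper18.JacDim.fromSpecStalk_mem_support_iff F x q).1 ?_
    intro hsub
    have := hsupp ((X.fromSpecStalk x) q)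
    exact not_subsingleton _ hsub
  unfold Module.supportDim ringKrullDim
  rw [h]
  exact Order.krullDim_eq_of_orderIso (OrderIso.Set.univ)

/-- `(S_2)` at all generisations is closedness along `Z^(2)` -/
theorem s2_iff_isZClosedAt (F : X.Modules) (hF : Coh.IsCoh F)
    (hsupp : ∀ x : X, Nontrivial (F.presheaf.stalk x))
    (hass : ∀ x ∈ AssSch.Ass F, ringKrullDim (X.presheaf.stalk x) ≠ 1) (x : X) :
    (∀ x' : X, x' ⤳ x →
        min (2 : WithBot ℕ∞) (Module.supportDim (X.presheaf.stalk x') (F.presheaf.stalk x')) ≤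
          ((LocCoh.depth (X.presheaf.stalk x') (F.presheaf.stalk x') : ℕ∞) : WithBot ℕ∞)) ↔
      IsZClosedAt (ZClos.dimGe X 2) F x := by
  have hZ := stable_dimGe X 2
  constructor
  · intro h
    refine isZClosedAt_of_depth hZ F hF x (fun x' hx'x hx'Z => ?_)
    have h1 := h x' hx'x
    rw [supportDim_eq_of_full F hF hsupp x'] at h1
    have h2 : (2 : WithBot ℕ∞) ≤ ringKrullDim (X.presheaf.stalk x') := hx'Z
    rw [min_eq_left h2] at h1
    have h3 : (((2 : ℕ∞)) : WithBot ℕ∞) ≤ ((LocCoh.depth (X.presheaf.stalk x')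
        (F.presheaf.stalk x') : ℕ∞) : WithBot ℕ∞) := h1
    exact WithBot.coe_le_coe.mp h3
  · intro hcl x' hx'x
    by_cases hx'Z : x' ∈ ZClos.dimGe X 2
    · have h2 := depth_of_isZClosedAt hZ F hF x hcl x' hx'x hx'Z
      refine le_trans (min_le_left _ _) ?_
      have h3 : (((2 : ℕ∞)) : WithBot ℕ∞) ≤ ((LocCoh.depth (X.presheaf.stalk x')
          (F.presheaf.stalk x') : ℕ∞) : WithBot ℕ∞) := WithBot.coe_le_coe.mpr h2
      exact h3
    · exact s2_of_not_mem F hF hass x' hx'Z

/-- **the `(S_2)` locus is open with complement of codimension at least two** -/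
theorem s2_locus (F : X.Modules) (hF : Coh.IsCoh F)
    (hsupp : ∀ x : X, Nontrivial (F.presheaf.stalk x))
    (hass : ∀ x ∈ AssSch.Ass F, ringKrullDim (X.presheaf.stalk x) ≠ 1)
    (hH : Coh.IsCoh ((ZClos.H0 (ZClos.dimGe X 2)).obj F)) :
    IsOpen {x : X | ∀ x' : X, x' ⤳ x →
        min (2 : WithBot ℕ∞) (Module.supportDim (X.presheaf.stalk x') (F.presheaf.stalk x')) ≤
          ((LocCoh.depth (X.presheaf.stalk x') (F.presheaf.stalk x') : ℕ∞) : WithBot ℕ∞)} ∧
      ∀ x : X, (¬ ∀ x' : X, x' ⤳ x →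
        min (2 : WithBot ℕ∞) (Module.supportDim (X.presheaf.stalk x') (F.presheaf.stalk x')) ≤
          ((LocCoh.depth (X.presheaf.stalk x') (F.presheaf.stalk x') : ℕ∞) : WithBot ℕ∞)) →
        (2 : WithBot ℕ∞) ≤ ringKrullDim (X.presheaf.stalk x) := by
  constructor
  · have e : {x : X | ∀ x' : X, x' ⤳ x →
        min (2 : WithBot ℕ∞) (Module.supportDim (X.presheaf.stalk x') (F.presheaf.stalk x')) ≤
          ((LocCoh.depth (X.presheaf.stalk x') (F.presheaf.stalk x') : ℕ∞) : WithBot ℕ∞)} =
        {x : X | IsZClosedAt (ZClos.dimGe X 2) F x} := by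
      ext x
      exact s2_iff_isZClosedAt F hF hsupp hass x
    rw [e]
    exact isOpen_isZClosedAt F hF hH
  · intro x hx
    rw [s2_iff_isZClosedAt F hF hsupp hass x] at hx
    by_contra hxZ
    exact hx (isZClosedAt_of_not_mem (ZClos.dimGe X 2) F x hxZ)

end Groth.Agent.Lib.Helper9.ZCl
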