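import Mathlib
import Groth.Agent.Lib.Helper9.ZCl4
import Groth.Agent.S5845

/-!
# The largest open on which a coherent module is closed along `Z` (helper9)
-/

set_option autoImplicit false
universe u
open CategoryTheory CategoryTheory.Limits AlgebraicGeometry TopologicalSpace Opposite

namespace Groth.Agent.Lib.Helper9.ZCl

open ZClos Groth.Agent.Lib.Helper17 Groth.Agent.Lib.Helper17.ZClosSec
open Groth.Agent.Lib.Helper29.QCoh Groth.Agent.Lib.Helper9.HartogsLoc
open Groth.Agent.Lib.Helper10.Hartogs Groth.Agent.Lib.Helper10.HartogsConv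
open Groth.Agent.Lib.Helper18.QGor

variable {X : Scheme.{u}} [IsLocallyNoetherian X] {Z : Set X}

omit [IsLocallyNoetherian X] in
theorem bijective_map_of_eq (F : X.Modules) {A A' B B' : X.Opens} (hA : A = A') (hB : B = B')
    (h : B ≤ A) (h' : B' ≤ A') :
    Function.Bijective (F.presheaf.map (homOfLE h).op) ↔
      Function.Bijective (F.presheaf.map (homOfLE h').op) := by
  subst hA hB
  rfl

/-- local converse of Hartogs -/
theorem two_le_depth_of_bijective_at (F : X.Modules) [F.IsQuasicoherent] [F.IsFiniteType]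
    {U W : X.Opens} (hW : IsAffineOpen W)
    (h : Function.Bijective (res F (inf_le_left : W ⊓ U ≤ W))) (x : X) (hxW : x ∈ W)
    (hx : x ∉ U) :
    (2 : ℕ∞) ≤ LocCoh.depth (X.presheaf.stalk x) (F.presheaf.stalk x) := by
  have : IsNoetherianRing Γ(X, W) := IsLocallyNoetherian.component_noetherian ⟨W, hW⟩
  have : Module.Finite Γ(X, W) Γ(F, W) := module_finite_of_isFiniteType F hW
  rw [depth_stalk_eq_depth_localized F hW x hxW]
  have h2 := two_le_idealDepth_of_bijective F hW h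
  refine h2.trans (idealDepth_le_depth_localizedModule_of_le _ _ _ ?_)
  intro a ha
  by_contra hne
  have hxa : x ∈ X.basicOpen a := (Groth.Agent.Lib.Helper9.ClosedPt.mem_basicOpen_iff_notMem_primeIdealOf hW a ⟨x, hxW⟩).mpr hne
  exact hx (((mem_nonvanIdeal a).mp ha) hxa).2

/-- closedness of a restriction to an open, in terms of sections -/
theorem isZClosed_restrict_iff (hZ : StableUnderSpecialization Z) (F : X.Modules) (V : X.Opens) :
    IsZClosed (V.ι.base ⁻¹' Z) ((Scheme.Modules.restrictFunctor V.ι).obj F) ↔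
      ∀ (T : Cl (V.ι.base ⁻¹' Z)) (W : (V : Scheme.{u}).Opens), IsCompact (W : Set V) →
        Function.Bijective
          (F.presheaf.map (homOfLE (V.ι.image_mono (inf_le_left : W ⊓ T.U ≤ W))).op) := by
  have : IsLocallyNoetherian (V : Scheme.{u}) := isLocallyNoetherian_of_isOpenImmersion V.ι
  exact Groth.Agent.S5845.result V (V.ι.base ⁻¹' Z) (hZ.preimage V.ι.continuous) _


/-- a module closed along `Z` at every point of an open is closed on that open -/
theorem isZClosed_restrict_of_forall (hZ : StableUnderSpecialization Z) (F : X.Modules)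
    (hF : Coh.IsCoh F) (U : X.Opens) (hUmem : ∀ x : X, x ∈ U → IsZClosedAt Z F x) :
    IsZClosed (U.ι.base ⁻¹' Z) ((Scheme.Modules.restrictFunctor U.ι).obj F) := by
  have := hF.1
  have := hF.2
  rw [isZClosed_restrict_iff hZ F]
  intro T W hW
  have hle : U.ι ''ᵁ W ≤ U := by
    rintro _ ⟨w, -, rfl⟩
    exact w.2
  have hb := res_bijective_of_le F (U.ι ''ᵁ T.U) U (fun x hxU hxT => by
    have hxTm : (⟨x, hxU⟩ : U) ∈ (T.1 : Set U) := by
      by_contra hn
      exact hxT ⟨⟨x, hxU⟩, hn, rfl⟩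
    have hxZ : x ∈ Z := T.2 hxTm
    exact depth_of_isZClosedAt hZ F hF x (hUmem x hxU) x specializes_rfl hxZ) (U.ι ''ᵁ W) hle
  refine (bijective_map_of_eq F rfl ?_ _ _).mpr hb
  ext x
  constructor
  · rintro ⟨w, ⟨h1, h2⟩, rfl⟩
    exact ⟨⟨w, h1, rfl⟩, ⟨w, h2, rfl⟩⟩
  · rintro ⟨⟨w, h1, rfl⟩, ⟨w', h2, h3⟩⟩
    have : w' = w := U.ι.isOpenEmbedding.injective h3
    subst this
    exact ⟨w', ⟨h1, h2⟩, rfl⟩

/-- a module closed along `Z` on an open is closed along `Z` at every point of the open -/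
theorem isZClosedAt_of_isZClosed_restrict (hZ : StableUnderSpecialization Z) (F : X.Modules)
    (hF : Coh.IsCoh F) (V : X.Opens)
    (hV : IsZClosed (V.ι.base ⁻¹' Z) ((Scheme.Modules.restrictFunctor V.ι).obj F)) (x : X)
    (hxV : x ∈ V) : IsZClosedAt Z F x := by
  have := hF.1
  have := hF.2
  rw [isZClosed_restrict_iff hZ F] at hV
  refine isZClosedAt_of_depth hZ F hF x (fun x' hx'x hx'Z => ?_)
  have hx'V : x' ∈ V := hx'x.mem_open V.2 hxV
  obtain ⟨W, hW, hx'W, hWV⟩ := exists_isAffineOpen_mem_and_subset (x := x') (U := V) hx'V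
  have hWV' : W ≤ V := hWV
  let Tc : Closeds X := ⟨closure {x'}, isClosed_closure⟩
  let T : Cl (V.ι.base ⁻¹' Z) := ⟨⟨V.ι.base ⁻¹' (closure {x'}),
    isClosed_closure.preimage V.ι.continuous⟩, fun y hy =>
      hZ (specializes_iff_mem_closure.mpr hy) hx'Z⟩
  have hcomp : IsCompact ((V.ι ⁻¹ᵁ W : (V : Scheme.{u}).Opens) : Set V) := by
    refine (V.ι.isOpenEmbedding.isInducing.isCompact_preimage_iff ?_).mpr hW.isCompact
    intro y hy
    exact ⟨⟨y, hWV' hy⟩, rfl⟩
  have hb := hV T (V.ι ⁻¹ᵁ W) hcomp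
  have hA : V.ι ''ᵁ (V.ι ⁻¹ᵁ W) = W := by
    rw [Scheme.Hom.image_preimage_eq_opensRange_inf, Scheme.Opens.opensRange_ι]
    exact inf_eq_right.mpr hWV'
  have hB : V.ι ''ᵁ (V.ι ⁻¹ᵁ W ⊓ T.U) = W ⊓ Tc.compl := by
    ext y
    constructor
    · rintro ⟨w, ⟨h1, h2⟩, rfl⟩
      exact ⟨h1, h2⟩
    · rintro ⟨h1, h2⟩
      exact ⟨⟨y, hWV' h1⟩, ⟨h1, h2⟩, rfl⟩
  have hb' := (bijective_map_of_eq F hA hB _ (inf_le_left : W ⊓ Tc.compl ≤ W)).mp hb
  exact two_le_depth_of_bijective_at F hW hb' x' hx'W (fun h => h (subset_closure rfl))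

/-- **the largest open on which `F` is closed along `Z`** -/
theorem largest_closed_open (hZ : StableUnderSpecialization Z) (F : X.Modules) (hF : Coh.IsCoh F)
    (hH : Coh.IsCoh ((H0 Z).obj F)) :
    ∃ U : X.Opens, (U : Set X) = {x | ∀ x' : X, x' ⤳ x → x' ∈ Z →
        (2 : ℕ∞) ≤ LocCoh.depth (X.presheaf.stalk x') (F.presheaf.stalk x')} ∧
      (U : Set X)ᶜ ⊆ Z ∧
      IsZClosed (U.ι.base ⁻¹' Z) ((Scheme.Modules.restrictFunctor U.ι).obj F) ∧
      ∀ V : X.Opens, IsZClosed (V.ι.base ⁻¹' Z) ((Scheme.Modules.restrictFunctor V.ι).obj F) →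
        V ≤ U := by
  refine ⟨⟨{x | IsZClosedAt Z F x}, isOpen_isZClosedAt F hF hH⟩, ?_, ?_, ?_, ?_⟩
  · ext x
    exact ⟨fun h x' hx'x hx'Z => depth_of_isZClosedAt hZ F hF x h x' hx'x hx'Z,
      fun h => isZClosedAt_of_depth hZ F hF x h⟩
  · intro x hx
    by_contra hxZ
    exact hx (isZClosedAt_of_not_mem Z F x hxZ)
  · exact isZClosed_restrict_of_forall hZ F hF _ (fun x hx => hx)
  · intro V hV x hxV
    exact isZClosedAt_of_isZClosed_restrict hZ F hF V hV x hxV

end Groth.Agent.Lib.Helper9.ZCl
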