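import Mathlib
import Groth.Agent.Lib.Helper9.ZCl4
import Groth.Agent.Lib.Helper18.CM2
import Groth.Agent.S5857

/-!
# Associated points off `Z` have no specialisations of codimension `≤ 1` in `Z` (helper9)
-/

set_option autoImplicit false
universe u
open CategoryTheory CategoryTheory.Limits AlgebraicGeometry TopologicalSpace Opposite

namespace Groth.Agent.Lib.Helper9.ZCl

open ZClos Groth.Agent.Lib.Helper17 Groth.Agent.Lib.Helper17.ZClosSec
open Groth.Agent.Lib.Helper29.QCoh Groth.Agent.Lib.Helper9.RefStalk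
open Groth.Agent.Lib.Helper18.CM

variable {X : Scheme.{u}} [IsLocallyNoetherian X] {Z : Set X}

omit [IsLocallyNoetherian X] in
theorem primeIdealOf_eq_comap {W : X.Opens} (hW : IsAffineOpen W) (x : X) (hxW : x ∈ W) :
    (hW.primeIdealOf ⟨x, hxW⟩).asIdeal =
      (IsLocalRing.maximalIdeal (X.presheaf.stalk x)).comap (X.presheaf.germ W x hxW).hom := by
  rw [hW.primeIdealOf_eq_map_closedPoint ⟨x, hxW⟩]
  rfl

/-- the prime of a generisation in the local ring of a point is associated to the stalk -/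
theorem mem_associatedPrimes_stalk_of_isAssPoint (G : X.Modules) [G.IsQuasicoherent]
    (x y : X) (h : x ⤳ y) (hx : Curv2.IsAssPoint G x) :
    (IsLocalRing.maximalIdeal (X.presheaf.stalk x)).comap (X.presheaf.stalkSpecializes h).hom ∈
      associatedPrimes (X.presheaf.stalk y) (G.presheaf.stalk y) := by
  obtain ⟨W, hW, hyW, -⟩ := exists_isAffineOpen_mem_and_subset (x := y) (U := ⊤) trivial
  have hxW : x ∈ W := h.mem_open W.2 hyW
  have : IsNoetherianRing Γ(X, W) := IsLocallyNoetherian.component_noetherian ⟨W, hW⟩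
  have hq := primeIdealOf_mem_associatedPrimes G hW x hxW ((isAssPoint_iff_isWeakAssPoint G x).1 hx)
  let _ : Algebra Γ(X, W) (X.presheaf.stalk y) :=
    TopCat.Presheaf.algebra_section_stalk X.presheaf ⟨y, hyW⟩
  have hloc : IsLocalization.AtPrime (X.presheaf.stalk y) (hW.primeIdealOf ⟨y, hyW⟩).asIdeal :=
    hW.isLocalization_stalk ⟨y, hyW⟩
  let _ := stalkModule G W y hyW
  have : IsScalarTower Γ(X, W) (X.presheaf.stalk y) (G.presheaf.stalk y) :=
    IsScalarTower.of_algebraMap_smul fun a t => rfl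
  have hlm := isLocalizedModule_germ G hW y hyW
  refine Module.associatedPrimes.mem_associatedPrimes_of_comap_mem_associatedPrimes_of_isLocalizedModule
    (hW.primeIdealOf ⟨y, hyW⟩).asIdeal.primeCompl (germₗ G W y hyW) _ ?_
  have hcomap : ((IsLocalRing.maximalIdeal (X.presheaf.stalk x)).comap
      (X.presheaf.stalkSpecializes h).hom).comap (algebraMap Γ(X, W) (X.presheaf.stalk y)) =
      (hW.primeIdealOf ⟨x, hxW⟩).asIdeal := by
    rw [primeIdealOf_eq_comap hW x hxW, Ideal.comap_comap]
    congr 1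
    change (X.presheaf.germ W y hyW ≫ X.presheaf.stalkSpecializes h).hom = _
    rw [TopCat.Presheaf.germ_stalkSpecializes]
  rw [hcomap]
  exact hq


/-- **associated points off `Z`: their specialisations in `Z` have codimension at least two** -/
theorem codim_ass (hZ : StableUnderSpecialization Z) (F : X.Modules) (hF : Coh.IsCoh F)
    (hH : Coh.IsCoh ((H0 Z).obj F))
    (x : X) (hx : x ∈ AssSch.Ass F) (hxZ : x ∉ Z) (y : X) (hy : y ∈ Z) (h : x ⤳ y) :
    (2 : WithBot ℕ∞) ≤ ringKrullDim (X.presheaf.stalk y ⧸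
      (IsLocalRing.maximalIdeal (X.presheaf.stalk x)).comap
        (X.presheaf.stalkSpecializes h).hom) := by
  have := hH.1
  have := hH.2
  have hd := Groth.Agent.S5857.result X Z hZ F hF hH y hy
  have hbij := isZClosedAt_of_not_mem Z F x hxZ
  have hx' : Curv2.IsAssPoint ((H0 Z).obj F) x :=
    IsAssociatedPrime.map_of_injective (rhoEquiv F x hbij).toLinearMap hx
      (rhoEquiv F x hbij).injective
  have hass := mem_associatedPrimes_stalk_of_isAssPoint ((H0 Z).obj F) x y h hx'
  have hfin := finite_stalk_of_isCoh ((H0 Z).obj F) hH y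
  have h1 := depth_le_ringKrullDim_quotient (((H0 Z).obj F).presheaf.stalk y) _ hass
  refine le_trans ?_ h1
  have h3 : (((2 : ℕ∞)) : WithBot ℕ∞) ≤ ((LocCoh.depth (X.presheaf.stalk y)
      (((H0 Z).obj F).presheaf.stalk y) : ℕ∞) : WithBot ℕ∞) := WithBot.coe_le_coe.mpr hd
  exact h3

end Groth.Agent.Lib.Helper9.ZCl
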